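import Mathlib
import Groth.Prelude.Def_DescFam

set_option backward.isDefEq.respectTransparency false
set_option backward.isDefEq.respectTransparency.types false
set_option autoImplicit false

universe w' w u

open CategoryTheory CategoryTheory.Limits AlgebraicGeometry

namespace Groth.Agent.Lib.Helper64.DescFam

open Desc

section basics

variable {S : Scheme.{u}} {ι : Type w} {X : ι → Scheme.{u}} {f : ∀ i, X i ⟶ S}

/-- Precomposition of a point with a morphism of test schemes. -/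
def pre {Y : Scheme.{u}} {V : Over Y} {T T' : Scheme.{u}} (g : T' ⟶ T) {x : T ⟶ Y}
    (v : Lifts V x) : Lifts V (g ≫ x) :=
  ⟨g ≫ v.1, by rw [Category.assoc, v.2]⟩

@[simp] lemma pre_val {Y : Scheme.{u}} {V : Over Y} {T T' : Scheme.{u}} (g : T' ⟶ T) {x : T ⟶ Y}
    (v : Lifts V x) : (pre g v).1 = g ≫ v.1 := rfl

/-- The universal point. -/
def univ {Y : Scheme.{u}} (V : Over Y) : Lifts V V.hom := ⟨𝟙 _, Category.id_comp _⟩

@[simp] lemma univ_val {Y : Scheme.{u}} (V : Over Y) : (univ V).1 = 𝟙 _ := rfl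

lemma φ_pre (D : SchDDFam f) {T T' : Scheme.{u}} (g : T' ⟶ T) {i j : ι} (x₀ : T ⟶ X i)
    (x₁ : T ⟶ X j) (h : x₀ ≫ f i = x₁ ≫ f j) (h' : (g ≫ x₀) ≫ f i = (g ≫ x₁) ≫ f j)
    (v : Lifts (D.obj i) x₀) :
    D.φ (g ≫ x₀) (g ≫ x₁) h' (pre g v) = pre g (D.φ x₀ x₁ h v) :=
  Subtype.ext (D.φ_natural g x₀ x₁ h _ _ rfl rfl h' v (pre g v) rfl)

lemma φ_congr (D : SchDDFam f) {T : Scheme.{u}} {i j : ι} {x₀ y₀ : T ⟶ X i} {x₁ y₁ : T ⟶ X j}
    (h : x₀ ≫ f i = x₁ ≫ f j) (h' : y₀ ≫ f i = y₁ ≫ f j) (e₀ : x₀ = y₀) (e₁ : x₁ = y₁)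
    (v : Lifts (D.obj i) x₀) (v' : Lifts (D.obj i) y₀) (hv : v.1 = v'.1) :
    (D.φ x₀ x₁ h v).1 = (D.φ y₀ y₁ h' v').1 := by
  subst e₀ e₁
  have : v = v' := Subtype.ext hv
  subst this
  rfl

lemma φ_symm_apply (D : SchDDFam f) {T : Scheme.{u}} {i j : ι} (x₀ : T ⟶ X i) (x₁ : T ⟶ X j)
    (h : x₀ ≫ f i = x₁ ≫ f j) (v : Lifts (D.obj i) x₀) :
    D.φ x₁ x₀ h.symm (D.φ x₀ x₁ h v) = v := by
  rw [D.φ_comp, D.φ_self]

lemma comm_push {D D' : SchDDFam f} (b : D ⟶ D') {T : Scheme.{u}} {i j : ι} (x₀ : T ⟶ X i)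
    (x₁ : T ⟶ X j) (h : x₀ ≫ f i = x₁ ≫ f j) (v : Lifts (D.obj i) x₀) :
    D'.φ x₀ x₁ h (b.push v) = b.push (D.φ x₀ x₁ h v) :=
  Subtype.ext (b.comm x₀ x₁ h v (b.push v) rfl)

@[simp] lemma push_val {D D' : SchDDFam f} (b : D ⟶ D') {T : Scheme.{u}} {i : ι} {x : T ⟶ X i}
    (v : Lifts (D.obj i) x) : (b.push v).1 = v.1 ≫ (b.hom i).left := rfl

/-- Pointwise description of a morphism of descent data. -/
structure PtMap (D D' : SchDDFam f) where
  map : ∀ ⦃T : Scheme.{u}⦄ ⦃i : ι⦄ (x : T ⟶ X i), Lifts (D.obj i) x → Lifts (D'.obj i) x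
  natural : ∀ ⦃T T' : Scheme.{u}⦄ (g : T' ⟶ T) ⦃i : ι⦄ (x : T ⟶ X i) (y : T' ⟶ X i)
    (_ : g ≫ x = y) (v : Lifts (D.obj i) x) (v' : Lifts (D.obj i) y), v'.1 = g ≫ v.1 →
    (map y v').1 = g ≫ (map x v).1
  comm : ∀ ⦃T : Scheme.{u}⦄ ⦃i j : ι⦄ (x₀ : T ⟶ X i) (x₁ : T ⟶ X j) (h : x₀ ≫ f i = x₁ ≫ f j)
    (v : Lifts (D.obj i) x₀), D'.φ x₀ x₁ h (map x₀ v) = map x₁ (D.φ x₀ x₁ h v)

namespace PtMap

variable {D D' : SchDDFam f}

lemma key (m : PtMap D D') {T : Scheme.{u}} {i : ι} (x : T ⟶ X i) (v : Lifts (D.obj i) x) :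
    v.1 ≫ (m.map (D.obj i).hom (univ _)).1 = (m.map x v).1 :=
  (m.natural v.1 (D.obj i).hom x v.2 (univ _) v (by simp)).symm

/-- The morphism of descent data with given action on points. -/
def toHom (m : PtMap D D') : D ⟶ D' where
  hom i := Over.homMk (m.map (D.obj i).hom (univ _)).1 (m.map _ _).2
  comm T i j x₀ x₁ h v w hw := by
    have : w = m.map x₀ v := Subtype.ext (by rw [hw]; exact m.key x₀ v)
    subst this
    rw [m.comm]
    exact (m.key _ _).symm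

lemma toHom_apply (m : PtMap D D') {T : Scheme.{u}} {i : ι} (x : T ⟶ X i)
    (v : Lifts (D.obj i) x) : v.1 ≫ (m.toHom.hom i).left = (m.map x v).1 :=
  m.key x v

lemma toHom_push (m : PtMap D D') {T : Scheme.{u}} {i : ι} (x : T ⟶ X i)
    (v : Lifts (D.obj i) x) : m.toHom.push v = m.map x v :=
  Subtype.ext (m.key x v)

end PtMap

/-- Isomorphism of descent data from mutually inverse pointwise maps. -/
def mkIso {D D' : SchDDFam f} (m : PtMap D D') (m' : PtMap D' D)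
    (h₁ : ∀ ⦃T : Scheme.{u}⦄ ⦃i : ι⦄ (x : T ⟶ X i) (v : Lifts (D.obj i) x), m'.map x (m.map x v) = v)
    (h₂ : ∀ ⦃T : Scheme.{u}⦄ ⦃i : ι⦄ (x : T ⟶ X i) (v : Lifts (D'.obj i) x), m.map x (m'.map x v) = v) :
    D ≅ D' where
  hom := m.toHom
  inv := m'.toHom
  hom_inv_id := by
    ext i
    have := m'.toHom_apply _ (m.map (D.obj i).hom (univ _))
    rw [h₁] at this
    simpa [PtMap.toHom] using this
  inv_hom_id := by
    ext i
    have := m.toHom_apply _ (m'.map (D'.obj i).hom (univ _))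
    rw [h₂] at this
    simpa [PtMap.toHom] using this

end basics


section sieves

variable {S : Scheme.{u}} {ι' : Type w'} {X' : ι' → Scheme.{u}} (f' : ∀ j, X' j ⟶ S)

/-- The sieve of test morphisms `t : T ⟶ Y` whose composite to `S` factors through a member
of the family `f'`. -/
def factSieve {Y : Scheme.{u}} (y₀ : Y ⟶ S) : Sieve Y where
  arrows T t := ∃ (j : ι') (y : T ⟶ X' j), y ≫ f' j = t ≫ y₀
  downward_closed := by
    rintro T T' t ⟨j, y, hy⟩ g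
    exact ⟨j, g ≫ y, by rw [Category.assoc, hy, Category.assoc]⟩

lemma factSieve_pullback {Y Y' : Scheme.{u}} (y₀ : Y ⟶ S) (q : Y' ⟶ Y) :
    (factSieve f' y₀).pullback q = factSieve f' (q ≫ y₀) := by
  ext T t
  simp only [Sieve.pullback_apply, factSieve, Category.assoc]

lemma factSieve_mem_of_ofArrows_mem (h : Presieve.ofArrows X' f' ∈ Scheme.fpqcPrecoverage S)
    {Y : Scheme.{u}} (y₀ : Y ⟶ S) : factSieve f' y₀ ∈ Scheme.fpqcTopology Y := by
  have h1 : Sieve.generate (Presieve.ofArrows X' f') ∈ Scheme.fpqcTopology S :=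
    Precoverage.generate_mem_toGrothendieck h
  have h2 := Scheme.fpqcTopology.pullback_stable y₀ h1
  refine Scheme.fpqcTopology.superset_covering ?_ h2
  rintro T t ⟨Z, a, b, ⟨j⟩, hab⟩
  exact ⟨j, a, hab⟩

lemma glue_of_covering {W W' : Scheme.{u}} (R : Sieve W) (hR : R ∈ Scheme.fpqcTopology W)
    (x : ∀ ⦃T : Scheme.{u}⦄ (t : T ⟶ W), R t → (T ⟶ W'))
    (hx : ∀ ⦃T T' : Scheme.{u}⦄ (t : T ⟶ W) (g : T' ⟶ T) (ht : R t),
      x (g ≫ t) (R.downward_closed ht g) = g ≫ x t ht) :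
    ∃ b : W ⟶ W', ∀ ⦃T : Scheme.{u}⦄ (t : T ⟶ W) (ht : R t), t ≫ b = x t ht := by
  have hsh : Presieve.IsSheaf Scheme.fpqcTopology (yoneda.obj W') :=
    GrothendieckTopology.Subcanonical.isSheaf_of_isRepresentable _
  have hsf := hsh R hR
  let fam : Presieve.FamilyOfElements (yoneda.obj W') R.arrows := fun T t ht => x t ht
  have hcomp : fam.Compatible := by
    rw [Presieve.compatible_iff_sieveCompatible]
    intro T T' t g ht
    exact hx t g ht
  obtain ⟨b, hb, -⟩ := hsf fam hcomp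
  exact ⟨b, fun T t ht => hb t ht⟩

lemma ext_of_covering {W W' : Scheme.{u}} (R : Sieve W) (hR : R ∈ Scheme.fpqcTopology W)
    (b c : W ⟶ W') (h : ∀ ⦃T : Scheme.{u}⦄ (t : T ⟶ W), R t → t ≫ b = t ≫ c) : b = c := by
  have hsh : Presieve.IsSheaf Scheme.fpqcTopology (yoneda.obj W') :=
    GrothendieckTopology.Subcanonical.isSheaf_of_isRepresentable _
  have hsep := (hsh R hR).isSeparatedFor
  exact hsep (fun T t ht => t ≫ b) b c (fun T t ht => rfl) (fun T t ht => (h t ht).symm)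

end sieves


section pull

variable {S : Scheme.{u}} {ι : Type w} {X : ι → Scheme.{u}} {f : ∀ i, X i ⟶ S}
  {ι' : Type w'} {X' : ι' → Scheme.{u}} {f' : ∀ j, X' j ⟶ S}
  {α : ι' → ι} {p' : ∀ j, X' j ⟶ X (α j)} (w : ∀ j, p' j ≫ f (α j) = f' j ≫ 𝟙 S)

include w in
lemma aux {T : Scheme.{u}} {i : ι} {z : T ⟶ X i} {j : ι'} {y : T ⟶ X' j}
    (hy : y ≫ f' j = z ≫ f i) : (y ≫ p' j) ≫ f (α j) = z ≫ f i := by
  rw [Category.assoc, w, Category.comp_id, hy]

/-- Points of the pulled back datum. -/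
noncomputable abbrev pe (D : SchDDFam f) (j : ι') {T : Scheme.{u}} (y : T ⟶ X' j) :
    Lifts ((pullDDFamObj w D).obj j) y ≃ Lifts (D.obj (α j)) (y ≫ p' j) :=
  liftsPullbackEquiv (D.obj (α j)) (p' j) y

lemma pe_val (D : SchDDFam f) (j : ι') {T : Scheme.{u}} (y : T ⟶ X' j)
    (v : Lifts ((pullDDFamObj w D).obj j) y) :
    (pe w D j y v).1 = v.1 ≫ pullback.fst (D.obj (α j)).hom (p' j) := rfl

lemma pe_symm_val_fst (D : SchDDFam f) (j : ι') {T : Scheme.{u}} (y : T ⟶ X' j)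
    (u : Lifts (D.obj (α j)) (y ≫ p' j)) :
    ((pe w D j y).symm u).1 ≫ pullback.fst (D.obj (α j)).hom (p' j) = u.1 :=
  pullback.lift_fst _ _ _

lemma pe_symm_val_snd (D : SchDDFam f) (j : ι') {T : Scheme.{u}} (y : T ⟶ X' j)
    (u : Lifts (D.obj (α j)) (y ≫ p' j)) :
    ((pe w D j y).symm u).1 ≫ pullback.snd (D.obj (α j)).hom (p' j) = y :=
  pullback.lift_snd _ _ _

lemma pull_φ (D : SchDDFam f) {T : Scheme.{u}} {j₀ j₁ : ι'} (y₀ : T ⟶ X' j₀) (y₁ : T ⟶ X' j₁)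
    (h : y₀ ≫ f' j₀ = y₁ ≫ f' j₁) (v : Lifts ((pullDDFamObj w D).obj j₀) y₀) :
    (pullDDFamObj w D).φ y₀ y₁ h v =
      (pe w D j₁ y₁).symm (D.φ (y₀ ≫ p' j₀) (y₁ ≫ p' j₁) (pull_compat w y₀ y₁ h) (pe w D j₀ y₀ v)) :=
  rfl

lemma pe_map_push {D D' : SchDDFam f} (b : D ⟶ D') (j : ι') {T : Scheme.{u}} (y : T ⟶ X' j)
    (v : Lifts ((pullDDFamObj w D).obj j) y) :
    pe w D' j y (SchDDFam.Hom.push ((pullDDFam w).map b) v) = b.push (pe w D j y v) := by
  apply Subtype.ext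
  simp [pullDDFam, liftsPullbackEquiv, SchDDFam.Hom.push]

variable {D D' : SchDDFam f}

/-- The action of a morphism between pulled back data on points of the original data lying over
points that factor through the source family. -/
noncomputable def hat (β : pullDDFamObj w D ⟶ pullDDFamObj w D') (j : ι') {T : Scheme.{u}}
    (y : T ⟶ X' j) (u : Lifts (D.obj (α j)) (y ≫ p' j)) : Lifts (D'.obj (α j)) (y ≫ p' j) :=
  pe w D' j y (SchDDFam.Hom.push β ((pe w D j y).symm u))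

lemma hat_pe (β : pullDDFamObj w D ⟶ pullDDFamObj w D') (j : ι') {T : Scheme.{u}}
    (y : T ⟶ X' j) (v : Lifts ((pullDDFamObj w D).obj j) y) :
    hat w β j y (pe w D j y v) = pe w D' j y (SchDDFam.Hom.push β v) := by
  simp [hat]

lemma hat_map (b : D ⟶ D') (j : ι') {T : Scheme.{u}} (y : T ⟶ X' j)
    (u : Lifts (D.obj (α j)) (y ≫ p' j)) :
    hat w ((pullDDFam w).map b) j y u = b.push u := by
  rw [hat, pe_map_push, Equiv.apply_symm_apply]

lemma hat_nat (β : pullDDFamObj w D ⟶ pullDDFamObj w D') (j : ι') {T T' : Scheme.{u}} (g : T' ⟶ T)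
    (y : T ⟶ X' j) (y' : T' ⟶ X' j) (hy : g ≫ y = y') (u : Lifts (D.obj (α j)) (y ≫ p' j))
    (u' : Lifts (D.obj (α j)) (y' ≫ p' j)) (hu : u'.1 = g ≫ u.1) :
    (hat w β j y' u').1 = g ≫ (hat w β j y u).1 := by
  have e : ((pe w D j y').symm u').1 = g ≫ ((pe w D j y).symm u).1 := by
    apply pullback.hom_ext
    · rw [pe_symm_val_fst, Category.assoc, pe_symm_val_fst, hu]
    · rw [pe_symm_val_snd, Category.assoc, pe_symm_val_snd, hy]
  simp only [hat, pe_val, push_val, e, Category.assoc]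

lemma hat_comm (β : pullDDFamObj w D ⟶ pullDDFamObj w D') {T : Scheme.{u}} {j₀ j₁ : ι'}
    (y₀ : T ⟶ X' j₀) (y₁ : T ⟶ X' j₁) (h : y₀ ≫ f' j₀ = y₁ ≫ f' j₁)
    (u : Lifts (D.obj (α j₀)) (y₀ ≫ p' j₀)) :
    D'.φ (y₀ ≫ p' j₀) (y₁ ≫ p' j₁) (pull_compat w y₀ y₁ h) (hat w β j₀ y₀ u) =
      hat w β j₁ y₁ (D.φ (y₀ ≫ p' j₀) (y₁ ≫ p' j₁) (pull_compat w y₀ y₁ h) u) := by
  have := comm_push β y₀ y₁ h ((pe w D j₀ y₀).symm u)
  rw [pull_φ, pull_φ, Equiv.apply_symm_apply] at this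
  have := congrArg (pe w D' j₁ y₁) this
  rw [Equiv.apply_symm_apply] at this
  exact this


/-- Transport of a point of `D` over `z` to a point of `D'` over `z`, through a factorization
`y` of the image of `z` in `S` through the source family. -/
noncomputable def tr (β : pullDDFamObj w D ⟶ pullDDFamObj w D') {T : Scheme.{u}} {i : ι}
    (z : T ⟶ X i) (u : Lifts (D.obj i) z) (j : ι') (y : T ⟶ X' j) (hy : y ≫ f' j = z ≫ f i) :
    Lifts (D'.obj i) z :=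
  D'.φ (y ≫ p' j) z (aux w hy) (hat w β j y (D.φ z (y ≫ p' j) (aux w hy).symm u))

lemma tr_indep (β : pullDDFamObj w D ⟶ pullDDFamObj w D') {T : Scheme.{u}} {i : ι}
    (z : T ⟶ X i) (u : Lifts (D.obj i) z) (j : ι') (y : T ⟶ X' j) (hy : y ≫ f' j = z ≫ f i)
    (j' : ι') (y' : T ⟶ X' j') (hy' : y' ≫ f' j' = z ≫ f i) :
    tr w β z u j y hy = tr w β z u j' y' hy' := by
  have hyy : y ≫ f' j = y' ≫ f' j' := hy.trans hy'.symm
  unfold tr
  rw [← D.φ_comp z (y ≫ p' j) (y' ≫ p' j') (aux w hy).symm (pull_compat w y y' hyy) u,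
    ← hat_comm w β y y' hyy, D'.φ_comp]

lemma tr_nat (β : pullDDFamObj w D ⟶ pullDDFamObj w D') {T T' : Scheme.{u}} (g : T' ⟶ T) {i : ι}
    (z : T ⟶ X i) (z' : T' ⟶ X i) (hz : g ≫ z = z') (u : Lifts (D.obj i) z)
    (u' : Lifts (D.obj i) z') (hu : u'.1 = g ≫ u.1) (j : ι') (y : T ⟶ X' j)
    (hy : y ≫ f' j = z ≫ f i) (y' : T' ⟶ X' j) (hyy : g ≫ y = y')
    (hy' : y' ≫ f' j = z' ≫ f i) :
    (tr w β z' u' j y' hy').1 = g ≫ (tr w β z u j y hy).1 := by
  unfold tr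
  refine D'.φ_natural g (y ≫ p' j) z (aux w hy) (y' ≫ p' j) z'
    (by rw [← hyy, Category.assoc]) hz (aux w hy') _ _ ?_
  refine hat_nat w β j g y y' hyy _ _ ?_
  exact D.φ_natural g z (y ≫ p' j) (aux w hy).symm z' (y' ≫ p' j) hz
    (by rw [← hyy, Category.assoc]) (aux w hy').symm u u' hu

lemma tr_φ (β : pullDDFamObj w D ⟶ pullDDFamObj w D') {T : Scheme.{u}} {i i' : ι}
    (z : T ⟶ X i) (z' : T ⟶ X i') (h : z ≫ f i = z' ≫ f i') (u : Lifts (D.obj i) z) (j : ι')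
    (y : T ⟶ X' j) (hy : y ≫ f' j = z ≫ f i) :
    D'.φ z z' h (tr w β z u j y hy) = tr w β z' (D.φ z z' h u) j y (hy.trans h) := by
  unfold tr
  rw [D'.φ_comp, D.φ_comp]

lemma tr_self (β : pullDDFamObj w D ⟶ pullDDFamObj w D') {T : Scheme.{u}} (j : ι')
    (y : T ⟶ X' j) (u : Lifts (D.obj (α j)) (y ≫ p' j))
    (hy : y ≫ f' j = (y ≫ p' j) ≫ f (α j)) :
    tr w β (y ≫ p' j) u j y hy = hat w β j y u := by
  unfold tr
  rw [D'.φ_self, D.φ_self]

lemma tr_map (b : D ⟶ D') {T : Scheme.{u}} {i : ι}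
    (z : T ⟶ X i) (u : Lifts (D.obj i) z) (j : ι') (y : T ⟶ X' j) (hy : y ≫ f' j = z ≫ f i) :
    tr w ((pullDDFam w).map b) z u j y hy = b.push u := by
  unfold tr
  rw [hat_map, comm_push, φ_symm_apply]


/-- Faithfulness criterion for pullback of descent data. -/
theorem pull_faithful
    (hsep : ∀ (i : ι) (W : Scheme.{u}) (q : W ⟶ X i) (Z : Scheme.{u}) (r₁ r₂ : W ⟶ Z),
      (∀ ⦃T : Scheme.{u}⦄ (t : T ⟶ W), factSieve f' (q ≫ f i) t → t ≫ r₁ = t ≫ r₂) → r₁ = r₂) :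
    (pullDDFam w).Faithful := by
  refine ⟨fun {D D'} b c hbc => ?_⟩
  ext i
  apply hsep i _ (D.obj i).hom
  rintro T t ⟨j, y, hy⟩
  have hy' : y ≫ f' j = (t ≫ (D.obj i).hom) ≫ f i := by rw [hy, Category.assoc]
  have h1 := tr_map w b (t ≫ (D.obj i).hom) ⟨t, rfl⟩ j y hy'
  have h2 := tr_map w c (t ≫ (D.obj i).hom) ⟨t, rfl⟩ j y hy'
  rw [hbc] at h1
  exact congrArg Subtype.val (h1.symm.trans h2)

lemma hcov_pullback (hcov : ∀ i, factSieve f' (f i) ∈ Scheme.fpqcTopology (X i)) (i : ι)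
    {W : Scheme.{u}} (q : W ⟶ X i) : factSieve f' (q ≫ f i) ∈ Scheme.fpqcTopology W := by
  rw [← factSieve_pullback]
  exact Scheme.fpqcTopology.pullback_stable q (hcov i)

theorem pull_faithful_of_cov (hcov : ∀ i, factSieve f' (f i) ∈ Scheme.fpqcTopology (X i)) :
    (pullDDFam w).Faithful :=
  pull_faithful w fun i _ q _ r₁ r₂ h =>
    ext_of_covering _ (hcov_pullback hcov i q) r₁ r₂ h

theorem exists_hom (hcov : ∀ i, factSieve f' (f i) ∈ Scheme.fpqcTopology (X i))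
    (β : pullDDFamObj w D ⟶ pullDDFamObj w D') :
    ∃ b : D ⟶ D', ∀ ⦃T : Scheme.{u}⦄ ⦃i : ι⦄ (z : T ⟶ X i) (u : Lifts (D.obj i) z) (j : ι')
      (y : T ⟶ X' j) (hy : y ≫ f' j = z ≫ f i), b.push u = tr w β z u j y hy := by
  have hex : ∀ i, ∃ b : (D.obj i).left ⟶ (D'.obj i).left,
      ∀ ⦃T : Scheme.{u}⦄ (t : T ⟶ (D.obj i).left)
        (ht : factSieve f' ((D.obj i).hom ≫ f i) t),
        t ≫ b = (tr w β (t ≫ (D.obj i).hom) ⟨t, rfl⟩ ht.choose ht.choose_spec.choose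
          (by rw [ht.choose_spec.choose_spec, Category.assoc])).1 := by
    intro i
    apply glue_of_covering _ (hcov_pullback hcov i (D.obj i).hom)
    intro T T' t g ht
    have hy : ht.choose_spec.choose ≫ f' ht.choose = (t ≫ (D.obj i).hom) ≫ f i := by
      rw [ht.choose_spec.choose_spec, Category.assoc]
    have hy2 : (g ≫ ht.choose_spec.choose) ≫ f' ht.choose = ((g ≫ t) ≫ (D.obj i).hom) ≫ f i := by
      rw [Category.assoc, hy]; simp
    rw [tr_indep w β _ _ _ _ _ ht.choose (g ≫ ht.choose_spec.choose) hy2]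
    exact tr_nat w β g (t ≫ (D.obj i).hom) ((g ≫ t) ≫ (D.obj i).hom) (Category.assoc _ _ _).symm
      ⟨t, rfl⟩ ⟨g ≫ t, rfl⟩ rfl _ _ hy _ rfl hy2
  choose b hb using hex
  have AM : ∀ ⦃T : Scheme.{u}⦄ ⦃i : ι⦄ (z : T ⟶ X i) (u : Lifts (D.obj i) z) (j : ι')
      (y : T ⟶ X' j) (hy : y ≫ f' j = z ≫ f i), u.1 ≫ b i = (tr w β z u j y hy).1 := by
    intro T i z u j y hy
    obtain ⟨u1, rfl⟩ := u
    have ht : factSieve f' ((D.obj i).hom ≫ f i) u1 := ⟨j, y, by rw [hy, Category.assoc]⟩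
    rw [hb i u1 ht]
    exact congrArg Subtype.val (tr_indep w β _ _ _ _ _ _ _ _)
  have hover : ∀ i, b i ≫ (D'.obj i).hom = (D.obj i).hom := by
    intro i
    apply ext_of_covering _ (hcov_pullback hcov i (D.obj i).hom)
    intro T t ht
    rw [← Category.assoc, hb i t ht]
    exact (tr w β _ _ _ _ _).2
  refine ⟨⟨fun i => Over.homMk (b i) (hover i), ?_⟩, ?_⟩
  · intro T i j x₀ x₁ h v w' hw
    apply ext_of_covering _ (hcov_pullback hcov i x₀)
    rintro T' g ⟨j', y, hy⟩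
    have hy' : y ≫ f' j' = (g ≫ x₀) ≫ f i := by rw [hy, Category.assoc]
    have hgg : (g ≫ x₀) ≫ f i = (g ≫ x₁) ≫ f j := by
      rw [Category.assoc, h, Category.assoc]
    have hw' : pre g w' = tr w β (g ≫ x₀) (pre g v) j' y hy' := by
      apply Subtype.ext
      rw [← AM (g ≫ x₀) (pre g v) j' y hy']
      simp only [pre_val, hw, Over.homMk_left, Category.assoc]
    have e1 := congrArg Subtype.val (φ_pre D' g x₀ x₁ h hgg w')
    rw [hw', tr_φ w β (g ≫ x₀) (g ≫ x₁) hgg, φ_pre D g x₀ x₁ h hgg v,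
      ← AM (g ≫ x₁) (pre g (D.φ x₀ x₁ h v)) j' y (hy'.trans hgg)] at e1
    simp only [pre_val, Over.homMk_left, Category.assoc] at e1 ⊢
    exact e1.symm
  · intro T i z u j y hy
    exact Subtype.ext (AM z u j y hy)

theorem pull_full (hcov : ∀ i, factSieve f' (f i) ∈ Scheme.fpqcTopology (X i)) :
    (pullDDFam w).Full := by
  refine ⟨fun {D D'} β => ?_⟩
  obtain ⟨b, hb⟩ := exists_hom w hcov β
  refine ⟨b, ?_⟩
  ext j
  have hy : pullback.snd (D.obj (α j)).hom (p' j) ≫ f' j =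
      (pullback.snd (D.obj (α j)).hom (p' j) ≫ p' j) ≫ f (α j) := by
    rw [Category.assoc, w, Category.comp_id]
  have key : SchDDFam.Hom.push ((pullDDFam w).map b) (univ ((pullDDFamObj w D).obj j)) =
      SchDDFam.Hom.push β (univ ((pullDDFamObj w D).obj j)) := by
    apply (pe w D' j _).injective
    rw [pe_map_push, ← hat_pe, hb _ _ j _ hy, tr_self]
    rfl
  simpa using congrArg Subtype.val key

end pull


section rebase

variable {S : Scheme.{u}} {ι : Type w} {X : ι → Scheme.{u}} {f : ∀ i, X i ⟶ S}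

/-- A description of the points of `D` as points of `E` over re-based points. -/
structure Rebase (D E : SchDDFam f) where
  γ : ι → ι
  c : ∀ ⦃T : Scheme.{u}⦄ ⦃i : ι⦄ (_ : T ⟶ X i), T ⟶ X (γ i)
  c_nat : ∀ ⦃T T' : Scheme.{u}⦄ (g : T' ⟶ T) ⦃i : ι⦄ (x : T ⟶ X i), c (g ≫ x) = g ≫ c x
  c_f : ∀ ⦃T : Scheme.{u}⦄ ⦃i : ι⦄ (x : T ⟶ X i), c x ≫ f (γ i) = x ≫ f i
  e : ∀ ⦃T : Scheme.{u}⦄ ⦃i : ι⦄ (x : T ⟶ X i), Lifts (D.obj i) x ≃ Lifts (E.obj (γ i)) (c x)
  e_nat : ∀ ⦃T T' : Scheme.{u}⦄ (g : T' ⟶ T) ⦃i : ι⦄ (x : T ⟶ X i) (y : T' ⟶ X i) (_ : g ≫ x = y)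
    (v : Lifts (D.obj i) x) (v' : Lifts (D.obj i) y), v'.1 = g ≫ v.1 → (e y v').1 = g ≫ (e x v).1
  e_φ : ∀ ⦃T : Scheme.{u}⦄ ⦃i j : ι⦄ (x₀ : T ⟶ X i) (x₁ : T ⟶ X j) (h : x₀ ≫ f i = x₁ ≫ f j)
    (v : Lifts (D.obj i) x₀),
    e x₁ (D.φ x₀ x₁ h v) = E.φ (c x₀) (c x₁) ((c_f x₀).trans (h.trans (c_f x₁).symm)) (e x₀ v)

namespace Rebase

variable {D E : SchDDFam f} (r : Rebase D E)

lemma e_symm_nat ⦃T T' : Scheme.{u}⦄ (g : T' ⟶ T) ⦃i : ι⦄ (x : T ⟶ X i) (y : T' ⟶ X i)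
    (hy : g ≫ x = y) (u : Lifts (E.obj (r.γ i)) (r.c x)) (u' : Lifts (E.obj (r.γ i)) (r.c y))
    (hu : u'.1 = g ≫ u.1) : ((r.e y).symm u').1 = g ≫ ((r.e x).symm u).1 := by
  have hv : (g ≫ ((r.e x).symm u).1) ≫ (D.obj i).hom = y := by
    rw [Category.assoc, ((r.e x).symm u).2, hy]
  have : r.e y ⟨g ≫ ((r.e x).symm u).1, hv⟩ = u' := by
    apply Subtype.ext
    rw [r.e_nat g x y hy ((r.e x).symm u) ⟨_, hv⟩ rfl, Equiv.apply_symm_apply, hu]
  rw [← this, Equiv.symm_apply_apply]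

/-- the forward pointwise map -/
noncomputable def fwd : PtMap D E where
  map T i x v := E.φ (r.c x) x (r.c_f x) (r.e x v)
  natural T T' g i x y hy v v' hv :=
    E.φ_natural g (r.c x) x (r.c_f x) (r.c y) y (by rw [← hy, r.c_nat]) hy (r.c_f y) _ _
      (r.e_nat g x y hy v v' hv)
  comm T i j x₀ x₁ h v := by
    rw [r.e_φ, E.φ_comp, E.φ_comp]

/-- the backward pointwise map -/
noncomputable def bwd : PtMap E D where
  map T i x u := (r.e x).symm (E.φ x (r.c x) (r.c_f x).symm u)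
  natural T T' g i x y hy u u' hu :=
    r.e_symm_nat g x y hy _ _
      (E.φ_natural g x (r.c x) (r.c_f x).symm y (r.c y) hy (by rw [← hy, r.c_nat]) (r.c_f y).symm
        u u' hu)
  comm T i j x₀ x₁ h u := by
    apply (r.e x₁).injective
    rw [r.e_φ, Equiv.apply_symm_apply, Equiv.apply_symm_apply, E.φ_comp, E.φ_comp]

/-- The isomorphism of descent data given by a re-basing. -/
noncomputable def iso : D ≅ E :=
  mkIso r.fwd r.bwd
    (fun T i x v => by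
      change (r.e x).symm (E.φ x (r.c x) _ (E.φ (r.c x) x _ (r.e x v))) = v
      rw [φ_symm_apply, Equiv.symm_apply_apply])
    (fun T i x u => by
      change E.φ (r.c x) x _ (r.e x ((r.e x).symm (E.φ x (r.c x) _ u))) = u
      rw [Equiv.apply_symm_apply]
      exact φ_symm_apply E x (r.c x) (r.c_f x).symm u)

lemma iso_hom_push ⦃T : Scheme.{u}⦄ ⦃i : ι⦄ (x : T ⟶ X i) (v : Lifts (D.obj i) x) :
    SchDDFam.Hom.push r.iso.hom v = E.φ (r.c x) x (r.c_f x) (r.e x v) :=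
  r.fwd.toHom_push x v

end Rebase

end rebase


section more

variable {S : Scheme.{u}} {ι : Type w} {X : ι → Scheme.{u}} {f : ∀ i, X i ⟶ S}

lemma hom_ext_push {D D' : SchDDFam f} (a b : D ⟶ D')
    (h : ∀ ⦃T : Scheme.{u}⦄ ⦃i : ι⦄ (x : T ⟶ X i) (v : Lifts (D.obj i) x),
      SchDDFam.Hom.push a v = SchDDFam.Hom.push b v) : a = b := by
  ext i
  simpa using congrArg Subtype.val (h _ (univ (D.obj i)))

lemma push_comp {D D' D'' : SchDDFam f} (a : D ⟶ D') (b : D' ⟶ D'') ⦃T : Scheme.{u}⦄ ⦃i : ι⦄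
    {x : T ⟶ X i} (v : Lifts (D.obj i) x) :
    SchDDFam.Hom.push (a ≫ b) v = SchDDFam.Hom.push b (SchDDFam.Hom.push a v) :=
  Subtype.ext (by simp)

section selfmap

variable {p' : ∀ j, X j ⟶ X j} (w : ∀ j, p' j ≫ f j = f j ≫ 𝟙 S)

/-- Points of the pullback of `D` along a self-map of the family, as re-based points of `D`. -/
noncomputable def selfRebase (D : SchDDFam f) :
    Rebase (pullDDFamObj (α := fun j => j) w D) D where
  γ := fun j => j
  c T i x := x ≫ p' i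
  c_nat T T' g i x := Category.assoc _ _ _
  c_f T i x := by rw [Category.assoc, w, Category.comp_id]
  e T i x := pe (α := fun j => j) w D i x
  e_nat T T' g i x y hy v v' hv := by rw [pe_val, pe_val, hv, Category.assoc]
  e_φ T i j x₀ x₁ h v := by rw [pull_φ, Equiv.apply_symm_apply]

/-- Pullback along a self-map of the family over the base is isomorphic to the identity. -/
noncomputable def selfNatIso : pullDDFam (α := fun j => j) w ≅ 𝟭 (SchDDFam f) :=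
  NatIso.ofComponents (fun D => (selfRebase w D).iso) (by
    intro D D' a
    apply hom_ext_push
    intro T i x v
    rw [push_comp, push_comp, Rebase.iso_hom_push, Rebase.iso_hom_push]
    change D'.φ (x ≫ p' i) x _ (pe (α := fun j => j) w D' i x
      (SchDDFam.Hom.push ((pullDDFam (α := fun j => j) w).map a) v)) =
      SchDDFam.Hom.push a (D.φ (x ≫ p' i) x _ (pe (α := fun j => j) w D i x v))
    rw [pe_map_push, comm_push])

end selfmap

section pullpull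

variable {ι' : Type w'} {X' : ι' → Scheme.{u}} {f' : ∀ j, X' j ⟶ S}
  {α : ι' → ι} {p' : ∀ j, X' j ⟶ X (α j)} (w₁ : ∀ j, p' j ≫ f (α j) = f' j ≫ 𝟙 S)
  {β : ι → ι'} {q' : ∀ i, X i ⟶ X' (β i)} (w₂ : ∀ i, q' i ≫ f' (β i) = f i ≫ 𝟙 S)

/-- Points of the pullback there and back again, as re-based points. -/
noncomputable def pullPullRebase (E : SchDDFam f') :
    Rebase (pullDDFamObj w₁ (pullDDFamObj w₂ E)) E where
  γ j := β (α j)
  c T j x := (x ≫ p' j) ≫ q' (α j)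
  c_nat T T' g j x := by simp only [Category.assoc]
  c_f T j x := by rw [Category.assoc, w₂, Category.comp_id, Category.assoc, w₁, Category.comp_id]
  e T j x := (pe w₁ (pullDDFamObj w₂ E) j x).trans (pe w₂ E (α j) (x ≫ p' j))
  e_nat T T' g j x y hy v v' hv := by
    simp only [Equiv.trans_apply, pe_val, hv, Category.assoc]
  e_φ T j j' x₀ x₁ h v := by
    rw [pull_φ, Equiv.trans_apply, Equiv.apply_symm_apply, pull_φ, Equiv.apply_symm_apply]
    rfl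

include w₁ w₂ in
theorem pull_isEquivalence_of_back : (pullDDFam w₁).IsEquivalence := by
  have hcov : ∀ i, factSieve f' (f i) ∈ Scheme.fpqcTopology (X i) := by
    intro i
    refine Scheme.fpqcTopology.superset_covering ?_ (Scheme.fpqcTopology.top_mem (X i))
    intro T t _
    exact ⟨β i, t ≫ q' i, by rw [Category.assoc, w₂, Category.comp_id]⟩
  exact
    { faithful := pull_faithful_of_cov w₁ hcov
      full := pull_full w₁ hcov
      essSurj := ⟨fun E => ⟨pullDDFamObj w₂ E, ⟨(pullPullRebase w₁ w₂ E).iso⟩⟩⟩ }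

end pullpull

end more

end Groth.Agent.Lib.Helper64.DescFam
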