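import Mathlib
import Groth.Prelude.Def_FlatMod2
import Groth.Agent.Lib.Helper42.ModSheaf
import Groth.Agent.Lib.Helper78.ModStalk

/-!
# `SheafOfModules.IsFiniteType` for `X.Modules`: stalks are finitely generated

* `exists_covering_span` (any small site): if finitely many global sections `s i` generate a sheaf of
  modules `N` (the morphism `free I ⟶ N` is an epimorphism), then every section of `N` is, locally,
  a linear combination of the `s i`.
* `germ_mem_span`: for `M : X.Modules`, generating sections `G` of `M.over U` with `G.I` finite and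
  `x ∈ U`, the germs at `x` of the sections `secU M U (G.s i) ∈ Γ(M, U)` span the stalk `M_x`.
* `exists_local_generators`: a finite type `M` is, around every point, generated on stalks by finitely
  many sections.
* `finite_stalk`: the stalks of a finite type `M` are finitely generated `O_{X,x}`-modules.
-/

set_option autoImplicit false
universe u
open CategoryTheory Limits Opposite AlgebraicGeometry TopologicalSpace

namespace Groth.Agent.Lib.Helper64.FinTypeStalk

section General

variable {C : Type u} [SmallCategory C] {J : GrothendieckTopology C} {R : Sheaf J RingCat.{u}}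

variable (N : SheafOfModules.{u} R) {I : Type u}

open Classical in
/-- projections of a free sheaf of modules -/
noncomputable def proj (i : I) : SheafOfModules.free (R := R) I ⟶ SheafOfModules.unit R :=
  Cofan.IsColimit.desc (SheafOfModules.isColimitFreeCofan I) (fun j => if j = i then 𝟙 _ else 0)

open Classical in
lemma ιFree_proj (i j : I) :
    SheafOfModules.ιFree (R := R) j ≫ proj i = if j = i then 𝟙 _ else 0 := by
  rw [← SheafOfModules.freeCofan_inj]
  exact Cofan.IsColimit.fac (SheafOfModules.isColimitFreeCofan I) _ j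

lemma sum_proj_ι [Fintype I] :
    ∑ i : I, proj (R := R) i ≫ SheafOfModules.ιFree i = 𝟙 (SheafOfModules.free (R := R) I) := by
  classical
  apply Cofan.IsColimit.hom_ext (SheafOfModules.isColimitFreeCofan I)
  intro j
  show SheafOfModules.ιFree j ≫ (∑ i, proj i ≫ SheafOfModules.ιFree i) =
    SheafOfModules.ιFree j ≫ 𝟙 (SheafOfModules.free I)
  rw [Preadditive.comp_sum]
  simp_rw [← Category.assoc, ιFree_proj]
  rw [Finset.sum_eq_single j]
  · simp
  · intro b _ hb
    rw [if_neg (Ne.symm hb), zero_comp]
  · intro h; exact absurd (Finset.mem_univ j) h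

/-- evaluation of morphisms is additive -/
lemma sum_val_app {M M' : SheafOfModules.{u} R} {ι : Type*} (t : Finset ι) (f : ι → (M ⟶ M'))
    (Z : Cᵒᵖ) (a : M.val.obj Z) :
    (∑ i ∈ t, f i).val.app Z a = ∑ i ∈ t, (f i).val.app Z a := by
  classical
  induction t using Finset.induction_on with
  | empty => rfl
  | insert i t hi ih =>
    rw [Finset.sum_insert hi, Finset.sum_insert hi, ← ih]
    rfl

lemma unitHomEquiv_symm_app (s : N.sections) (Z : Cᵒᵖ) (r : R.obj.obj Z) :
    (N.unitHomEquiv.symm s).val.app Z r = r • PresheafOfModules.sections.eval s Z := by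
  rfl

/-- the image of `freeHomEquiv.symm s` lies in the span of the sections `s i` -/
lemma app_mem_span [Finite I] (s : I → N.sections) (Z : Cᵒᵖ)
    (t : (SheafOfModules.free (R := R) I).val.obj Z) :
    (N.freeHomEquiv.symm s).val.app Z t ∈
      Submodule.span (R.obj.obj Z) (Set.range fun i => PresheafOfModules.sections.eval (s i) Z) := by
  classical
  have := Fintype.ofFinite I
  have h1 : t = (∑ i : I, proj (R := R) i ≫ SheafOfModules.ιFree i).val.app Z t := by
    rw [sum_proj_ι]; rfl
  rw [h1, sum_val_app, map_sum]
  refine Submodule.sum_mem _ (fun i _ => ?_)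
  have h2 : (N.freeHomEquiv.symm s).val.app Z
      ((proj (R := R) i ≫ SheafOfModules.ιFree i).val.app Z t)
      = (SheafOfModules.ιFree i ≫ N.freeHomEquiv.symm s).val.app Z
        ((proj (R := R) i).val.app Z t) := rfl
  rw [h2, ← SheafOfModules.unitHomEquiv_symm_freeHomEquiv_apply, Equiv.apply_symm_apply,
    unitHomEquiv_symm_app]
  exact Submodule.smul_mem _ _ (Submodule.subset_span ⟨i, rfl⟩)

open Groth.Agent.Lib.Helper42.ModSheaf in
/-- If finitely many global sections generate `N`, every section of `N` is locally a linear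
combination of them. -/
lemma exists_covering_span [Finite I] (s : I → N.sections) [Epi (N.freeHomEquiv.symm s)]
    (Y : C) (m : N.val.obj (op Y)) :
    ∃ S : Sieve Y, S ∈ J Y ∧ ∀ ⦃Z : C⦄ (f : Z ⟶ Y), S f →
      (N.val.map f.op m : N.val.obj (op Z)) ∈ Submodule.span (R.obj.obj (op Z))
        (Set.range fun i => PresheafOfModules.sections.eval (s i) (op Z)) := by
  set π := N.freeHomEquiv.symm s
  have : PreservesFiniteColimits (SheafOfModules.toSheaf.{u} R) :=
    PreservesColimitsOfSize.preservesFiniteColimits _
  have hepi : Epi ((SheafOfModules.toSheaf.{u} R).map π) := inferInstance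
  have hls : Sheaf.IsLocallySurjective ((SheafOfModules.toSheaf.{u} R).map π) :=
    (Sheaf.isLocallySurjective_iff_epi' _ _).mpr hepi
  refine ⟨Presheaf.imageSieve ((SheafOfModules.toSheaf.{u} R).map π).hom m,
    hls.imageSieve_mem m, ?_⟩
  rintro Z f ⟨t, ht⟩
  have := app_mem_span N s (op Z) t
  have ht' : (π.val.app (op Z) t : N.val.obj (op Z)) = N.val.map f.op m := ht
  rw [← ht']
  exact this

end General

section Scheme

variable {X : Scheme.{u}} (M : X.Modules) (U : X.Opens)

/-- the section over `U` underlying a global section of `M.over U` -/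
noncomputable def secU (s : (SheafOfModules.over (R := X.ringCatSheaf) M U).sections) : Γ(M, U) :=
  PresheafOfModules.sections.eval s (op (Over.mk (𝟙 U)))

open Groth.Agent.Lib.Helper78.ModStalk in
/-- Generating sections of `M.over U` generate all the stalks at points of `U`. -/
theorem germ_mem_span (G : (SheafOfModules.over (R := X.ringCatSheaf) M U).GeneratingSections)
    [Finite G.I] (x : X) (hx : x ∈ U) (z : M.presheaf.stalk x) :
    z ∈ Submodule.span (X.presheaf.stalk x)
      (Set.range fun i : G.I => M.presheaf.germ U x hx (secU M U (G.s i))) := by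
  obtain ⟨V, hxV, m', rfl⟩ := M.presheaf.exists_germ_eq (x := x) z
  let V' : X.Opens := V ⊓ U
  let j : V' ⟶ U := homOfLE inf_le_right
  let Y : Over U := Over.mk j
  let m'' : (SheafOfModules.over (R := X.ringCatSheaf) M U).val.obj (op Y) :=
    M.presheaf.map (homOfLE (inf_le_left : V' ≤ V)).op m'
  obtain ⟨S, hS, hSspan⟩ :=
    exists_covering_span (SheafOfModules.over (R := X.ringCatSheaf) M U) G.s Y m''
  rw [GrothendieckTopology.mem_over_iff] at hS
  obtain ⟨W, g, hg, hxW⟩ := hS x ⟨hxV, hx⟩
  rw [Sieve.overEquiv_iff] at hg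
  have key := hSspan _ hg
  have hres : M.presheaf.germ V x hxV m' = M.presheaf.germ W x hxW
      (M.presheaf.map (g ≫ homOfLE (inf_le_left : V' ≤ V)).op m') :=
    (TopCat.Presheaf.germ_res_apply _ _ _ _ _).symm
  rw [hres]
  -- induction on the span
  have main : ∀ n : (SheafOfModules.over (R := X.ringCatSheaf) M U).val.obj
        (op (Over.mk (g ≫ Y.hom))),
      n ∈ Submodule.span ((X.ringCatSheaf.over U).obj.obj (op (Over.mk (g ≫ Y.hom))))
        (Set.range fun i => PresheafOfModules.sections.eval (G.s i) (op (Over.mk (g ≫ Y.hom)))) →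
      M.presheaf.germ W x hxW n ∈ Submodule.span (X.presheaf.stalk x)
      (Set.range fun i : G.I => M.presheaf.germ U x hx (secU M U (G.s i))) := by
    intro n hn
    induction hn using Submodule.span_induction with
    | mem n hn =>
      obtain ⟨i, rfl⟩ := hn
      refine Submodule.subset_span ⟨i, ?_⟩
      have hsec := PresheafOfModules.sections_property (G.s i)
        (Over.homMk (g ≫ Y.hom) : Over.mk (g ≫ Y.hom) ⟶ Over.mk (𝟙 U)).op
      have hsec' : PresheafOfModules.sections.eval (G.s i) (op (Over.mk (g ≫ Y.hom))) =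
          M.presheaf.map (g ≫ Y.hom).op (secU M U (G.s i)) := hsec.symm
      beta_reduce
      rw [hsec']
      exact (TopCat.Presheaf.germ_res_apply _ _ _ _ _).symm
    | zero =>
      have h0 : M.presheaf.germ W x hxW (0 : Γ(M, W)) = 0 := map_zero _
      exact h0 ▸ Submodule.zero_mem _
    | add a b _ _ ha hb =>
      have h0 : M.presheaf.germ W x hxW ((a : Γ(M, W)) + (b : Γ(M, W))) =
        M.presheaf.germ W x hxW a + M.presheaf.germ W x hxW b := map_add _ _ _
      exact h0 ▸ Submodule.add_mem _ ha hb
    | smul r a _ ha =>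
      have : M.presheaf.germ W x hxW (r • a) =
          X.presheaf.germ W x hxW r • M.presheaf.germ W x hxW a :=
        germ_smul M x W hxW r a
      rw [this]
      exact Submodule.smul_mem _ _ ha
  have e1 : M.presheaf.map (g ≫ homOfLE (inf_le_left : V' ≤ V)).op m' =
      M.presheaf.map g.op (M.presheaf.map (homOfLE (inf_le_left : V' ≤ V)).op m') := by
    rw [op_comp, Functor.map_comp]; rfl
  rw [e1]
  exact main _ key

/-- A finite type `O_X`-module is locally generated (on stalks) by finitely many sections. -/
theorem exists_local_generators (hM : SheafOfModules.IsFiniteType (R := X.ringCatSheaf) M) (x : X) :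
    ∃ (U : X.Opens) (_ : x ∈ U) (n : ℕ) (s : Fin n → Γ(M, U)), ∀ (y : X) (hy : y ∈ U),
      Submodule.span (X.presheaf.stalk y) (Set.range fun i => M.presheaf.germ U y hy (s i)) = ⊤ := by
  obtain ⟨σ, hσ⟩ := hM.exists_localGeneratorsData
  obtain ⟨V, f, ⟨i, ⟨hVi⟩⟩, hxV⟩ := σ.coversTop ⊤ x (show x ∈ (⊤ : X.Opens) from trivial)
  have hxi : x ∈ σ.X i := leOfHom hVi hxV
  have hfin : Finite (σ.generators i).I := (hσ.isFiniteType i).finite
  obtain ⟨n, ⟨e⟩⟩ := Finite.exists_equiv_fin (σ.generators i).I
  refine ⟨σ.X i, hxi, n, fun k => secU M (σ.X i) ((σ.generators i).s (e.symm k)), ?_⟩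
  intro y hy
  rw [eq_top_iff]
  intro z _
  have := germ_mem_span M (σ.X i) (σ.generators i) y hy z
  refine Submodule.span_mono ?_ this
  rintro _ ⟨k, rfl⟩
  exact ⟨e k, by simp⟩

/-- The stalks of a finite type `O_X`-module are finitely generated. -/
theorem finite_stalk (hM : SheafOfModules.IsFiniteType (R := X.ringCatSheaf) M) (x : X) :
    Module.Finite (X.presheaf.stalk x) (M.presheaf.stalk x) := by
  obtain ⟨U, hx, n, s, hs⟩ := exists_local_generators M hM x
  rw [Module.finite_def, ← hs x hx]
  exact Submodule.fg_span (Set.finite_range _)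

end Scheme

end Groth.Agent.Lib.Helper64.FinTypeStalk
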