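import Mathlib
import Groth.Agent.Lib.Helper64.FinTypeStalk

/-!
# Converse to `FinTypeStalk`: local generators on stalks give `SheafOfModules.IsFiniteType`

* `overSection M U s`: the global section of `M.over U` defined by `s ∈ Γ(M, U)`.
* `overπ M U s : free I ⟶ M.over U` for a family `s : I → Γ(M, U)`.
* `epi_overπ`: if the germs of the `s i` span all stalks `M_y`, `y ∈ U`, then `overπ` is an epimorphism.
* `generatingSections`, `isFiniteType_of_local_generators`, `isFiniteType_iff`.
-/

set_option autoImplicit false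
universe u
open CategoryTheory Limits Opposite AlgebraicGeometry TopologicalSpace

namespace Groth.Agent.Lib.Helper64.FinTypeStalk

variable {X : Scheme.{u}} (M : X.Modules) (U : X.Opens)

/-- a section over `U` gives a global section of `M.over U` -/
noncomputable def overSection (s : Γ(M, U)) :
    (SheafOfModules.over (R := X.ringCatSheaf) M U).sections :=
  PresheafOfModules.sectionsMk (fun Y => M.presheaf.map (Y.unop.hom).op s) (by
    intro Y Z f
    have h : f.unop.left ≫ Y.unop.hom = Z.unop.hom := Over.w f.unop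
    change M.presheaf.map (f.unop.left).op (M.presheaf.map (Y.unop.hom).op s) = _
    rw [← h, op_comp, Functor.map_comp]
    rfl)

lemma secU_overSection (s : Γ(M, U)) : secU M U (overSection M U s) = s := by
  change M.presheaf.map (𝟙 U).op s = s
  rw [op_id, M.presheaf.map_id]
  rfl

variable {I : Type u} (s : I → Γ(M, U))

/-- the morphism `free I ⟶ M.over U` defined by sections over `U` -/
noncomputable def overπ : SheafOfModules.free (R := X.ringCatSheaf.over U) I ⟶
    SheafOfModules.over (R := X.ringCatSheaf) M U :=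
  (SheafOfModules.over (R := X.ringCatSheaf) M U).freeHomEquiv.symm (fun i => overSection M U (s i))

open Groth.Agent.Lib.Helper78.ModStalk in
/-- local lifting: an element of the stalk in the span of the germs of the `s i` is locally
in the image of `overπ` -/
lemma exists_local_lift (y : X) (hy : y ∈ U) (z : M.presheaf.stalk y)
    (hz : z ∈ Submodule.span (X.presheaf.stalk y) (Set.range fun i => M.presheaf.germ U y hy (s i))) :
    ∃ (Y : Over U) (hyY : y ∈ Y.left)
      (t : (SheafOfModules.free (R := X.ringCatSheaf.over U) I).val.obj (op Y)),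
      M.presheaf.germ Y.left y hyY ((overπ M U s).val.app (op Y) t) = z := by
  induction hz using Submodule.span_induction with
  | mem z hz =>
    obtain ⟨i, rfl⟩ := hz
    refine ⟨Over.mk (𝟙 U), hy, PresheafOfModules.sections.eval (SheafOfModules.freeSection i) _, ?_⟩
    have h1 := SheafOfModules.sectionsMap_freeHomEquiv_symm_freeSection
      (M := SheafOfModules.over (R := X.ringCatSheaf) M U) (fun i => overSection M U (s i)) i
    have h2 : (overπ M U s).val.app (op (Over.mk (𝟙 U)))
        (PresheafOfModules.sections.eval (SheafOfModules.freeSection i) (op (Over.mk (𝟙 U)))) =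
        PresheafOfModules.sections.eval (overSection M U (s i)) (op (Over.mk (𝟙 U))) :=
      congrArg (fun σ => PresheafOfModules.sections.eval σ (op (Over.mk (𝟙 U)))) h1
    rw [h2]
    have h3 := secU_overSection M U (s i)
    unfold secU at h3
    rw [h3]
    rfl
  | zero =>
    refine ⟨Over.mk (𝟙 U), hy, 0, ?_⟩
    rw [map_zero]
    exact map_zero _
  | add a b _ _ ha hb =>
    obtain ⟨Ya, hya, ta, rfl⟩ := ha
    obtain ⟨Yb, hyb, tb, rfl⟩ := hb
    let W : X.Opens := Ya.left ⊓ Yb.left
    let Y : Over U := Over.mk ((homOfLE inf_le_left : W ⟶ Ya.left) ≫ Ya.hom)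
    let fa : Y ⟶ Ya := Over.homMk (homOfLE inf_le_left : W ⟶ Ya.left) rfl
    let fb : Y ⟶ Yb := Over.homMk (homOfLE inf_le_right : W ⟶ Yb.left) (Subsingleton.elim _ _)
    let F := (SheafOfModules.free (R := X.ringCatSheaf.over U) I).val
    let ta' : F.obj (op Y) := F.map fa.op ta
    let tb' : F.obj (op Y) := F.map fb.op tb
    refine ⟨Y, ⟨hya, hyb⟩, ta' + tb', ?_⟩
    rw [map_add]
    have h1 : (overπ M U s).val.app (op Y) ta' =
        M.presheaf.map (homOfLE (inf_le_left : W ≤ Ya.left)).op
          ((overπ M U s).val.app (op Ya) ta) :=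
      PresheafOfModules.naturality_apply (overπ M U s).val fa.op ta
    have h2 : (overπ M U s).val.app (op Y) tb' =
        M.presheaf.map (homOfLE (inf_le_right : W ≤ Yb.left)).op
          ((overπ M U s).val.app (op Yb) tb) :=
      PresheafOfModules.naturality_apply (overπ M U s).val fb.op tb
    have h3 : M.presheaf.germ Y.left y ⟨hya, hyb⟩
        ((overπ M U s).val.app (op Y) ta' + (overπ M U s).val.app (op Y) tb') =
        M.presheaf.germ Y.left y ⟨hya, hyb⟩ ((overπ M U s).val.app (op Y) ta') +
        M.presheaf.germ Y.left y ⟨hya, hyb⟩ ((overπ M U s).val.app (op Y) tb') := map_add _ _ _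
    rw [h3, h1, h2]
    congr 1
    · exact TopCat.Presheaf.germ_res_apply _ _ _ _ _
    · exact TopCat.Presheaf.germ_res_apply _ _ _ _ _
  | smul r a _ ha => 
    obtain ⟨Ya, hya, ta, rfl⟩ := ha
    obtain ⟨V, hyV, r', rfl⟩ := X.presheaf.exists_germ_eq (x := y) r
    let W : X.Opens := Ya.left ⊓ V
    let Y : Over U := Over.mk ((homOfLE inf_le_left : W ⟶ Ya.left) ≫ Ya.hom)
    let fa : Y ⟶ Ya := Over.homMk (homOfLE inf_le_left : W ⟶ Ya.left) rfl
    let F := (SheafOfModules.free (R := X.ringCatSheaf.over U) I).val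
    let ta' : F.obj (op Y) := F.map fa.op ta
    let r'' : (X.ringCatSheaf.over U).obj.obj (op Y) :=
      X.presheaf.map (homOfLE (inf_le_right : W ≤ V)).op r'
    refine ⟨Y, ⟨hya, hyV⟩, r'' • ta', ?_⟩
    rw [map_smul]
    have h1 : (overπ M U s).val.app (op Y) ta' =
        M.presheaf.map (homOfLE (inf_le_left : W ≤ Ya.left)).op
          ((overπ M U s).val.app (op Ya) ta) :=
      PresheafOfModules.naturality_apply (overπ M U s).val fa.op ta
    let m' : Γ(M, W) := (overπ M U s).val.app (op Y) ta'
    let rr : Γ(X, W) := X.presheaf.map (homOfLE (inf_le_right : W ≤ V)).op r'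
    have h3 : M.presheaf.germ W y ⟨hya, hyV⟩ (rr • m') =
        X.presheaf.germ W y ⟨hya, hyV⟩ rr • M.presheaf.germ W y ⟨hya, hyV⟩ m' :=
      germ_smul M y W ⟨hya, hyV⟩ _ _
    refine h3.trans ?_
    change X.presheaf.germ W y ⟨hya, hyV⟩ (X.presheaf.map (homOfLE (inf_le_right : W ≤ V)).op r') •
        M.presheaf.germ W y ⟨hya, hyV⟩ ((overπ M U s).val.app (op Y) ta') = _
    rw [h1]
    congr 1
    · exact TopCat.Presheaf.germ_res_apply _ _ _ _ _
    · exact TopCat.Presheaf.germ_res_apply _ _ _ _ _

end Groth.Agent.Lib.Helper64.FinTypeStalk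

namespace Groth.Agent.Lib.Helper64.FinTypeStalk

variable {X : Scheme.{u}} (M : X.Modules) (U : X.Opens) {I : Type u} (s : I → Γ(M, U))

/-- sections over `U` whose germs span all stalks at points of `U` generate `M.over U` -/
theorem epi_overπ (hs : ∀ (y : X) (hy : y ∈ U), Submodule.span (X.presheaf.stalk y)
      (Set.range fun i => M.presheaf.germ U y hy (s i)) = ⊤) : Epi (overπ M U s) := by
  suffices h : Epi ((SheafOfModules.toSheaf.{u} (X.ringCatSheaf.over U)).map (overπ M U s)) from
    (SheafOfModules.toSheaf.{u} (X.ringCatSheaf.over U)).epi_of_epi_map h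
  rw [← Sheaf.isLocallySurjective_iff_epi']
  constructor
  intro Y m
  rw [GrothendieckTopology.mem_over_iff]
  intro y hy
  have hyU : y ∈ U := leOfHom Y.hom hy
  obtain ⟨Y', hyY', t, ht⟩ := exists_local_lift M U s y hyU (M.presheaf.germ Y.left y hy m)
    (by rw [hs]; trivial)
  obtain ⟨W, hyW, i1, i2, heq⟩ := TopCat.Presheaf.germ_eq _ y hyY' hy _ _ ht
  refine ⟨W, i2, ?_, hyW⟩
  rw [Sieve.overEquiv_iff]
  let g : Over.mk (i2 ≫ Y.hom) ⟶ Y' := Over.homMk i1 (Subsingleton.elim _ _)
  refine ⟨(SheafOfModules.free (R := X.ringCatSheaf.over U) I).val.map g.op t, ?_⟩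
  have h1 := PresheafOfModules.naturality_apply (overπ M U s).val g.op t
  refine h1.trans ?_
  exact heq

end Groth.Agent.Lib.Helper64.FinTypeStalk

namespace Groth.Agent.Lib.Helper64.FinTypeStalk

variable {X : Scheme.{u}} (M : X.Modules) 

/-- generating sections of `M.over U` from sections over `U` spanning the stalks -/
noncomputable def generatingSections (U : X.Opens) {I : Type u} (s : I → Γ(M, U))
    (hs : ∀ (y : X) (hy : y ∈ U), Submodule.span (X.presheaf.stalk y)
      (Set.range fun i => M.presheaf.germ U y hy (s i)) = ⊤) :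
    (SheafOfModules.over (R := X.ringCatSheaf) M U).GeneratingSections where
  I := I
  s := fun i => overSection M U (s i)
  epi := epi_overπ M U s hs

/-- Converse of `exists_local_generators`: a module which is locally generated on stalks by finitely
many sections is of finite type. -/
theorem isFiniteType_of_local_generators
    (h : ∀ x : X, ∃ (U : X.Opens) (_ : x ∈ U) (n : ℕ) (s : Fin n → Γ(M, U)), ∀ (y : X) (hy : y ∈ U),
      Submodule.span (X.presheaf.stalk y) (Set.range fun i => M.presheaf.germ U y hy (s i)) = ⊤) :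
    SheafOfModules.IsFiniteType (R := X.ringCatSheaf) M := by
  choose U hxU n s hs using h
  have hs' : ∀ (x : X) (y : X) (hy : y ∈ U x), Submodule.span (X.presheaf.stalk y)
      (Set.range fun i : ULift.{u} (Fin (n x)) => M.presheaf.germ (U x) y hy (s x i.down)) = ⊤ := by
    intro x y hy
    rw [← hs x y hy]
    congr 1
    ext z
    constructor
    · rintro ⟨i, rfl⟩; exact ⟨i.down, rfl⟩
    · rintro ⟨i, rfl⟩; exact ⟨⟨i⟩, rfl⟩
  let σ : SheafOfModules.LocalGeneratorsData.{u} (R := X.ringCatSheaf) M :=
    { I := (X : Type u)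
      X := U
      coversTop := by
        intro W y hy
        exact ⟨W ⊓ U y, homOfLE inf_le_left, ⟨y, ⟨homOfLE inf_le_right⟩⟩, ⟨hy, hxU y⟩⟩
      generators := fun x =>
        generatingSections M (U x) (fun i : ULift.{u} (Fin (n x)) => s x i.down) (hs' x) }
  have hσ : σ.IsFiniteType := by
    refine SheafOfModules.LocalGeneratorsData.IsFiniteType.mk (p := σ) (fun x => ?_)
    refine SheafOfModules.GeneratingSections.IsFiniteType.mk (σ := σ.generators x) ?_
    change Finite (ULift.{u} (Fin (n x)))
    infer_instance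
  constructor
  exact ⟨σ, hσ⟩

theorem isFiniteType_iff :
    SheafOfModules.IsFiniteType (R := X.ringCatSheaf) M ↔
    ∀ x : X, ∃ (U : X.Opens) (_ : x ∈ U) (n : ℕ) (s : Fin n → Γ(M, U)), ∀ (y : X) (hy : y ∈ U),
      Submodule.span (X.presheaf.stalk y) (Set.range fun i => M.presheaf.germ U y hy (s i)) = ⊤ :=
  ⟨fun h x => exists_local_generators M h x, isFiniteType_of_local_generators M⟩

end Groth.Agent.Lib.Helper64.FinTypeStalk
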