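import Mathlib
import Groth.Agent.Lib.Helper64.FinTypeConv
import Groth.Agent.Lib.Lead.QCohAff8

/-!
# Coherent (= quasi-coherent of finite type) modules on affine opens

For `F : X.Modules` quasi-coherent and `U` an affine open:
* `span_eq_top_of_germs`: sections over `U` whose germs span all stalks span `Γ(F, U)`.
* `span_germs_eq_top`: generators of `Γ(F, U)` generate all stalks at points of `U`.
* `exists_finset_generators`, `finite_sections`: if `F` is of finite type then `Γ(F, U)` is a finite
  `Γ(X, U)`-module.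
* `isFiniteType_of_finite_sections`: conversely, if every point has an affine open neighbourhood over
  which the sections form a finite module, `F` is of finite type.
* `isFiniteType_iff_finite_sections`.
-/

set_option autoImplicit false
set_option linter.style.haveILetI false
universe u
open CategoryTheory Limits Opposite AlgebraicGeometry TopologicalSpace

namespace Groth.Agent.Lib.Helper64.CohAffine

noncomputable section

open Groth.Agent.Lib.Lead.QCohAff Groth.Agent.Lib.Helper64.FinTypeStalk

variable {X : Scheme.{u}} (F : X.Modules) [F.IsQuasicoherent] {U : X.Opens}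

/-- On an affine open, sections whose germs span all the stalks span the module of sections. -/
theorem span_eq_top_of_germs (hU : IsAffineOpen U) (T : Set Γ(F, U))
    (hT : ∀ (y : X) (hy : y ∈ U), Submodule.span (X.presheaf.stalk y)
      ((fun t => F.presheaf.germ U y hy t) '' T) = ⊤) :
    Submodule.span Γ(X, U) T = ⊤ := by
  rw [eq_top_iff]
  intro n _
  set N := Submodule.span Γ(X, U) T with hN
  let I : Ideal Γ(X, U) := N.comap (LinearMap.toSpanSingleton Γ(X, U) Γ(F, U) n)
  suffices I = ⊤ by simpa [I] using I.eq_top_iff_one.mp this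
  by_contra hI
  obtain ⟨P, hP, le⟩ := I.exists_le_maximal hI
  let y : X := hU.fromSpec.base ⟨P, hP.isPrime⟩
  have hy : y ∈ U := fromSpec_mem hU ⟨P, hP.isPrime⟩
  have hpy : hU.primeIdealOf ⟨y, hy⟩ = ⟨P, hP.isPrime⟩ := primeIdealOf_fromSpec hU ⟨P, hP.isPrime⟩ hy
  letI alg : Algebra Γ(X, U) (X.presheaf.stalk y) :=
    TopCat.Presheaf.algebra_section_stalk X.presheaf ⟨y, hy⟩
  letI : Module (X.presheaf.stalk y) (StalkOver F U y hy) :=
    inferInstanceAs (Module (X.presheaf.stalk y) (F.presheaf.stalk y))
  haveI : IsScalarTower Γ(X, U) (X.presheaf.stalk y) (StalkOver F U y hy) :=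
    IsScalarTower.of_algebraMap_smul (fun r m => rfl)
  haveI := hU.isLocalization_stalk ⟨y, hy⟩
  haveI := isLocalizedModule_germL F hU y hy
  have h1 := Submodule.localized'_span (X.presheaf.stalk y)
    (hU.primeIdealOf ⟨y, hy⟩).asIdeal.primeCompl (germL F U y hy) T
  have h2 : germL F U y hy n ∈ Submodule.localized' (X.presheaf.stalk y)
      (hU.primeIdealOf ⟨y, hy⟩).asIdeal.primeCompl (germL F U y hy) N := by
    rw [h1]
    have := hT y hy
    have h3 : Submodule.span (X.presheaf.stalk y) ((germL F U y hy) '' T) = ⊤ := this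
    rw [h3]
    trivial
  obtain ⟨a, ha, s, e⟩ := h2
  rw [← IsLocalizedModule.mk'_one (hU.primeIdealOf ⟨y, hy⟩).asIdeal.primeCompl,
    IsLocalizedModule.mk'_eq_mk'_iff] at e
  obtain ⟨t, ht⟩ := e
  simp_rw [smul_smul] at ht
  have hts : ((t * s : (hU.primeIdealOf ⟨y, hy⟩).asIdeal.primeCompl) : Γ(X, U)) ∈ I := by
    change ((t * s : (hU.primeIdealOf ⟨y, hy⟩).asIdeal.primeCompl) : Γ(X, U)) • n ∈ N
    have ht' : ((t * s : (hU.primeIdealOf ⟨y, hy⟩).asIdeal.primeCompl) : Γ(X, U)) • n =
        ((t * 1 : (hU.primeIdealOf ⟨y, hy⟩).asIdeal.primeCompl) : Γ(X, U)) • a := ht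
    rw [ht']
    exact N.smul_mem _ ha
  have := le hts
  have h4 : ((t * s : (hU.primeIdealOf ⟨y, hy⟩).asIdeal.primeCompl) : Γ(X, U)) ∉
      (hU.primeIdealOf ⟨y, hy⟩).asIdeal := (t * s).2
  have hPeq : (hU.primeIdealOf ⟨y, hy⟩).asIdeal = P := congrArg PrimeSpectrum.asIdeal hpy
  exact h4 ((le_of_eq hPeq.symm) this)

/-- On an affine open, generators of the module of sections generate all the stalks. -/
theorem span_germs_eq_top (hU : IsAffineOpen U) (T : Set Γ(F, U))
    (hT : Submodule.span Γ(X, U) T = ⊤) (y : X) (hy : y ∈ U) :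
    Submodule.span (X.presheaf.stalk y) ((fun t => F.presheaf.germ U y hy t) '' T) = ⊤ := by
  rw [eq_top_iff]
  intro z _
  obtain ⟨r, n, hyr, hrz⟩ := exists_germ_smul_eq_germ F hU y hy z
  have hu : IsUnit (X.presheaf.germ U y hy r) := isUnit_germ_of_mem_basicOpen r y hy hyr
  obtain ⟨v, hv⟩ := hu
  have hz : z = (↑v⁻¹ : X.presheaf.stalk y) • F.presheaf.germ U y hy n := by
    rw [← hrz, ← hv, smul_smul, Units.inv_mul, one_smul]
  rw [hz]
  refine Submodule.smul_mem _ _ ?_
  have hn : n ∈ Submodule.span Γ(X, U) T := hT ▸ Submodule.mem_top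
  clear hz hrz
  induction hn using Submodule.span_induction with
  | mem n hn => exact Submodule.subset_span ⟨n, hn, rfl⟩
  | zero => rw [map_zero]; exact Submodule.zero_mem _
  | add a b _ _ ha hb => rw [map_add]; exact Submodule.add_mem _ ha hb
  | smul a b _ hb => rw [germ_smul]; exact Submodule.smul_mem _ _ hb

/-- local form: around each point of an affine open, finitely many sections over `U` generate the
stalks on a basic open neighbourhood -/
theorem exists_basicOpen_generators (hft : SheafOfModules.IsFiniteType (R := X.ringCatSheaf) F)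
    (hU : IsAffineOpen U) (x : X) (hxU : x ∈ U) :
    ∃ (g : Γ(X, U)) (T : Finset Γ(F, U)), x ∈ X.basicOpen g ∧
      ∀ (y : X) (hy : y ∈ U), y ∈ X.basicOpen g → Submodule.span (X.presheaf.stalk y)
        ((fun t => F.presheaf.germ U y hy t) '' (T : Set Γ(F, U))) = ⊤ := by
  classical
  obtain ⟨V, hxV, n, s, hs⟩ := exists_local_generators F hft x
  obtain ⟨g, hgV, hxg⟩ := hU.exists_basicOpen_le ⟨x, hxV⟩ hxU
  have hex : ∀ i : Fin n, ∃ (k : ℕ) (t : Γ(F, U)),
      F.presheaf.map (homOfLE (X.basicOpen_le g)).op t =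
      (X.presheaf.map (homOfLE (X.basicOpen_le g)).op g) ^ k •
        F.presheaf.map (homOfLE hgV).op (s i) :=
    fun i => exists_res_eq_pow_smul F hU g _
  choose k t ht using hex
  refine ⟨g, Finset.univ.image t, hxg, ?_⟩
  intro y hy hyg
  rw [eq_top_iff, ← hs y (hgV hyg)]
  rw [Submodule.span_le]
  rintro _ ⟨i, rfl⟩
  -- germ of s i is a unit multiple of germ of t i
  have h1 : F.presheaf.germ U y hy (t i) =
      (X.presheaf.germ U y hy g) ^ (k i) • F.presheaf.germ V y (hgV hyg) (s i) := by
    rw [← germ_res F (X.basicOpen_le g) y hyg (t i), ht i, germ_smul, map_pow, germX_res,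
      germ_res]
  have hu : IsUnit ((X.presheaf.germ U y hy g) ^ (k i)) :=
    (isUnit_germ_of_mem_basicOpen g y hy hyg).pow _
  obtain ⟨v, hv⟩ := hu
  have h2 : F.presheaf.germ V y (hgV hyg) (s i) =
      (↑v⁻¹ : X.presheaf.stalk y) • F.presheaf.germ U y hy (t i) := by
    rw [h1, ← hv, smul_smul, Units.inv_mul, one_smul]
  show F.presheaf.germ V y (hgV hyg) (s i) ∈ _
  rw [h2]
  refine Submodule.smul_mem _ _ (Submodule.subset_span ⟨t i, ?_, rfl⟩)
  simp

/-- finitely many sections over an affine open generating all stalks -/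
theorem exists_finset_generators (hft : SheafOfModules.IsFiniteType (R := X.ringCatSheaf) F)
    (hU : IsAffineOpen U) :
    ∃ T : Finset Γ(F, U), ∀ (y : X) (hy : y ∈ U), Submodule.span (X.presheaf.stalk y)
        ((fun t => F.presheaf.germ U y hy t) '' (T : Set Γ(F, U))) = ⊤ := by
  classical
  have key := fun x : U => exists_basicOpen_generators F hft hU x.1 x.2
  choose g T hxg hT using key
  obtain ⟨t, ht⟩ := hU.isCompact.elim_finite_subcover (fun x : U => (X.basicOpen (g x) : Set X))
    (fun x => (X.basicOpen (g x)).isOpen) (fun y hy => Set.mem_iUnion.mpr ⟨⟨y, hy⟩, hxg ⟨y, hy⟩⟩)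
  refine ⟨t.biUnion T, ?_⟩
  intro y hy
  obtain ⟨x, hxt, hyx⟩ := Set.mem_iUnion₂.mp (ht hy)
  rw [eq_top_iff, ← hT x y hy hyx]
  apply Submodule.span_mono
  apply Set.image_mono
  intro z hz
  simp only [Finset.coe_biUnion, Set.mem_iUnion]
  exact ⟨x, hxt, hz⟩

/-- The sections of a quasi-coherent module of finite type over an affine open form a finite module. -/
theorem finite_sections (hft : SheafOfModules.IsFiniteType (R := X.ringCatSheaf) F)
    (hU : IsAffineOpen U) : Module.Finite Γ(X, U) Γ(F, U) := by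
  obtain ⟨T, hT⟩ := exists_finset_generators F hft hU
  exact ⟨⟨T, span_eq_top_of_germs F hU T hT⟩⟩

/-- A quasi-coherent module whose sections over the members of an affine open cover are finite
modules is of finite type. -/
theorem isFiniteType_of_finite_sections
    (h : ∀ x : X, ∃ (U : X.Opens), x ∈ U ∧ IsAffineOpen U ∧ Module.Finite Γ(X, U) Γ(F, U)) :
    SheafOfModules.IsFiniteType (R := X.ringCatSheaf) F := by
  apply isFiniteType_of_local_generators
  intro x
  obtain ⟨U, hxU, hU, hfin⟩ := h x
  obtain ⟨n, s, hs⟩ := Module.Finite.exists_fin (R := Γ(X, U)) (M := Γ(F, U))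
  refine ⟨U, hxU, n, s, fun y hy => ?_⟩
  have := span_germs_eq_top F hU (Set.range s) hs y hy
  rw [← this, ← Set.range_comp]
  rfl

theorem isFiniteType_iff_finite_sections :
    SheafOfModules.IsFiniteType (R := X.ringCatSheaf) F ↔
      ∀ (U : X.Opens), IsAffineOpen U → Module.Finite Γ(X, U) Γ(F, U) := by
  constructor
  · intro h U hU
    exact finite_sections F h hU
  · intro h
    apply isFiniteType_of_finite_sections
    intro x
    obtain ⟨_, ⟨U, hU, rfl⟩, hxU, -⟩ := X.isBasis_affineOpens.exists_subset_of_mem_open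
      (Set.mem_univ x) isOpen_univ
    exact ⟨U, hxU, hU, h U hU⟩

end

end Groth.Agent.Lib.Helper64.CohAffine
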