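import Mathlib
import Groth.Agent.Lib.Helper64.CohAffine

/-!
# Support of coherent modules

* `isOpen_germ_eq_zero`, `isClosed_support`: the support of a finite type `O_X`-module is closed.
* `length_lt_top_of_support_subset`: a finite module over a Noetherian ring whose support consists of
  maximal ideals has finite length.
* `nontrivial_stalk_of_mem_support`: points of `Spec O_ξ` in the support of `F_ξ` map into `Supp F`.
* `length_stalk_lt_top`: at a maximal point of the support of a coherent module on a locally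
  Noetherian scheme the stalk has finite length.
* `exists_generic_of_irreducibleComponent` (topology), `primeIdealOf_mem_minimalPrimes`,
  `locallyFinite_irreducibleComponents_support`.
-/

set_option autoImplicit false
set_option linter.style.haveILetI false
universe u
open CategoryTheory Limits Opposite AlgebraicGeometry TopologicalSpace

namespace Groth.Agent.Lib.Helper64.CohSupport

noncomputable section

open Groth.Agent.Lib.Lead.QCohAff Groth.Agent.Lib.Helper64.FinTypeStalk
  Groth.Agent.Lib.Helper64.CohAffine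

/-- A finite module over a Noetherian ring whose support consists of maximal ideals has finite length. -/
theorem length_lt_top_of_support_subset {R M : Type u} [CommRing R] [IsNoetherianRing R]
    [AddCommGroup M] [Module R M] [Module.Finite R M]
    (h : ∀ q : PrimeSpectrum R, q ∈ Module.support R M → q.asIdeal.IsMaximal) :
    Module.length R M < ⊤ := by
  let I := Module.annihilator R M
  letI : Module (R ⧸ I) M := Module.quotientAnnihilator
  haveI : IsScalarTower R (R ⧸ I) M := (Module.isTorsionBySet_annihilator R M).isScalarTower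
  have hsurj : Function.Surjective (algebraMap R (R ⧸ I)) := Ideal.Quotient.mk_surjective
  haveI : Module.Finite (R ⧸ I) M := Module.Finite.of_restrictScalars_finite R (R ⧸ I) M
  rw [Module.length_eq_of_surjective (R := R ⧸ I) hsurj]
  -- `R ⧸ I` is artinian
  haveI : Ring.KrullDimLE 0 (R ⧸ I) := by
    rw [Ideal.krullDimLE_zero_quotient_iff_forall_minimalPrimes_isMaximal]
    intro J hJ
    have hJp : J.IsPrime := hJ.1.1
    refine h ⟨J, hJp⟩ ?_
    rw [Module.support_eq_zeroLocus]
    exact hJ.1.2
  haveI : IsArtinianRing (R ⧸ I) := isArtinianRing_iff_krullDimLE_zero.mpr inferInstance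
  rw [lt_top_iff_ne_top, Module.length_ne_top_iff]
  rw [isFiniteLength_iff_isNoetherian_isArtinian]
  exact ⟨inferInstance, inferInstance⟩

variable {X : Scheme.{u}} (F : X.Modules)

/-- the locus where the germ of a section vanishes is open -/
theorem isOpen_germ_eq_zero {U : X.Opens} (s : Γ(F, U)) :
    IsOpen {y : X | ∃ hy : y ∈ U, F.presheaf.germ U y hy s = 0} := by
  rw [isOpen_iff_forall_mem_open]
  rintro y ⟨hy, h0⟩
  have h0' : F.presheaf.germ U y hy s = F.presheaf.germ U y hy 0 := by rw [h0, map_zero]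
  obtain ⟨W, hyW, i1, i2, heq⟩ := TopCat.Presheaf.germ_eq _ y hy hy _ _ h0'
  refine ⟨W, ?_, W.isOpen, hyW⟩
  intro y' hy'
  refine ⟨leOfHom i1 hy', ?_⟩
  have := TopCat.Presheaf.germ_res_apply F.presheaf i1 y' hy' s
  rw [← this, heq, map_zero, map_zero]

/-- The support of a finite type module is closed. -/
theorem isClosed_support (hft : SheafOfModules.IsFiniteType (R := X.ringCatSheaf) F) :
    IsClosed {x : X | Nontrivial (F.presheaf.stalk x)} := by
  rw [← isOpen_compl_iff, isOpen_iff_forall_mem_open]
  intro x hx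
  have hx' : Subsingleton (F.presheaf.stalk x) := not_nontrivial_iff_subsingleton.mp hx
  obtain ⟨U, hxU, n, s, hs⟩ := exists_local_generators F hft x
  refine ⟨(U : Set X) ∩ ⋂ i : Fin n, {y : X | ∃ hy : y ∈ U, F.presheaf.germ U y hy (s i) = 0}, ?_,
    U.isOpen.inter (isOpen_iInter_of_finite (fun i => isOpen_germ_eq_zero F (s i))), ?_⟩
  · rintro y ⟨hyU, hy⟩
    rw [Set.mem_iInter] at hy
    change ¬ Nontrivial (F.presheaf.stalk y)
    rw [not_nontrivial_iff_subsingleton]
    have h1 := hs y hyU
    have h2 : Set.range (fun i => F.presheaf.germ U y hyU (s i)) ⊆ {0} := by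
      rintro _ ⟨i, rfl⟩
      obtain ⟨_, h⟩ := hy i
      exact h
    have h3 : (⊤ : Submodule (X.presheaf.stalk y) (F.presheaf.stalk y)) = ⊥ := by
      rw [← h1, eq_bot_iff]
      exact (Submodule.span_mono h2).trans (by simp)
    exact (Submodule.subsingleton_iff (X.presheaf.stalk y)).mp
      (subsingleton_of_bot_eq_top h3.symm)
  · refine ⟨hxU, ?_⟩
    rw [Set.mem_iInter]
    intro i
    exact ⟨hxU, Subsingleton.elim _ _⟩

/-- the generic point of (the image in `X` of) an irreducible component of a closed subset `S` of a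
quasi-sober T0 space is a maximal point of `S` -/
theorem exists_generic_of_irreducibleComponent {T : Type*} [TopologicalSpace T] [QuasiSober T]
    [T0Space T] (S : Set T) (hS : IsClosed S) (Z : Set S) (hZ : Z ∈ irreducibleComponents S) :
    ∃ η : T, IsGenericPoint η (Subtype.val '' Z) ∧ η ∈ S ∧ ∀ y ∈ S, y ⤳ η → y = η := by
  have hZirr : IsIrreducible Z := hZ.1
  have hZcl : IsClosed Z := isClosed_of_mem_irreducibleComponents Z hZ
  have hZ'irr : IsIrreducible (Subtype.val '' Z) := hZirr.image _ continuous_subtype_val.continuousOn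
  have hZ'cl : IsClosed (Subtype.val '' Z) := hS.isClosedEmbedding_subtypeVal.isClosedMap _ hZcl
  obtain ⟨η, hη⟩ := QuasiSober.sober hZ'irr hZ'cl
  have hηZ : η ∈ Subtype.val '' Z := hη.mem
  obtain ⟨⟨η', hη'S⟩, hη'Z, rfl⟩ := hηZ
  refine ⟨η', hη, hη'S, ?_⟩
  intro y hyS hyη
  -- W = closure of y in S
  let W : Set S := closure {⟨y, hyS⟩}
  have hWirr : IsIrreducible W := isIrreducible_singleton.closure
  have hZW : Z ≤ W := by
    intro z hz
    have hz' : (z : T) ∈ closure {η'} := by
      have : (z : T) ∈ Subtype.val '' Z := ⟨z, hz, rfl⟩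
      rw [← hη.def] at this
      exact this
    have hz'' : (z : T) ∈ closure {y} := by
      have h1 : closure {η'} ⊆ closure {y} := by
        apply closure_minimal _ isClosed_closure
        rw [Set.singleton_subset_iff]
        exact hyη.mem_closure
      exact h1 hz'
    change z ∈ closure {⟨y, hyS⟩}
    rw [closure_subtype, Set.image_singleton]
    exact hz''
  have hWZ : W ≤ Z := hZ.2 hWirr hZW
  have hyZ : (⟨y, hyS⟩ : S) ∈ Z := hWZ (subset_closure rfl)
  have hy' : y ∈ Subtype.val '' Z := ⟨⟨y, hyS⟩, hyZ, rfl⟩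
  have h2 : η' ⤳ y := hη.specializes hy'
  exact (hyη.antisymm h2).eq

variable [F.IsQuasicoherent]

/-- a point of `Spec O_ξ` in the support of the stalk `F_ξ` maps to a point of the support of `F` -/
theorem nontrivial_stalk_of_mem_support (ξ : X) (q : PrimeSpectrum (X.presheaf.stalk ξ))
    (hq : q ∈ Module.support (X.presheaf.stalk ξ) (F.presheaf.stalk ξ)) :
    Nontrivial (F.presheaf.stalk ((X.fromSpecStalk ξ).base q)) := by
  by_contra hnt
  rw [not_nontrivial_iff_subsingleton] at hnt
  revert hq
  rw [imp_false, Module.notMem_support_iff']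
  intro z
  obtain ⟨_, ⟨U, hU, rfl⟩, hξU, -⟩ := X.isBasis_affineOpens.exists_subset_of_mem_open
    (Set.mem_univ ξ) isOpen_univ
  set x' := (X.fromSpecStalk ξ).base q with hx'def
  have hx'ξ : x' ⤳ ξ := by
    have : x' ∈ Set.range (X.fromSpecStalk ξ) := ⟨q, rfl⟩
    rwa [Scheme.range_fromSpecStalk] at this
  have hx'U : x' ∈ U := hx'ξ.mem_open U.isOpen hξU
  have hx' : x' = hU.fromSpec.base (PrimeSpectrum.comap (X.presheaf.germ U ξ hξU).hom q) := by
    rw [hx'def, ← hU.fromSpecStalk_eq_fromSpecStalk hξU]
    rfl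
  obtain ⟨r, s, hξr, hrz⟩ := exists_germ_smul_eq_germ F hU ξ hξU z
  have h0 : F.presheaf.germ U x' hx'U s = 0 := Subsingleton.elim _ _
  obtain ⟨a, hx'a, has⟩ := (germ_eq_zero_iff F hU x' hx'U s).mp h0
  refine ⟨X.presheaf.germ U ξ hξU a * X.presheaf.germ U ξ hξU r, ?_, ?_⟩
  · intro hmem
    rcases q.isPrime.mem_or_mem hmem with h1 | h1
    · -- germ a ∈ q contradicts x' ∈ D(a)
      have h2 := (mem_basicOpen_iff_notMem_primeIdealOf hU x' hx'U a).mp hx'a
      apply h2
      have h3 : hU.primeIdealOf ⟨x', hx'U⟩ =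
          PrimeSpectrum.comap (X.presheaf.germ U ξ hξU).hom q := by
        have := primeIdealOf_fromSpec hU (PrimeSpectrum.comap (X.presheaf.germ U ξ hξU).hom q)
          (hx' ▸ hx'U)
        rw [← this]
        congr 1
        exact Subtype.ext hx'
      rw [h3]
      exact h1
    · have hu : IsUnit (X.presheaf.germ U ξ hξU r) := isUnit_germ_of_mem_basicOpen r ξ hξU hξr
      exact q.isPrime.ne_top (Ideal.eq_top_of_isUnit_mem _ h1 hu)
  · rw [mul_smul, hrz, ← germ_smul, has, map_zero]

/-- At a maximal point of the support of a coherent module on a locally Noetherian scheme the stalk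
has finite length. -/
theorem length_stalk_lt_top [IsLocallyNoetherian X]
    (hft : SheafOfModules.IsFiniteType (R := X.ringCatSheaf) F) (ξ : X)
    (hmax : ∀ x : X, Nontrivial (F.presheaf.stalk x) → x ⤳ ξ → x = ξ) :
    Module.length (X.presheaf.stalk ξ) (F.presheaf.stalk ξ) < ⊤ := by
  haveI := finite_stalk F hft ξ
  apply length_lt_top_of_support_subset
  intro q hq
  have hnt := nontrivial_stalk_of_mem_support F ξ q hq
  have hsp : (X.fromSpecStalk ξ).base q ⤳ ξ := by
    have : (X.fromSpecStalk ξ).base q ∈ Set.range (X.fromSpecStalk ξ) := ⟨q, rfl⟩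
    rwa [Scheme.range_fromSpecStalk] at this
  have heq := hmax _ hnt hsp
  have hq' : q = IsLocalRing.closedPoint (X.presheaf.stalk ξ) := by
    apply (X.fromSpecStalk ξ).isEmbedding.injective
    rw [heq]
    exact (Scheme.fromSpecStalk_closedPoint (X := X) (x := ξ)).symm
  rw [hq']
  exact IsLocalRing.maximalIdeal.isMaximal _

/-- a maximal point of the support lying in an affine open gives a minimal prime over the
annihilator of the module of sections -/
theorem primeIdealOf_mem_minimalPrimes (hft : SheafOfModules.IsFiniteType (R := X.ringCatSheaf) F)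
    {U : X.Opens} (hU : IsAffineOpen U) (η : X) (hηU : η ∈ U)
    (hηS : Nontrivial (F.presheaf.stalk η))
    (hmax : ∀ y : X, Nontrivial (F.presheaf.stalk y) → y ⤳ η → y = η) :
    (hU.primeIdealOf ⟨η, hηU⟩).asIdeal ∈ (Module.annihilator Γ(X, U) Γ(F, U)).minimalPrimes := by
  haveI := finite_sections F hft hU
  have hsupp : ∀ (y : X) (hy : y ∈ U), Nontrivial (F.presheaf.stalk y) ↔
      Module.annihilator Γ(X, U) Γ(F, U) ≤ (hU.primeIdealOf ⟨y, hy⟩).asIdeal := by
    intro y hy
    rw [← not_subsingleton_iff_nontrivial, ← primeIdealOf_mem_support_iff F hU y hy,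
      Module.support_eq_zeroLocus]
    rfl
  refine ⟨⟨(hU.primeIdealOf ⟨η, hηU⟩).isPrime, (hsupp η hηU).mp hηS⟩, ?_⟩
  rintro q ⟨hqp, hJq⟩ hqle
  let y : X := hU.fromSpec.base ⟨q, hqp⟩
  have hy : y ∈ U := fromSpec_mem hU ⟨q, hqp⟩
  have hpy : hU.primeIdealOf ⟨y, hy⟩ = ⟨q, hqp⟩ := primeIdealOf_fromSpec hU ⟨q, hqp⟩ hy
  have hyS : Nontrivial (F.presheaf.stalk y) := by
    rw [hsupp y hy, hpy]
    exact hJq
  have hsp : y ⤳ η := by
    have h1 : (⟨q, hqp⟩ : PrimeSpectrum Γ(X, U)) ⤳ hU.primeIdealOf ⟨η, hηU⟩ :=
      (PrimeSpectrum.le_iff_specializes _ _).mp hqle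
    have h2 := h1.map hU.fromSpec.base.hom.continuous
    have h3 : hU.fromSpec.base (hU.primeIdealOf ⟨η, hηU⟩) = η := hU.fromSpec_primeIdealOf ⟨η, hηU⟩
    rw [← h3]
    exact h2
  have hyη := hmax y hyS hsp
  have : hU.primeIdealOf ⟨η, hηU⟩ = ⟨q, hqp⟩ := by
    rw [← hpy]
    congr 1
    exact Subtype.ext hyη.symm
  rw [this]

/-- The irreducible components of the support of a coherent module on a locally Noetherian scheme form
a locally finite family. -/
theorem locallyFinite_irreducibleComponents_support [IsLocallyNoetherian X]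
    (hft : SheafOfModules.IsFiniteType (R := X.ringCatSheaf) F) :
    LocallyFinite (fun Z : irreducibleComponents {x : X | Nontrivial (F.presheaf.stalk x)} =>
      ((↑) '' (Z : Set {x : X | Nontrivial (F.presheaf.stalk x)}) : Set X)) := by
  classical
  intro x
  obtain ⟨_, ⟨U, hU, rfl⟩, hxU, -⟩ := X.isBasis_affineOpens.exists_subset_of_mem_open
    (Set.mem_univ x) isOpen_univ
  refine ⟨U, U.isOpen.mem_nhds hxU, ?_⟩
  set S : Set X := {x | Nontrivial (F.presheaf.stalk x)} with hSdef
  have hS : IsClosed S := isClosed_support F hft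
  have hgen := fun Z : irreducibleComponents S =>
    exists_generic_of_irreducibleComponent S hS Z.1 Z.2
  choose η hη hηS hηmax using hgen
  haveI : IsNoetherianRing Γ(X, U) := IsLocallyNoetherian.component_noetherian ⟨U, hU⟩
  have hfin : (Module.annihilator Γ(X, U) Γ(F, U)).minimalPrimes.Finite :=
    Ideal.finite_minimalPrimes_of_isNoetherianRing _ _
  have hηU : ∀ Z : irreducibleComponents S, ((Subtype.val '' Z.1) ∩ (U : Set X)).Nonempty → η Z ∈ U :=
    fun Z hZ => ((hη Z).mem_open_set_iff U.isOpen).mpr hZ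
  refine Set.Finite.of_injOn (f := fun Z : irreducibleComponents S =>
    if h : η Z ∈ U then (hU.primeIdealOf ⟨η Z, h⟩).asIdeal else ⊤) ?_ ?_ hfin
  · intro Z hZ
    have h := hηU Z hZ
    simp only [dif_pos h]
    exact primeIdealOf_mem_minimalPrimes F hft hU (η Z) h (hηS Z) (fun y hy => hηmax Z y hy)
  · intro Z hZ W hW hZW
    have h1 := hηU Z hZ
    have h2 := hηU W hW
    simp only [dif_pos h1, dif_pos h2] at hZW
    have h3 : hU.primeIdealOf ⟨η Z, h1⟩ = hU.primeIdealOf ⟨η W, h2⟩ := PrimeSpectrum.ext hZW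
    have h4 : η Z = η W := by
      have := congrArg (fun p => hU.fromSpec.base p) h3
      simp only [hU.fromSpec_primeIdealOf] at this
      exact this
    have h5 : Subtype.val '' Z.1 = Subtype.val '' W.1 := by
      rw [← (hη Z).def, ← (hη W).def, h4]
    exact Subtype.ext ((Set.image_injective.mpr Subtype.val_injective) h5)

end

end Groth.Agent.Lib.Helper64.CohSupport
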