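import Groth.Agent.Lib.Helper64.CohSupport
import Groth.Agent.Lib.Lead.QCohPush

/-!
# Pushforward of coherent modules along finite morphisms (helper64)

* `isFiniteType_pushforward_of_isFinite`, `isCoh_pushforward_of_isFinite`
* `exists_preimage_of_nontrivial_stalk_pushforward`: for a closed map `π` and `F` of finite type,
  a point of the support of `π_* F` is the image of a point of the support of `F`.
-/

set_option autoImplicit false
universe u

open AlgebraicGeometry CategoryTheory Opposite TopologicalSpace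

namespace Groth.Agent.Lib.Helper64.CohPush

open Groth.Agent.Lib.Helper64.CohAffine Groth.Agent.Lib.Helper64.CohSupport

variable {X Y : Scheme.{u}} (π : X ⟶ Y) (F : X.Modules)

/-- scalar multiplication on sections of a pushforward -/
theorem pushforward_smul (V : Y.Opens) (a : Γ(Y, V))
    (t : Γ((Scheme.Modules.pushforward π).obj F, V)) :
    a • t = ((π.app V).hom a • (show Γ(F, π ⁻¹ᵁ V) from t) : Γ(F, π ⁻¹ᵁ V)) := rfl

theorem finite_sections_pushforward [IsFinite π] [F.IsQuasicoherent]
    (hft : SheafOfModules.IsFiniteType (R := X.ringCatSheaf) F) (V : Y.Opens)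
    (hV : IsAffineOpen V) :
    Module.Finite Γ(Y, V) Γ((Scheme.Modules.pushforward π).obj F, V) := by
  have h1 : Module.Finite Γ(X, π ⁻¹ᵁ V) Γ(F, π ⁻¹ᵁ V) := finite_sections F hft (hV.preimage π)
  have h2 : (π.app V).hom.Finite := IsFinite.finite_app π V hV
  letI alg : Algebra Γ(Y, V) Γ(X, π ⁻¹ᵁ V) := (π.app V).hom.toAlgebra
  letI m : Module Γ(Y, V) Γ(F, π ⁻¹ᵁ V) := Module.compHom _ (π.app V).hom
  haveI : IsScalarTower Γ(Y, V) Γ(X, π ⁻¹ᵁ V) Γ(F, π ⁻¹ᵁ V) :=
    ⟨fun a b c => by
      show ((π.app V).hom a * b) • c = (π.app V).hom a • (b • c)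
      rw [mul_smul]⟩
  haveI : Module.Finite Γ(Y, V) Γ(X, π ⁻¹ᵁ V) := h2
  have h3 : Module.Finite Γ(Y, V) Γ(F, π ⁻¹ᵁ V) := Module.Finite.trans Γ(X, π ⁻¹ᵁ V) _
  let e : Γ(F, π ⁻¹ᵁ V) →ₗ[Γ(Y, V)] Γ((Scheme.Modules.pushforward π).obj F, V) :=
    { toFun := fun t => t
      map_add' := fun _ _ => rfl
      map_smul' := fun a t => (pushforward_smul π F V a t).symm }
  exact Module.Finite.of_surjective e (fun t => ⟨t, rfl⟩)

theorem isFiniteType_pushforward_of_isFinite [IsFinite π] [F.IsQuasicoherent]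
    (hft : SheafOfModules.IsFiniteType (R := X.ringCatSheaf) F) :
    SheafOfModules.IsFiniteType (R := Y.ringCatSheaf) ((Scheme.Modules.pushforward π).obj F) := by
  apply isFiniteType_of_finite_sections
  intro y
  obtain ⟨_, ⟨V, hV : IsAffineOpen V, rfl⟩, hyV, -⟩ :=
    (Y.isBasis_affineOpens).exists_subset_of_mem_open (Set.mem_univ y) isOpen_univ
  exact ⟨V, hyV, hV, finite_sections_pushforward π F hft V hV⟩

theorem isCoh_pushforward_of_isFinite [IsFinite π] (hF : Coh.IsCoh F) :
    Coh.IsCoh ((Coh.push π).obj F) := by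
  haveI : SheafOfModules.IsQuasicoherent (R := X.ringCatSheaf) F := hF.1
  exact ⟨Groth.Agent.Lib.Lead.QCohPush.isQuasicoherent_pushforward_of_isAffineHom π F,
    isFiniteType_pushforward_of_isFinite π F hF.2⟩

/-- For a closed map `π` and `F` of finite type, the support of `π_* F` is contained in the image
of the support of `F`. -/
theorem exists_preimage_of_nontrivial_stalk_pushforward (hπ : IsClosedMap π)
    [F.IsQuasicoherent]
    (hft : SheafOfModules.IsFiniteType (R := X.ringCatSheaf) F) (y : Y)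
    (h : Nontrivial (((Scheme.Modules.pushforward π).obj F).presheaf.stalk y)) :
    ∃ x : X, π x = y ∧ Nontrivial (F.presheaf.stalk x) := by
  by_contra hcon
  push_neg at hcon
  have hS : IsClosed {x : X | Nontrivial (F.presheaf.stalk x)} := isClosed_support F hft
  have hS' : IsClosed (π '' {x : X | Nontrivial (F.presheaf.stalk x)}) := hπ _ hS
  let V : Y.Opens := ⟨(π '' {x : X | Nontrivial (F.presheaf.stalk x)})ᶜ, hS'.isOpen_compl⟩
  have hyV : y ∈ V := by
    rintro ⟨x, hx, hxy⟩
    have hsub := hcon x hxy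
    have hnt : Nontrivial (F.presheaf.stalk x) := hx
    exact not_subsingleton _ hsub
  have hsub : ∀ m : ((Scheme.Modules.pushforward π).obj F).presheaf.stalk y, m = 0 := by
    intro m
    obtain ⟨W, hyW, t, rfl⟩ :=
      ((Scheme.Modules.pushforward π).obj F).presheaf.exists_germ_eq (x := y) m
    have hle : W ⊓ V ≤ W := inf_le_left
    rw [← TopCat.Presheaf.germ_res_apply _ (homOfLE hle) y ⟨hyW, hyV⟩ t]
    have hzero : ((Scheme.Modules.pushforward π).obj F).presheaf.map (homOfLE hle).op t = 0 := by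
      show (F.presheaf.map ((Opens.map π.base).map (homOfLE hle)).op
        (show Γ(F, π ⁻¹ᵁ W) from t) : Γ(F, π ⁻¹ᵁ (W ⊓ V))) = 0
      apply TopCat.Presheaf.section_ext (F := ⟨F.presheaf, F.isSheaf⟩)
      intro x hx
      have hxS : ¬ Nontrivial (F.presheaf.stalk x) := by
        intro hnt
        exact hx.2 ⟨x, hnt, rfl⟩
      rw [not_nontrivial_iff_subsingleton] at hxS
      exact Subsingleton.elim _ _
    rw [hzero, map_zero]
  obtain ⟨a, b, hab⟩ := h
  exact hab ((hsub a).trans (hsub b).symm)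

end Groth.Agent.Lib.Helper64.CohPush
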