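import Groth.Agent.Lib.Helper78.ModStalk
import Groth.Prelude.Def_Coh
import Mathlib.AlgebraicGeometry.Morphisms.ClosedImmersion
import Mathlib.RingTheory.Length

/-!
# Stalks of `i_* O_Z` for a closed immersion `i : Z ⟶ X` (helper64)

* `subsingleton_stalk_of_not_mem_range`: the stalk vanishes off the image;
* `stalkEquiv i z : (i_* O_Z)_{i z} ≃ₗ[O_{X, i z}] O_{Z,z}` (module structure through the stalk map);
* `length_stalk_pushO`: `length_{O_{X,i z}} (i_* O_Z)_{i z} = length_{O_{Z,z}} O_{Z,z}`.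
-/

set_option autoImplicit false
universe u

open AlgebraicGeometry CategoryTheory Opposite TopologicalSpace

namespace Groth.Agent.Lib.Helper64.PushStalk

open Groth.Agent.Lib.Helper78.ModStalk

variable {X Z : Scheme.{u}} (i : Z ⟶ X)

/-- `i_* O_Z` -/
noncomputable abbrev pushO : X.Modules :=
  (Scheme.Modules.pushforward i).obj (Coh.structureModule Z)

/-- functions on `i⁻¹ U` as sections of `i_* O_Z` over `U` -/
def ofSec {U : X.Opens} (t : Γ(Z, i ⁻¹ᵁ U)) : Γ(pushO i, U) := t

/-- sections of `i_* O_Z` over `U` as functions on `i⁻¹ U` -/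
def toSec {U : X.Opens} (t : Γ(pushO i, U)) : Γ(Z, i ⁻¹ᵁ U) := t

theorem ofSec_toSec {U : X.Opens} (t : Γ(pushO i, U)) : ofSec i (toSec i t) = t := rfl

theorem smul_ofSec {U : X.Opens} (a : Γ(X, U)) (b : Γ(Z, i ⁻¹ᵁ U)) :
    a • ofSec i b = ofSec i ((i.app U).hom a * b) := rfl

theorem preimage_mono {U V : X.Opens} (h : V ≤ U) : i ⁻¹ᵁ V ≤ i ⁻¹ᵁ U := fun _ hx => h hx

theorem ofSec_res {U V : X.Opens} (h : V ≤ U) (a : Γ(Z, i ⁻¹ᵁ U)) :
    (pushO i).presheaf.map (homOfLE h).op (ofSec i a) =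
      ofSec i (Z.presheaf.map (homOfLE (preimage_mono i h)).op a) := rfl

theorem ofSec_zero {U : X.Opens} : ofSec i (0 : Γ(Z, i ⁻¹ᵁ U)) = 0 := rfl

theorem ofSec_injective {U : X.Opens} : Function.Injective (ofSec i (U := U)) := fun _ _ h => h

theorem germ_res' (F : X.Modules) (U V : X.Opens) (h : V ≤ U) (x : X) (hx : x ∈ V) (s : Γ(F, U)) :
    F.presheaf.germ V x hx (F.presheaf.map (homOfLE h).op s) = F.presheaf.germ U x (h hx) s :=
  TopCat.Presheaf.germ_res_apply F.presheaf (homOfLE h) x hx s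

/-- the stalk of `i_* O_Z` vanishes off the (closed) image of `i` -/
theorem subsingleton_stalk_of_not_mem_range [IsClosedImmersion i] (x : X)
    (hx : x ∉ Set.range i) : Subsingleton ((pushO i).presheaf.stalk x) := by
  have hcl : IsClosed (Set.range i) := i.isClosedEmbedding.isClosed_range
  let W : X.Opens := ⟨(Set.range i)ᶜ, hcl.isOpen_compl⟩
  have hxW : x ∈ W := hx
  suffices h : ∀ m : (pushO i).presheaf.stalk x, m = 0 from ⟨fun a b => (h a).trans (h b).symm⟩
  intro m
  obtain ⟨U, hxU, t, rfl⟩ := (pushO i).presheaf.exists_germ_eq (x := x) m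
  have hle : U ⊓ W ≤ U := inf_le_left
  rw [← germ_res' (pushO i) U (U ⊓ W) hle x ⟨hxU, hxW⟩ t]
  have h2 : i ⁻¹ᵁ (U ⊓ W) = ⊥ := by
    ext z
    simp only [Opens.coe_bot, Set.mem_empty_iff_false, iff_false]
    rintro ⟨-, hz⟩
    exact hz ⟨z, rfl⟩
  have hsub : Subsingleton Γ(Z, i ⁻¹ᵁ (U ⊓ W)) := by
    rw [h2]; infer_instance
  have hz : (pushO i).presheaf.map (homOfLE hle).op t = 0 :=
    Subsingleton.elim (α := Γ(Z, i ⁻¹ᵁ (U ⊓ W))) _ _
  rw [hz, map_zero]

variable (z : Z)

/-- the germ of the unit section of `i_* O_Z` -/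
noncomputable def oneGerm (x : X) : (pushO i).presheaf.stalk x :=
  (pushO i).presheaf.germ ⊤ x trivial (ofSec i 1)

theorem germ_ofSec_app {U : X.Opens} (x : X) (hx : x ∈ U) (a : Γ(X, U)) :
    (pushO i).presheaf.germ U x hx (ofSec i ((i.app U).hom a)) =
      X.presheaf.germ U x hx a • oneGerm i x := by
  have h1 : ofSec i ((i.app U).hom a) = a • ofSec i (1 : Γ(Z, i ⁻¹ᵁ U)) := by
    rw [smul_ofSec, mul_one]
  rw [h1, germ_smul]
  congr 1
  unfold oneGerm
  rw [← germ_res' (pushO i) ⊤ U le_top x hx (ofSec i 1), ofSec_res, map_one]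

/-- the `O_{X,x}`-linear map `O_{X,x} → (i_* O_Z)_x`, `r ↦ r • 1` -/
noncomputable def toStalk (x : X) : X.presheaf.stalk x →ₗ[X.presheaf.stalk x]
    (pushO i).presheaf.stalk x :=
  LinearMap.toSpanSingleton (X.presheaf.stalk x) _ (oneGerm i x)

theorem toStalk_germ {U : X.Opens} (x : X) (hx : x ∈ U) (a : Γ(X, U)) :
    toStalk i x (X.presheaf.germ U x hx a) =
      (pushO i).presheaf.germ U x hx (ofSec i ((i.app U).hom a)) := by
  rw [germ_ofSec_app]
  rfl

theorem toStalk_surjective [IsClosedImmersion i] (x : X) :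
    Function.Surjective (toStalk i x) := by
  intro m
  obtain ⟨U, hxU, t, rfl⟩ := (pushO i).presheaf.exists_germ_eq (x := x) m
  obtain ⟨_, ⟨U', hU' : IsAffineOpen U', rfl⟩, hxU', hle⟩ :=
    X.isBasis_affineOpens.exists_subset_of_mem_open hxU U.2
  have hle' : U' ≤ U := hle
  obtain ⟨a, ha⟩ := i.app_surjective U' hU'
    (toSec i ((pushO i).presheaf.map (homOfLE hle').op t))
  refine ⟨X.presheaf.germ U' x hxU' a, ?_⟩
  rw [toStalk_germ]
  have : ofSec i ((i.app U').hom a) = (pushO i).presheaf.map (homOfLE hle').op t := by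
    rw [← ofSec_toSec i ((pushO i).presheaf.map (homOfLE hle').op t)]
    exact congrArg (ofSec i) ha
  rw [this, germ_res']

theorem toStalk_eq_zero_iff [IsClosedImmersion i] (r : X.presheaf.stalk (i z)) :
    toStalk i (i z) r = 0 ↔ (i.stalkMap z).hom r = 0 := by
  obtain ⟨U, hxU, a, rfl⟩ := X.presheaf.exists_germ_eq (x := i z) r
  rw [toStalk_germ]
  have hst : (i.stalkMap z).hom (X.presheaf.germ U (i z) hxU a) =
      Z.presheaf.germ (i ⁻¹ᵁ U) z hxU ((i.app U).hom a) :=
    Scheme.Hom.germ_stalkMap_apply i U z hxU a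
  rw [hst]
  constructor
  · intro h
    have h0 : (pushO i).presheaf.germ U (i z) hxU (ofSec i ((i.app U).hom a)) =
        (pushO i).presheaf.germ U (i z) hxU 0 := by rw [h, map_zero]
    obtain ⟨W, hxW, iU, iV, hW⟩ :=
      TopCat.Presheaf.germ_eq (pushO i).presheaf (i z) hxU hxU _ 0 h0
    rw [map_zero] at hW
    have h2 : Z.presheaf.map (homOfLE (preimage_mono i iU.le)).op ((i.app U).hom a) = 0 :=
      ofSec_injective i hW
    have h3 := TopCat.Presheaf.germ_res_apply Z.presheaf (homOfLE (preimage_mono i iU.le)) z hxW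
      ((i.app U).hom a)
    rw [← h3, h2, map_zero]
  · intro h
    have h0 : Z.presheaf.germ (i ⁻¹ᵁ U) z hxU ((i.app U).hom a) =
        Z.presheaf.germ (i ⁻¹ᵁ U) z hxU 0 := by rw [h, map_zero]
    obtain ⟨V, hzV, iU, iV, hV⟩ :=
      TopCat.Presheaf.germ_eq Z.presheaf z hxU hxU _ 0 h0
    rw [map_zero] at hV
    -- `V` is the preimage of an open of `X`
    obtain ⟨W₀, hW₀, hW₀V⟩ := i.isEmbedding.isInducing.isOpen_iff.mp V.2
    let W : X.Opens := ⟨W₀, hW₀⟩ ⊓ U
    have hxW : i z ∈ W := by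
      refine ⟨?_, hxU⟩
      show z ∈ i ⁻¹' W₀
      rw [hW₀V]; exact hzV
    have hWV : i ⁻¹ᵁ W ≤ V := by
      intro y hy
      have : y ∈ i ⁻¹' W₀ := hy.1
      rw [hW₀V] at this
      exact this
    have hWU : W ≤ U := inf_le_right
    rw [← germ_res' (pushO i) U W hWU (i z) hxW, ofSec_res]
    have h2 : Z.presheaf.map (homOfLE (preimage_mono i hWU)).op ((i.app U).hom a) = 0 := by
      have hmap : Z.presheaf.map (homOfLE (preimage_mono i hWU)).op =
          Z.presheaf.map iU.op ≫ Z.presheaf.map (homOfLE hWV).op := by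
        rw [← Functor.map_comp]
        rfl
      rw [hmap, CommRingCat.comp_apply, hV, map_zero]
    rw [h2, ofSec_zero, map_zero]

/-- the stalk of `i_* O_Z` at `i z` is `O_{Z,z}`, linearly over `O_{X, i z}` acting through the
stalk map -/
noncomputable def stalkEquiv [IsClosedImmersion i] :
    letI : Algebra (X.presheaf.stalk (i z)) (Z.presheaf.stalk z) := (i.stalkMap z).hom.toAlgebra
    (pushO i).presheaf.stalk (i z) ≃ₗ[X.presheaf.stalk (i z)] Z.presheaf.stalk z := by
  letI : Algebra (X.presheaf.stalk (i z)) (Z.presheaf.stalk z) := (i.stalkMap z).hom.toAlgebra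
  have hsurj : Function.Surjective (algebraMap (X.presheaf.stalk (i z)) (Z.presheaf.stalk z)) :=
    i.stalkMap_surjective z
  let f := toStalk i (i z)
  let g : X.presheaf.stalk (i z) →ₗ[X.presheaf.stalk (i z)] Z.presheaf.stalk z :=
    Algebra.linearMap _ _
  have hker : LinearMap.ker f = LinearMap.ker g := by
    ext r
    simp only [LinearMap.mem_ker]
    exact toStalk_eq_zero_iff i z r
  exact ((f.quotKerEquivOfSurjective (toStalk_surjective i (i z))).symm.trans
    ((Submodule.quotEquivOfEq _ _ hker).trans (g.quotKerEquivOfSurjective hsurj)))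

theorem length_stalk_pushO [IsClosedImmersion i] :
    Module.length (X.presheaf.stalk (i z)) ((pushO i).presheaf.stalk (i z)) =
      Module.length (Z.presheaf.stalk z) (Z.presheaf.stalk z) := by
  letI : Algebra (X.presheaf.stalk (i z)) (Z.presheaf.stalk z) := (i.stalkMap z).hom.toAlgebra
  have hsurj : Function.Surjective (algebraMap (X.presheaf.stalk (i z)) (Z.presheaf.stalk z)) :=
    i.stalkMap_surjective z
  rw [← Module.length_eq_of_surjective (S := X.presheaf.stalk (i z)) (R := Z.presheaf.stalk z)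
    (M := Z.presheaf.stalk z) hsurj]
  exact (stalkEquiv i z).length_eq

end Groth.Agent.Lib.Helper64.PushStalk
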