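import Mathlib

/-!
# A local isomorphism criterion via depth `≥ 2` (helper64)

Let `(R, 𝔪)` be a Noetherian local ring and `ψ : M → N` a linear map which is "bijective on the
punctured spectrum" (expressed elementwise).  If `M` has a regular pair in `𝔪` and `𝔪` is not an
associated prime of `N`, then `ψ` is bijective.
-/

set_option autoImplicit false
universe u v

namespace Groth.Agent.Lib.Helper64.DepthIsoAlg

open IsLocalRing

variable {R : Type*} [CommRing R] [IsLocalRing R] [IsNoetherianRing R]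
  {M N : Type*} [AddCommGroup M] [Module R M] [AddCommGroup N] [Module R N] (ψ : M →ₗ[R] N)

/-- An ideal all of whose prime over-ideals are the maximal ideal contains a power of the maximal
ideal. -/
theorem exists_pow_le_of_forall_prime (J : Ideal R)
    (hJ : ∀ Q : Ideal R, Q.IsPrime → J ≤ Q → Q = maximalIdeal R) :
    ∃ k : ℕ, maximalIdeal R ^ k ≤ J := by
  by_cases htop : J = ⊤
  · exact ⟨0, by rw [htop]; exact le_top⟩
  have hrad : J.radical = maximalIdeal R := by
    apply le_antisymm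
    · exact (Ideal.IsPrime.radical_le_iff inferInstance).2 (IsLocalRing.le_maximalIdeal htop)
    · rw [Ideal.radical_eq_sInf]
      apply le_sInf
      rintro Q ⟨hJQ, hQ⟩
      rw [hJ Q hQ hJQ]
  have := Ideal.exists_radical_pow_le_of_fg J (IsNoetherian.noetherian _)
  rw [hrad] at this
  exact this

omit [IsLocalRing R] [IsNoetherianRing R] in
theorem eq_zero_of_pow_smul_eq_zero (a : R) (hreg : ∀ z : M, a • z = 0 → z = 0) (n : ℕ) (k : M)
    (h : a ^ n • k = 0) : k = 0 := by
  induction n with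
  | zero => simpa using h
  | succ n ih =>
    apply ih
    apply hreg
    rw [← mul_smul, ← pow_succ']
    exact h

/-- Injectivity from depth `≥ 1`. -/
theorem injective_of_local (a : R) (ha : a ∈ maximalIdeal R) (hreg : ∀ z : M, a • z = 0 → z = 0)
    (H1 : ∀ k : M, ψ k = 0 → ∀ Q : Ideal R, Q.IsPrime → Q ≠ maximalIdeal R →
      ∃ r : R, r ∉ Q ∧ r • k = 0) :
    Function.Injective ψ := by
  rw [injective_iff_map_eq_zero]
  intro k hk
  set J : Ideal R := LinearMap.ker (LinearMap.toSpanSingleton R M k) with hJdef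
  have hmem : ∀ r : R, r ∈ J ↔ r • k = 0 := fun r => by
    rw [hJdef, LinearMap.mem_ker, LinearMap.toSpanSingleton_apply]
  have hJ : ∀ Q : Ideal R, Q.IsPrime → J ≤ Q → Q = maximalIdeal R := by
    intro Q hQ hJQ
    by_contra hne
    obtain ⟨r, hrQ, hrk⟩ := H1 k hk Q hQ hne
    exact hrQ (hJQ ((hmem r).2 hrk))
  obtain ⟨n, hn⟩ := exists_pow_le_of_forall_prime J hJ
  have h1 : a ^ n ∈ J := hn (Ideal.pow_mem_pow ha n)
  exact eq_zero_of_pow_smul_eq_zero a hreg n k ((hmem _).1 h1)

/-- Surjectivity from depth `≥ 2` and `𝔪 ∉ Ass N`. -/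
theorem surjective_of_local (a b : R) (ha : a ∈ maximalIdeal R) (hb : b ∈ maximalIdeal R)
    (hreg : ∀ z : M, a • z = 0 → z = 0)
    (hreg2 : ∀ z1 z2 : M, b • z1 = a • z2 → ∃ z', z1 = a • z')
    (hinj : Function.Injective ψ)
    (H2 : ∀ n₀ : N, ∀ Q : Ideal R, Q.IsPrime → Q ≠ maximalIdeal R →
      ∃ r : R, r ∉ Q ∧ r • n₀ ∈ LinearMap.range ψ)
    (hass : ¬ IsAssociatedPrime (maximalIdeal R) N) : Function.Surjective ψ := by
  classical
  by_contra hns
  obtain ⟨n₀, hn₀⟩ : ∃ n₀ : N, n₀ ∉ LinearMap.range ψ := by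
    by_contra hall
    push Not at hall
    exact hns (fun n => LinearMap.mem_range.1 (hall n))
  set J : Ideal R := (LinearMap.range ψ).comap (LinearMap.toSpanSingleton R N n₀) with hJdef
  have hmem : ∀ r : R, r ∈ J ↔ r • n₀ ∈ LinearMap.range ψ := fun r => by
    rw [hJdef, Submodule.mem_comap, LinearMap.toSpanSingleton_apply]
  have hJ : ∀ Q : Ideal R, Q.IsPrime → J ≤ Q → Q = maximalIdeal R := by
    intro Q hQ hJQ
    by_contra hne
    obtain ⟨r, hrQ, hrk⟩ := H2 n₀ Q hQ hne
    exact hrQ (hJQ ((hmem r).2 hrk))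
  have hex := exists_pow_le_of_forall_prime J hJ
  have hk0 : Nat.find hex ≠ 0 := by
    intro h0
    have h1 := Nat.find_spec hex
    rw [h0, pow_zero, Ideal.one_eq_top] at h1
    have : (1 : R) ∈ J := h1 Submodule.mem_top
    rw [hmem, one_smul] at this
    exact hn₀ this
  obtain ⟨k', hk'⟩ := Nat.exists_eq_succ_of_ne_zero hk0
  have hkspec : maximalIdeal R ^ (k' + 1) ≤ J := by
    have := Nat.find_spec hex
    rwa [hk'] at this
  have hkmin : ¬ maximalIdeal R ^ k' ≤ J := Nat.find_min hex (by rw [hk']; exact Nat.lt_succ_self k')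
  obtain ⟨r, hrk', hrJ⟩ := Set.not_subset.1 hkmin
  -- the socle element modulo the range
  set n₁ : N := r • n₀ with hn₁
  have hn₁r : n₁ ∉ LinearMap.range ψ := fun h => hrJ ((hmem r).2 h)
  have hn₁m : ∀ t ∈ maximalIdeal R, t • n₁ ∈ LinearMap.range ψ := by
    intro t ht
    rw [hn₁, ← mul_smul, ← hmem]
    apply hkspec
    rw [pow_succ']
    exact Ideal.mul_mem_mul ht hrk'
  obtain ⟨x, hx⟩ := hn₁m a ha
  obtain ⟨y, hy⟩ := hn₁m b hb
  have h1 : ψ (b • x) = ψ (a • y) := by
    rw [map_smul, map_smul, hx, hy, smul_comm]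
  obtain ⟨x', hx'⟩ := hreg2 x y (hinj h1)
  set n₂ : N := n₁ - ψ x' with hn₂
  have hn₂r : n₂ ∉ LinearMap.range ψ := by
    intro h
    apply hn₁r
    have : n₁ = n₂ + ψ x' := by rw [hn₂]; abel
    rw [this]
    exact Submodule.add_mem _ h (LinearMap.mem_range_self ψ x')
  have han₂ : a • n₂ = 0 := by
    rw [hn₂, smul_sub, ← map_smul, ← hx', hx, sub_self]
  have hn₂m : ∀ t ∈ maximalIdeal R, t • n₂ = 0 := by
    intro t ht
    have hr : t • n₂ ∈ LinearMap.range ψ := by
      rw [hn₂, smul_sub, ← map_smul]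
      exact Submodule.sub_mem _ (hn₁m t ht) (LinearMap.mem_range_self ψ _)
    obtain ⟨z, hz⟩ := hr
    have h2 : ψ (a • z) = 0 := by
      rw [map_smul, hz, smul_comm, han₂, smul_zero]
    have h3 : a • z = 0 := hinj (h2.trans (map_zero ψ).symm)
    rw [← hz, hreg z h3, map_zero]
  have hn₂0 : n₂ ≠ 0 := fun h => hn₂r (h ▸ Submodule.zero_mem _)
  apply hass
  refine ⟨inferInstance, n₂, ?_⟩
  have hcol : (⊥ : Submodule R N).colon {n₂} = maximalIdeal R := by
    apply le_antisymm
    · apply IsLocalRing.le_maximalIdeal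
      intro htop
      have : (1 : R) ∈ (⊥ : Submodule R N).colon {n₂} := htop ▸ Submodule.mem_top
      rw [Submodule.mem_colon_singleton, one_smul, Submodule.mem_bot] at this
      exact hn₂0 this
    · intro t ht
      rw [Submodule.mem_colon_singleton, Submodule.mem_bot]
      exact hn₂m t ht
  rw [hcol]
  exact (Ideal.IsPrime.radical inferInstance).symm

/-- **Local isomorphism criterion.** -/
theorem bijective_of_local (a b : R) (ha : a ∈ maximalIdeal R) (hb : b ∈ maximalIdeal R)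
    (hreg : ∀ z : M, a • z = 0 → z = 0)
    (hreg2 : ∀ z1 z2 : M, b • z1 = a • z2 → ∃ z', z1 = a • z')
    (H1 : ∀ k : M, ψ k = 0 → ∀ Q : Ideal R, Q.IsPrime → Q ≠ maximalIdeal R →
      ∃ r : R, r ∉ Q ∧ r • k = 0)
    (H2 : ∀ n₀ : N, ∀ Q : Ideal R, Q.IsPrime → Q ≠ maximalIdeal R →
      ∃ r : R, r ∉ Q ∧ r • n₀ ∈ LinearMap.range ψ)
    (hass : ¬ IsAssociatedPrime (maximalIdeal R) N) : Function.Bijective ψ :=
  have hinj := injective_of_local ψ a ha hreg H1
  ⟨hinj, surjective_of_local ψ a b ha hb hreg hreg2 hinj H2 hass⟩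

end Groth.Agent.Lib.Helper64.DepthIsoAlg
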