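import Groth.Prelude.Def_CDiv
import Mathlib.AlgebraicGeometry.Noetherian
import Mathlib.RingTheory.Ideal.MinimalPrime.Noetherian
import Mathlib.RingTheory.KrullDimension.Basic
import Mathlib.Topology.KrullDimension
import Mathlib.RingTheory.Spectrum.Prime.Topology

/-!
# Cartier divisors on integral schemes of dimension ≤ 1 (helper64)
-/

set_option autoImplicit false
universe u

open AlgebraicGeometry CategoryTheory Opposite TopologicalSpace

namespace Groth.Agent.Lib.Helper64.CDivLib

/-- In a Noetherian domain of Krull dimension `≤ 1` only finitely many primes contain a given nonzero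
element. -/
theorem finite_primes_of_mem {A : Type u} [CommRing A] [IsDomain A] [IsNoetherianRing A]
    (hdim : ringKrullDim A ≤ 1) (c : A) (hc : c ≠ 0) :
    {p : PrimeSpectrum A | c ∈ p.asIdeal}.Finite := by
  haveI : Ring.KrullDimLE 1 A := Ring.krullDimLE_iff.mpr hdim
  have hfin := Ideal.finite_minimalPrimes_of_isNoetherianRing A (Ideal.span {c})
  have hinj : Set.InjOn (fun p : PrimeSpectrum A => p.asIdeal) {p : PrimeSpectrum A | c ∈ p.asIdeal} :=
    fun p _ q _ h => PrimeSpectrum.ext h
  refine Set.Finite.of_finite_image (hfin.subset ?_) hinj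
  rintro _ ⟨p, hp, rfl⟩
  have hle : Ideal.span {c} ≤ p.asIdeal := (Ideal.span_singleton_le_iff_mem _).mpr hp
  obtain ⟨q, hq, hqp⟩ := Ideal.exists_minimalPrimes_le hle
  have hqprime : q.IsPrime := hq.1.1
  have hcq : c ∈ q := hq.1.2 (Ideal.mem_span_singleton_self c)
  have hqne : q ≠ ⊥ := fun h => hc (by rw [h] at hcq; exact hcq)
  have hqmax : q.IsMaximal := hqprime.isMaximal_of_ne_bot hqne
  have : q = p.asIdeal := hqmax.eq_of_le p.isPrime.ne_top hqp
  show p.asIdeal ∈ (Ideal.span {c}).minimalPrimes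
  rw [← this]
  exact hq

variable {X : Scheme.{u}} [IsIntegral X]

open CDiv

theorem germOf_eq_one_iff (x : X) (f : KUnits X) : germOf X x f = 1 ↔ f ∈ stalkUnits X x :=
  QuotientGroup.eq_one_iff f

theorem mem_stalkUnits_iff (x : X) (f : KUnits X) :
    f ∈ stalkUnits X x ↔ ∃ u : (X.presheaf.stalk x)ˣ,
      algebraMap (X.presheaf.stalk x) X.functionField u = f := by
  constructor
  · rintro ⟨u, rfl⟩
    exact ⟨u, rfl⟩
  · rintro ⟨u, hu⟩
    exact ⟨u, Units.ext hu⟩

/-- a section which is invertible at `y` and whose image in `K` is `f` shows `f ∈ O_yˣ` -/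
theorem mem_stalkUnits_of_germ {U : X.Opens} [Nonempty U] (s : Γ(X, U)) (f : KUnits X)
    (hs : X.germToFunctionField U s = f) (y : X) (hy : y ∈ U)
    (hu : IsUnit (X.presheaf.germ U y hy s)) : f ∈ stalkUnits X y := by
  rw [mem_stalkUnits_iff]
  refine ⟨hu.unit, ?_⟩
  rw [IsUnit.unit_spec, Scheme.algebraMap_germ_eq_germToFunctionField, hs]

/-- spreading out units: the locus where `f` is a unit of the local ring is open -/
theorem isOpen_setOf_mem_stalkUnits (f : KUnits X) : IsOpen {y : X | f ∈ stalkUnits X y} := by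
  rw [isOpen_iff_forall_mem_open]
  intro x hx
  obtain ⟨u, hu⟩ := (mem_stalkUnits_iff x f).mp hx
  obtain ⟨U, hxU, s, hs⟩ := X.presheaf.exists_germ_eq (x := x) (u : X.presheaf.stalk x)
  haveI : Nonempty U := ⟨⟨x, hxU⟩⟩
  have hsf : X.germToFunctionField U s = f := by
    rw [← Scheme.algebraMap_germ_eq_germToFunctionField X hxU s, hs, hu]
  refine ⟨X.basicOpen s, ?_, (X.basicOpen s).2, ?_⟩
  · intro y hy
    have hyU : y ∈ U := X.basicOpen_le s hy
    exact mem_stalkUnits_of_germ s f hsf y hyU ((X.mem_basicOpen s y hyU).mp hy)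
  · rw [SetLike.mem_coe, X.mem_basicOpen s x hxU, hs]
    exact u.isUnit

/-- the support of a divisor is closed -/
theorem isClosed_supp (D : Divisor X) : IsClosed (supp D) := by
  rw [← isOpen_compl_iff, isOpen_iff_forall_mem_open]
  intro x hx
  have hx1 : D.1 x = 1 := by
    by_contra h
    exact hx h
  obtain ⟨U, f, hxU, hU⟩ := D.2 x
  have hfx : f ∈ stalkUnits X x := by
    rw [← germOf_eq_one_iff, ← hU x hxU, hx1]
  refine ⟨(U : Set X) ∩ {y | f ∈ stalkUnits X y}, ?_, U.2.inter (isOpen_setOf_mem_stalkUnits f),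
    ⟨hxU, hfx⟩⟩
  rintro y ⟨hyU, hy⟩ hys
  apply hys
  rw [hU y hyU, germOf_eq_one_iff]
  exact hy

theorem ringKrullDim_le_of_isAffineOpen (hdim : topologicalKrullDim X ≤ 1) {U : X.Opens}
    (hU : IsAffineOpen U) : ringKrullDim Γ(X, U) ≤ 1 := by
  rw [← PrimeSpectrum.topologicalKrullDim_eq_ringKrullDim]
  have h1 : topologicalKrullDim (PrimeSpectrum Γ(X, U)) = topologicalKrullDim ↥(U : Set X) :=
    ((Scheme.homeoOfIso hU.isoSpec).symm.isHomeomorph.topologicalKrullDim_eq _)
  rw [h1]
  exact (topologicalKrullDim_subspace_le X (U : Set X)).trans hdim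

/-- On an affine open of a locally Noetherian integral scheme of dimension `≤ 1`, a nonzero rational
function is a unit of the local ring at all but finitely many points. -/
theorem finite_inter_not_mem_stalkUnits [IsLocallyNoetherian X]
    (hdim : topologicalKrullDim X ≤ 1) (f : KUnits X) {U : X.Opens} (hU : IsAffineOpen U) :
    ((U : Set X) ∩ {y | f ∉ stalkUnits X y}).Finite := by
  by_cases hne : Nonempty U
  swap
  · have : (U : Set X) = ∅ := by
      ext y
      simp only [SetLike.mem_coe, Set.mem_empty_iff_false, iff_false]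
      exact fun hy => hne ⟨⟨y, hy⟩⟩
    rw [this, Set.empty_inter]
    exact Set.finite_empty
  haveI : IsNoetherianRing Γ(X, U) := IsLocallyNoetherian.component_noetherian ⟨U, hU⟩
  haveI := functionField_isFractionRing_of_isAffineOpen X U hU
  obtain ⟨a, b, hb, hab⟩ := IsFractionRing.div_surjective (A := Γ(X, U)) (f : X.functionField)
  have hb0 : b ≠ 0 := nonZeroDivisors.ne_zero hb
  have ha0 : a ≠ 0 := by
    rintro rfl
    rw [map_zero, zero_div] at hab
    exact f.ne_zero hab.symm
  have hc : a * b ≠ 0 := mul_ne_zero ha0 hb0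
  have hfin := finite_primes_of_mem (ringKrullDim_le_of_isAffineOpen hdim hU) (a * b) hc
  refine (hfin.image hU.fromSpec).subset ?_
  rintro y ⟨hyU, hy⟩
  have hyr : y ∈ Set.range hU.fromSpec := by rw [hU.range_fromSpec]; exact hyU
  obtain ⟨p, rfl⟩ := hyr
  refine ⟨p, ?_, rfl⟩
  by_contra hp
  apply hy
  -- `hU.fromSpec p` lies in the basic open of `a * b`
  have hpb : p ∈ PrimeSpectrum.basicOpen (a * b) := hp
  have hmem : hU.fromSpec p ∈ X.basicOpen (a * b) := by
    have := hU.fromSpec_preimage_basicOpen (a * b)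
    have h2 : p ∈ hU.fromSpec ⁻¹ᵁ X.basicOpen (a * b) := by rw [this]; exact hpb
    exact h2
  have hunit := (X.mem_basicOpen (a * b) _ hyU).mp hmem
  rw [map_mul] at hunit
  have hua : IsUnit (X.presheaf.germ U _ hyU a) := isUnit_of_mul_isUnit_left hunit
  have hub : IsUnit (X.presheaf.germ U _ hyU b) := isUnit_of_mul_isUnit_right hunit
  rw [mem_stalkUnits_iff]
  refine ⟨hua.unit * hub.unit⁻¹, ?_⟩
  have hA : ∀ t : Γ(X, U), algebraMap (X.presheaf.stalk (hU.fromSpec p)) X.functionField
      (X.presheaf.germ U _ hyU t) = algebraMap Γ(X, U) X.functionField t := fun t =>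
    Scheme.algebraMap_germ_eq_germToFunctionField X hyU t
  rw [Units.val_mul, map_mul, IsUnit.unit_spec, ← hab, hA, div_eq_mul_inv]
  congr 1
  apply eq_inv_of_mul_eq_one_left
  rw [← hA b, ← map_mul]
  have : (↑hub.unit⁻¹ : X.presheaf.stalk (hU.fromSpec p)) * X.presheaf.germ U _ hyU b = 1 := by
    have h3 : (↑hub.unit⁻¹ : X.presheaf.stalk (hU.fromSpec p)) *
        (hub.unit : X.presheaf.stalk (hU.fromSpec p)) = 1 := Units.inv_mul _
    rwa [hub.unit_spec] at h3
  rw [this, map_one]

/-- In an irreducible `T0` space of Krull dimension `≤ 1`, every point other than the generic point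
is closed. -/
theorem isClosed_singleton_of_ne_genericPoint {T : Type*} [TopologicalSpace T] [T0Space T]
    [IrreducibleSpace T] (hdim : topologicalKrullDim T ≤ 1) (η : T) (hη : IsGenericPoint η ⊤)
    (x : T) (hx : x ≠ η) : IsClosed ({x} : Set T) := by
  let Z : T → IrreducibleCloseds T := fun y =>
    ⟨closure {y}, isIrreducible_singleton.closure, isClosed_closure⟩
  have hZ : ∀ y z : T, Z y ≤ Z z ↔ y ∈ closure {z} := by
    intro y z
    constructor
    · intro h
      exact h (subset_closure (Set.mem_singleton y))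
    · intro h
      exact closure_minimal (Set.singleton_subset_iff.mpr h) isClosed_closure
  rcases (Order.krullDim_le_one_iff.mp hdim) (Z x) with hmin | hmax
  · have : closure ({x} : Set T) = {x} := by
      apply Set.Subset.antisymm _ subset_closure
      intro y hy
      have h1 : Z y ≤ Z x := (hZ y x).mpr hy
      have h2 : Z x ≤ Z y := hmin h1
      have h3 : x ∈ closure {y} := (hZ x y).mp h2
      have : y = x := ((specializes_iff_mem_closure.mpr h3).antisymm
        (specializes_iff_mem_closure.mpr hy)).eq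
      rw [this]; exact Set.mem_singleton x
    rw [← this]; exact isClosed_closure
  · exfalso
    apply hx
    have h1 : Z x ≤ Z η := by
      rw [hZ]
      have : closure ({η} : Set T) = Set.univ := hη
      rw [this]; trivial
    have h2 : Z η ≤ Z x := hmax h1
    have h3 : η ∈ closure {x} := (hZ η x).mp h2
    have h4 : x ∈ closure {η} := (hZ x η).mp h1
    exact ((specializes_iff_mem_closure.mpr h3).antisymm (specializes_iff_mem_closure.mpr h4)).eq

/-- every nonzero rational function is a unit at the generic point -/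
theorem mem_stalkUnits_genericPoint (f : KUnits X) : f ∈ stalkUnits X (genericPoint X) := by
  obtain ⟨U, hηU, s, hs⟩ := X.presheaf.exists_germ_eq (x := genericPoint X) (f : X.functionField)
  haveI : Nonempty U := ⟨⟨_, hηU⟩⟩
  refine mem_stalkUnits_of_germ s f hs (genericPoint X) hηU ?_
  rw [hs]
  exact f.isUnit

/-- Near any point `x`, a nonzero rational function is a unit at all points other than `x`. -/
theorem exists_open_forall_ne_mem_stalkUnits [IsLocallyNoetherian X]
    (hdim : topologicalKrullDim X ≤ 1) (f : KUnits X) (x : X) :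
    ∃ V : Set X, IsOpen V ∧ x ∈ V ∧ ∀ y ∈ V, y ≠ x → f ∈ stalkUnits X y := by
  obtain ⟨_, ⟨U, hU : IsAffineOpen U, rfl⟩, hxU, -⟩ :=
    X.isBasis_affineOpens.exists_subset_of_mem_open (Set.mem_univ x) isOpen_univ
  have hF := finite_inter_not_mem_stalkUnits hdim f hU
  set F := (U : Set X) ∩ {y | f ∉ stalkUnits X y} with hFdef
  have hcl : IsClosed (F \ {x}) := by
    have : F \ {x} = ⋃ y ∈ F \ {x}, ({y} : Set X) := (Set.biUnion_of_singleton _).symm
    rw [this]
    refine Set.Finite.isClosed_biUnion (hF.subset Set.sdiff_subset) ?_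
    intro y hy
    apply isClosed_singleton_of_ne_genericPoint hdim (genericPoint X) (genericPoint_spec X)
    rintro rfl
    exact hy.1.2 (mem_stalkUnits_genericPoint f)
  refine ⟨(U : Set X) \ (F \ {x}), U.2.sdiff hcl, ⟨hxU, fun h => h.2 rfl⟩, ?_⟩
  rintro y ⟨hyU, hyF⟩ hyx
  by_contra hy
  exact hyF ⟨⟨hyU, hy⟩, hyx⟩

/-- The support of a divisor on a locally Noetherian integral scheme of dimension `≤ 1` is
discrete. -/
theorem discreteTopology_supp [IsLocallyNoetherian X] (hdim : topologicalKrullDim X ≤ 1)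
    (D : Divisor X) : DiscreteTopology ↥(supp D) := by
  rw [discreteTopology_iff_isOpen_singleton]
  rintro ⟨x, hx⟩
  rw [isOpen_induced_iff]
  obtain ⟨U, f, hxU, hU⟩ := D.2 x
  obtain ⟨V, hV, hxV, hVf⟩ := exists_open_forall_ne_mem_stalkUnits hdim f x
  refine ⟨(U : Set X) ∩ V, U.2.inter hV, ?_⟩
  ext ⟨y, hy⟩
  simp only [Set.mem_preimage, Set.mem_inter_iff, SetLike.mem_coe, Set.mem_singleton_iff,
    Subtype.mk.injEq]
  constructor
  · rintro ⟨hyU, hyV⟩
    by_contra hne
    apply hy
    rw [hU y hyU, germOf_eq_one_iff]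
    exact hVf y hyV hne
  · rintro rfl
    exact ⟨hxU, hxV⟩

open Classical in
/-- A divisor with prescribed germs on a closed discrete set, trivial elsewhere. -/
theorem exists_divisor_of_germs [IsLocallyNoetherian X] (hdim : topologicalKrullDim X ≤ 1)
    (E : Set X) (hE : IsClosed E) (hEd : DiscreteTopology ↥E) (d : ∀ x : X, Germ X x) :
    ∃ D : Divisor X, (∀ x ∈ E, D.1 x = d x) ∧ ∀ x ∉ E, D.1 x = 1 := by
  let Dfun : ∀ x : X, Germ X x := fun x => if x ∈ E then d x else 1
  have hin : ∀ x ∈ E, Dfun x = d x := fun x hx => if_pos hx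
  have hout : ∀ x ∉ E, Dfun x = 1 := fun x hx => if_neg hx
  refine ⟨⟨Dfun, ?_⟩, hin, hout⟩
  intro x
  by_cases hx : x ∈ E
  · -- isolate `x` in `E`
    have hopen : IsOpen ({⟨x, hx⟩} : Set ↥E) := isOpen_discrete _
    rw [isOpen_induced_iff] at hopen
    obtain ⟨W, hW, hWx⟩ := hopen
    have hxW : x ∈ W := by
      have : (⟨x, hx⟩ : ↥E) ∈ Subtype.val ⁻¹' W := by rw [hWx]; rfl
      exact this
    have hWE : ∀ y ∈ W, y ∈ E → y = x := by
      intro y hyW hyE
      have : (⟨y, hyE⟩ : ↥E) ∈ Subtype.val ⁻¹' W := hyW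
      rw [hWx] at this
      exact congrArg Subtype.val this
    obtain ⟨g, hg⟩ := QuotientGroup.mk_surjective (d x)
    obtain ⟨V, hV, hxV, hVg⟩ := exists_open_forall_ne_mem_stalkUnits hdim g x
    refine ⟨⟨W ∩ V, hW.inter hV⟩, g, ⟨hxW, hxV⟩, ?_⟩
    rintro y ⟨hyW, hyV⟩
    by_cases hyx : y = x
    · subst hyx
      rw [hin y hx]
      exact hg.symm
    · have hyE : y ∉ E := fun h => hyx (hWE y hyW h)
      rw [hout y hyE]
      exact ((germOf_eq_one_iff y g).mpr (hVg y hyV hyx)).symm
  · refine ⟨⟨Eᶜ, hE.isOpen_compl⟩, 1, hx, ?_⟩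
    intro y hy
    rw [hout y hy]
    exact (QuotientGroup.mk_one _).symm

end Groth.Agent.Lib.Helper64.CDivLib
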