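import Groth.Agent.Lib.Helper67.Depth
import Groth.Agent.Lib.Helper64.CDivLib
import Mathlib

/-!
# Depth-one points and rational functions (helper64)

* `depth_eq_one_of_not_mem` (Lemma D): a Noetherian local domain `A` with `g ∈ Frac A ∖ A` such that
  `g ∈ A_p` for all primes `p ≠ m` has depth `1`.
* `depth_eq_one_of_atPrime` (Lemma D'): the same for `A = B_q` tested on primes `q' ⊊ q` of `B`.
* `depth_stalk_eq_one` (Lemma G): on a locally Noetherian integral scheme, a rational function not
  regular at `x` but regular at all proper generizations of `x` forces `depth O_{X,x} = 1`.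
* `exists_maximal_generization_mem`: maximal generizations inside a set.
* `CDiv` consequences.
-/

set_option autoImplicit false
set_option linter.style.haveILetI false
universe u v

namespace Groth.Agent.Lib.Helper64.DepthOne

open LocCoh IsLocalRing AlgebraicGeometry CategoryTheory TopologicalSpace

/-- **Lemma D**: a Noetherian local domain `A` with fraction field `K` has depth `1` as soon as there
is `g ∈ K ∖ A` lying in `A_p` for every prime `p` other than the maximal ideal. -/
theorem depth_eq_one_of_not_mem {A : Type u} [CommRing A] [IsDomain A] [IsNoetherianRing A]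
    [IsLocalRing A] {K : Type v} [Field K] [Algebra A K] [IsFractionRing A K] (g : K)
    (hg : g ∉ Set.range (algebraMap A K))
    (hloc : ∀ p : Ideal A, p.IsPrime → p ≠ maximalIdeal A →
      ∃ s c : A, s ∉ p ∧ algebraMap A K s * g = algebraMap A K c) :
    LocCoh.depth A A = 1 := by
  obtain ⟨a, b, hb, hab⟩ := IsFractionRing.div_surjective (A := A) g
  have hb0 : b ≠ 0 := nonZeroDivisors.ne_zero hb
  have hbK : algebraMap A K b ≠ 0 := by
    rwa [Ne, map_eq_zero_iff _ (IsFractionRing.injective A K)]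
  -- `a ∉ bA`
  have hab' : ∀ r : A, a ≠ b * r := by
    rintro r rfl
    apply hg
    refine ⟨r, ?_⟩
    rw [← hab, map_mul, mul_div_cancel_left₀ _ hbK]
  have hbm : b ∈ maximalIdeal A := by
    by_contra hbu
    rw [mem_maximalIdeal, mem_nonunits_iff, not_not] at hbu
    obtain ⟨u, rfl⟩ := hbu
    exact hab' (↑u⁻¹ * a) (by rw [← mul_assoc, Units.mul_inv, one_mul])
  have hreg : IsSMulRegular A b := fun x y h => mul_left_cancel₀ hb0 h
  have hIM : maximalIdeal A • (⊤ : Submodule A A) ≠ ⊤ := by
    rw [smul_eq_mul, Ideal.mul_top]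
    exact (maximalIdeal.isMaximal A).ne_top
  have key := Helper67.idealDepth_quotSMulTop_add_one (maximalIdeal A) A hIM b hbm hreg
  have h0 : LocCoh.depth A (QuotSMulTop b A) = 0 := by
    rw [Helper67.depth_eq_zero_iff]
    set x : QuotSMulTop b A := Submodule.Quotient.mk a with hx
    have hx0 : x ≠ 0 := by
      rw [hx, Ne, Submodule.Quotient.mk_eq_zero]
      intro hmem
      obtain ⟨r, -, hr⟩ := (Submodule.mem_smul_pointwise_iff_exists _ _ _).mp hmem
      exact hab' r (by rw [← hr, smul_eq_mul])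
    obtain ⟨P, hP, hle⟩ := exists_le_isAssociatedPrime_of_isNoetherianRing A x hx0
    have hPprime : P.IsPrime := hP.isPrime
    have hPm : P = maximalIdeal A := by
      by_contra hne
      obtain ⟨s, c, hs, hsc⟩ := hloc P hPprime hne
      apply hs
      apply hle
      rw [Submodule.mem_colon_singleton, Submodule.mem_bot, hx, ← Submodule.Quotient.mk_smul,
        Submodule.Quotient.mk_eq_zero]
      rw [Submodule.mem_smul_pointwise_iff_exists]
      refine ⟨c, trivial, ?_⟩
      apply IsFractionRing.injective A K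
      rw [smul_eq_mul, smul_eq_mul, map_mul, map_mul, ← hsc, ← hab]
      field_simp
    rw [← hPm]
    exact hP
  unfold LocCoh.depth at h0 ⊢
  rw [← key, h0, zero_add]

/-- **Lemma D'**: the same for `A = B_q`, testing only on the primes `q' ⊊ q` of `B`. -/
theorem depth_eq_one_of_atPrime {B : Type u} [CommRing B] (q : Ideal B) [q.IsPrime]
    (A : Type u) [CommRing A] [IsDomain A] [IsNoetherianRing A] [IsLocalRing A]
    [Algebra B A] [IsLocalization.AtPrime A q]
    {K : Type v} [Field K] [Algebra A K] [Algebra B K] [IsScalarTower B A K] [IsFractionRing A K]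
    (g : K) (hg : g ∉ Set.range (algebraMap A K))
    (hloc : ∀ q' : Ideal B, q'.IsPrime → q' ≤ q → q' ≠ q →
      ∃ t c : B, t ∉ q' ∧ algebraMap B K t * g = algebraMap B K c) :
    LocCoh.depth A A = 1 := by
  apply depth_eq_one_of_not_mem g hg
  intro p hp hpm
  have hq'le : p.comap (algebraMap B A) ≤ q := by
    intro t ht
    rw [← IsLocalization.AtPrime.to_map_mem_maximal_iff A q t]
    exact le_maximalIdeal hp.ne_top ht
  have hq'ne : p.comap (algebraMap B A) ≠ q := by
    intro h
    apply hpm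
    rw [← IsLocalization.AtPrime.map_eq_maximalIdeal q A, ← h]
    exact (IsLocalization.map_comap q.primeCompl A p).symm
  obtain ⟨t, c, ht, htc⟩ := hloc _ (Ideal.comap_isPrime _ _) hq'le hq'ne
  refine ⟨algebraMap B A t, algebraMap B A c, ht, ?_⟩
  rw [← IsScalarTower.algebraMap_apply, ← IsScalarTower.algebraMap_apply, htc]


section Top
variable {X : Scheme.{u}}

/-- On a locally Noetherian scheme every point of a set `S` has a generization in `S` none of whose
proper generizations lies in `S` (descending chains of generizations are finite). -/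
theorem exists_maximal_generization_mem [IsLocallyNoetherian X] (S : Set X) (x : X) (hx : x ∈ S) :
    ∃ z ∈ S, z ⤳ x ∧ ∀ z' ∈ S, z' ⤳ z → z' = z := by
  obtain ⟨_, ⟨U, hU : IsAffineOpen U, rfl⟩, hxU, -⟩ :=
    X.isBasis_affineOpens.exists_subset_of_mem_open (Set.mem_univ x) isOpen_univ
  haveI : IsNoetherianRing Γ(X, U) := IsLocallyNoetherian.component_noetherian ⟨U, hU⟩
  -- points of `S ∩ U` as primes of `Γ(X, U)`; pick one of minimal height below `x`
  let T : Set (PrimeSpectrum Γ(X, U)) := {q | hU.fromSpec q ∈ S ∧ hU.fromSpec q ⤳ x}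
  have hx0 : hU.fromSpec (hU.primeIdealOf ⟨x, hxU⟩) = x := hU.fromSpec_primeIdealOf ⟨x, hxU⟩
  have hT : T.Nonempty := ⟨hU.primeIdealOf ⟨x, hxU⟩, by
    show hU.fromSpec _ ∈ S ∧ hU.fromSpec _ ⤳ x
    rw [hx0]; exact ⟨hx, specializes_rfl⟩⟩
  obtain ⟨q, hqT, hqmin⟩ := (InvImage.wf (fun q : PrimeSpectrum Γ(X, U) => q.asIdeal.height)
    (wellFounded_lt (α := ℕ∞))).has_min T hT
  refine ⟨hU.fromSpec q, hqT.1, hqT.2, fun z' hz'S hz' => ?_⟩
  have hzU : hU.fromSpec q ∈ U := by
    rw [← SetLike.mem_coe, ← hU.range_fromSpec]; exact Set.mem_range_self q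
  have hz'U : z' ∈ U := hz'.mem_open U.isOpen hzU
  have e : hU.fromSpec (hU.primeIdealOf ⟨z', hz'U⟩) = z' := hU.fromSpec_primeIdealOf ⟨z', hz'U⟩
  have hq'T : hU.primeIdealOf ⟨z', hz'U⟩ ∈ T := by
    show hU.fromSpec _ ∈ S ∧ hU.fromSpec _ ⤳ x
    rw [e]; exact ⟨hz'S, hz'.trans hqT.2⟩
  have hle : hU.primeIdealOf ⟨z', hz'U⟩ ≤ q := by
    rw [PrimeSpectrum.le_iff_specializes]
    refine (hU.fromSpec.isOpenEmbedding.toIsInducing.specializes_iff).mp ?_
    rw [e]; exact hz'
  rcases hle.eq_or_lt with h | h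
  · rw [← e, h]
  · exact absurd (show (hU.primeIdealOf ⟨z', hz'U⟩).asIdeal.height < q.asIdeal.height from
      Ideal.height_strict_mono_of_isPrime_of_isPrime h) (hqmin _ hq'T)

end Top

variable {X : Scheme.{u}} [IsIntegral X] [IsLocallyNoetherian X]

/-- **Lemma G**: if a rational function `g` is not regular at `x` but is regular at every proper
generization of `x`, then `O_{X,x}` has depth `1`. -/
theorem depth_stalk_eq_one (x : X) (g : X.functionField)
    (hg : g ∉ Set.range (algebraMap (X.presheaf.stalk x) X.functionField))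
    (hgen : ∀ z : X, z ⤳ x → z ≠ x →
      g ∈ Set.range (algebraMap (X.presheaf.stalk z) X.functionField)) :
    LocCoh.depth (X.presheaf.stalk x) (X.presheaf.stalk x) = 1 := by
  obtain ⟨_, ⟨U, hU : IsAffineOpen U, rfl⟩, hxU, -⟩ :=
    X.isBasis_affineOpens.exists_subset_of_mem_open (Set.mem_univ x) isOpen_univ
  haveI : Nonempty U := ⟨⟨x, hxU⟩⟩
  haveI : IsNoetherianRing Γ(X, U) := IsLocallyNoetherian.component_noetherian ⟨U, hU⟩
  letI : Algebra Γ(X, U) (X.presheaf.stalk x) :=
    TopCat.Presheaf.algebra_section_stalk X.presheaf ⟨x, hxU⟩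
  haveI : IsLocalization.AtPrime (X.presheaf.stalk x) (hU.primeIdealOf ⟨x, hxU⟩).asIdeal :=
    hU.isLocalization_stalk ⟨x, hxU⟩
  haveI : IsScalarTower Γ(X, U) (X.presheaf.stalk x) X.functionField :=
    functionField_isScalarTower X U ⟨x, hxU⟩
  refine depth_eq_one_of_atPrime (hU.primeIdealOf ⟨x, hxU⟩).asIdeal (X.presheaf.stalk x) g hg ?_
  intro q' hq' hle hne
  set y : PrimeSpectrum Γ(X, U) := ⟨q', hq'⟩ with hy
  have hzU : hU.fromSpec y ∈ U := by
    rw [← SetLike.mem_coe, ← hU.range_fromSpec]
    exact Set.mem_range_self y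
  have hspec : hU.fromSpec y ⤳ x := by
    have h1 : y ⤳ hU.primeIdealOf ⟨x, hxU⟩ := (PrimeSpectrum.le_iff_specializes _ _).mp hle
    have h2 := h1.map hU.fromSpec.continuous
    rwa [hU.fromSpec_primeIdealOf ⟨x, hxU⟩] at h2
  have hzne : hU.fromSpec y ≠ x := by
    intro h
    have h' : hU.fromSpec y = hU.fromSpec (hU.primeIdealOf ⟨x, hxU⟩) := by
      rw [h]; exact (hU.fromSpec_primeIdealOf ⟨x, hxU⟩).symm
    have := hU.fromSpec.isOpenEmbedding.injective h'
    apply hne
    rw [← this]
  obtain ⟨w, hw⟩ := hgen _ hspec hzne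
  letI : Algebra Γ(X, U) (X.presheaf.stalk (hU.fromSpec y)) :=
    TopCat.Presheaf.algebra_section_stalk X.presheaf ⟨hU.fromSpec y, hzU⟩
  haveI : IsLocalization.AtPrime (X.presheaf.stalk (hU.fromSpec y)) y.asIdeal :=
    hU.isLocalization_stalk' y hzU
  haveI : IsScalarTower Γ(X, U) (X.presheaf.stalk (hU.fromSpec y)) X.functionField :=
    functionField_isScalarTower X U ⟨hU.fromSpec y, hzU⟩
  obtain ⟨⟨c, t⟩, hct⟩ := IsLocalization.surj y.asIdeal.primeCompl w
  refine ⟨t.1, c, t.2, ?_⟩
  rw [IsScalarTower.algebraMap_apply Γ(X, U) (X.presheaf.stalk (hU.fromSpec y)) X.functionField,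
    IsScalarTower.algebraMap_apply Γ(X, U) (X.presheaf.stalk (hU.fromSpec y)) X.functionField c,
    ← hct, map_mul, hw, mul_comm]

section CDivSec
open CDiv

open Groth.Agent.Lib.Helper64.CDivLib

/-- elements of `O_{X,z}ˣ` are (images of) elements of `O_{X,z}` -/
theorem coe_mem_range_of_mem_stalkUnits {z : X} {f : KUnits X} (hf : f ∈ stalkUnits X z) :
    (f : X.functionField) ∈ Set.range (algebraMap (X.presheaf.stalk z) X.functionField) := by
  obtain ⟨u, hu⟩ := (mem_stalkUnits_iff z f).mp hf
  exact ⟨u, hu⟩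

/-- a rational function which, together with its inverse, is regular at `x` is a unit at `x` -/
theorem mem_stalkUnits_of_mem_range {x : X} {f : KUnits X}
    (h1 : (f : X.functionField) ∈ Set.range (algebraMap (X.presheaf.stalk x) X.functionField))
    (h2 : ((f⁻¹ : KUnits X) : X.functionField) ∈
      Set.range (algebraMap (X.presheaf.stalk x) X.functionField)) :
    f ∈ stalkUnits X x := by
  obtain ⟨a, ha⟩ := h1
  obtain ⟨b, hb⟩ := h2
  have hab : a * b = 1 := by
    apply IsFractionRing.injective (X.presheaf.stalk x) X.functionField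
    rw [map_mul, ha, hb, map_one, ← Units.val_mul, mul_inv_cancel, Units.val_one]
  rw [mem_stalkUnits_iff]
  exact ⟨⟨a, b, hab, by rw [mul_comm]; exact hab⟩, ha⟩

end CDivSec

end Groth.Agent.Lib.Helper64.DepthOne
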