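import Mathlib
import Groth.Prelude.Def_CAlg
import Groth.Agent.Lib.Helper67.Depth

/-!
# Depth ≥ 2 in elementwise form

From `2 ≤ LocCoh.depth R M` (finite module over a local ring) we extract `a b ∈ 𝔪` with `a` regular
on `M` and `b` regular on `M / aM`, in elementwise form; and we transport this along a localization
`M → M_p`.
-/

set_option autoImplicit false
universe u v

namespace Groth.Agent.Lib.Helper64.HartogsDepth

open IsLocalRing RingTheory.Sequence

/-- Elementwise form of a weakly regular pair. -/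
theorem pair_of_isWeaklyRegular {R : Type*} [CommRing R] {M : Type*} [AddCommGroup M] [Module R M]
    {a b : R} (h : IsWeaklyRegular M [a, b]) :
    (∀ z : M, a • z = 0 → z = 0) ∧ (∀ z1 z2 : M, b • z1 = a • z2 → ∃ z', z1 = a • z') := by
  rw [isWeaklyRegular_cons_iff, isWeaklyRegular_singleton_iff] at h
  obtain ⟨ha, hb⟩ := h
  refine ⟨fun z hz => ha (by simpa using hz), fun z1 z2 h12 => ?_⟩
  have h0 : b • (Submodule.Quotient.mk z1 : QuotSMulTop a M) = b • 0 := by
    rw [smul_zero, ← Submodule.Quotient.mk_smul, h12, Submodule.Quotient.mk_eq_zero]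
    exact Submodule.smul_mem_pointwise_smul z2 a ⊤ Submodule.mem_top
  have h1 := hb h0
  rw [Submodule.Quotient.mk_eq_zero] at h1
  obtain ⟨z', -, hz'⟩ := (Submodule.mem_smul_pointwise_iff_exists _ _ _).1 h1
  exact ⟨z', hz'.symm⟩

/-- A finite module of depth `≥ 2` over a local ring has an (elementwise) regular pair in the
maximal ideal (the zero module included). -/
theorem exists_pair_of_two_le_depth {R : Type u} [CommRing R] [IsLocalRing R] {M : Type v}
    [AddCommGroup M] [Module R M] [Module.Finite R M] (h : 2 ≤ LocCoh.depth R M) :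
    ∃ a ∈ maximalIdeal R, ∃ b ∈ maximalIdeal R,
      (∀ z : M, a • z = 0 → z = 0) ∧ (∀ z1 z2 : M, b • z1 = a • z2 → ∃ z', z1 = a • z') := by
  have h' : ((2 : ℕ) : ℕ∞) ≤ LocCoh.idealDepth (maximalIdeal R) M := h
  rcases (Groth.Agent.Lib.Helper67.le_idealDepth_iff _ M 2).1 h' with htop | ⟨rs, hlen, hreg, hmem⟩
  · have hbot : (⊤ : Submodule R M) = ⊥ :=
      Submodule.eq_bot_of_le_smul_of_le_jacobson_bot (maximalIdeal R) ⊤ Module.Finite.fg_top
        (le_of_eq htop.symm) (IsLocalRing.maximalIdeal_le_jacobson _)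
    have hsub : ∀ z : M, z = 0 := fun z => by
      have : z ∈ (⊥ : Submodule R M) := hbot ▸ Submodule.mem_top
      simpa using this
    exact ⟨0, zero_mem _, 0, zero_mem _, fun z _ => hsub z, fun z1 _ _ => ⟨0, by rw [hsub z1, smul_zero]⟩⟩
  · match rs, hlen with
    | [a, b], _ =>
      exact ⟨a, hmem a (by simp), b, hmem b (by simp), pair_of_isWeaklyRegular hreg⟩

/-- Transport of an elementwise regular pair along a localization at a prime. -/
theorem exists_pair_of_isLocalizedModule {R : Type*} [CommRing R] (p : Ideal R) [p.IsPrime]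
    {Rp : Type*} [CommRing Rp] [Algebra R Rp] [IsLocalization.AtPrime Rp p] [IsLocalRing Rp]
    {M Mp : Type*} [AddCommGroup M] [Module R M] [AddCommGroup Mp] [Module R Mp] [Module Rp Mp]
    [IsScalarTower R Rp Mp] (f : M →ₗ[R] Mp) [IsLocalizedModule p.primeCompl f]
    (h : ∃ a ∈ maximalIdeal Rp, ∃ b ∈ maximalIdeal Rp,
      (∀ z : Mp, a • z = 0 → z = 0) ∧ (∀ z1 z2 : Mp, b • z1 = a • z2 → ∃ z', z1 = a • z')) :
    ∃ a ∈ p, ∃ b ∈ p,
      (∀ m : M, a • m = 0 → ∃ e, e ∉ p ∧ e • m = 0) ∧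
      (∀ m1 m2 : M, b • m1 = a • m2 → ∃ c, c ∉ p ∧ ∃ m' : M, c • m1 = a • m') := by
  obtain ⟨a0, ha0, b0, hb0, h1, h2⟩ := h
  obtain ⟨a, u, hau⟩ := IsLocalization.exists_mk'_eq p.primeCompl a0
  obtain ⟨b, v, hbv⟩ := IsLocalization.exists_mk'_eq p.primeCompl b0
  have hau' : algebraMap R Rp a = a0 * algebraMap R Rp u := by
    rw [← hau, IsLocalization.mk'_spec]
  have hbv' : algebraMap R Rp b = b0 * algebraMap R Rp v := by
    rw [← hbv, IsLocalization.mk'_spec]
  have haP : a ∈ p := by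
    rw [← IsLocalization.AtPrime.to_map_mem_maximal_iff Rp p a, hau']
    exact Ideal.mul_mem_right _ _ ha0
  have hbP : b ∈ p := by
    rw [← IsLocalization.AtPrime.to_map_mem_maximal_iff Rp p b, hbv']
    exact Ideal.mul_mem_right _ _ hb0
  have hzero : ∀ m : M, f m = 0 → ∃ e, e ∉ p ∧ e • m = 0 := by
    intro m hm
    obtain ⟨e, he⟩ := (IsLocalizedModule.eq_zero_iff p.primeCompl f).1 hm
    exact ⟨e.1, e.2, he⟩
  refine ⟨a, haP, b, hbP, ?_, ?_⟩
  · intro m hm
    have h3 : a0 • (f (u.1 • m)) = 0 := by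
      rw [map_smul, ← algebraMap_smul Rp u.1 (f m), smul_smul, ← hau', algebraMap_smul, ← map_smul,
        hm, map_zero]
    obtain ⟨e, heP, he⟩ := hzero _ (h1 _ h3)
    refine ⟨e * u.1, ?_, by rw [mul_smul, he]⟩
    exact fun hmem => (‹p.IsPrime›.mem_or_mem hmem).elim heP u.2
  · intro m1 m2 h12
    have h3 : b0 • (f (v.1 • m1)) = a0 • (f (u.1 • m2)) := by
      rw [map_smul, map_smul, ← algebraMap_smul Rp v.1 (f m1), ← algebraMap_smul Rp u.1 (f m2),
        smul_smul, smul_smul, ← hau', ← hbv', algebraMap_smul, algebraMap_smul, ← map_smul,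
        ← map_smul, h12]
    obtain ⟨z', hz'⟩ := h2 _ _ h3
    obtain ⟨⟨m'', w⟩, hw⟩ := IsLocalizedModule.surj p.primeCompl f z'
    -- hw : w • z' = f m''
    have h4 : f ((u.1 * w.1 * v.1) • m1 - a • m'') = 0 := by
      have hw' : f m'' = algebraMap R Rp w.1 • z' := by
        rw [← hw, algebraMap_smul]; rfl
      have e1 : f ((u.1 * w.1 * v.1) • m1) = (algebraMap R Rp (u.1 * w.1) * a0) • z' := by
        rw [mul_smul (u.1 * w.1) v.1 m1, map_smul, hz', ← algebraMap_smul Rp (u.1 * w.1), smul_smul]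
      have e2 : f (a • m'') = (algebraMap R Rp (u.1 * w.1) * a0) • z' := by
        rw [map_smul, hw', ← algebraMap_smul Rp a, smul_smul, hau', map_mul]
        congr 1; ring
      rw [map_sub, e1, e2, sub_self]
    obtain ⟨e, heP, he⟩ := hzero _ h4
    refine ⟨e * (u.1 * w.1 * v.1), ?_, e • m'', ?_⟩
    · intro hmem
      rcases ‹p.IsPrime›.mem_or_mem hmem with h5 | h5
      · exact heP h5
      · rcases ‹p.IsPrime›.mem_or_mem h5 with h6 | h6
        · rcases ‹p.IsPrime›.mem_or_mem h6 with h7 | h7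
          · exact u.2 h7
          · exact w.2 h7
        · exact v.2 h6
    · rw [smul_sub, sub_eq_zero] at he
      rw [mul_smul, he, smul_comm]

end Groth.Agent.Lib.Helper64.HartogsDepth
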