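import Mathlib
import Groth.Agent.Lib.Lead.CohAff4
import Groth.Agent.Lib.Helper64.DepthIsoAlg
import Groth.Agent.Lib.Helper64.HartogsDepth
import Groth.Agent.Lib.Helper64.DepthOne
import Groth.Prelude.Def_RefHull
import Groth.Prelude.Def_CurvBase

/-!
# An isomorphism criterion for morphisms of quasi-coherent modules via depth `≥ 2` (helper64)
-/

set_option autoImplicit false
set_option linter.style.haveILetI false
universe u

open AlgebraicGeometry CategoryTheory TopologicalSpace Opposite

namespace Groth.Agent.Lib.Helper64.DepthIso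

open Groth.Agent.Lib.Lead.QCohAff

variable {X : Scheme.{u}}

/-- A morphism of `O_X`-modules which is bijective on all stalks is an isomorphism
(pattern of `Helper62.isIso_of_stalkMapₗ_bijective`). -/
theorem isIso_of_stalk_bijective {F G : X.Modules} (φ : F ⟶ G)
    (h : ∀ x : X, Function.Bijective
      ((TopCat.Presheaf.stalkFunctor AddCommGrpCat.{u} x).map (Scheme.Modules.Hom.mapPresheaf φ))) :
    IsIso φ := by
  have h1 : IsIso ((Scheme.Modules.toPresheaf X).map φ) := by
    let F' : TopCat.Sheaf Ab X := ⟨F.presheaf, F.isSheaf⟩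
    let G' : TopCat.Sheaf Ab X := ⟨G.presheaf, G.isSheaf⟩
    let f : F' ⟶ G' := ⟨(Scheme.Modules.toPresheaf X).map φ⟩
    have hf : ∀ x : X, IsIso ((TopCat.Presheaf.stalkFunctor Ab x).map f.1) := by
      intro x
      have hb : Function.Bijective ((TopCat.Presheaf.stalkFunctor Ab x).map f.1).hom := h x
      exact (ConcreteCategory.isIso_iff_bijective _).2 hb
    have := TopCat.Presheaf.isIso_of_stalkFunctor_map_iso f
    exact (TopCat.Sheaf.forget Ab X).map_isIso f
  exact isIso_of_reflects_iso φ (Scheme.Modules.toPresheaf X)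

/-- A non-maximal prime `Q` of the local ring at `y` gives a proper generization `y'` of `y`, and
`Q` is recovered from `y'` on sections over an affine open. -/
theorem exists_generization_of_prime {U : X.Opens} (hU : IsAffineOpen U) (y : X) (hy : y ∈ U)
    (Q : Ideal (X.presheaf.stalk y)) [hQp : Q.IsPrime]
    (hQ : Q ≠ IsLocalRing.maximalIdeal (X.presheaf.stalk y)) :
    ∃ y' : X, ∃ _ : y' ∈ U, y' ⤳ y ∧ y' ≠ y ∧
      ∀ r : Γ(X, U), y' ∈ X.basicOpen r ↔ X.presheaf.germ U y hy r ∉ Q := by
  let q : PrimeSpectrum Γ(X, U) :=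
    ⟨Q.comap (X.presheaf.germ U y hy).hom, Ideal.comap_isPrime _ _⟩
  have hqmem : ∀ r : Γ(X, U), r ∈ q.asIdeal ↔ X.presheaf.germ U y hy r ∈ Q := fun r => Iff.rfl
  have hbo : ∀ r : Γ(X, U), hU.fromSpec q ∈ X.basicOpen r ↔ X.presheaf.germ U y hy r ∉ Q := by
    intro r
    have h2 := hU.fromSpec_preimage_basicOpen r
    rw [← hqmem]
    constructor
    · intro h
      have : q ∈ hU.fromSpec ⁻¹ᵁ X.basicOpen r := h
      rw [h2] at this
      exact this
    · intro h
      have : q ∈ hU.fromSpec ⁻¹ᵁ X.basicOpen r := by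
        rw [h2]; exact h
      exact this
  have hy'U : hU.fromSpec q ∈ U := by
    rw [← SetLike.mem_coe, ← hU.range_fromSpec]; exact Set.mem_range_self q
  have hle : q ≤ hU.primeIdealOf ⟨y, hy⟩ := by
    intro r hr
    by_contra hnot
    have h1 : y ∈ X.basicOpen r := (mem_basicOpen_iff_notMem_primeIdealOf hU y hy r).2 hnot
    have h2 : IsUnit (X.presheaf.germ U y hy r) := isUnit_germ_of_mem_basicOpen r y hy h1
    exact hQp.ne_top (Ideal.eq_top_of_isUnit_mem _ ((hqmem r).1 hr) h2)
  have hspec : hU.fromSpec q ⤳ y := by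
    have h1 : q ⤳ hU.primeIdealOf ⟨y, hy⟩ := (PrimeSpectrum.le_iff_specializes _ _).1 hle
    have h2 := h1.map hU.fromSpec.continuous
    rwa [hU.fromSpec_primeIdealOf ⟨y, hy⟩] at h2
  refine ⟨hU.fromSpec q, hy'U, hspec, ?_, hbo⟩
  intro heq
  apply hQ
  -- `Q` contains the maximal ideal
  refine le_antisymm (IsLocalRing.le_maximalIdeal hQp.ne_top) ?_
  intro t ht
  letI := X.presheaf.algebra_section_stalk ⟨y, hy⟩
  haveI := hU.isLocalization_stalk ⟨y, hy⟩
  obtain ⟨⟨a, s⟩, has⟩ := IsLocalization.surj (hU.primeIdealOf ⟨y, hy⟩).asIdeal.primeCompl t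
  have has' : t * X.presheaf.germ U y hy s.1 = X.presheaf.germ U y hy a := has
  have hsu : IsUnit (X.presheaf.germ U y hy s.1) :=
    isUnit_germ_of_mem_basicOpen s.1 y hy ((mem_basicOpen_iff_notMem_primeIdealOf hU y hy s.1).2 s.2)
  have ham : X.presheaf.germ U y hy a ∈ IsLocalRing.maximalIdeal (X.presheaf.stalk y) := by
    rw [← has']; exact Ideal.mul_mem_right _ _ ht
  have haQ : X.presheaf.germ U y hy a ∈ Q := by
    by_contra hnot
    have h1 : hU.fromSpec q ∈ X.basicOpen a := (hbo a).2 hnot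
    rw [heq] at h1
    have h2 : IsUnit (X.presheaf.germ U y hy a) := isUnit_germ_of_mem_basicOpen a y hy h1
    exact (IsLocalRing.mem_maximalIdeal _).1 ham h2
  rw [← has'] at haQ
  rcases hQp.mem_or_mem haQ with h | h
  · exact h
  · exact absurd (Ideal.eq_top_of_isUnit_mem _ h hsu) hQp.ne_top

section Step

variable {F G : X.Modules} [F.IsQuasicoherent] [G.IsQuasicoherent] (φ : F ⟶ G)

/-- Kernel elements of the stalk map at `y` are killed off every non-maximal prime, if the stalk
maps at the proper generizations of `y` are injective. -/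
theorem exists_smul_eq_zero_of_injective {U : X.Opens} (hU : IsAffineOpen U) (y : X) (hy : y ∈ U)
    (IH : ∀ y' : X, y' ⤳ y → y' ≠ y → Function.Injective (RefHull.stalkMapₗ φ y'))
    (k : F.presheaf.stalk y) (hk : RefHull.stalkMapₗ φ y k = 0)
    (Q : Ideal (X.presheaf.stalk y)) [hQp : Q.IsPrime]
    (hQ : Q ≠ IsLocalRing.maximalIdeal (X.presheaf.stalk y)) :
    ∃ r : X.presheaf.stalk y, r ∉ Q ∧ r • k = 0 := by
  obtain ⟨y', hy'U, hspec, hne, hbo⟩ := exists_generization_of_prime hU y hy Q hQ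
  have hFl := LocOn.of_isQuasicoherent F hU
  have hGl := LocOn.of_isQuasicoherent G hU
  obtain ⟨s, x, hys, hsx⟩ := exists_germ_smul_eq_germ_of_locOn F hU hFl y hy k
  have hsu : IsUnit (X.presheaf.germ U y hy s) := isUnit_germ_of_mem_basicOpen s y hy hys
  -- `φ x` has zero germ at `y`
  have h1 : G.presheaf.germ U y hy (φ.app U x) = 0 := by
    rw [← RefHull.stalkMapₗ_germ, ← hsx, map_smul, hk, smul_zero]
  obtain ⟨s₁, hys₁, hs₁⟩ := (germ_eq_zero_iff_of_locOn G hU hGl y hy (φ.app U x)).1 h1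
  have hs₁u : IsUnit (X.presheaf.germ U y hy s₁) := isUnit_germ_of_mem_basicOpen s₁ y hy hys₁
  have h2 : φ.app U (s₁ • x) = 0 := by
    rw [Scheme.Modules.Hom.app_smul]; exact hs₁
  -- injectivity at `y'`
  have h3 : F.presheaf.germ U y' hy'U (s₁ • x) = 0 := by
    apply IH y' hspec hne
    rw [RefHull.stalkMapₗ_germ, h2, map_zero, map_zero]
  obtain ⟨s₂, hy's₂, hs₂⟩ := (germ_eq_zero_iff_of_locOn F hU hFl y' hy'U (s₁ • x)).1 h3
  refine ⟨X.presheaf.germ U y hy s₂ * X.presheaf.germ U y hy s₁ * X.presheaf.germ U y hy s, ?_, ?_⟩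
  · intro hmem
    rcases hQp.mem_or_mem hmem with h | h
    · rcases hQp.mem_or_mem h with h' | h'
      · exact (hbo s₂).1 hy's₂ h'
      · exact hQp.ne_top (Ideal.eq_top_of_isUnit_mem _ h' hs₁u)
    · exact hQp.ne_top (Ideal.eq_top_of_isUnit_mem _ h hsu)
  · rw [mul_smul, hsx, mul_smul, ← germ_smul, ← germ_smul, hs₂, map_zero]

/-- Every element of the target stalk at `y` is, off every non-maximal prime, in the range of the
stalk map, if the stalk maps at the proper generizations of `y` are surjective. -/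
theorem exists_smul_mem_range_of_surjective {U : X.Opens} (hU : IsAffineOpen U) (y : X)
    (hy : y ∈ U)
    (IH : ∀ y' : X, y' ⤳ y → y' ≠ y → Function.Surjective (RefHull.stalkMapₗ φ y'))
    (n₀ : G.presheaf.stalk y)
    (Q : Ideal (X.presheaf.stalk y)) [hQp : Q.IsPrime]
    (hQ : Q ≠ IsLocalRing.maximalIdeal (X.presheaf.stalk y)) :
    ∃ r : X.presheaf.stalk y, r ∉ Q ∧ r • n₀ ∈ LinearMap.range (RefHull.stalkMapₗ φ y) := by
  obtain ⟨y', hy'U, hspec, hne, hbo⟩ := exists_generization_of_prime hU y hy Q hQ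
  have hFl := LocOn.of_isQuasicoherent F hU
  have hGl := LocOn.of_isQuasicoherent G hU
  obtain ⟨s, z, hys, hsz⟩ := exists_germ_smul_eq_germ_of_locOn G hU hGl y hy n₀
  have hsu : IsUnit (X.presheaf.germ U y hy s) := isUnit_germ_of_mem_basicOpen s y hy hys
  obtain ⟨k', hk'⟩ := IH y' hspec hne (G.presheaf.germ U y' hy'U z)
  obtain ⟨s₂, x, hy's₂, hs₂x⟩ := exists_germ_smul_eq_germ_of_locOn F hU hFl y' hy'U k'
  have h1 : G.presheaf.germ U y' hy'U (s₂ • z - φ.app U x) = 0 := by
    rw [map_sub, germ_smul, ← hk', ← map_smul, hs₂x, RefHull.stalkMapₗ_germ, sub_self]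
  obtain ⟨s₃, hy's₃, hs₃⟩ := (germ_eq_zero_iff_of_locOn G hU hGl y' hy'U _).1 h1
  have h2 : s₃ • s₂ • z = φ.app U (s₃ • x) := by
    rw [smul_sub, sub_eq_zero] at hs₃
    rw [hs₃, Scheme.Modules.Hom.app_smul]
  refine ⟨X.presheaf.germ U y hy s₃ * X.presheaf.germ U y hy s₂ * X.presheaf.germ U y hy s, ?_, ?_⟩
  · intro hmem
    rcases hQp.mem_or_mem hmem with h | h
    · rcases hQp.mem_or_mem h with h' | h'
      · exact (hbo s₃).1 hy's₃ h'
      · exact (hbo s₂).1 hy's₂ h'
    · exact hQp.ne_top (Ideal.eq_top_of_isUnit_mem _ h hsu)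
  · refine ⟨F.presheaf.germ U y hy (s₃ • x), ?_⟩
    rw [RefHull.stalkMapₗ_germ, ← h2, mul_smul, hsz, mul_smul, ← germ_smul, ← germ_smul]

end Step

section Main

open Groth.Agent.Lib.Helper64.DepthIsoAlg Groth.Agent.Lib.Helper64.HartogsDepth
  Groth.Agent.Lib.Helper64.DepthOne

variable [IsLocallyNoetherian X] {F G : X.Modules} (φ : F ⟶ G)

/-- **Stalkwise form of the criterion**: if at every point either the stalk map is bijective, or
`depth F_x ≥ 2` and `x` is not an associated point of `G`, then all stalk maps are bijective. -/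
theorem bijective_stalkMap_of_depth (hF : Coh.IsCoh F) (hG : Coh.IsQCoh G)
    (h : ∀ x : X, Function.Bijective (RefHull.stalkMapₗ φ x) ∨
      ((2 : ℕ∞) ≤ LocCoh.depth (X.presheaf.stalk x) (F.presheaf.stalk x) ∧
        ¬ Curv2.IsAssPoint G x)) :
    ∀ x : X, Function.Bijective (RefHull.stalkMapₗ φ x) := by
  by_contra hcon
  push Not at hcon
  obtain ⟨x, hx⟩ := hcon
  obtain ⟨y, hyS, -, hmax⟩ := exists_maximal_generization_mem
    {x : X | ¬ Function.Bijective (RefHull.stalkMapₗ φ x)} x hx
  have IH : ∀ y' : X, y' ⤳ y → y' ≠ y → Function.Bijective (RefHull.stalkMapₗ φ y') := by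
    intro y' hs hne
    by_contra hnb
    exact hne (hmax y' hnb hs)
  apply hyS
  rcases h y with hb | ⟨hdepth, hass⟩
  · exact hb
  obtain ⟨_, ⟨U, hU : IsAffineOpen U, rfl⟩, hyU, -⟩ :=
    (X.isBasis_affineOpens).exists_subset_of_mem_open (Set.mem_univ y) isOpen_univ
  haveI : F.IsQuasicoherent := hF.1
  haveI : G.IsQuasicoherent := hG
  haveI : Module.Finite (X.presheaf.stalk y) (F.presheaf.stalk y) :=
    Groth.Agent.Lib.Lead.CohAff.finite_stalk_of_isFiniteType F hF.2 y
  obtain ⟨a, ha, b, hb, hreg, hreg2⟩ := exists_pair_of_two_le_depth hdepth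
  exact bijective_of_local (RefHull.stalkMapₗ φ y) a b ha hb hreg hreg2
    (fun k hk Q hQp hQ => exists_smul_eq_zero_of_injective φ hU y hyU
      (fun y' hs hne => (IH y' hs hne).1) k hk Q hQ)
    (fun n₀ Q hQp hQ => exists_smul_mem_range_of_surjective φ hU y hyU
      (fun y' hs hne => (IH y' hs hne).2) n₀ Q hQ)
    hass

/-- **Isomorphism criterion** (Stacks-style): `F` coherent, `G` quasi-coherent on a locally
Noetherian scheme; if at every point either `F_x → G_x` is bijective, or `depth F_x ≥ 2` and `x` is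
not associated to `G`, then `φ` is an isomorphism. -/
theorem isIso_of_depth (hF : Coh.IsCoh F) (hG : Coh.IsQCoh G)
    (h : ∀ x : X, Function.Bijective
        ((TopCat.Presheaf.stalkFunctor AddCommGrpCat.{u} x).map (Scheme.Modules.Hom.mapPresheaf φ)) ∨
      ((2 : ℕ∞) ≤ LocCoh.depth (X.presheaf.stalk x) (F.presheaf.stalk x) ∧
        ¬ Curv2.IsAssPoint G x)) :
    IsIso φ := by
  apply isIso_of_stalk_bijective
  intro x
  exact bijective_stalkMap_of_depth φ hF hG (fun x => h x) x

end Main

section Integral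

variable [IsIntegral X]

/-- On an integral scheme, a point whose local ring has zero maximal ideal is the generic point. -/
theorem eq_genericPoint_of_maximalIdeal_eq_bot (x : X)
    (hx : IsLocalRing.maximalIdeal (X.presheaf.stalk x) = ⊥) : x = genericPoint X := by
  have hfield : IsField (X.presheaf.stalk x) := IsLocalRing.isField_iff_maximalIdeal_eq.2 hx
  letI := hfield.toField
  have hη : genericPoint X ∈ Set.range (X.fromSpecStalk x) := by
    rw [Scheme.range_fromSpecStalk]
    exact genericPoint_specializes x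
  have hxr : x ∈ Set.range (X.fromSpecStalk x) := by
    rw [Scheme.range_fromSpecStalk]
    exact specializes_rfl
  obtain ⟨a, ha⟩ := hη
  obtain ⟨b, hb⟩ := hxr
  have hab : a = b := Subsingleton.elim (α := PrimeSpectrum (X.presheaf.stalk x)) a b
  exact (hb.symm.trans (congrArg _ hab.symm)).trans ha

/-- On an integral scheme, a non-generic point is not associated to a module with torsion-free
stalks. -/
theorem not_isAssPoint_of_torsionFree (G : X.Modules) (x : X)
    (htf : NoZeroSMulDivisors (X.presheaf.stalk x) (G.presheaf.stalk x))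
    (hx : x ≠ genericPoint X) : ¬ Curv2.IsAssPoint G x := by
  rintro ⟨-, n, hn⟩
  apply hx
  apply eq_genericPoint_of_maximalIdeal_eq_bot
  have hn0 : n ≠ 0 := by
    rintro rfl
    have h1 : (⊥ : Submodule (X.presheaf.stalk x) (G.presheaf.stalk x)).colon {0} = ⊤ := by
      rw [eq_top_iff]
      intro r _
      rw [Submodule.mem_colon_singleton, smul_zero]
      exact Submodule.zero_mem _
    rw [h1, Ideal.radical_top] at hn
    exact (IsLocalRing.maximalIdeal.isMaximal _).ne_top hn
  have h2 : (⊥ : Submodule (X.presheaf.stalk x) (G.presheaf.stalk x)).colon {n} = ⊥ := by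
    rw [eq_bot_iff]
    intro r hr
    rw [Submodule.mem_colon_singleton, Submodule.mem_bot] at hr
    rcases smul_eq_zero.1 hr with h | h
    · exact h
    · exact absurd h hn0
  rw [hn, h2]
  exact Ideal.radical_bot_of_isReduced

/-- **Isomorphism criterion, torsion-free target on an integral scheme.** -/
theorem isIso_of_depth_of_torsionFree [IsLocallyNoetherian X] {F G : X.Modules} (φ : F ⟶ G)
    (hF : Coh.IsCoh F) (hG : Coh.IsQCoh G)
    (htf : ∀ x : X, NoZeroSMulDivisors (X.presheaf.stalk x) (G.presheaf.stalk x))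
    (h : ∀ x : X, Function.Bijective
        ((TopCat.Presheaf.stalkFunctor AddCommGrpCat.{u} x).map (Scheme.Modules.Hom.mapPresheaf φ)) ∨
      ((2 : ℕ∞) ≤ LocCoh.depth (X.presheaf.stalk x) (F.presheaf.stalk x) ∧ x ≠ genericPoint X)) :
    IsIso φ := by
  apply isIso_of_depth φ hF hG
  intro x
  rcases h x with hb | ⟨hd, hne⟩
  · exact Or.inl hb
  · exact Or.inr ⟨hd, not_isAssPoint_of_torsionFree G x (htf x) hne⟩

end Integral

end Groth.Agent.Lib.Helper64.DepthIso
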