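import Mathlib
import Groth.Prelude.Def_CAlg
import Groth.Agent.Lib.Helper67.Depth
import Groth.Agent.Lib.Helper67.Depth2

/-!
# Depth and dimension of the quotient of a local ring by a regular element

(The statements `depth_quotient`, `depth_quot_add_one` follow `Lib/Helper4/GorCM.lean`; they are
reproved here to keep the import closure small.)
-/

set_option autoImplicit false
set_option linter.style.haveILetI false
universe u v

namespace Groth.Agent.Lib.Helper64.DepthQuot

open LocCoh RingTheory.Sequence IsLocalRing Groth.Agent.Lib.Helper67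
open scoped Pointwise

section RingEquivTransfer

variable {R : Type u} {S : Type v} [CommRing R] [CommRing S]

theorem isWeaklyRegular_self_map_ringEquiv (e : R ≃+* S) (rs : List R) :
    IsWeaklyRegular R rs ↔ IsWeaklyRegular S (rs.map e) :=
  (e.toAddEquiv).isWeaklyRegular_congr <| List.forall₂_map_right_iff.mpr <|
    List.forall₂_same.mpr fun r _ x => by simp

theorem depth_self_le_of_ringEquiv [IsLocalRing R] [IsLocalRing S] (e : R ≃+* S) :
    depth R R ≤ depth S S := by
  rw [← ENat.forall_natCast_le_iff_le]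
  intro n
  unfold depth
  rw [le_idealDepth_iff, le_idealDepth_iff]
  have hR : maximalIdeal R • (⊤ : Submodule R R) ≠ ⊤ := maximalIdeal_smul_top_ne_top R
  have hS : maximalIdeal S • (⊤ : Submodule S S) ≠ ⊤ := maximalIdeal_smul_top_ne_top S
  simp only [hR, hS, false_or]
  rintro ⟨rs, hlen, hreg, hmem⟩
  refine ⟨rs.map e, by simp [hlen], (isWeaklyRegular_self_map_ringEquiv e rs).mp hreg, ?_⟩
  intro s hs
  obtain ⟨r, hr, rfl⟩ := List.mem_map.mp hs
  have := hmem r hr
  rw [mem_maximalIdeal] at this ⊢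
  exact (map_mem_nonunits_iff e r).mpr this

/-- The depth of a local ring over itself is invariant under ring isomorphisms. -/
theorem depth_self_of_ringEquiv [IsLocalRing R] [IsLocalRing S] (e : R ≃+* S) :
    depth R R = depth S S :=
  le_antisymm (depth_self_le_of_ringEquiv e) (depth_self_le_of_ringEquiv e.symm)

end RingEquivTransfer

section DepthQuot

variable (A : Type u) [CommRing A] [IsLocalRing A]

theorem depth_quotient (I : Ideal A) [IsLocalRing (A ⧸ I)] :
    LocCoh.depth (A ⧸ I) (A ⧸ I) = LocCoh.depth A (A ⧸ I) := by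
  have hloc : IsLocalHom (Ideal.Quotient.mk I) :=
    Function.Surjective.isLocalHom _ Ideal.Quotient.mk_surjective
  have hmem : ∀ r : A, r ∈ IsLocalRing.maximalIdeal A ↔
      Ideal.Quotient.mk I r ∈ IsLocalRing.maximalIdeal (A ⧸ I) := by
    intro r
    rw [IsLocalRing.mem_maximalIdeal, IsLocalRing.mem_maximalIdeal, mem_nonunits_iff,
      mem_nonunits_iff, isUnit_map_iff]
  have key : ∀ n : ℕ, (n : ℕ∞) ≤ LocCoh.depth (A ⧸ I) (A ⧸ I) ↔
      (n : ℕ∞) ≤ LocCoh.depth A (A ⧸ I) := by
    intro n
    rw [LocCoh.depth, LocCoh.depth, le_idealDepth_iff, le_idealDepth_iff]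
    have h1 := maximalIdeal_smul_top_ne_top (R := A ⧸ I) (A ⧸ I)
    have h2 := maximalIdeal_smul_top_ne_top (R := A) (A ⧸ I)
    simp only [h1, h2, false_or]
    constructor
    · rintro ⟨rs', hlen, hreg, hmem'⟩
      refine ⟨rs'.map (Function.surjInv Ideal.Quotient.mk_surjective), by simpa using hlen, ?_, ?_⟩
      · rw [← isWeaklyRegular_map_algebraMap_iff (A ⧸ I) (A ⧸ I)]
        have : (rs'.map (Function.surjInv Ideal.Quotient.mk_surjective)).map
            (algebraMap A (A ⧸ I)) = rs' := by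
          rw [List.map_map]
          conv_rhs => rw [← List.map_id rs']
          apply List.map_congr_left
          intro b _
          exact Function.surjInv_eq Ideal.Quotient.mk_surjective b
        rw [this]
        exact hreg
      · intro r hr
        obtain ⟨b, hb, rfl⟩ := List.mem_map.mp hr
        rw [hmem, Function.surjInv_eq Ideal.Quotient.mk_surjective b]
        exact hmem' b hb
    · rintro ⟨rs, hlen, hreg, hmem'⟩
      refine ⟨rs.map (algebraMap A (A ⧸ I)), by simpa using hlen, ?_, ?_⟩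
      · rw [isWeaklyRegular_map_algebraMap_iff (A ⧸ I) (A ⧸ I)]
        exact hreg
      · intro b hb
        obtain ⟨r, hr, rfl⟩ := List.mem_map.mp hb
        exact (hmem r).mp (hmem' r hr)
  apply le_antisymm
  · exact ENat.forall_natCast_le_iff_le.mp fun n hn => (key n).mp hn
  · exact ENat.forall_natCast_le_iff_le.mp fun n hn => (key n).mpr hn

variable [IsNoetherianRing A]

/-- `depth (A/f) + 1 = depth A` for a regular element `f` of the maximal ideal. -/
theorem depth_quot_add_one (f : A) (hfm : f ∈ IsLocalRing.maximalIdeal A)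
    (hf : IsSMulRegular A f) [IsLocalRing (A ⧸ Ideal.span {f})] :
    LocCoh.depth (A ⧸ Ideal.span {f}) (A ⧸ Ideal.span {f}) + 1 = LocCoh.depth A A := by
  rw [depth_quotient A (Ideal.span {f})]
  unfold LocCoh.depth
  rw [← idealDepth_quotSMulTop_add_one (IsLocalRing.maximalIdeal A) A
    (maximalIdeal_smul_top_ne_top A) f hfm hf]
  congr 1
  apply idealDepth_congr
  exact Submodule.quotEquivOfEq (Ideal.span {f}) (f • (⊤ : Submodule A A))
    (by simp [← Submodule.ideal_span_singleton_smul])

end DepthQuot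

section Sk

theorem enat_arith (k : ℕ) (n' t' : ℕ∞) (h : min (k : ℕ∞) (n' + 1) ≤ t' + 1) :
    min ((k - 1 : ℕ) : ℕ∞) n' ≤ t' := by
  rcases Nat.eq_zero_or_pos k with rfl | hk
  · simp
  · obtain ⟨j, rfl⟩ : ∃ j, k = j + 1 := ⟨k - 1, by omega⟩
    simp only [Nat.add_sub_cancel]
    have h2 : min ((j : ℕ∞) + 1) (n' + 1) ≤ t' + 1 := by
      simpa using h
    rw [min_add_add_right] at h2
    exact (ENat.add_le_add_iff_right ENat.one_ne_top).mp h2

/-- Serre's condition passes to the quotient by a regular element, with index one less. -/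
theorem sk_quotient {R : Type u} [CommRing R] [IsNoetherianRing R] [IsLocalRing R] (k : ℕ)
    (hR : min (k : WithBot ℕ∞) (ringKrullDim R) ≤ ((depth R R : ℕ∞) : WithBot ℕ∞))
    (g : R) (hg : g ∈ nonZeroDivisors R) (hgm : g ∈ maximalIdeal R)
    [IsLocalRing (R ⧸ Ideal.span {g})] :
    min ((k - 1 : ℕ) : WithBot ℕ∞) (ringKrullDim (R ⧸ Ideal.span {g})) ≤
      ((depth (R ⧸ Ideal.span {g}) (R ⧸ Ideal.span {g}) : ℕ∞) : WithBot ℕ∞) := by
  have hdim := ringKrullDim_quotient_span_singleton_succ_eq_ringKrullDim_of_mem_nonZeroDivisors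
    hg hgm
  have hdepth := depth_quot_add_one R g hgm (Module.Flat.isSMulRegular_of_nonZeroDivisors hg)
  have hne : ringKrullDim (R ⧸ Ideal.span {g}) ≠ ⊥ := by
    have := ringKrullDim_nonneg_of_nontrivial (R := R ⧸ Ideal.span {g})
    intro h
    rw [h] at this
    exact absurd this (by simp)
  obtain ⟨n', hn'⟩ := WithBot.ne_bot_iff_exists.mp hne
  rw [← hn'] at hdim ⊢
  rw [← hdim, ← hdepth] at hR
  have h3 : min (k : ℕ∞) (n' + 1) ≤ depth (R ⧸ Ideal.span {g}) (R ⧸ Ideal.span {g}) + 1 := by
    have : ((min (k : ℕ∞) (n' + 1) : ℕ∞) : WithBot ℕ∞) ≤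
        ((depth (R ⧸ Ideal.span {g}) (R ⧸ Ideal.span {g}) + 1 : ℕ∞) : WithBot ℕ∞) := by
      convert hR using 1
      rw [WithBot.coe_min, WithBot.coe_add]
      rfl
    exact WithBot.coe_le_coe.mp this
  have h4 := enat_arith k n' _ h3
  have : ((min ((k - 1 : ℕ) : ℕ∞) n' : ℕ∞) : WithBot ℕ∞) ≤
      ((depth (R ⧸ Ideal.span {g}) (R ⧸ Ideal.span {g}) : ℕ∞) : WithBot ℕ∞) :=
    WithBot.coe_le_coe.mpr h4
  convert this using 1
  rw [WithBot.coe_min]
  rfl

end Sk

end Groth.Agent.Lib.Helper64.DepthQuot
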