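import Mathlib
import Groth.Agent.Lib.Helper64.DepthQuot

/-!
# Stalks of a closed subscheme `V(𝓘)`: `O_{Z,z} = O_{X,x} / 𝓘_x`
-/

set_option autoImplicit false
set_option linter.style.haveILetI false
universe u

namespace Groth.Agent.Lib.Helper64.SubschemeStalk

open AlgebraicGeometry CategoryTheory TopologicalSpace

/-- Localizing a surjection: the kernel of the induced local map of localizations is the
extension of the kernel. -/
theorem ker_eq_map_ker_of_surjective {A B A' B' : Type*} [CommRing A] [CommRing B] [CommRing A']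
    [CommRing B'] [Algebra A A'] [Algebra B B'] (p : Ideal A) [p.IsPrime] (q : Ideal B)
    [q.IsPrime] [IsLocalization.AtPrime A' p] [IsLocalization.AtPrime B' q] (φ : A →+* B)
    (hφ : Function.Surjective φ) (ψ : A' →+* B') [IsLocalHom ψ]
    (hcomm : ∀ a, ψ (algebraMap A A' a) = algebraMap B B' (φ a)) :
    RingHom.ker ψ = (RingHom.ker φ).map (algebraMap A A') := by
  apply le_antisymm
  · intro a ha
    rw [RingHom.mem_ker] at ha
    obtain ⟨s, t, rfl⟩ := IsLocalization.exists_mk'_eq p.primeCompl a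
    have htu : IsUnit (algebraMap A A' t) := IsLocalization.map_units A' t
    have h1 : algebraMap B B' (φ s) = 0 := by
      rw [← hcomm, ← IsLocalization.mk'_spec A' s t, map_mul, ha, zero_mul]
    obtain ⟨w, hw⟩ := (IsLocalization.map_eq_zero_iff q.primeCompl B' (φ s)).mp h1
    obtain ⟨t', ht'⟩ := hφ w.1
    have ht'u : IsUnit (algebraMap A A' t') := by
      have : IsUnit (ψ (algebraMap A A' t')) := by
        rw [hcomm, ht']
        exact IsLocalization.map_units B' w
      exact (isUnit_map_iff ψ _).mp this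
    have hker : t' * s ∈ RingHom.ker φ := by
      rw [RingHom.mem_ker, map_mul, ht']
      exact hw
    have h2 : algebraMap A A' (t' * s) ∈ (RingHom.ker φ).map (algebraMap A A') :=
      Ideal.mem_map_of_mem _ hker
    have h3 : IsLocalization.mk' A' s t =
        (↑(ht'u.unit⁻¹) * ↑(htu.unit⁻¹)) * algebraMap A A' (t' * s) := by
      rw [IsLocalization.mk'_eq_iff_eq_mul]
      have e1 : (↑(ht'u.unit⁻¹) : A') * algebraMap A A' t' = 1 := by
        have := ht'u.unit.inv_mul
        simpa using this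
      have e2 : (↑(htu.unit⁻¹) : A') * algebraMap A A' t = 1 := by
        have := htu.unit.inv_mul
        simpa using this
      rw [map_mul]
      calc algebraMap A A' s = ((↑(ht'u.unit⁻¹) : A') * algebraMap A A' t') *
            ((↑(htu.unit⁻¹) : A') * algebraMap A A' t) * algebraMap A A' s := by
              rw [e1, e2, one_mul, one_mul]
        _ = _ := by ring
    rw [h3]
    exact Ideal.mul_mem_left _ _ h2
  · rw [Ideal.map_le_iff_le_comap]
    intro a ha
    rw [RingHom.mem_ker] at ha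
    rw [Ideal.mem_comap, RingHom.mem_ker, hcomm, ha, map_zero]

variable {X : Scheme.{u}} (𝓘 : X.IdealSheafData)

/-- The kernel of the stalk map of the closed immersion `V(𝓘) ⟶ X` at `z` is the extension of
`𝓘(U)` to the stalk, for any affine open `U` containing the image of `z`. -/
theorem ker_stalkMap_subschemeι (U : X.affineOpens) (z : 𝓘.subscheme)
    (hz : 𝓘.subschemeι z ∈ U.1) :
    RingHom.ker (𝓘.subschemeι.stalkMap z).hom =
      (𝓘.ideal U).map (X.presheaf.germ U.1 (𝓘.subschemeι z) hz).hom := by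
  have hU : IsAffineOpen U.1 := U.2
  let W : 𝓘.subscheme.Opens := 𝓘.subschemeι ⁻¹ᵁ U.1
  have hW : IsAffineOpen W := hU.preimage 𝓘.subschemeι
  have hzW : z ∈ W := hz
  let x : ↥X := 𝓘.subschemeι z
  letI : Algebra Γ(X, U.1) (X.presheaf.stalk x) :=
    TopCat.Presheaf.algebra_section_stalk X.presheaf (⟨x, hz⟩ : U.1)
  letI : Algebra Γ(𝓘.subscheme, W) (𝓘.subscheme.presheaf.stalk z) :=
    TopCat.Presheaf.algebra_section_stalk 𝓘.subscheme.presheaf (⟨z, hzW⟩ : W)
  haveI h1 : IsLocalization.AtPrime (X.presheaf.stalk x) (hU.primeIdealOf ⟨x, hz⟩).asIdeal :=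
    hU.isLocalization_stalk ⟨x, hz⟩
  haveI h2 : IsLocalization.AtPrime (𝓘.subscheme.presheaf.stalk z)
      (hW.primeIdealOf ⟨z, hzW⟩).asIdeal :=
    hW.isLocalization_stalk ⟨z, hzW⟩
  have key := ker_eq_map_ker_of_surjective (hU.primeIdealOf ⟨x, hz⟩).asIdeal
    (hW.primeIdealOf ⟨z, hzW⟩).asIdeal (𝓘.subschemeι.app U.1).hom
    (𝓘.subschemeι_app_surjective U) (𝓘.subschemeι.stalkMap z).hom
    (fun a => Scheme.Hom.germ_stalkMap_apply 𝓘.subschemeι U.1 z hz a)
  rw [𝓘.ker_subschemeι_app U] at key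
  exact key

/-- `O_{X,x} / 𝓘_x ≃ O_{Z,z}` for `Z = V(𝓘)`, `x` the image of `z`, computed on an affine open
`U ∋ x`. -/
noncomputable def stalkEquiv (U : X.affineOpens) (z : 𝓘.subscheme)
    (hz : 𝓘.subschemeι z ∈ U.1) :
    (X.presheaf.stalk (𝓘.subschemeι z) ⧸
        (𝓘.ideal U).map (X.presheaf.germ U.1 (𝓘.subschemeι z) hz).hom) ≃+*
      𝓘.subscheme.presheaf.stalk z :=
  (Ideal.quotEquivOfEq (ker_stalkMap_subschemeι 𝓘 U z hz).symm).trans
    (RingHom.quotientKerEquivOfSurjective (𝓘.subschemeι.stalkMap_surjective z))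

theorem stalkEquiv_mk (U : X.affineOpens) (z : 𝓘.subscheme)
    (hz : 𝓘.subschemeι z ∈ U.1) (a : X.presheaf.stalk (𝓘.subschemeι z)) :
    stalkEquiv 𝓘 U z hz (Ideal.Quotient.mk _ a) = (𝓘.subschemeι.stalkMap z).hom a := by
  simp [stalkEquiv]

/-- If `𝓘(U) = (f)` then `O_{X,x}/(f_x) ≃ O_{Z,z}`. -/
noncomputable def stalkEquivSpan (U : X.affineOpens) (z : 𝓘.subscheme)
    (hz : 𝓘.subschemeι z ∈ U.1) (f : Γ(X, U.1)) (hf : 𝓘.ideal U = Ideal.span {f}) :
    (X.presheaf.stalk (𝓘.subschemeι z) ⧸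
        Ideal.span {(X.presheaf.germ U.1 (𝓘.subschemeι z) hz).hom f}) ≃+*
      𝓘.subscheme.presheaf.stalk z :=
  (Ideal.quotEquivOfEq (by rw [hf, Ideal.map_span, Set.image_singleton])).trans
    (stalkEquiv 𝓘 U z hz)

/-- The germ of a nonzerodivisor on an affine open is a nonzerodivisor in the stalk. -/
theorem germ_mem_nonZeroDivisors {U : X.Opens} (hU : IsAffineOpen U) (x : ↥X) (hx : x ∈ U)
    (f : Γ(X, U)) (hf : f ∈ nonZeroDivisors Γ(X, U)) :
    (X.presheaf.germ U x hx).hom f ∈ nonZeroDivisors (X.presheaf.stalk x) := by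
  letI : Algebra Γ(X, U) (X.presheaf.stalk x) :=
    TopCat.Presheaf.algebra_section_stalk X.presheaf (⟨x, hx⟩ : U)
  haveI h1 : IsLocalization.AtPrime (X.presheaf.stalk x) (hU.primeIdealOf ⟨x, hx⟩).asIdeal :=
    hU.isLocalization_stalk ⟨x, hx⟩
  exact IsLocalization.map_nonZeroDivisors_le (hU.primeIdealOf ⟨x, hx⟩).asIdeal.primeCompl
    (X.presheaf.stalk x) (Submonoid.mem_map_of_mem _ hf)

end Groth.Agent.Lib.Helper64.SubschemeStalk
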