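import Mathlib
import Groth.Prelude.Def_RefHull
import Groth.Agent.Lib.Lead.SheafPts
import Groth.Agent.Lib.Lead.QCohAff2
import Groth.Agent.Lib.Helper64.FinTypeStalk
import Groth.Agent.Lib.Helper64.CohSupport

/-!
# The sheaf Hom `RefHull.homSh F G`: sections as maps (helper64)

* `sec_ext`: sections of a module with equal germs are equal.
* `secApp g hVU : Γ(F,V) →ₗ[Γ(X,V)] Γ(G,V)`: a section `g` of `homSh F G` over `U` acts on sections
  of `F` over `V ≤ U` (`germ_secApp`, `secApp_res`).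
* `hom_ext_of_span`: two sections of `homSh F G` over `W` agreeing on germs of sections generating
  all stalks are equal.
* `evalStalk_injective`: `F` of finite type ⇒ `evalStalk F G x` injective (S16484).
* `mkOfGens`: a family of linear stalk maps sending the germs of stalkwise generators `s i` to
  germs of sections `t i` is a section of `homSh`.
-/

set_option autoImplicit false
set_option linter.style.haveILetI false
universe u

open AlgebraicGeometry CategoryTheory Opposite TopologicalSpace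

namespace Groth.Agent.Lib.Helper64.HomSh

open Groth.Agent.Lib.Lead.QCohAff Groth.Agent.Lib.Lead.SheafGlue
open Groth.Agent.Lib.Helper64.FinTypeStalk

variable {X : Scheme.{u}}

/-- sections with equal germs are equal -/
theorem sec_ext (F : X.Modules) {W : X.Opens} (s t : Γ(F, W))
    (h : ∀ (x : X) (hx : x ∈ W), F.presheaf.germ W x hx s = F.presheaf.germ W x hx t) : s = t :=
  TopCat.Presheaf.section_ext (F := ⟨F.presheaf, F.isSheaf⟩) W s t h

/-- a section with zero germ at `x` vanishes near `x` -/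
theorem exists_res_eq_zero_of_germ_eq_zero (F : X.Modules) {U : X.Opens} (s : Γ(F, U)) (x : X)
    (hx : x ∈ U) (h : F.presheaf.germ U x hx s = 0) :
    ∃ (W : X.Opens) (hWU : W ≤ U), x ∈ W ∧ F.presheaf.map (homOfLE hWU).op s = 0 := by
  have h0' : F.presheaf.germ U x hx s = F.presheaf.germ U x hx 0 := by rw [h, map_zero]
  obtain ⟨W, hxW, i1, i2, heq⟩ := TopCat.Presheaf.germ_eq _ x hx hx _ _ h0'
  refine ⟨W, leOfHom i1, hxW, ?_⟩
  rw [map_zero] at heq
  exact heq

variable {F G : X.Modules}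

theorem exists_secApp {U : X.Opens} (g : Γ(RefHull.homSh F G, U)) {V : X.Opens} (hVU : V ≤ U)
    (m : Γ(F, V)) :
    ∃ n : Γ(G, V), ∀ (y : X) (hy : y ∈ V),
      G.presheaf.germ V y hy n = g.1 ⟨y, hVU hy⟩ (F.presheaf.germ V y hy m) := by
  have h := RefHull.isLocSect_of_mem g V (homOfLE hVU) m
  choose W hxW j n hn using h
  obtain ⟨r, hr⟩ := exists_glue_pts G (W := V) W (fun x => (j x).le) hxW n (by
    intro x y
    apply sec_ext
    intro z hz
    rw [germ_res, germ_res]
    rw [← hn x ⟨z, hz.1⟩, ← hn y ⟨z, hz.2⟩])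
  refine ⟨r, fun y hy => ?_⟩
  have h1 := hr ⟨y, hy⟩
  rw [← germ_res G (j ⟨y, hy⟩).le y (hxW ⟨y, hy⟩) r, h1]
  exact (hn ⟨y, hy⟩ ⟨y, hxW _⟩).symm

/-- the action of a section of the sheaf Hom on sections -/
noncomputable def secAppFun {U : X.Opens} (g : Γ(RefHull.homSh F G, U)) {V : X.Opens}
    (hVU : V ≤ U) (m : Γ(F, V)) : Γ(G, V) := (exists_secApp g hVU m).choose

theorem germ_secAppFun {U : X.Opens} (g : Γ(RefHull.homSh F G, U)) {V : X.Opens}
    (hVU : V ≤ U) (m : Γ(F, V)) (y : X) (hy : y ∈ V) :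
    G.presheaf.germ V y hy (secAppFun g hVU m) = g.1 ⟨y, hVU hy⟩ (F.presheaf.germ V y hy m) :=
  (exists_secApp g hVU m).choose_spec y hy

/-- the action of a section of the sheaf Hom on sections, as a linear map -/
noncomputable def secApp {U : X.Opens} (g : Γ(RefHull.homSh F G, U)) {V : X.Opens}
    (hVU : V ≤ U) : Γ(F, V) →ₗ[Γ(X, V)] Γ(G, V) where
  toFun := secAppFun g hVU
  map_add' a b := by
    apply sec_ext
    intro y hy
    rw [map_add, germ_secAppFun, germ_secAppFun, germ_secAppFun, map_add, map_add]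
  map_smul' r a := by
    apply sec_ext
    intro y hy
    rw [RingHom.id_apply, germ_smul, germ_secAppFun, germ_secAppFun, germ_smul, map_smul]

theorem germ_secApp {U : X.Opens} (g : Γ(RefHull.homSh F G, U)) {V : X.Opens}
    (hVU : V ≤ U) (m : Γ(F, V)) (y : X) (hy : y ∈ V) :
    G.presheaf.germ V y hy (secApp g hVU m) = g.1 ⟨y, hVU hy⟩ (F.presheaf.germ V y hy m) :=
  germ_secAppFun g hVU m y hy

theorem secApp_res {U : X.Opens} (g : Γ(RefHull.homSh F G, U)) {V V' : X.Opens}
    (hVU : V ≤ U) (hV' : V' ≤ V) (m : Γ(F, V)) :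
    G.presheaf.map (homOfLE hV').op (secApp g hVU m) =
      secApp g (hV'.trans hVU) (F.presheaf.map (homOfLE hV').op m) := by
  apply sec_ext
  intro y hy
  rw [germ_res, germ_secApp, germ_secApp, germ_res]

theorem homSh_ext {U : X.Opens} (g g' : Γ(RefHull.homSh F G, U))
    (h : ∀ (y : X) (hy : y ∈ U), g.1 ⟨y, hy⟩ = g'.1 ⟨y, hy⟩) : g = g' :=
  Subtype.ext (funext fun y => h y.1 y.2)

theorem homSh_res_apply {U V : X.Opens} (hVU : V ≤ U) (g : Γ(RefHull.homSh F G, U)) (y : X)
    (hy : y ∈ V) :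
    ((RefHull.homSh F G).presheaf.map (homOfLE hVU).op g).1 ⟨y, hy⟩ = g.1 ⟨y, hVU hy⟩ := rfl

theorem homSh_smul_apply {U : X.Opens} (r : Γ(X, U)) (g : Γ(RefHull.homSh F G, U)) (y : X)
    (hy : y ∈ U) : (r • g).1 ⟨y, hy⟩ = X.presheaf.germ U y hy r • g.1 ⟨y, hy⟩ := rfl

theorem homSh_add_apply {U : X.Opens} (g g' : Γ(RefHull.homSh F G, U)) (y : X)
    (hy : y ∈ U) : (g + g').1 ⟨y, hy⟩ = g.1 ⟨y, hy⟩ + g'.1 ⟨y, hy⟩ := rfl

theorem homSh_zero_apply {U : X.Opens} (y : X)
    (hy : y ∈ U) : (0 : Γ(RefHull.homSh F G, U)).1 ⟨y, hy⟩ = 0 := rfl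

/-- linear maps on a stalk agreeing on generators are equal -/
theorem stalkHom_ext_of_span {y : X} {ι : Type*} (v : ι → F.presheaf.stalk y)
    (hv : Submodule.span (X.presheaf.stalk y) (Set.range v) = ⊤)
    (a b : RefHull.StalkHom F G y) (h : ∀ i, a (v i) = b (v i)) : a = b := by
  apply LinearMap.ext_on hv
  rintro _ ⟨i, rfl⟩
  exact h i

/-- two sections of the sheaf Hom agreeing on stalkwise generators are equal -/
theorem hom_ext_of_span {W : X.Opens} {ι : Type*} (s : ι → Γ(F, W))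
    (hs : ∀ (y : X) (hy : y ∈ W),
      Submodule.span (X.presheaf.stalk y) (Set.range fun i => F.presheaf.germ W y hy (s i)) = ⊤)
    (g g' : Γ(RefHull.homSh F G, W))
    (h : ∀ i, secApp g le_rfl (s i) = secApp g' le_rfl (s i)) : g = g' := by
  apply homSh_ext
  intro y hy
  apply stalkHom_ext_of_span _ (hs y hy)
  intro i
  rw [← germ_secApp g le_rfl (s i) y hy, ← germ_secApp g' le_rfl (s i) y hy, h i]

/-- restriction of stalkwise generators -/
theorem span_res {U V : X.Opens} (hVU : V ≤ U) {ι : Type*} (s : ι → Γ(F, U))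
    (hs : ∀ (y : X) (hy : y ∈ U),
      Submodule.span (X.presheaf.stalk y) (Set.range fun i => F.presheaf.germ U y hy (s i)) = ⊤)
    (y : X) (hy : y ∈ V) :
    Submodule.span (X.presheaf.stalk y)
      (Set.range fun i => F.presheaf.germ V y hy (F.presheaf.map (homOfLE hVU).op (s i))) = ⊤ := by
  rw [← hs y (hVU hy)]
  congr 1
  ext z
  simp only [Set.mem_range, germ_res]

/-- **S16484**: for `F` of finite type the evaluation `𝓗om(F,G)_x → Hom(F_x,G_x)` is injective. -/
theorem evalStalk_injective (hF : CohB1.IsFT F) (x : X) :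
    Function.Injective (RefHull.evalStalk F G x) := by
  rw [injective_iff_map_eq_zero]
  intro θ hθ
  obtain ⟨U, hxU, g, rfl⟩ := TopCat.Presheaf.exists_germ_eq (RefHull.homSh F G).presheaf θ
  rw [RefHull.evalStalk_germ] at hθ
  obtain ⟨U', hxU', n, s, hs⟩ := exists_local_generators F hF x
  -- the sections `g(s_i)` over `U ⊓ U'` have zero germ at `x`
  have hV : U ⊓ U' ≤ U := inf_le_left
  have hV' : U ⊓ U' ≤ U' := inf_le_right
  have hx0 : x ∈ U ⊓ U' := ⟨hxU, hxU'⟩
  let s' : Fin n → Γ(F, U ⊓ U') := fun i => F.presheaf.map (homOfLE hV').op (s i)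
  have h0 : ∀ i, G.presheaf.germ (U ⊓ U') x hx0 (secApp g hV (s' i)) = 0 := by
    intro i
    rw [germ_secApp, hθ, LinearMap.zero_apply]
  -- common neighbourhood where they vanish
  let T : Set X := ((U ⊓ U' : X.Opens) : Set X) ∩ ⋂ i : Fin n,
    {y : X | ∃ hy : y ∈ U ⊓ U', G.presheaf.germ (U ⊓ U') y hy (secApp g hV (s' i)) = 0}
  have hT : IsOpen T := (U ⊓ U').isOpen.inter
    (isOpen_iInter_of_finite fun i => CohSupport.isOpen_germ_eq_zero G (secApp g hV (s' i)))
  have hxT : x ∈ T := ⟨hx0, Set.mem_iInter.2 fun i => ⟨hx0, h0 i⟩⟩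
  let W : X.Opens := ⟨T, hT⟩
  have hWV : W ≤ U ⊓ U' := fun y hy => hy.1
  have hres : (RefHull.homSh F G).presheaf.map (homOfLE (hWV.trans hV)).op g = 0 := by
    apply homSh_ext
    intro y hy
    rw [homSh_res_apply, homSh_zero_apply]
    apply stalkHom_ext_of_span _ (span_res hV' s hs y (hWV hy))
    intro i
    obtain ⟨hy', e⟩ := (Set.mem_iInter.1 hy.2) i
    rw [LinearMap.zero_apply, ← germ_secApp g hV (s' i) y (hWV hy)]
    exact e
  have e1 := TopCat.Presheaf.germ_res_apply (RefHull.homSh F G).presheaf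
    (homOfLE (hWV.trans hV)) x hxT g
  rw [← e1, hres, map_zero]

end Groth.Agent.Lib.Helper64.HomSh
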