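import Mathlib
import Groth.Agent.Lib.Helper64.HomSh1
import Groth.Agent.Lib.Helper64.CohAffine
import Groth.Agent.Lib.Lead.QCohAff3
import Groth.Agent.Lib.Helper2.FinPresAff

/-!
# The sheaf Hom `RefHull.homSh F G`: local presentations and construction of sections (helper64)

* `isLocSect_of_gens` / `mkOfGens`: a family of stalk maps sending germs of stalkwise generators to
  germs of sections is a section of `homSh F G`.
* `IsPres F W s r`: sections `s i` of `F` over `W` and relations `r j` presenting every stalk of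
  `F` on `W`.  `IsPres.res`, `exists_isPres_of_affine` (finitely presented `F`, `W` affine).
* `mkOfPres`: section of `homSh F G` over `W` from a presentation and images `t i` of generators
  satisfying the relations; `secApp_mkOfPres`.
* `evalStalk_surjective`, `evalStalk_bijective` (S16485).
-/

set_option autoImplicit false
set_option linter.style.haveILetI false
universe u

open AlgebraicGeometry CategoryTheory Opposite TopologicalSpace

namespace Groth.Agent.Lib.Helper64.HomSh

open Groth.Agent.Lib.Lead.QCohAff Groth.Agent.Lib.Lead.SheafGlue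
open Groth.Agent.Lib.Helper64.FinTypeStalk

variable {X : Scheme.{u}} {F G : X.Modules}

/-- a family of stalk maps sending germs of stalkwise generators to germs of sections is
admissible -/
theorem isLocSect_of_gens {W : X.Opens} {ι : Type*} (s : ι → Γ(F, W)) (t : ι → Γ(G, W))
    (hs : ∀ (y : X) (hy : y ∈ W),
      Submodule.span (X.presheaf.stalk y) (Set.range fun i => F.presheaf.germ W y hy (s i)) = ⊤)
    (f : ∀ y : W, RefHull.StalkHom F G y.1)
    (hf : ∀ (y : X) (hy : y ∈ W) (i : ι),
      f ⟨y, hy⟩ (F.presheaf.germ W y hy (s i)) = G.presheaf.germ W y hy (t i)) :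
    RefHull.IsLocSect F G f := by
  intro V i m x
  have hxW : x.1 ∈ W := i.le x.2
  have key : ∀ v : F.presheaf.stalk x.1, ∃ (W' : X.Opens) (hW' : W' ≤ W) (hx : x.1 ∈ W')
      (m' : Γ(F, W')) (n' : Γ(G, W')), F.presheaf.germ W' x.1 hx m' = v ∧
        ∀ (y : X) (hy : y ∈ W'),
          f ⟨y, hW' hy⟩ (F.presheaf.germ W' y hy m') = G.presheaf.germ W' y hy n' := by
    intro v
    have hv : v ∈ Submodule.span (X.presheaf.stalk x.1)
        (Set.range fun i => F.presheaf.germ W x.1 hxW (s i)) := by
      rw [hs x.1 hxW]; trivial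
    induction hv using Submodule.span_induction with
    | mem v hv =>
      obtain ⟨i, rfl⟩ := hv
      exact ⟨W, le_rfl, hxW, s i, t i, rfl, fun y hy => hf y hy i⟩
    | zero =>
      refine ⟨W, le_rfl, hxW, 0, 0, map_zero _, fun y hy => ?_⟩
      rw [map_zero, map_zero, map_zero]
    | add v w _ _ hv hw =>
      obtain ⟨W1, hW1, hx1, m1, n1, e1, h1⟩ := hv
      obtain ⟨W2, hW2, hx2, m2, n2, e2, h2⟩ := hw
      refine ⟨W1 ⊓ W2, inf_le_left.trans hW1, ⟨hx1, hx2⟩,
        F.presheaf.map (homOfLE inf_le_left).op m1 + F.presheaf.map (homOfLE inf_le_right).op m2,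
        G.presheaf.map (homOfLE inf_le_left).op n1 + G.presheaf.map (homOfLE inf_le_right).op n2,
        ?_, fun y hy => ?_⟩
      · rw [map_add, germ_res, germ_res, e1, e2]
      · rw [map_add, map_add, map_add, germ_res, germ_res, germ_res, germ_res]
        rw [← h1 y hy.1, ← h2 y hy.2]
    | smul a v _ hv =>
      obtain ⟨W1, hW1, hx1, m1, n1, e1, h1⟩ := hv
      obtain ⟨Ua, ha, α, rfl⟩ := TopCat.Presheaf.exists_germ_eq X.presheaf a
      refine ⟨Ua ⊓ W1, inf_le_right.trans hW1, ⟨ha, hx1⟩,
        X.presheaf.map (homOfLE (inf_le_left : Ua ⊓ W1 ≤ Ua)).op α •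
          F.presheaf.map (homOfLE (inf_le_right : Ua ⊓ W1 ≤ W1)).op m1,
        X.presheaf.map (homOfLE (inf_le_left : Ua ⊓ W1 ≤ Ua)).op α •
          G.presheaf.map (homOfLE (inf_le_right : Ua ⊓ W1 ≤ W1)).op n1,
        ?_, fun y hy => ?_⟩
      · rw [germ_smul, germ_res, germX_res, e1]
      · rw [germ_smul, germ_smul, map_smul, germ_res, germ_res, germX_res]
        rw [← h1 y hy.2]
  obtain ⟨W', hW', hx', m', n', e, h⟩ := key (F.presheaf.germ V x.1 x.2 m)
  obtain ⟨W0, hx0, iU, iV, hres⟩ := TopCat.Presheaf.germ_eq F.presheaf x.1 hx' x.2 m' m e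
  refine ⟨W0, hx0, iV, G.presheaf.map iU.op n', fun y => ?_⟩
  have e1 : F.presheaf.germ V y.1 (iV.le y.2) m = F.presheaf.germ W' y.1 (iU.le y.2) m' := by
    rw [← TopCat.Presheaf.germ_res_apply F.presheaf iV y.1 y.2 m, ← hres,
      TopCat.Presheaf.germ_res_apply]
  rw [e1, TopCat.Presheaf.germ_res_apply]
  exact h y.1 (iU.le y.2)

/-- a section of the sheaf Hom from a family of stalk maps sending germs of stalkwise generators
to germs of sections -/
noncomputable def mkOfGens {W : X.Opens} {ι : Type*} (s : ι → Γ(F, W)) (t : ι → Γ(G, W))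
    (hs : ∀ (y : X) (hy : y ∈ W),
      Submodule.span (X.presheaf.stalk y) (Set.range fun i => F.presheaf.germ W y hy (s i)) = ⊤)
    (f : ∀ y : W, RefHull.StalkHom F G y.1)
    (hf : ∀ (y : X) (hy : y ∈ W) (i : ι),
      f ⟨y, hy⟩ (F.presheaf.germ W y hy (s i)) = G.presheaf.germ W y hy (t i)) :
    Γ(RefHull.homSh F G, W) :=
  ⟨f, isLocSect_of_gens s t hs f hf⟩

/-- a finite presentation of all stalks of `F` over `W` by sections and relations -/
structure IsPres (F : X.Modules) (W : X.Opens) {n m : ℕ} (s : Fin n → Γ(F, W))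
    (r : Fin m → Fin n → Γ(X, W)) : Prop where
  rel : ∀ j, ∑ i, r j i • s i = 0
  span : ∀ (y : X) (hy : y ∈ W),
    Submodule.span (X.presheaf.stalk y) (Set.range fun i => F.presheaf.germ W y hy (s i)) = ⊤
  ker : ∀ (y : X) (hy : y ∈ W) (c : Fin n → X.presheaf.stalk y),
    ∑ i, c i • F.presheaf.germ W y hy (s i) = 0 →
      c ∈ Submodule.span (X.presheaf.stalk y)
        (Set.range fun j => fun i => X.presheaf.germ W y hy (r j i))

theorem IsPres.res {W W' : X.Opens} (hW : W' ≤ W) {n m : ℕ} {s : Fin n → Γ(F, W)}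
    {r : Fin m → Fin n → Γ(X, W)} (h : IsPres F W s r) :
    IsPres F W' (fun i => F.presheaf.map (homOfLE hW).op (s i))
      (fun j i => X.presheaf.map (homOfLE hW).op (r j i)) where
  rel j := by
    have := congrArg (F.presheaf.map (homOfLE hW).op) (h.rel j)
    rw [map_sum, map_zero] at this
    rw [← this]
    refine Finset.sum_congr rfl fun i _ => ?_
    rw [res_smul]
  span y hy := span_res hW s h.span y hy
  ker y hy c hc := by
    have h1 : ∑ i, c i • F.presheaf.germ W y (hW hy) (s i) = 0 := by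
      rw [← hc]
      refine Finset.sum_congr rfl fun i _ => ?_
      rw [germ_res]
    have h2 := h.ker y (hW hy) c h1
    have e : (Set.range fun j => fun i => X.presheaf.germ W' y hy
        (X.presheaf.map (homOfLE hW).op (r j i))) =
        Set.range fun j => fun i => X.presheaf.germ W y (hW hy) (r j i) := by
      congr 1
      funext j i
      rw [germX_res]
    rw [e]
    exact h2

/-- finitely presented modules have presentations on affine opens -/
theorem exists_isPres_of_affine
    [SheafOfModules.IsFinitePresentation (R := X.ringCatSheaf) F] {U : X.Opens}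
    (hU : IsAffineOpen U) :
    ∃ (n m : ℕ) (s : Fin n → Γ(F, U)) (r : Fin m → Fin n → Γ(X, U)), IsPres F U s r := by
  haveI : Module.FinitePresentation Γ(X, U) Γ(F, U) :=
    Groth.Agent.Lib.Helper2.FinTypeAff.finitePresentation_sections F hU
  obtain ⟨n, s, hs⟩ := Module.Finite.exists_fin (R := Γ(X, U)) (M := Γ(F, U))
  let π : (Fin n → Γ(X, U)) →ₗ[Γ(X, U)] Γ(F, U) := Fintype.linearCombination Γ(X, U) s
  have hπ : Function.Surjective π := by
    rw [← LinearMap.range_eq_top, Fintype.range_linearCombination, hs]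
  have hK : (LinearMap.ker π).FG := Module.FinitePresentation.fg_ker π hπ
  obtain ⟨m, r, hr⟩ := Submodule.fg_iff_exists_fin_generating_family.1 hK
  have hrel : ∀ j, ∑ i, r j i • s i = 0 := by
    intro j
    have : r j ∈ LinearMap.ker π := by rw [← hr]; exact Submodule.subset_span ⟨j, rfl⟩
    rw [LinearMap.mem_ker] at this
    rw [← this]
    rfl
  refine ⟨n, m, s, r, ⟨hrel, fun y hy => ?_, fun y hy c hc => ?_⟩⟩
  · have := CohAffine.span_germs_eq_top F hU (Set.range s) hs y hy
    rw [← this]
    congr 1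
    ext z
    simp
  · -- clear denominators
    letI := TopCat.Presheaf.algebra_section_stalk X.presheaf (⟨y, hy⟩ : U)
    haveI := hU.isLocalization_stalk ⟨y, hy⟩
    obtain ⟨b, hb⟩ := IsLocalization.exist_integer_multiples_of_finite
      (hU.primeIdealOf ⟨y, hy⟩).asIdeal.primeCompl c
    choose a ha using hb
    have hb' : y ∈ X.basicOpen (b : Γ(X, U)) :=
      (mem_basicOpen_iff_notMem_primeIdealOf hU y hy b).2 b.2
    have hub : IsUnit (X.presheaf.germ U y hy (b : Γ(X, U))) :=
      isUnit_germ_of_mem_basicOpen _ y hy hb'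
    have ha' : ∀ i, X.presheaf.germ U y hy (a i) = X.presheaf.germ U y hy (b : Γ(X, U)) * c i := by
      intro i
      have := ha i
      rw [Algebra.smul_def] at this
      exact this
    -- the section Σ a_i s_i has zero germ at y
    have h0 : F.presheaf.germ U y hy (∑ i, a i • s i) = 0 := by
      rw [map_sum]
      have : ∀ i ∈ Finset.univ, F.presheaf.germ U y hy (a i • s i) =
          X.presheaf.germ U y hy (b : Γ(X, U)) • (c i • F.presheaf.germ U y hy (s i)) := by
        intro i _
        rw [germ_smul, ha', mul_smul]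
      rw [Finset.sum_congr rfl this, ← Finset.smul_sum, hc, smul_zero]
    obtain ⟨v, hyv, hv⟩ := (germ_eq_zero_iff F hU y hy _).1 h0
    have huv : IsUnit (X.presheaf.germ U y hy v) := isUnit_germ_of_mem_basicOpen _ y hy hyv
    have hmem : (fun i => v * a i) ∈ LinearMap.ker π := by
      rw [LinearMap.mem_ker]
      change ∑ i, (v * a i) • s i = 0
      rw [← hv, Finset.smul_sum]
      refine Finset.sum_congr rfl fun i _ => ?_
      rw [mul_smul]
    rw [← hr] at hmem
    obtain ⟨β, hβ⟩ := (Submodule.mem_span_range_iff_exists_fun _).1 hmem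
    -- c = (germ b * germ v)⁻¹ • Σ germ β_j • germ r_j
    obtain ⟨ub, hub'⟩ := hub
    obtain ⟨uv, huv'⟩ := huv
    have hc' : c = (↑(ub⁻¹ * uv⁻¹) : X.presheaf.stalk y) •
        ∑ j, X.presheaf.germ U y hy (β j) • (fun i => X.presheaf.germ U y hy (r j i)) := by
      funext i
      have h1 := congrFun hβ i
      rw [Finset.sum_apply] at h1
      have h2 := congrArg (X.presheaf.germ U y hy) h1
      rw [map_sum, map_mul, ha'] at h2
      rw [Pi.smul_apply, Finset.sum_apply, smul_eq_mul]
      have h3 : ∀ j ∈ Finset.univ, X.presheaf.germ U y hy ((β j • r j) i) =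
          (X.presheaf.germ U y hy (β j) • fun i => X.presheaf.germ U y hy (r j i)) i := by
        intro j _
        rw [Pi.smul_apply, Pi.smul_apply, smul_eq_mul, smul_eq_mul, map_mul]
      rw [Finset.sum_congr rfl h3] at h2
      rw [h2, ← hub', ← huv', Units.val_mul]
      rw [show (↑ub⁻¹ : X.presheaf.stalk y) * ↑uv⁻¹ * (↑uv * (↑ub * c i)) =
        (↑ub⁻¹ * ↑ub) * (↑uv⁻¹ * ↑uv) * c i by ring]
      rw [Units.inv_mul, Units.inv_mul, one_mul, one_mul]
    rw [hc']
    refine Submodule.smul_mem _ _ (Submodule.sum_mem _ fun j _ => Submodule.smul_mem _ _ ?_)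
    exact Submodule.subset_span ⟨j, rfl⟩

section mkOfPres

variable {W : X.Opens} {n m : ℕ} {s : Fin n → Γ(F, W)} {r : Fin m → Fin n → Γ(X, W)}

/-- the stalk map determined by a presentation and images of the generators -/
theorem exists_stalkHom_of_pres (hP : IsPres F W s r) (t : Fin n → Γ(G, W))
    (ht : ∀ j, ∑ i, r j i • t i = 0) (y : X) (hy : y ∈ W) :
    ∃ f : RefHull.StalkHom F G y, ∀ i,
      f (F.presheaf.germ W y hy (s i)) = G.presheaf.germ W y hy (t i) := by
  let π : (Fin n → X.presheaf.stalk y) →ₗ[X.presheaf.stalk y] F.presheaf.stalk y :=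
    Fintype.linearCombination (X.presheaf.stalk y) fun i => F.presheaf.germ W y hy (s i)
  let τ : (Fin n → X.presheaf.stalk y) →ₗ[X.presheaf.stalk y] G.presheaf.stalk y :=
    Fintype.linearCombination (X.presheaf.stalk y) fun i => G.presheaf.germ W y hy (t i)
  have hπ : Function.Surjective π := by
    rw [← LinearMap.range_eq_top, Fintype.range_linearCombination, hP.span y hy]
  have hker : LinearMap.ker π ≤ LinearMap.ker τ := by
    intro c hc
    rw [LinearMap.mem_ker] at hc
    have hc' : ∑ i, c i • F.presheaf.germ W y hy (s i) = 0 := hc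
    have h1 := hP.ker y hy c hc'
    have h2 : Submodule.span (X.presheaf.stalk y)
        (Set.range fun j => fun i => X.presheaf.germ W y hy (r j i)) ≤ LinearMap.ker τ := by
      rw [Submodule.span_le]
      rintro _ ⟨j, rfl⟩
      change τ _ = 0
      change ∑ i, X.presheaf.germ W y hy (r j i) • G.presheaf.germ W y hy (t i) = 0
      have := congrArg (G.presheaf.germ W y hy) (ht j)
      rw [map_sum, map_zero] at this
      rw [← this]
      refine Finset.sum_congr rfl fun i _ => ?_
      rw [germ_smul]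
    exact h2 h1
  let f : RefHull.StalkHom F G y :=
    ((LinearMap.ker π).liftQ τ hker).comp (π.quotKerEquivOfSurjective hπ).symm.toLinearMap
  refine ⟨f, fun i => ?_⟩
  have e1 : F.presheaf.germ W y hy (s i) = π (Pi.single i 1) := by
    change _ = ∑ k, (Pi.single i (1 : X.presheaf.stalk y) : Fin n → _) k • _
    rw [Finset.sum_eq_single i]
    · rw [Pi.single_eq_same, one_smul]
    · intro k _ hk
      rw [Pi.single_eq_of_ne hk, zero_smul]
    · intro h
      exact absurd (Finset.mem_univ i) h
  have e2 : G.presheaf.germ W y hy (t i) = τ (Pi.single i 1) := by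
    change _ = ∑ k, (Pi.single i (1 : X.presheaf.stalk y) : Fin n → _) k • _
    rw [Finset.sum_eq_single i]
    · rw [Pi.single_eq_same, one_smul]
    · intro k _ hk
      rw [Pi.single_eq_of_ne hk, zero_smul]
    · intro h
      exact absurd (Finset.mem_univ i) h
  rw [e1, e2]
  change ((LinearMap.ker π).liftQ τ hker) ((π.quotKerEquivOfSurjective hπ).symm (π _)) = _
  have e3 : (π.quotKerEquivOfSurjective hπ).symm (π (Pi.single i 1)) =
      Submodule.Quotient.mk (Pi.single i 1) := by
    rw [LinearEquiv.symm_apply_eq]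
    rfl
  rw [e3]
  rfl

/-- the stalk maps chosen from a presentation -/
noncomputable def stalkHomOfPres (hP : IsPres F W s r) (t : Fin n → Γ(G, W))
    (ht : ∀ j, ∑ i, r j i • t i = 0) (y : W) : RefHull.StalkHom F G y.1 :=
  (exists_stalkHom_of_pres hP t ht y.1 y.2).choose

theorem stalkHomOfPres_germ (hP : IsPres F W s r) (t : Fin n → Γ(G, W))
    (ht : ∀ j, ∑ i, r j i • t i = 0) (y : X) (hy : y ∈ W) (i : Fin n) :
    stalkHomOfPres hP t ht ⟨y, hy⟩ (F.presheaf.germ W y hy (s i)) =
      G.presheaf.germ W y hy (t i) :=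
  (exists_stalkHom_of_pres hP t ht y hy).choose_spec i

/-- the section of the sheaf Hom over `W` determined by a presentation of `F` over `W` and images
`t i` of the generators satisfying the relations -/
noncomputable def mkOfPres (hP : IsPres F W s r) (t : Fin n → Γ(G, W))
    (ht : ∀ j, ∑ i, r j i • t i = 0) : Γ(RefHull.homSh F G, W) :=
  mkOfGens s t hP.span (stalkHomOfPres hP t ht) (stalkHomOfPres_germ hP t ht)

theorem mkOfPres_germ (hP : IsPres F W s r) (t : Fin n → Γ(G, W))
    (ht : ∀ j, ∑ i, r j i • t i = 0) (y : X) (hy : y ∈ W) (i : Fin n) :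
    (mkOfPres hP t ht).1 ⟨y, hy⟩ (F.presheaf.germ W y hy (s i)) = G.presheaf.germ W y hy (t i) :=
  stalkHomOfPres_germ hP t ht y hy i

theorem secApp_mkOfPres (hP : IsPres F W s r) (t : Fin n → Γ(G, W))
    (ht : ∀ j, ∑ i, r j i • t i = 0) (i : Fin n) :
    secApp (mkOfPres hP t ht) le_rfl (s i) = t i := by
  apply sec_ext
  intro y hy
  rw [germ_secApp]
  exact mkOfPres_germ hP t ht y hy i

end mkOfPres

/-- finite infimum of open neighbourhoods -/
theorem exists_common_nhd {n : ℕ} (x : X) (V : Fin n → X.Opens) (hV : ∀ i, x ∈ V i)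
    (U : X.Opens) (hU : x ∈ U) : ∃ W : X.Opens, x ∈ W ∧ W ≤ U ∧ ∀ i, W ≤ V i := by
  refine ⟨U ⊓ Finset.univ.inf V, ⟨hU, ?_⟩, inf_le_left, fun i => inf_le_right.trans
    (Finset.inf_le (Finset.mem_univ i))⟩
  have : ∀ (S : Finset (Fin n)), x ∈ S.inf V := by
    intro S
    induction S using Finset.induction_on with
    | empty => simp
    | insert a S _ ih =>
      rw [Finset.inf_insert]
      exact ⟨hV a, ih⟩
  exact this _

/-- **S16485 (surjectivity)**. -/
theorem evalStalk_surjective (hF : CohB1.IsFP F) (x : X) :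
    Function.Surjective (RefHull.evalStalk F G x) := by
  intro φ
  haveI : SheafOfModules.IsFinitePresentation (R := X.ringCatSheaf) F := hF
  obtain ⟨_, ⟨U, hU : IsAffineOpen U, rfl⟩, hxU, -⟩ :=
    (X.isBasis_affineOpens).exists_subset_of_mem_open (Set.mem_univ x) isOpen_univ
  obtain ⟨n, m, s, r, hP⟩ := exists_isPres_of_affine (F := F) hU
  -- representatives of the images of the generators
  have h1 : ∀ i, ∃ (V : X.Opens) (hV : x ∈ V) (t : Γ(G, V)),
      G.presheaf.germ V x hV t = φ (F.presheaf.germ U x hxU (s i)) := fun i =>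
    TopCat.Presheaf.exists_germ_eq G.presheaf _
  choose V hV t ht using h1
  obtain ⟨W1, hxW1, hW1U, hW1V⟩ := exists_common_nhd x V hV U hxU
  let t1 : Fin n → Γ(G, W1) := fun i => G.presheaf.map (homOfLE (hW1V i)).op (t i)
  have ht1 : ∀ i, G.presheaf.germ W1 x hxW1 (t1 i) = φ (F.presheaf.germ U x hxU (s i)) := by
    intro i
    rw [germ_res, ht]
  let r1 : Fin m → Fin n → Γ(X, W1) := fun j i => X.presheaf.map (homOfLE hW1U).op (r j i)
  -- the relations hold at the germ level
  have h2 : ∀ j, G.presheaf.germ W1 x hxW1 (∑ i, r1 j i • t1 i) = 0 := by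
    intro j
    rw [map_sum]
    have : ∀ i ∈ Finset.univ, G.presheaf.germ W1 x hxW1 (r1 j i • t1 i) =
        φ (F.presheaf.germ U x hxU (r j i • s i)) := by
      intro i _
      rw [germ_smul, ht1, germX_res, germ_smul, map_smul]
    rw [Finset.sum_congr rfl this, ← map_sum, ← map_sum, hP.rel j, map_zero, map_zero]
  have h3 : ∀ j, ∃ (W : X.Opens) (hW : W ≤ W1), x ∈ W ∧
      G.presheaf.map (homOfLE hW).op (∑ i, r1 j i • t1 i) = 0 := fun j =>
    exists_res_eq_zero_of_germ_eq_zero G _ x hxW1 (h2 j)
  choose W2 hW2 hxW2 hres using h3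
  obtain ⟨W, hxW, hWW1, hWW2⟩ := exists_common_nhd x W2 hxW2 W1 hxW1
  have hWU : W ≤ U := hWW1.trans hW1U
  have hP' := hP.res hWU
  let t' : Fin n → Γ(G, W) := fun i => G.presheaf.map (homOfLE hWW1).op (t1 i)
  have ht' : ∀ j, ∑ i, X.presheaf.map (homOfLE hWU).op (r j i) • t' i = 0 := by
    intro j
    have h4 := congrArg (G.presheaf.map (homOfLE (hWW2 j)).op) (hres j)
    rw [map_zero, res_res, map_sum] at h4
    rw [← h4]
    refine Finset.sum_congr rfl fun i _ => ?_
    rw [res_smul, res_resX]
  let g : Γ(RefHull.homSh F G, W) := mkOfPres hP' t' ht'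
  refine ⟨(RefHull.homSh F G).presheaf.germ W x hxW g, ?_⟩
  rw [RefHull.evalStalk_germ]
  apply stalkHom_ext_of_span _ (hP'.span x hxW)
  intro i
  rw [mkOfPres_germ hP' t' ht' x hxW i, germ_res G, germ_res G, ht, germ_res F]

/-- **S16485**: for `F` finitely presented the evaluation `𝓗om(F,G)_x → Hom(F_x,G_x)` is
bijective. -/
theorem evalStalk_bijective (hF : CohB1.IsFP F) (x : X) :
    Function.Bijective (RefHull.evalStalk F G x) := by
  refine ⟨?_, evalStalk_surjective hF x⟩
  haveI : SheafOfModules.IsFinitePresentation (R := X.ringCatSheaf) F := hF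
  exact evalStalk_injective (inferInstanceAs (SheafOfModules.IsFiniteType (R := X.ringCatSheaf) F)) x

end Groth.Agent.Lib.Helper64.HomSh
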