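import Mathlib
import Groth.Agent.Lib.Helper64.HomSh2
import Groth.Agent.Lib.Lead.QCohCrit
import Groth.Agent.Lib.Helper2.FinLocFreeAff

/-!
# Quasi-coherence and coherence of the sheaf Hom `RefHull.homSh F G` (helper64)

* `secApp_add/smul/zero/resHom`: `secApp` is linear in the section of the sheaf Hom and compatible
  with its restriction.
* `LocOn.exists_pow_smul_eq_zero_fin`, `LocOn.exists_res_eq_pow_smul_fin`: finite families.
* `locOn_homSh`: `F` finitely presented, `G` quasi-coherent, `U` affine ⇒ `LocOn (homSh F G) U`.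
* `isQuasicoherent_homSh`.
* `isFP_of_isCoh` (locally Noetherian), `finite_sections_homSh`, `isCoh_homSh`.
-/

set_option autoImplicit false
set_option linter.style.haveILetI false
universe u

open AlgebraicGeometry CategoryTheory Opposite TopologicalSpace

namespace Groth.Agent.Lib.Helper64.HomSh

open Groth.Agent.Lib.Lead.QCohAff Groth.Agent.Lib.Lead.SheafGlue
open Groth.Agent.Lib.Helper64.FinTypeStalk

variable {X : Scheme.{u}} {F G : X.Modules}

theorem resX_self {U : X.Opens} (h : U ≤ U) (a : Γ(X, U)) :
    X.presheaf.map (homOfLE h).op a = a := by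
  have : homOfLE h = 𝟙 U := Subsingleton.elim _ _
  rw [this, op_id, X.presheaf.map_id]
  rfl

theorem secApp_add {U : X.Opens} (g g' : Γ(RefHull.homSh F G, U)) {V : X.Opens} (hVU : V ≤ U)
    (m : Γ(F, V)) : secApp (g + g') hVU m = secApp g hVU m + secApp g' hVU m := by
  apply sec_ext
  intro y hy
  rw [map_add, germ_secApp, germ_secApp, germ_secApp, homSh_add_apply, LinearMap.add_apply]

theorem secApp_zero {U : X.Opens} {V : X.Opens} (hVU : V ≤ U)
    (m : Γ(F, V)) : secApp (0 : Γ(RefHull.homSh F G, U)) hVU m = 0 := by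
  apply sec_ext
  intro y hy
  rw [map_zero, germ_secApp, homSh_zero_apply, LinearMap.zero_apply]

theorem secApp_smul {U : X.Opens} (a : Γ(X, U)) (g : Γ(RefHull.homSh F G, U)) {V : X.Opens}
    (hVU : V ≤ U) (m : Γ(F, V)) :
    secApp (a • g) hVU m = X.presheaf.map (homOfLE hVU).op a • secApp g hVU m := by
  apply sec_ext
  intro y hy
  rw [germ_smul, germ_secApp, germ_secApp, homSh_smul_apply, LinearMap.smul_apply, germX_res]

theorem secApp_resHom {U U' : X.Opens} (hU' : U' ≤ U) (g : Γ(RefHull.homSh F G, U))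
    {V : X.Opens} (hVU' : V ≤ U') (m : Γ(F, V)) :
    secApp ((RefHull.homSh F G).presheaf.map (homOfLE hU').op g) hVU' m =
      secApp g (hVU'.trans hU') m := by
  apply sec_ext
  intro y hy
  rw [germ_secApp, germ_secApp, homSh_res_apply]

/-- a section of the sheaf Hom all of whose stalk maps vanish on `V` acts by zero on `V` -/
theorem secApp_eq_zero_of_res {U : X.Opens} (g : Γ(RefHull.homSh F G, U)) {V : X.Opens}
    (hVU : V ≤ U) (h : (RefHull.homSh F G).presheaf.map (homOfLE hVU).op g = 0) (m : Γ(F, V)) :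
    secApp g hVU m = 0 := by
  have := secApp_resHom hVU g le_rfl m
  rw [h, secApp_zero] at this
  exact this.symm

theorem LocOn.exists_pow_smul_eq_zero_fin {U : X.Opens} (hG : LocOn G U) (f : Γ(X, U)) {n : ℕ}
    (t : Fin n → Γ(G, U))
    (ht : ∀ i, G.presheaf.map (homOfLE (X.basicOpen_le f)).op (t i) = 0) :
    ∃ N : ℕ, ∀ i, f ^ N • t i = 0 := by
  have h := fun i => hG.1 f (t i) (ht i)
  choose k hk using h
  refine ⟨∑ i, k i, fun i => ?_⟩
  have hle : k i ≤ ∑ i, k i := Finset.single_le_sum (fun _ _ => Nat.zero_le _) (Finset.mem_univ i)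
  rw [← Nat.sub_add_cancel hle, pow_add, mul_smul, hk, smul_zero]

theorem LocOn.exists_res_eq_pow_smul_fin {U : X.Opens} (hG : LocOn G U) (f : Γ(X, U)) {n : ℕ}
    (t : Fin n → Γ(G, X.basicOpen f)) :
    ∃ (N : ℕ) (s : Fin n → Γ(G, U)), ∀ i,
      G.presheaf.map (homOfLE (X.basicOpen_le f)).op (s i) =
        (X.presheaf.map (homOfLE (X.basicOpen_le f)).op f) ^ N • t i := by
  have h := fun i => hG.2 f (t i)
  choose k s hs using h
  refine ⟨∑ i, k i, fun i => f ^ ((∑ i, k i) - k i) • s i, fun i => ?_⟩
  have hle : k i ≤ ∑ i, k i := Finset.single_le_sum (fun _ _ => Nat.zero_le _) (Finset.mem_univ i)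
  rw [res_smul, hs, map_pow, ← mul_smul, ← pow_add, Nat.sub_add_cancel hle]

/-- **the sheaf Hom out of a finitely presented module into a quasi-coherent module localizes on
affine opens** -/
theorem locOn_homSh [SheafOfModules.IsFinitePresentation (R := X.ringCatSheaf) F]
    [G.IsQuasicoherent] {U : X.Opens} (hU : IsAffineOpen U) : LocOn (RefHull.homSh F G) U := by
  obtain ⟨n, m, s, r, hP⟩ := exists_isPres_of_affine (F := F) hU
  have hG : LocOn G U := LocOn.of_isQuasicoherent G hU
  refine ⟨fun f g hg => ?_, fun f ψ => ?_⟩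
  · -- injectivity part
    have h1 : ∀ i, G.presheaf.map (homOfLE (X.basicOpen_le f)).op (secApp g le_rfl (s i)) = 0 := by
      intro i
      rw [secApp_res]
      exact secApp_eq_zero_of_res g (X.basicOpen_le f) hg _
    obtain ⟨N, hN⟩ := LocOn.exists_pow_smul_eq_zero_fin hG f _ h1
    refine ⟨N, ?_⟩
    apply hom_ext_of_span s hP.span
    intro i
    rw [secApp_smul, secApp_zero, resX_self, hN]
  · -- surjectivity part
    let D := X.basicOpen f
    have hD : D ≤ U := X.basicOpen_le f
    let fD : Γ(X, D) := X.presheaf.map (homOfLE hD).op f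
    let sD : Fin n → Γ(F, D) := fun i => F.presheaf.map (homOfLE hD).op (s i)
    obtain ⟨N, t, ht⟩ := LocOn.exists_res_eq_pow_smul_fin hG f
      (fun i => secApp ψ le_rfl (sD i))
    -- the relations hold after restriction to `D(f)`
    have h2 : ∀ j, G.presheaf.map (homOfLE hD).op (∑ i, r j i • t i) = 0 := by
      intro j
      rw [map_sum]
      have h3 : ∀ i ∈ Finset.univ, G.presheaf.map (homOfLE hD).op (r j i • t i) =
          fD ^ N • secApp ψ le_rfl (X.presheaf.map (homOfLE hD).op (r j i) • sD i) := by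
        intro i _
        rw [res_smul, ht, map_smul, smul_comm]
      rw [Finset.sum_congr rfl h3, ← Finset.smul_sum, ← map_sum]
      have h4 : ∑ i, X.presheaf.map (homOfLE hD).op (r j i) • sD i = 0 := (hP.res hD).rel j
      rw [h4, map_zero, smul_zero]
    obtain ⟨K, hK⟩ := LocOn.exists_pow_smul_eq_zero_fin hG f _ h2
    let t' : Fin n → Γ(G, U) := fun i => f ^ K • t i
    have ht' : ∀ j, ∑ i, r j i • t' i = 0 := by
      intro j
      rw [← hK j, Finset.smul_sum]
      refine Finset.sum_congr rfl fun i _ => ?_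
      rw [smul_comm]
    refine ⟨K + N, mkOfPres hP t' ht', ?_⟩
    apply hom_ext_of_span sD (hP.res hD).span
    intro i
    have e1 : secApp ((RefHull.homSh F G).presheaf.map (homOfLE hD).op (mkOfPres hP t' ht'))
        le_rfl (sD i) = G.presheaf.map (homOfLE hD).op (t' i) := by
      rw [secApp_resHom, ← secApp_mkOfPres hP t' ht' i]
      exact (secApp_res (mkOfPres hP t' ht') le_rfl hD (s i)).symm
    rw [e1, secApp_smul, resX_self, res_smul, ht, map_pow, ← mul_smul, ← pow_add]

/-- the sheaf Hom out of a finitely presented module into a quasi-coherent module is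
quasi-coherent -/
theorem isQuasicoherent_homSh (hF : CohB1.IsFP F) (hG : Coh.IsQCoh G) :
    Coh.IsQCoh (RefHull.homSh F G) := by
  haveI : SheafOfModules.IsFinitePresentation (R := X.ringCatSheaf) F := hF
  haveI : G.IsQuasicoherent := hG
  exact (Groth.Agent.Lib.Lead.QCohCrit.isQuasicoherent_iff_locOn _).2
    (fun U hU => locOn_homSh hU)

/-- on a locally Noetherian scheme coherent modules are finitely presented -/
theorem isFP_of_isCoh [IsLocallyNoetherian X] (hF : Coh.IsCoh F) : CohB1.IsFP F := by
  haveI : F.IsQuasicoherent := hF.1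
  change SheafOfModules.IsFinitePresentation (R := X.ringCatSheaf) F
  rw [Groth.Agent.Lib.Helper2.FinLocFreeAff.isFinitePresentation_iff_sections]
  intro U hU
  haveI : IsNoetherianRing Γ(X, U) := IsLocallyNoetherian.component_noetherian ⟨U, hU⟩
  haveI : Module.Finite Γ(X, U) Γ(F, U) := CohAffine.finite_sections F hF.2 hU
  exact Module.finitePresentation_of_finite Γ(X, U) Γ(F, U)

/-- sections of the sheaf Hom of coherent modules over an affine open of a locally Noetherian
scheme form a finite module -/
theorem finite_sections_homSh [IsLocallyNoetherian X] (hF : Coh.IsCoh F) (hG : Coh.IsCoh G)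
    {U : X.Opens} (hU : IsAffineOpen U) : Module.Finite Γ(X, U) Γ(RefHull.homSh F G, U) := by
  haveI : SheafOfModules.IsFinitePresentation (R := X.ringCatSheaf) F := isFP_of_isCoh hF
  haveI : G.IsQuasicoherent := hG.1
  obtain ⟨n, m, s, r, hP⟩ := exists_isPres_of_affine (F := F) hU
  haveI : IsNoetherianRing Γ(X, U) := IsLocallyNoetherian.component_noetherian ⟨U, hU⟩
  haveI : Module.Finite Γ(X, U) Γ(G, U) := CohAffine.finite_sections G hG.2 hU
  let Φ : Γ(RefHull.homSh F G, U) →ₗ[Γ(X, U)] (Fin n → Γ(G, U)) :=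
    { toFun := fun g i => secApp g le_rfl (s i)
      map_add' := fun g g' => by
        funext i
        rw [Pi.add_apply, secApp_add]
      map_smul' := fun a g => by
        funext i
        rw [Pi.smul_apply, RingHom.id_apply, secApp_smul, resX_self] }
  have hΦ : Function.Injective Φ := by
    intro g g' h
    apply hom_ext_of_span s hP.span
    intro i
    exact congrFun h i
  exact Module.Finite.of_injective Φ hΦ

/-- **the sheaf Hom of coherent modules on a locally Noetherian scheme is coherent** -/
theorem isCoh_homSh [IsLocallyNoetherian X] (hF : Coh.IsCoh F) (hG : Coh.IsCoh G) :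
    Coh.IsCoh (RefHull.homSh F G) := by
  have hq : Coh.IsQCoh (RefHull.homSh F G) := isQuasicoherent_homSh (isFP_of_isCoh hF) hG.1
  haveI : (RefHull.homSh F G).IsQuasicoherent := hq
  refine ⟨hq, CohAffine.isFiniteType_of_finite_sections _ fun x => ?_⟩
  obtain ⟨_, ⟨U, hU : IsAffineOpen U, rfl⟩, hxU, -⟩ :=
    (X.isBasis_affineOpens).exists_subset_of_mem_open (Set.mem_univ x) isOpen_univ
  exact ⟨U, hxU, hU, finite_sections_homSh hF hG hU⟩

end Groth.Agent.Lib.Helper64.HomSh
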