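import Mathlib
import Groth.Prelude.Def_RefFun
import Groth.Agent.Lib.Helper64.HomSh3
import Groth.Agent.Lib.Helper29.QCohUnit
import Groth.Agent.Lib.Helper22.IsoLocus
import Groth.Agent.Lib.Helper21.IsoLocusGen
import Groth.Agent.Lib.Helper62.ModIso
import Groth.Agent.Lib.Helper11.ClosedPoint

/-!
# Reflexive modules: `RefHull.IsReflexive` versus reflexivity of the stalks (helper64)

* `isCoh_structureModule`, `isCoh_dual`, `isCoh_ddual`.
* `bijective_stalkMapₗ_of_isIso`, `isIso_iff_forall_bijective`.
* `evalStalk_stalkMap_bidualMap`: `evalStalk ∘ (bidualMap F)_x = bidualAt F x`.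
* `bijective_iff_eval` (pure algebra).
* `bijective_stalkMap_bidualMap_iff`: `(bidualMap F)_x` bijective ↔ `IsReflexiveAt F x`.
* `isReflexive_iff_forall_isReflexiveAt`, `isReflexive_tfae` (= S16080).
-/

set_option autoImplicit false
set_option linter.style.haveILetI false
universe u

open AlgebraicGeometry CategoryTheory Opposite TopologicalSpace

namespace Groth.Agent.Lib.Helper64.HomSh

open Groth.Agent.Lib.Lead.QCohAff Groth.Agent.Lib.Lead.SheafGlue

variable {X : Scheme.{u}} {F G : X.Modules}

theorem isCoh_structureModule (X : Scheme.{u}) : Coh.IsCoh (Coh.structureModule X) := by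
  haveI : (Coh.structureModule X).IsQuasicoherent :=
    Groth.Agent.Lib.Helper22.IsoLocus.structureModule_isQuasicoherent X
  refine ⟨inferInstance, ?_⟩
  rw [CohAffine.isFiniteType_iff_finite_sections]
  intro U hU
  exact inferInstanceAs (Module.Finite Γ(X, U) Γ(X, U))

theorem isCoh_dual [IsLocallyNoetherian X] (hF : Coh.IsCoh F) : Coh.IsCoh (RefHull.dual F) :=
  isCoh_homSh hF (isCoh_structureModule X)

theorem isCoh_ddual [IsLocallyNoetherian X] (hF : Coh.IsCoh F) : Coh.IsCoh (RefHull.ddual F) :=
  isCoh_dual (isCoh_dual hF)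

theorem bijective_stalkMapₗ_of_isIso (φ : F ⟶ G) [IsIso φ] (x : X) :
    Function.Bijective (RefHull.stalkMapₗ φ x) := by
  have h1 : (RefHull.stalkMapₗ (inv φ) x).comp (RefHull.stalkMapₗ φ x) = LinearMap.id := by
    rw [← RefFun.stalkMapₗ_comp, IsIso.hom_inv_id, RefFun.stalkMapₗ_id]
  have h2 : (RefHull.stalkMapₗ φ x).comp (RefHull.stalkMapₗ (inv φ) x) = LinearMap.id := by
    rw [← RefFun.stalkMapₗ_comp, IsIso.inv_hom_id, RefFun.stalkMapₗ_id]
  refine Function.bijective_iff_has_inverse.2 ⟨RefHull.stalkMapₗ (inv φ) x, fun v => ?_, fun v => ?_⟩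
  · exact LinearMap.congr_fun h1 v
  · exact LinearMap.congr_fun h2 v

theorem isIso_iff_forall_bijective (φ : F ⟶ G) :
    IsIso φ ↔ ∀ x : X, Function.Bijective (RefHull.stalkMapₗ φ x) :=
  ⟨fun _ x => bijective_stalkMapₗ_of_isIso φ x,
    Groth.Agent.Lib.Helper62.isIso_of_stalkMapₗ_bijective φ⟩

/-- the stalk map of the biduality map followed by evaluation is evaluation of germs of forms -/
theorem evalStalk_stalkMap_bidualMap (F : X.Modules) (x : X) (v : F.presheaf.stalk x) :
    RefHull.evalStalk (RefHull.dual F) (Coh.structureModule X) x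
      (RefHull.stalkMapₗ (RefHull.bidualMap F) x v) = RefHull.bidualAt F x v := by
  obtain ⟨U, hx, s, rfl⟩ := TopCat.Presheaf.exists_germ_eq F.presheaf v
  rw [RefHull.stalkMapₗ_germ, RefHull.evalStalk_germ]
  exact RefHull.bidualMap_app_apply F s ⟨x, hx⟩

section algebra

variable {R M D O' : Type*} [CommRing R] [AddCommGroup M] [Module R M] [AddCommGroup D]
  [Module R D] [AddCommGroup O'] [Module R O']

/-- biduality through an identification of the dual -/
theorem bijective_iff_eval (e : D ≃ₗ[R] (M →ₗ[R] O')) (ε : R ≃ₗ[R] O')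
    (b : M →ₗ[R] (D →ₗ[R] O')) (hb : ∀ v θ, b v θ = e θ v) :
    Function.Bijective b ↔ Function.Bijective (Module.Dual.eval R M) := by
  let e' : D ≃ₗ[R] Module.Dual R M := e.trans (LinearEquiv.congrRight ε.symm)
  let Φ : Module.Dual R (Module.Dual R M) ≃ₗ[R] (D →ₗ[R] O') := LinearEquiv.arrowCongr e'.symm ε
  have hcomp : ∀ v, b v = Φ (Module.Dual.eval R M v) := by
    intro v
    apply LinearMap.ext
    intro θ
    rw [hb]
    change _ = ε ((Module.Dual.eval R M v) (e'.symm.symm θ))
    rw [LinearEquiv.symm_symm, Module.Dual.eval_apply]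
    change _ = ε (ε.symm (e θ v))
    rw [LinearEquiv.apply_symm_apply]
  have hb' : (b : M → (D →ₗ[R] O')) = Φ ∘ Module.Dual.eval R M := funext hcomp
  rw [hb']
  exact ⟨fun h => (Function.Bijective.of_comp_iff' Φ.bijective _).1 h,
    fun h => Φ.bijective.comp h⟩

end algebra

/-- for `F` and `F^*` finitely presented: the biduality map is bijective on the stalk at `x` iff
the stalk `F_x` is a reflexive module -/
theorem bijective_stalkMap_bidualMap_iff (hF : CohB1.IsFP F) (hD : CohB1.IsFP (RefHull.dual F))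
    (x : X) :
    Function.Bijective (RefHull.stalkMapₗ (RefHull.bidualMap F) x) ↔ RefHull.IsReflexiveAt F x := by
  let E2 := LinearEquiv.ofBijective
    (RefHull.evalStalk (RefHull.dual F) (Coh.structureModule X) x) (evalStalk_bijective hD x)
  let E1 := LinearEquiv.ofBijective
    (RefHull.evalStalk F (Coh.structureModule X) x) (evalStalk_bijective hF x)
  have h1 : (RefHull.bidualAt F x : F.presheaf.stalk x → _) =
      E2 ∘ RefHull.stalkMapₗ (RefHull.bidualMap F) x := by
    funext v
    exact (evalStalk_stalkMap_bidualMap F x v).symm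
  have h2 : Function.Bijective (RefHull.stalkMapₗ (RefHull.bidualMap F) x) ↔
      Function.Bijective (RefHull.bidualAt F x) := by
    rw [h1]
    exact ⟨fun h => E2.bijective.comp h,
      fun h => (Function.Bijective.of_comp_iff' E2.bijective _).1 h⟩
  rw [h2, bijective_iff_eval E1 (Groth.Agent.Lib.Helper29.QCohLoc.stalkEquiv X x)
    (RefHull.bidualAt F x) (fun v θ => RefHull.bidualAt_apply F x v θ)]
  exact ⟨fun h => ⟨h⟩, fun h => h.1⟩

/-- on a locally Noetherian scheme a coherent module is reflexive iff all its stalks are -/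
theorem isReflexive_iff_forall_isReflexiveAt [IsLocallyNoetherian X] (hF : Coh.IsCoh F) :
    RefHull.IsReflexive F ↔ ∀ x : X, RefHull.IsReflexiveAt F x := by
  unfold RefHull.IsReflexive
  rw [isIso_iff_forall_bijective]
  exact forall_congr' fun x =>
    bijective_stalkMap_bidualMap_iff (isFP_of_isCoh hF) (isFP_of_isCoh (isCoh_dual hF)) x

/-- **S16080** (integrality is not needed) -/
theorem isReflexive_tfae [IsLocallyNoetherian X] (hF : Coh.IsCoh F) :
    [RefHull.IsReflexive F, ∀ x : X, RefHull.IsReflexiveAt F x,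
      ∀ x : X, IsClosed ({x} : Set X) → RefHull.IsReflexiveAt F x].TFAE := by
  tfae_have 1 ↔ 2 := isReflexive_iff_forall_isReflexiveAt hF
  tfae_have 2 → 3 := fun h x _ => h x
  tfae_have 3 → 2 := by
    intro h
    have hopen : IsOpen {x : X | Function.Bijective
        (RefHull.stalkMapₗ (RefHull.bidualMap F) x)} := by
      haveI : F.IsQuasicoherent := hF.1
      haveI : SheafOfModules.IsFiniteType (R := X.ringCatSheaf) F := hF.2
      haveI : (RefHull.ddual F).IsQuasicoherent := (isCoh_ddual hF).1
      haveI : SheafOfModules.IsFiniteType (R := X.ringCatSheaf) (RefHull.ddual F) :=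
        (isCoh_ddual hF).2
      exact Groth.Agent.Lib.Helper21.IsoLocusGen.isOpen_bijLocus F (RefHull.ddual F)
        (RefHull.bidualMap F)
    intro x
    obtain ⟨y, hxy, hy⟩ := Groth.Agent.Lib.Helper11.ClosedPoint.exists_specializes_isClosed X x
    have hy' : y ∈ {x : X | Function.Bijective (RefHull.stalkMapₗ (RefHull.bidualMap F) x)} :=
      (bijective_stalkMap_bidualMap_iff (isFP_of_isCoh hF)
        (isFP_of_isCoh (isCoh_dual hF)) y).2 (h y hy)
    have hx' := hxy.mem_open hopen hy'
    exact (bijective_stalkMap_bidualMap_iff (isFP_of_isCoh hF)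
      (isFP_of_isCoh (isCoh_dual hF)) x).1 hx'
  tfae_finish

end Groth.Agent.Lib.Helper64.HomSh
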