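import Mathlib

/-!
# Reflexive modules over domains: duals of finite modules are reflexive (helper64)

* `DualExt R P`: linear forms on submodules of `P` extend to `P` after multiplication by a nonzero
  scalar (`dualExt_self`, `DualExt.prod`, `DualExt.of_equiv`, `dualExt_pi_fin`,
  `dualExt_dual_pi_fin`), over a domain `R`.
* `exists_smul_eq_eval`: for `Q` finite over a domain, the cokernel of `Q → Q^**` is torsion.
* `isReflexive_dual`: `Q^*` is reflexive for `Q` finite over a domain.
* `isReflexive_hom`: `Hom(M, N)` is reflexive for `M, N` finite over a Noetherian domain with `N`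
  reflexive.
-/

set_option autoImplicit false
set_option linter.style.haveILetI false

namespace Groth.Agent.Lib.Helper64.ReflexiveAlg

open Module

variable {R : Type*} [CommRing R]

/-- linear forms on submodules extend after multiplication by a nonzero scalar -/
def DualExt (R : Type*) (P : Type*) [CommRing R] [AddCommGroup P] [Module R P] : Prop :=
  ∀ (L : Submodule R P) (ζ : L →ₗ[R] R), ∃ d : R, d ≠ 0 ∧ ∃ ψ : P →ₗ[R] R, ∀ l : L, d * ζ l = ψ l

theorem dualExt_of_subsingleton [Nontrivial R] (P : Type*) [AddCommGroup P] [Module R P]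
    [Subsingleton P] : DualExt R P := by
  intro L ζ
  refine ⟨1, one_ne_zero, 0, fun l => ?_⟩
  have : l = 0 := Subsingleton.elim _ _
  rw [this, map_zero, mul_zero, LinearMap.zero_apply]

theorem dualExt_self [IsDomain R] : DualExt R R := by
  intro L ζ
  by_cases h : ∃ a : L, (a : R) ≠ 0
  · obtain ⟨a, ha⟩ := h
    refine ⟨a, ha, LinearMap.toSpanSingleton R R (ζ a), fun l => ?_⟩
    rw [LinearMap.toSpanSingleton_apply, smul_eq_mul]
    have h1 : (a : R) • l = (l : R) • a := Subtype.ext (by simp [mul_comm])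
    have h2 := congrArg ζ h1
    rw [map_smul, map_smul, smul_eq_mul, smul_eq_mul] at h2
    exact h2
  · push Not at h
    refine ⟨1, one_ne_zero, 0, fun l => ?_⟩
    have : l = 0 := Subtype.ext (h l)
    rw [this, map_zero, mul_zero, LinearMap.zero_apply]

theorem DualExt.of_equiv {P P' : Type*} [AddCommGroup P] [Module R P] [AddCommGroup P']
    [Module R P'] (e : P ≃ₗ[R] P') (h : DualExt R P) : DualExt R P' := by
  intro L' ζ'
  let L : Submodule R P := L'.comap e.toLinearMap
  let f : L →ₗ[R] L' := (e.toLinearMap.domRestrict L).codRestrict L' (fun l => l.2)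
  obtain ⟨d, hd, ψ, hψ⟩ := h L (ζ'.comp f)
  refine ⟨d, hd, ψ.comp e.symm.toLinearMap, fun l' => ?_⟩
  have hmem : e.symm (l' : P') ∈ L := by
    change e (e.symm (l' : P')) ∈ L'
    rw [LinearEquiv.apply_symm_apply]
    exact l'.2
  have h1 := hψ ⟨e.symm (l' : P'), hmem⟩
  have h2 : f ⟨e.symm (l' : P'), hmem⟩ = l' := Subtype.ext (e.apply_symm_apply _)
  rw [LinearMap.comp_apply, h2] at h1
  exact h1

theorem DualExt.prod [IsDomain R] {P1 P2 : Type*} [AddCommGroup P1] [Module R P1]
    [AddCommGroup P2] [Module R P2] (h1 : DualExt R P1) (h2 : DualExt R P2) :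
    DualExt R (P1 × P2) := by
  intro L ζ
  -- the part of `L` inside `P1 × 0`
  let L1 : Submodule R P1 := L.comap (LinearMap.inl R P1 P2)
  let i1 : L1 →ₗ[R] L := ((LinearMap.inl R P1 P2).domRestrict L1).codRestrict L (fun l => l.2)
  obtain ⟨d1, hd1, ψ1, hψ1⟩ := h1 L1 (ζ.comp i1)
  -- the corrected form vanishes on `L ∩ (P1 × 0)`
  let ζ' : L →ₗ[R] R := d1 • ζ - (ψ1.comp (LinearMap.fst R P1 P2)).comp L.subtype
  let L2 : Submodule R P2 := L.map (LinearMap.snd R P1 P2)
  let p2 : L →ₗ[R] L2 := ((LinearMap.snd R P1 P2).domRestrict L).codRestrict L2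
    (fun l => ⟨l, l.2, rfl⟩)
  have hp2 : Function.Surjective p2 := by
    rintro ⟨_, l, hl, rfl⟩
    exact ⟨⟨l, hl⟩, rfl⟩
  have hker : LinearMap.ker p2 ≤ LinearMap.ker ζ' := by
    intro l hl
    rw [LinearMap.mem_ker] at hl ⊢
    have hl2 : (l : P1 × P2).2 = 0 := congrArg Subtype.val hl
    have hmem : (l : P1 × P2).1 ∈ L1 := by
      change ((l : P1 × P2).1, (0 : P2)) ∈ L
      rw [← hl2]
      exact l.2
    have h3 := hψ1 ⟨(l : P1 × P2).1, hmem⟩
    have h4 : i1 ⟨(l : P1 × P2).1, hmem⟩ = l := by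
      apply Subtype.ext
      change ((l : P1 × P2).1, (0 : P2)) = (l : P1 × P2)
      rw [← hl2]
    rw [LinearMap.comp_apply, h4] at h3
    change d1 • ζ l - ψ1 (l : P1 × P2).1 = 0
    rw [smul_eq_mul, h3, sub_self]
  let ζ2 : L2 →ₗ[R] R :=
    ((LinearMap.ker p2).liftQ ζ' hker).comp (p2.quotKerEquivOfSurjective hp2).symm.toLinearMap
  have hζ2 : ∀ l : L, ζ2 (p2 l) = ζ' l := by
    intro l
    change ((LinearMap.ker p2).liftQ ζ' hker) ((p2.quotKerEquivOfSurjective hp2).symm (p2 l)) = _
    have e3 : (p2.quotKerEquivOfSurjective hp2).symm (p2 l) = Submodule.Quotient.mk l := by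
      rw [LinearEquiv.symm_apply_eq]
      rfl
    rw [e3]
    rfl
  obtain ⟨d2, hd2, ψ2, hψ2⟩ := h2 L2 ζ2
  refine ⟨d2 * d1, mul_ne_zero hd2 hd1,
    d2 • ψ1.comp (LinearMap.fst R P1 P2) + ψ2.comp (LinearMap.snd R P1 P2), fun l => ?_⟩
  have h5 := hψ2 (p2 l)
  rw [hζ2] at h5
  change d2 * (d1 • ζ l - ψ1 (l : P1 × P2).1) = ψ2 (l : P1 × P2).2 at h5
  change d2 * d1 * ζ l = d2 • ψ1 (l : P1 × P2).1 + ψ2 (l : P1 × P2).2
  rw [← h5, smul_eq_mul, smul_eq_mul]
  ring

theorem dualExt_pi_fin [IsDomain R] (n : ℕ) : DualExt R (Fin n → R) := by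
  induction n with
  | zero => exact dualExt_of_subsingleton _
  | succ n ih =>
    exact DualExt.of_equiv (Fin.consLinearEquiv R (fun _ : Fin (n + 1) => R))
      (DualExt.prod dualExt_self ih)

theorem dualExt_dual_pi_fin [IsDomain R] (n : ℕ) : DualExt R (Dual R (Fin n → R)) :=
  DualExt.of_equiv (Pi.basisFun R (Fin n)).toDualEquiv (dualExt_pi_fin n)

/-- the cokernel of `Q → Q^**` is torsion for `Q` finite over a domain -/
theorem exists_smul_eq_eval [IsDomain R] {Q : Type*} [AddCommGroup Q] [Module R Q]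
    [Module.Finite R Q] (ζ : Dual R (Dual R Q)) :
    ∃ d : R, d ≠ 0 ∧ ∃ q : Q, d • ζ = Dual.eval R Q q := by
  obtain ⟨n, π, hπ⟩ := Module.Finite.exists_fin' R Q
  have hinj : Function.Injective π.dualMap := LinearMap.dualMap_injective_of_surjective hπ
  let e : Dual R Q ≃ₗ[R] LinearMap.range π.dualMap := LinearEquiv.ofInjective π.dualMap hinj
  obtain ⟨d, hd, ψ, hψ⟩ := dualExt_dual_pi_fin (R := R) n (LinearMap.range π.dualMap)
    (ζ.comp e.symm.toLinearMap)
  obtain ⟨p, hp⟩ := (Module.evalEquiv R (Fin n → R)).surjective ψ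
  refine ⟨d, hd, π p, ?_⟩
  apply LinearMap.ext
  intro φ
  have h1 := hψ (e φ)
  rw [LinearMap.comp_apply, LinearEquiv.coe_coe, LinearEquiv.symm_apply_apply] at h1
  rw [LinearMap.smul_apply, smul_eq_mul, h1, ← hp]
  rfl

/-- the dual of a finite module over a domain is reflexive -/
theorem isReflexive_dual [IsDomain R] (Q : Type*) [AddCommGroup Q] [Module R Q]
    [Module.Finite R Q] : Module.IsReflexive R (Dual R Q) := by
  refine ⟨⟨?_, ?_⟩⟩
  · rw [injective_iff_map_eq_zero]
    intro φ hφ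
    apply LinearMap.ext
    intro q
    have := LinearMap.congr_fun hφ (Dual.eval R Q q)
    simpa using this
  · intro ξ
    refine ⟨ξ.comp (Dual.eval R Q), ?_⟩
    apply LinearMap.ext
    intro ζ
    obtain ⟨d, hd, q, hq⟩ := exists_smul_eq_eval ζ
    have h1 : d * (Dual.eval R (Dual R Q) (ξ.comp (Dual.eval R Q)) ζ) = d * ξ ζ := by
      have h2 : d * ξ ζ = ξ (Dual.eval R Q q) := by
        rw [← hq, map_smul, smul_eq_mul]
      have h3 : d * (Dual.eval R (Dual R Q) (ξ.comp (Dual.eval R Q)) ζ) =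
          (d • ζ) (ξ.comp (Dual.eval R Q)) := by
        rw [Dual.eval_apply, LinearMap.smul_apply, smul_eq_mul]
      rw [h2, h3, hq]
      rfl
    exact mul_left_cancel₀ hd h1

/-- the dual of a finite module over a Noetherian ring is finite -/
theorem finite_dual [IsNoetherianRing R] (N : Type*) [AddCommGroup N] [Module R N]
    [Module.Finite R N] : Module.Finite R (Dual R N) := by
  obtain ⟨n, π, hπ⟩ := Module.Finite.exists_fin' R N
  exact Module.Finite.of_injective π.dualMap (LinearMap.dualMap_injective_of_surjective hπ)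

/-- `Hom(M, N)` is reflexive for finite `M`, `N` over a Noetherian domain with `N` reflexive -/
theorem isReflexive_hom [IsDomain R] [IsNoetherianRing R] (M N : Type*) [AddCommGroup M]
    [Module R M] [AddCommGroup N] [Module R N] [Module.Finite R M] [Module.Finite R N]
    [Module.IsReflexive R N] : Module.IsReflexive R (M →ₗ[R] N) := by
  haveI := finite_dual (R := R) N
  haveI := isReflexive_dual (R := R) (TensorProduct R M (Dual R N))
  let e : (M →ₗ[R] N) ≃ₗ[R] Dual R (TensorProduct R M (Dual R N)) :=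
    (LinearEquiv.congrRight (Module.evalEquiv R N)).trans
      (TensorProduct.lift.equiv (RingHom.id R) M (Dual R N) R)
  exact Module.equiv e.symm

end Groth.Agent.Lib.Helper64.ReflexiveAlg
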