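import Mathlib
import Groth.Agent.Lib.Helper64.HomSh4
import Groth.Agent.Lib.Helper64.ReflexiveAlg
import Groth.Agent.Lib.Lead.CohAff4

/-!
# The sheaf Hom into a reflexive module is reflexive; duals are reflexive (helper64)

* `stalkHomEquiv`: `(homSh F G)_x ≃ₗ Hom(F_x, G_x)` for `F` finitely presented.
* `isReflexive_homSh` (= S16081), `isReflexive_dual`.
-/

set_option autoImplicit false
set_option linter.style.haveILetI false
universe u

open AlgebraicGeometry CategoryTheory Opposite TopologicalSpace

namespace Groth.Agent.Lib.Helper64.HomSh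

variable {X : Scheme.{u}} {F G : X.Modules}

/-- the stalk of the sheaf Hom out of a finitely presented module -/
noncomputable def stalkHomEquiv (hF : CohB1.IsFP F) (x : X) :
    (RefHull.homSh F G).presheaf.stalk x ≃ₗ[X.presheaf.stalk x] RefHull.StalkHom F G x :=
  LinearEquiv.ofBijective (RefHull.evalStalk F G x) (evalStalk_bijective hF x)

theorem isReflexiveAt_homSh [IsIntegral X] [IsLocallyNoetherian X] (hF : Coh.IsCoh F)
    (hG : Coh.IsCoh G) (x : X) (hGx : RefHull.IsReflexiveAt G x) :
    RefHull.IsReflexiveAt (RefHull.homSh F G) x := by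
  haveI : Module.IsReflexive (X.presheaf.stalk x) (G.presheaf.stalk x) := hGx
  haveI : Module.Finite (X.presheaf.stalk x) (F.presheaf.stalk x) :=
    Groth.Agent.Lib.Helper64.FinTypeStalk.finite_stalk F hF.2 x
  haveI : Module.Finite (X.presheaf.stalk x) (G.presheaf.stalk x) :=
    Groth.Agent.Lib.Helper64.FinTypeStalk.finite_stalk G hG.2 x
  haveI := Groth.Agent.Lib.Helper64.ReflexiveAlg.isReflexive_hom (R := X.presheaf.stalk x)
    (F.presheaf.stalk x) (G.presheaf.stalk x)
  exact Module.equiv (stalkHomEquiv (G := G) (isFP_of_isCoh hF) x).symm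

/-- **S16081** -/
theorem isReflexive_homSh [IsIntegral X] [IsLocallyNoetherian X] (hF : Coh.IsCoh F)
    (hG : Coh.IsCoh G) (hGr : RefHull.IsReflexive G) :
    RefHull.IsReflexive (RefHull.homSh F G) := by
  rw [isReflexive_iff_forall_isReflexiveAt (isCoh_homSh hF hG)]
  intro x
  exact isReflexiveAt_homSh hF hG x ((isReflexive_iff_forall_isReflexiveAt hG).1 hGr x)

/-- the stalks of the structure module are reflexive -/
theorem isReflexiveAt_structureModule (x : X) :
    RefHull.IsReflexiveAt (Coh.structureModule X) x :=
  Module.equiv (Groth.Agent.Lib.Helper29.QCohLoc.stalkEquiv X x)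

theorem isReflexive_structureModule [IsLocallyNoetherian X] :
    RefHull.IsReflexive (Coh.structureModule X) := by
  rw [isReflexive_iff_forall_isReflexiveAt (isCoh_structureModule X)]
  exact isReflexiveAt_structureModule

/-- duals of coherent modules on integral locally Noetherian schemes are reflexive -/
theorem isReflexive_dual [IsIntegral X] [IsLocallyNoetherian X] (hF : Coh.IsCoh F) :
    RefHull.IsReflexive (RefHull.dual F) :=
  isReflexive_homSh hF (isCoh_structureModule X) isReflexive_structureModule

end Groth.Agent.Lib.Helper64.HomSh
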