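import Mathlib

/-!
# Hartogs-type extension: the abstract algebraic core (elementwise form)

`φ : M → N` linear over a Noetherian ring `A`.  Injectivity and surjectivity of `φ` are deduced
from conditions at every prime `p`, phrased elementwise (no localized modules), so that they can
be verified both for `LocalizedModule` and for stalks of sheaves of modules on schemes.
-/

set_option autoImplicit false

namespace Groth.Agent.Lib.Helper64.HartogsCore

variable {A M N : Type*} [CommRing A] [IsNoetherianRing A] [AddCommGroup M] [Module A M]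
  [AddCommGroup N] [Module A N]

/-- Injectivity: at every prime `p`, either `φ` is "injective at `p`", or there is `a ∈ p` which is
a nonzerodivisor on `M_p`. -/
theorem injective_of_forall_prime (φ : M →ₗ[A] N)
    (h : ∀ (p : Ideal A), p.IsPrime →
      (∀ m : M, φ m = 0 → ∃ f, f ∉ p ∧ f • m = 0) ∨
      (∃ a ∈ p, ∀ m : M, a • m = 0 → ∃ e, e ∉ p ∧ e • m = 0)) :
    Function.Injective φ := by
  rw [injective_iff_map_eq_zero]
  intro m hm
  by_contra hne
  let k : LinearMap.ker φ := ⟨m, hm⟩
  have hk : k ≠ 0 := fun h0 => hne (congrArg Subtype.val h0)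
  obtain ⟨P, hP, -⟩ := exists_le_isAssociatedPrime_of_isNoetherianRing A k hk
  rw [isAssociatedPrime_iff] at hP
  obtain ⟨hPprime, ⟨k', hk'⟩⟩ := hP
  have hmemP : ∀ r : A, r ∈ P ↔ r • (k' : M) = 0 := by
    intro r
    rw [hk', Submodule.mem_colon_singleton, Submodule.mem_bot]
    constructor
    · intro h0
      have := congrArg Subtype.val h0
      simpa using this
    · intro h0
      apply Subtype.ext
      simpa using h0
  rcases h P hPprime with h1 | ⟨a, haP, h2⟩
  · obtain ⟨f, hfP, hf⟩ := h1 k' k'.2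
    exact hfP ((hmemP f).2 hf)
  · obtain ⟨e, heP, he⟩ := h2 k' ((hmemP a).1 haP)
    exact heP ((hmemP e).2 he)

/-- Surjectivity: `φ` injective; at every prime `p`, either `φ` is "surjective at `p`", or
`p` is not the annihilator of an element of `N` and there are `a b ∈ p` forming a regular
sequence on `M_p` (elementwise form). -/
theorem surjective_of_forall_prime (φ : M →ₗ[A] N) (hinj : Function.Injective φ)
    (h : ∀ (p : Ideal A), p.IsPrime →
      (∀ t : N, ∃ f, f ∉ p ∧ f • t ∈ LinearMap.range φ) ∨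
      ((∀ t : N, (∀ c ∈ p, c • t = 0) → ∃ e, e ∉ p ∧ e • t = 0) ∧ ∃ a ∈ p, ∃ b ∈ p,
        (∀ m : M, a • m = 0 → ∃ e, e ∉ p ∧ e • m = 0) ∧
        (∀ m1 m2 : M, b • m1 = a • m2 → ∃ c, c ∉ p ∧ ∃ m' : M, c • m1 = a • m'))) :
    Function.Surjective φ := by
  rw [← LinearMap.range_eq_top]
  by_contra hne
  obtain ⟨s0, hs0⟩ : ∃ s0 : N, s0 ∉ LinearMap.range φ := by
    by_contra hall
    push Not at hall
    exact hne (eq_top_iff.2 fun x _ => hall x)
  let R := LinearMap.range φ
  have hq0 : (R.mkQ s0) ≠ 0 := by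
    intro h0
    exact hs0 ((Submodule.Quotient.mk_eq_zero R).1 h0)
  obtain ⟨P, hP, -⟩ := exists_le_isAssociatedPrime_of_isNoetherianRing A (R.mkQ s0) hq0
  rw [isAssociatedPrime_iff] at hP
  obtain ⟨hPprime, ⟨q', hq'⟩⟩ := hP
  obtain ⟨s, rfl⟩ := R.mkQ_surjective q'
  have hmemP : ∀ r : A, r ∈ P ↔ r • s ∈ R := by
    intro r
    rw [hq', Submodule.mem_colon_singleton, Submodule.mem_bot, ← map_smul, Submodule.mkQ_apply,
      Submodule.Quotient.mk_eq_zero]
  rcases h P hPprime with h1 | ⟨hb1, a, haP, b, hbP, hreg1, hreg2⟩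
  · obtain ⟨f, hfP, hf⟩ := h1 s
    exact hfP ((hmemP f).2 hf)
  · obtain ⟨m1, hm1⟩ := (hmemP a).1 haP
    obtain ⟨m2, hm2⟩ := (hmemP b).1 hbP
    have hbm : b • m1 = a • m2 := by
      apply hinj
      rw [map_smul, map_smul, hm1, hm2, smul_smul, smul_smul, mul_comm]
    obtain ⟨c, hcP, m', hm'⟩ := hreg2 m1 m2 hbm
    -- t := c s - φ m'
    set t : N := c • s - φ m' with ht
    have hat : a • t = 0 := by
      rw [ht, smul_sub, smul_comm a c s, ← hm1, ← map_smul, ← map_smul, ← map_sub, hm',
        sub_self, map_zero]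
    -- for d ∈ P : some e ∉ P kills d • t
    have hd : ∀ d ∈ P, ∃ e, e ∉ P ∧ e • d • t = 0 := by
      intro d hdP
      obtain ⟨md, hmd⟩ := (hmemP d).1 hdP
      have h1 : d • t = φ (c • md - d • m') := by
        rw [ht, smul_sub, map_sub, map_smul, map_smul, hmd, smul_comm d c s]
      have h2 : a • (c • md - d • m') = 0 := by
        apply hinj
        rw [map_smul, ← h1, map_zero, smul_comm, hat, smul_zero]
      obtain ⟨e, heP, he⟩ := hreg1 _ h2
      refine ⟨e, heP, ?_⟩
      rw [h1, ← map_smul, he, map_zero]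
    obtain ⟨S, hS⟩ := (isNoetherianRing_iff_ideal_fg A).1 inferInstance P
    choose! e heP he using hd
    have hSP : ∀ d ∈ S, d ∈ P := fun d hd => hS ▸ Ideal.subset_span hd
    let E : A := ∏ d ∈ S, e d
    have hEP : E ∉ P := by
      intro hE
      obtain ⟨d, hdS, hd⟩ := (hPprime.prod_mem_iff).1 hE
      exact heP d (hSP d hdS) hd
    have hEd : ∀ d ∈ S, d • (E • t) = 0 := by
      intro d hdS
      obtain ⟨r, hr⟩ : e d ∣ E := Finset.dvd_prod_of_mem e hdS
      rw [smul_comm, hr, mul_comm, mul_smul, he d (hSP d hdS), smul_zero]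
    have hEall : ∀ d ∈ P, d • (E • t) = 0 := by
      intro d hdP
      have hle : Ideal.span (S : Set A) ≤ LinearMap.ker (LinearMap.toSpanSingleton A N (E • t)) := by
        rw [Ideal.span_le]
        intro d hdS
        simpa using hEd d hdS
      have := hle (hS.symm ▸ hdP)
      simpa using this
    obtain ⟨e', he'P, he'⟩ := hb1 (E • t) hEall
    have hfin : (e' * E * c) • s ∈ R := by
      refine ⟨(e' * E) • m', ?_⟩
      have : (e' * E) • t = 0 := by rw [mul_smul, he']
      rw [ht, smul_sub, sub_eq_zero] at this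
      rw [map_smul, ← this, mul_smul (e' * E) c s]
    have := (hmemP _).2 hfin
    rcases hPprime.mem_or_mem this with h3 | h3
    · rcases hPprime.mem_or_mem h3 with h4 | h4
      · exact he'P h4
      · exact hEP h4
    · exact hcP h3

end Groth.Agent.Lib.Helper64.HartogsCore
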