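import Mathlib

/-!
# Gluing lemma: bijectivity of `F(V) → F(V ⊓ U)` can be checked on a basis
-/

set_option autoImplicit false
universe x v w

open CategoryTheory Opposite TopologicalSpace TopCat

namespace Groth.Agent.Lib.Helper64.HartogsGlue

variable {C : Type w} [Category.{v} C] {FC : C → C → Type*} {CC : C → Type*}
  [∀ X Y, FunLike (FC X Y) (CC X) (CC Y)] [ConcreteCategory C FC]
  [Limits.HasLimitsOfSize.{x, x} C] [(CategoryTheory.forget C).ReflectsIsomorphisms]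
  [Limits.PreservesLimitsOfSize.{x, x} (CategoryTheory.forget C)]
  {X : TopCat.{x}} (F : TopCat.Sheaf C X)

theorem res_res {U V W : Opens X} (f : U ⟶ V) (g : V ⟶ W) (h : U ⟶ W) (s : ToType (F.1.obj (op W))) :
    F.1.map f.op (F.1.map g.op s) = F.1.map h.op s := by
  rw [← ConcreteCategory.comp_apply, ← F.1.map_comp, ← op_comp]
  rfl

theorem bijective_res_inf_of_basis (U : Opens X) (B : Set (Opens X)) (hB : Opens.IsBasis B)
    (h : ∀ V ∈ B, Function.Bijective (F.1.map (homOfLE (inf_le_left : V ⊓ U ≤ V)).op))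
    (V : Opens X) : Function.Bijective (F.1.map (homOfLE (inf_le_left : V ⊓ U ≤ V)).op) := by
  -- injectivity for an arbitrary open
  have hinj : ∀ V : Opens X, Function.Injective (F.1.map (homOfLE (inf_le_left : V ⊓ U ≤ V)).op) := by
    intro V s s' hss
    let ι := {W : Opens X // W ∈ B ∧ W ≤ V}
    have hcover : V ≤ ⨆ i : ι, i.1 := by
      intro x hx
      obtain ⟨W, hWB, hxW, hWV⟩ := Opens.isBasis_iff_nbhd.1 hB hx
      exact Opens.mem_iSup.2 ⟨⟨W, hWB, hWV⟩, hxW⟩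
    refine F.eq_of_locally_eq' (fun i : ι => i.1) V (fun i => homOfLE i.2.2) hcover s s' ?_
    intro i
    apply (h i.1 i.2.1).1
    rw [res_res F _ _ (homOfLE (inf_le_left.trans i.2.2) : i.1 ⊓ U ⟶ V),
      res_res F _ _ (homOfLE (inf_le_left.trans i.2.2) : i.1 ⊓ U ⟶ V),
      ← res_res F (homOfLE (inf_le_inf_right U i.2.2) : i.1 ⊓ U ⟶ V ⊓ U)
        (homOfLE inf_le_left : V ⊓ U ⟶ V), hss, res_res]
  refine ⟨hinj V, ?_⟩
  intro t
  let ι := {W : Opens X // W ∈ B ∧ W ≤ V}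
  have hcover : V ≤ ⨆ i : ι, i.1 := by
    intro x hx
    obtain ⟨W, hWB, hxW, hWV⟩ := Opens.isBasis_iff_nbhd.1 hB hx
    exact Opens.mem_iSup.2 ⟨⟨W, hWB, hWV⟩, hxW⟩
  have hex : ∀ i : ι, ∃ s : ToType (F.1.obj (op i.1)),
      F.1.map (homOfLE (inf_le_left : i.1 ⊓ U ≤ i.1)).op s =
        F.1.map (homOfLE (inf_le_inf_right U i.2.2) : i.1 ⊓ U ⟶ V ⊓ U).op t :=
    fun i => (h i.1 i.2.1).2 _
  choose sf hsf using hex
  have hcompat : TopCat.Presheaf.IsCompatible F.1 (fun i : ι => i.1) sf := by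
    intro i j
    -- check on basis elements inside the intersection
    let κ := {W : Opens X // W ∈ B ∧ W ≤ i.1 ⊓ j.1}
    have hcov2 : i.1 ⊓ j.1 ≤ ⨆ k : κ, k.1 := by
      intro x hx
      obtain ⟨W, hWB, hxW, hWV⟩ := Opens.isBasis_iff_nbhd.1 hB hx
      exact Opens.mem_iSup.2 ⟨⟨W, hWB, hWV⟩, hxW⟩
    refine F.eq_of_locally_eq' (fun k : κ => k.1) _ (fun k => homOfLE k.2.2) hcov2 _ _ ?_
    intro k
    apply (h k.1 k.2.1).1
    have hki : k.1 ≤ i.1 := k.2.2.trans inf_le_left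
    have hkj : k.1 ≤ j.1 := k.2.2.trans inf_le_right
    rw [res_res F _ _ (homOfLE hki : k.1 ⟶ i.1), res_res F _ _ (homOfLE hkj : k.1 ⟶ j.1),
      res_res F _ _ (homOfLE (inf_le_left.trans hki) : k.1 ⊓ U ⟶ i.1),
      res_res F _ _ (homOfLE (inf_le_left.trans hkj) : k.1 ⊓ U ⟶ j.1),
      ← res_res F (homOfLE (inf_le_inf_right U hki) : k.1 ⊓ U ⟶ i.1 ⊓ U)
        (homOfLE inf_le_left : i.1 ⊓ U ⟶ i.1), hsf i,
      ← res_res F (homOfLE (inf_le_inf_right U hkj) : k.1 ⊓ U ⟶ j.1 ⊓ U)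
        (homOfLE inf_le_left : j.1 ⊓ U ⟶ j.1), hsf j, res_res F _ _
        (homOfLE (inf_le_inf_right U (hki.trans i.2.2)) : k.1 ⊓ U ⟶ V ⊓ U), res_res]
  obtain ⟨s, hs, -⟩ := F.existsUnique_gluing' (fun i : ι => i.1) V (fun i => homOfLE i.2.2) hcover
    sf hcompat
  refine ⟨s, ?_⟩
  -- check on the cover `i ⊓ U` of `V ⊓ U`
  have hcov3 : V ⊓ U ≤ ⨆ i : ι, i.1 ⊓ U := by
    intro x hx
    obtain ⟨i, hi⟩ := Opens.mem_iSup.1 (hcover hx.1)
    exact Opens.mem_iSup.2 ⟨i, hi, hx.2⟩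
  refine F.eq_of_locally_eq' (fun i : ι => i.1 ⊓ U) _ (fun i => homOfLE (inf_le_inf_right U i.2.2))
    hcov3 _ _ ?_
  intro i
  rw [res_res F _ _ (homOfLE (inf_le_left.trans i.2.2) : i.1 ⊓ U ⟶ V),
    ← res_res F (homOfLE inf_le_left : i.1 ⊓ U ⟶ i.1) (homOfLE i.2.2 : i.1 ⟶ V), hs i, hsf i]

end Groth.Agent.Lib.Helper64.HartogsGlue
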