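import Mathlib
import Groth.Prelude.Def_CAlg
import Groth.Prelude.Def_Coh
import Groth.Prelude.Def_FlatMod2
import Groth.Agent.Lib.Helper64.HartogsCore
import Groth.Agent.Lib.Helper64.HartogsDepth
import Groth.Agent.Lib.Helper64.HartogsGlue
import Groth.Agent.Lib.Helper29.QCohLoc
import Groth.Agent.Lib.Helper29.QCohQcqs

/-!
# Hartogs extension for quasi-coherent modules on a locally Noetherian scheme
-/

set_option autoImplicit false
set_option linter.style.haveILetI false
universe u

open CategoryTheory Opposite TopologicalSpace AlgebraicGeometry IsLocalRing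

namespace Groth.Agent.Lib.Helper64.HartogsMod

open Groth.Agent.Lib.Helper29.QCohLoc

/-- A module over a local ring has an (elementwise) regular pair in the maximal ideal. -/
def HasRegPairMod (R : Type*) [CommRing R] [IsLocalRing R] (M : Type*) [AddCommGroup M]
    [Module R M] : Prop :=
  ∃ a ∈ maximalIdeal R, ∃ b ∈ maximalIdeal R,
    (∀ z : M, a • z = 0 → z = 0) ∧ (∀ z1 z2 : M, b • z1 = a • z2 → ∃ z', z1 = a • z')

theorem hasRegPairMod_of_two_le_depth {R : Type u} [CommRing R] [IsLocalRing R] {M : Type*}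
    [AddCommGroup M] [Module R M] [Module.Finite R M]
    (h : 2 ≤ LocCoh.depth R M) : HasRegPairMod R M :=
  HartogsDepth.exists_pair_of_two_le_depth h

/-- Transport of an elementwise regular pair along a "germ-like" map. -/
theorem exists_pair_of_germ {R : Type*} [CommRing R] (p : Ideal R) [hp : p.IsPrime]
    {Rp : Type*} [CommRing Rp] [Algebra R Rp] [IsLocalization.AtPrime Rp p] [IsLocalRing Rp]
    {M Mp : Type*} [AddCommGroup M] [Module R M] [AddCommGroup Mp] [Module Rp Mp]
    (g : M →+ Mp) (hg : ∀ (c : R) (m : M), g (c • m) = algebraMap R Rp c • g m)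
    (hZ : ∀ m, g m = 0 → ∃ e, e ∉ p ∧ e • m = 0)
    (hS : ∀ z : Mp, ∃ w, w ∉ p ∧ ∃ m, g m = algebraMap R Rp w • z)
    (h : HasRegPairMod Rp Mp) :
    ∃ a ∈ p, ∃ b ∈ p,
      (∀ m : M, a • m = 0 → ∃ e, e ∉ p ∧ e • m = 0) ∧
      (∀ m1 m2 : M, b • m1 = a • m2 → ∃ c, c ∉ p ∧ ∃ m' : M, c • m1 = a • m') := by
  obtain ⟨a0, ha0, b0, hb0, h1, h2⟩ := h
  obtain ⟨a, u, hau⟩ := IsLocalization.exists_mk'_eq p.primeCompl a0
  obtain ⟨b, v, hbv⟩ := IsLocalization.exists_mk'_eq p.primeCompl b0
  have hau' : algebraMap R Rp a = a0 * algebraMap R Rp u := by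
    rw [← hau, IsLocalization.mk'_spec]
  have hbv' : algebraMap R Rp b = b0 * algebraMap R Rp v := by
    rw [← hbv, IsLocalization.mk'_spec]
  have haP : a ∈ p := by
    rw [← IsLocalization.AtPrime.to_map_mem_maximal_iff Rp p a, hau']
    exact Ideal.mul_mem_right _ _ ha0
  have hbP : b ∈ p := by
    rw [← IsLocalization.AtPrime.to_map_mem_maximal_iff Rp p b, hbv']
    exact Ideal.mul_mem_right _ _ hb0
  refine ⟨a, haP, b, hbP, ?_, ?_⟩
  · intro m hm
    have h3 : a0 • (g (u.1 • m)) = 0 := by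
      rw [hg, smul_smul, ← hau', ← hg, hm, map_zero]
    obtain ⟨e, heP, he⟩ := hZ _ (h1 _ h3)
    refine ⟨e * u.1, ?_, by rw [mul_smul, he]⟩
    exact fun hmem => (hp.mem_or_mem hmem).elim heP u.2
  · intro m1 m2 h12
    have h3 : b0 • (g (v.1 • m1)) = a0 • (g (u.1 • m2)) := by
      rw [hg, hg, smul_smul, smul_smul, ← hau', ← hbv', ← hg, ← hg, h12]
    obtain ⟨z', hz'⟩ := h2 _ _ h3
    obtain ⟨w, hwP, m'', hw⟩ := hS z'
    have h4 : g ((u.1 * w * v.1) • m1 - a • m'') = 0 := by
      have e1 : g ((u.1 * w * v.1) • m1) = (algebraMap R Rp (u.1 * w) * a0) • z' := by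
        rw [mul_smul (u.1 * w) v.1 m1, hg, hz', smul_smul]
      have e2 : g (a • m'') = (algebraMap R Rp (u.1 * w) * a0) • z' := by
        rw [hg, hw, smul_smul, hau', map_mul]
        congr 1; ring
      rw [map_sub, e1, e2, sub_self]
    obtain ⟨e, heP, he⟩ := hZ _ h4
    refine ⟨e * (u.1 * w * v.1), ?_, e • m'', ?_⟩
    · intro hmem
      rcases hp.mem_or_mem hmem with h5 | h5
      · exact heP h5
      · rcases hp.mem_or_mem h5 with h6 | h6
        · rcases hp.mem_or_mem h6 with h7 | h7
          · exact u.2 h7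
          · exact hwP h7
        · exact v.2 h6
    · rw [smul_sub, sub_eq_zero] at he
      rw [mul_smul, he, smul_comm]

variable {X : Scheme.{u}} (F : X.Modules)

/-- Affine case. -/
theorem bijective_res_of_isAffineOpen (hloc : ∀ V : X.Opens, IsAffineOpen V → LocAt F V)
    {V : X.Opens} (hV : IsAffineOpen V)
    [IsNoetherianRing Γ(X, V)] (W : X.Opens) (hWV : W ≤ V)
    (hreg : ∀ x ∈ V, x ∉ W → HasRegPairMod (X.presheaf.stalk x) (F.presheaf.stalk x)) :
    Function.Bijective (F.presheaf.map (homOfLE hWV).op) := by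
  classical
  have hFV : LocAt F V := hloc V hV
  set ρ : Γ(X, V) →+* Γ(X, W) := (X.presheaf.map (homOfLE hWV).op).hom with hρ
  letI : Module Γ(X, V) Γ(F, W) := Module.compHom Γ(F, W) ρ
  let φ : Γ(F, V) →ₗ[Γ(X, V)] Γ(F, W) :=
    { toFun := F.presheaf.map (homOfLE hWV).op
      map_add' := fun a b => map_add _ a b
      map_smul' := fun a s => res_smul F hWV a s }
  have hφ : ∀ c, φ c = F.presheaf.map (homOfLE hWV).op c := fun c => rfl
  have hsmul : ∀ (c : Γ(X, V)) (t : Γ(F, W)), c • t = ρ c • t := fun c t => rfl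
  have hWcpt : IsCompact (W : Set X) := by
    haveI : NoetherianSpace ↥(V : Scheme.{u}) := noetherianSpace_of_isAffineOpen V hV
    have h1 : IsCompact (V.ι ⁻¹' (W : Set X)) := NoetherianSpace.isCompact _
    have h2 := h1.image V.ι.continuous
    rwa [Set.image_preimage_eq_inter_range, Scheme.Opens.range_ι, Set.inter_eq_left.2 hWV] at h2
  have key : ∀ (p : Ideal Γ(X, V)), p.IsPrime →
      ((∀ m, φ m = 0 → ∃ f, f ∉ p ∧ f • m = 0) ∧
        (∀ t : Γ(F, W), ∃ f, f ∉ p ∧ f • t ∈ LinearMap.range φ)) ∨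
      ((∀ t : Γ(F, W), (∀ c ∈ p, c • t = 0) → ∃ e, e ∉ p ∧ e • t = 0) ∧ ∃ a ∈ p, ∃ b ∈ p,
        (∀ m : Γ(F, V), a • m = 0 → ∃ e, e ∉ p ∧ e • m = 0) ∧
        (∀ m1 m2 : Γ(F, V), b • m1 = a • m2 → ∃ c, c ∉ p ∧ ∃ m' : Γ(F, V), c • m1 = a • m')) := by
    intro p hp
    obtain ⟨x, hxV, rfl⟩ := exists_point_of_prime hV p
    set p := (hV.primeIdealOf ⟨x, hxV⟩).asIdeal with hpdef
    letI : Algebra Γ(X, V) (X.presheaf.stalk x) :=
      TopCat.Presheaf.algebra_section_stalk X.presheaf ⟨x, hxV⟩
    haveI hloc' : IsLocalization.AtPrime (X.presheaf.stalk x) p :=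
      hV.isLocalization_stalk ⟨x, hxV⟩
    have halg : ∀ c : Γ(X, V), algebraMap Γ(X, V) (X.presheaf.stalk x) c =
        X.presheaf.germ V x hxV c := fun c => rfl
    have hnot : ∀ c : Γ(X, V), c ∉ p ↔ x ∈ X.basicOpen c := by
      intro c
      rw [hpdef, mem_primeIdealOf_iff hV x hxV c, not_not]
    by_cases hxW : x ∈ W
    · left
      constructor
      · intro m hm
        have h0 : F.presheaf.germ V x hxV m = 0 := by
          rw [← germ_res F V W hWV x hxW m]
          have : F.presheaf.map (homOfLE hWV).op m = 0 := hm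
          rw [this, map_zero]
        obtain ⟨a, hxa, ha⟩ := (germ_eq_zero_iff F hV hFV x hxV m).1 h0
        exact ⟨a, (hnot a).2 hxa, ha⟩
      · intro t
        obtain ⟨r, s, hxr, hrs⟩ := exists_germ_eq_smul F hV hFV x hxV (F.presheaf.germ W x hxW t)
        set t1 : Γ(F, W) := ρ r • t - F.presheaf.map (homOfLE hWV).op s with ht1
        have hg : F.presheaf.germ W x hxW t1 = F.presheaf.germ W x hxW 0 := by
          rw [ht1, map_sub, map_zero, sub_eq_zero, germ_smul, germ_res, hrs]
          congr 1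
          exact TopCat.Presheaf.germ_res_apply X.presheaf (homOfLE hWV) x hxW r
        obtain ⟨W', hxW', i1, i2, hres⟩ := TopCat.Presheaf.germ_eq F.presheaf x hxW hxW t1 0 hg
        rw [map_zero] at hres
        obtain ⟨h, hhW', hxh⟩ := hV.exists_basicOpen_le (⟨x, hxW'⟩ : W') hxV
        have hle : X.basicOpen (ρ h) ≤ W' := by
          have : X.basicOpen (ρ h) = W ⊓ X.basicOpen h := Scheme.basicOpen_res X h (homOfLE hWV).op
          rw [this]
          exact inf_le_right.trans hhW'
        have hzero : F.presheaf.map (homOfLE (X.basicOpen_le (ρ h))).op t1 = 0 := by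
          have : F.presheaf.map (homOfLE (X.basicOpen_le (ρ h))).op t1 =
              F.presheaf.map (homOfLE hle).op (F.presheaf.map i1.op t1) := by
            rw [← ConcreteCategory.comp_apply, ← F.presheaf.map_comp]
            rfl
          rw [this, hres, map_zero]
        obtain ⟨n, hn⟩ := kill_of_isCompact F hloc hWcpt (ρ h) t1 hzero
        have hhp : h ∉ p := (hnot h).2 hxh
        refine ⟨h ^ n * r, ?_, h ^ n • s, ?_⟩
        · intro hmem
          rcases hp.mem_or_mem hmem with h1 | h1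
          · exact hhp (hp.mem_of_pow_mem n h1)
          · exact (hnot r).2 hxr h1
        · rw [hφ, hsmul, map_mul, map_pow, res_smul, map_pow]
          rw [ht1, smul_sub, sub_eq_zero] at hn
          rw [mul_smul, hn]
    · right
      refine ⟨?_, ?_⟩
      · intro t ht
        refine ⟨1, fun h1 => hp.ne_top ((Ideal.eq_top_iff_one p).2 h1), ?_⟩
        rw [one_smul]
        refine section_ext' F t 0 ?_
        intro z hzW
        rw [map_zero]
        obtain ⟨h, hhW, hzh⟩ := hV.exists_basicOpen_le (⟨z, hzW⟩ : W) (hWV hzW)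
        have hhp : h ∈ p := by
          by_contra hcon
          exact hxW (hhW ((hnot h).1 hcon))
        have h0 := ht h hhp
        rw [hsmul] at h0
        have h1 : X.presheaf.germ W z hzW (ρ h) • F.presheaf.germ W z hzW t = 0 := by
          rw [← germ_smul, h0, map_zero]
        have e1 : X.presheaf.germ W z hzW (ρ h) = X.presheaf.germ V z (hWV hzW) h :=
          TopCat.Presheaf.germ_res_apply X.presheaf (homOfLE hWV) z hzW h
        have hunit : IsUnit (X.presheaf.germ V z (hWV hzW) h) :=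
          (X.mem_basicOpen h z (hWV hzW)).1 hzh
        rw [e1] at h1
        obtain ⟨uu, huu⟩ := hunit
        have : (↑uu⁻¹ : X.presheaf.stalk z) • (X.presheaf.germ V z (hWV hzW) h •
            F.presheaf.germ W z hzW t) = F.presheaf.germ W z hzW t := by
          rw [← mul_smul, ← huu, Units.inv_mul, one_smul]
        rw [← this, h1, smul_zero]
      · refine exists_pair_of_germ p (Rp := X.presheaf.stalk x)
          (F.presheaf.germ V x hxV).hom ?_ ?_ ?_ (hreg x hxV hxW)
        · intro c m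
          exact germ_smul F V x hxV c m
        · intro m hm
          obtain ⟨a, hxa, ha⟩ := (germ_eq_zero_iff F hV hFV x hxV m).1 hm
          exact ⟨a, (hnot a).2 hxa, ha⟩
        · intro z
          obtain ⟨r, s, hxr, hrs⟩ := exists_germ_eq_smul F hV hFV x hxV z
          exact ⟨r, (hnot r).2 hxr, s, hrs⟩
  have hinj : Function.Injective φ := by
    apply HartogsCore.injective_of_forall_prime
    intro p hp
    rcases key p hp with ⟨h1, -⟩ | ⟨-, a, haP, -, -, h1, -⟩
    · exact Or.inl h1
    · exact Or.inr ⟨a, haP, h1⟩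
  have hsurj : Function.Surjective φ := by
    apply HartogsCore.surjective_of_forall_prime φ hinj
    intro p hp
    rcases key p hp with ⟨-, h1⟩ | h2
    · exact Or.inl h1
    · exact Or.inr h2
  exact ⟨hinj, hsurj⟩

end Groth.Agent.Lib.Helper64.HartogsMod

namespace Groth.Agent.Lib.Helper64.HartogsMod

open Groth.Agent.Lib.Helper29.QCohLoc

variable {X : Scheme.{u}} (F : X.Modules)

/-- **Hartogs for quasi-coherent modules** (basic form). -/
theorem bijective_res_inf [IsLocallyNoetherian X]
    (hloc : ∀ V : X.Opens, IsAffineOpen V → LocAt F V) (U : X.Opens)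
    (hreg : ∀ x : X, x ∉ U → HasRegPairMod (X.presheaf.stalk x) (F.presheaf.stalk x))
    (V : X.Opens) :
    Function.Bijective (F.presheaf.map (homOfLE (inf_le_left : V ⊓ U ≤ V)).op) := by
  refine HartogsGlue.bijective_res_inf_of_basis (⟨F.presheaf, F.isSheaf⟩ : TopCat.Sheaf Ab X) U
    X.affineOpens X.isBasis_affineOpens ?_ V
  intro V' hV'
  haveI : IsNoetherianRing Γ(X, V') := IsLocallyNoetherian.component_noetherian ⟨V', hV'⟩
  exact bijective_res_of_isAffineOpen F hloc hV' (V' ⊓ U) inf_le_left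
    (fun x _ hx => hreg x (fun hxU => hx ⟨‹x ∈ V'›, hxU⟩))

/-- **Hartogs for quasi-coherent modules**: flexible form. -/
theorem bijective_res [IsLocallyNoetherian X]
    (hloc : ∀ V : X.Opens, IsAffineOpen V → LocAt F V) (U : X.Opens)
    (hreg : ∀ x : X, x ∉ U → HasRegPairMod (X.presheaf.stalk x) (F.presheaf.stalk x))
    {V W : X.Opens} (hWV : W ≤ V) (hW : W = V ⊓ U) :
    Function.Bijective (F.presheaf.map (homOfLE hWV).op) := by
  subst hW
  exact bijective_res_inf F hloc U hreg V

end Groth.Agent.Lib.Helper64.HartogsMod
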