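import Groth.Agent.Lib.Helper64.DepthOne
import Mathlib

/-!
# Stalks of an integral scheme as rings of fractions inside the function field (helper64)

For an affine open `U` of an integral scheme `X`, with `B = Γ(X, U)` and `K = K(X)`:
* `mem_range_iff` (F1): `O_y ⊆ K` is `{a / s | s ∉ q_y}`;
* `mem_image_maximalIdeal_iff` (F2): `m_y ⊆ K` is `{a / s | a ∈ q_y, s ∉ q_y}`;
* `specializes_iff_le` (F4): `z ⤳ y ↔ q_z ≤ q_y`;
* `algebraMap_stalkSpecializes`, `range_algebraMap_subset_of_specializes`,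
  `stalkUnits_le_of_specializes` (F5);
* `exists_point_of_prime` (Dict): a prime `p` of `O_x` comes from a generization `x₀` of `x`,
  with `ringKrullDim O_{x₀} = height p` and `p = O_x ∩ m_{x₀}` inside `K`.
-/

set_option autoImplicit false
set_option linter.style.haveILetI false
universe u

namespace Groth.Agent.Lib.Helper64.StalkFrac

open AlgebraicGeometry CategoryTheory TopologicalSpace IsLocalRing CDiv
open Groth.Agent.Lib.Helper64.CDivLib

variable {X : Scheme.{u}} [IsIntegral X]

/-- the prime of `Γ(X, U)` at a point of an affine open -/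
noncomputable abbrev pr {U : X.Opens} (hU : IsAffineOpen U) (y : X) (hy : y ∈ U) : Ideal Γ(X, U) :=
  (hU.primeIdealOf ⟨y, hy⟩).asIdeal

section
variable {U : X.Opens} (hU : IsAffineOpen U) [Nonempty U]

/-- (F1) elements of `O_y ⊆ K` are the fractions `a / s` with `s ∉ q_y` -/
theorem mem_range_iff (y : X) (hy : y ∈ U) (k : X.functionField) :
    k ∈ Set.range (algebraMap (X.presheaf.stalk y) X.functionField) ↔
      ∃ a s : Γ(X, U), s ∉ pr hU y hy ∧
        k * algebraMap Γ(X, U) X.functionField s = algebraMap Γ(X, U) X.functionField a := by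
  letI : Algebra Γ(X, U) (X.presheaf.stalk y) :=
    TopCat.Presheaf.algebra_section_stalk X.presheaf ⟨y, hy⟩
  haveI : IsLocalization.AtPrime (X.presheaf.stalk y) (pr hU y hy) :=
    hU.isLocalization_stalk ⟨y, hy⟩
  haveI : IsScalarTower Γ(X, U) (X.presheaf.stalk y) X.functionField :=
    functionField_isScalarTower X U ⟨y, hy⟩
  constructor
  · rintro ⟨w, rfl⟩
    obtain ⟨⟨a, s⟩, hws⟩ := IsLocalization.surj (pr hU y hy).primeCompl w
    refine ⟨a, s.1, s.2, ?_⟩
    rw [IsScalarTower.algebraMap_apply Γ(X, U) (X.presheaf.stalk y) X.functionField,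
      IsScalarTower.algebraMap_apply Γ(X, U) (X.presheaf.stalk y) X.functionField a, ← hws, map_mul]
  · rintro ⟨a, s, hs, hk⟩
    have hsu : IsUnit (algebraMap Γ(X, U) (X.presheaf.stalk y) s) :=
      IsLocalization.map_units (X.presheaf.stalk y) (⟨s, hs⟩ : (pr hU y hy).primeCompl)
    obtain ⟨v, hv⟩ := hsu
    refine ⟨algebraMap Γ(X, U) (X.presheaf.stalk y) a * ↑v⁻¹, ?_⟩
    have hs0 : algebraMap Γ(X, U) X.functionField s ≠ 0 := by
      rw [IsScalarTower.algebraMap_apply Γ(X, U) (X.presheaf.stalk y) X.functionField, ← hv]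
      exact ((v.isUnit.map (algebraMap (X.presheaf.stalk y) X.functionField))).ne_zero
    apply mul_right_cancel₀ hs0
    rw [hk, IsScalarTower.algebraMap_apply Γ(X, U) (X.presheaf.stalk y) X.functionField s, ← hv,
      ← map_mul, mul_assoc, Units.inv_mul, mul_one,
      ← IsScalarTower.algebraMap_apply Γ(X, U) (X.presheaf.stalk y) X.functionField]

/-- (F2) elements of `m_y ⊆ K` are the fractions `a / s` with `a ∈ q_y`, `s ∉ q_y` -/
theorem mem_image_maximalIdeal_iff (y : X) (hy : y ∈ U) (k : X.functionField) :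
    k ∈ algebraMap (X.presheaf.stalk y) X.functionField '' (maximalIdeal (X.presheaf.stalk y)) ↔
      ∃ a s : Γ(X, U), a ∈ pr hU y hy ∧ s ∉ pr hU y hy ∧
        k * algebraMap Γ(X, U) X.functionField s = algebraMap Γ(X, U) X.functionField a := by
  letI : Algebra Γ(X, U) (X.presheaf.stalk y) :=
    TopCat.Presheaf.algebra_section_stalk X.presheaf ⟨y, hy⟩
  haveI : IsLocalization.AtPrime (X.presheaf.stalk y) (pr hU y hy) :=
    hU.isLocalization_stalk ⟨y, hy⟩
  haveI : IsScalarTower Γ(X, U) (X.presheaf.stalk y) X.functionField :=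
    functionField_isScalarTower X U ⟨y, hy⟩
  constructor
  · rintro ⟨w, hw, rfl⟩
    obtain ⟨⟨a, s⟩, hws⟩ := IsLocalization.surj (pr hU y hy).primeCompl w
    refine ⟨a, s.1, ?_, s.2, ?_⟩
    · rw [← IsLocalization.AtPrime.to_map_mem_maximal_iff (X.presheaf.stalk y) (pr hU y hy) a,
        ← hws]
      exact Ideal.mul_mem_right _ _ hw
    · rw [IsScalarTower.algebraMap_apply Γ(X, U) (X.presheaf.stalk y) X.functionField,
        IsScalarTower.algebraMap_apply Γ(X, U) (X.presheaf.stalk y) X.functionField a, ← hws,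
        map_mul]
  · rintro ⟨a, s, ha, hs, hk⟩
    have hsu : IsUnit (algebraMap Γ(X, U) (X.presheaf.stalk y) s) :=
      IsLocalization.map_units (X.presheaf.stalk y) (⟨s, hs⟩ : (pr hU y hy).primeCompl)
    obtain ⟨v, hv⟩ := hsu
    refine ⟨algebraMap Γ(X, U) (X.presheaf.stalk y) a * ↑v⁻¹, ?_, ?_⟩
    · exact Ideal.mul_mem_right _ _
        ((IsLocalization.AtPrime.to_map_mem_maximal_iff (X.presheaf.stalk y) (pr hU y hy) a).mpr ha)
    have hs0 : algebraMap Γ(X, U) X.functionField s ≠ 0 := by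
      rw [IsScalarTower.algebraMap_apply Γ(X, U) (X.presheaf.stalk y) X.functionField, ← hv]
      exact ((v.isUnit.map (algebraMap (X.presheaf.stalk y) X.functionField))).ne_zero
    apply mul_right_cancel₀ hs0
    rw [hk, IsScalarTower.algebraMap_apply Γ(X, U) (X.presheaf.stalk y) X.functionField s, ← hv,
      ← map_mul, mul_assoc, Units.inv_mul, mul_one,
      ← IsScalarTower.algebraMap_apply Γ(X, U) (X.presheaf.stalk y) X.functionField]

omit [IsIntegral X] [Nonempty U] in
/-- (F4) specialization inside an affine open is inclusion of primes -/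
theorem specializes_iff_le (y z : X) (hy : y ∈ U) (hz : z ∈ U) :
    z ⤳ y ↔ pr hU z hz ≤ pr hU y hy := by
  rw [show (pr hU z hz ≤ pr hU y hy) ↔ hU.primeIdealOf ⟨z, hz⟩ ≤ hU.primeIdealOf ⟨y, hy⟩ from Iff.rfl,
    PrimeSpectrum.le_iff_specializes]
  have h := hU.fromSpec.isOpenEmbedding.toIsInducing.specializes_iff
    (x := hU.primeIdealOf ⟨z, hz⟩) (y := hU.primeIdealOf ⟨y, hy⟩)
  rw [hU.fromSpec_primeIdealOf ⟨z, hz⟩, hU.fromSpec_primeIdealOf ⟨y, hy⟩] at h
  exact h

end


/-- `alg_z ∘ (O_x → O_z) = alg_x` for `z ⤳ x` -/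
theorem algebraMap_stalkSpecializes {x z : X} (h : z ⤳ x) (c : X.presheaf.stalk x) :
    algebraMap (X.presheaf.stalk z) X.functionField ((X.presheaf.stalkSpecializes h).hom c) =
      algebraMap (X.presheaf.stalk x) X.functionField c := by
  simp only [RingHom.algebraMap_toAlgebra]
  rw [← CommRingCat.comp_apply, TopCat.Presheaf.stalkSpecializes_comp]

theorem range_algebraMap_subset_of_specializes {x z : X} (h : z ⤳ x) :
    Set.range (algebraMap (X.presheaf.stalk x) X.functionField) ⊆
      Set.range (algebraMap (X.presheaf.stalk z) X.functionField) := by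
  rintro _ ⟨c, rfl⟩
  exact ⟨_, algebraMap_stalkSpecializes h c⟩

/-- (F5) units at `x` are units at every generization -/
theorem stalkUnits_le_of_specializes {x z : X} (h : z ⤳ x) : stalkUnits X x ≤ stalkUnits X z := by
  intro f hf
  obtain ⟨u, hu⟩ := (mem_stalkUnits_iff x f).mp hf
  rw [mem_stalkUnits_iff]
  refine ⟨Units.map (X.presheaf.stalkSpecializes h).hom.toMonoidHom u, ?_⟩
  rw [← hu]
  exact algebraMap_stalkSpecializes h u

omit [IsIntegral X] in
theorem pr_fromSpec {U : X.Opens} (hU : IsAffineOpen U) (y : PrimeSpectrum Γ(X, U))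
    (hy : hU.fromSpec y ∈ U) : pr hU (hU.fromSpec y) hy = y.asIdeal := by
  have : hU.primeIdealOf ⟨hU.fromSpec y, hy⟩ = y :=
    hU.fromSpec.isOpenEmbedding.injective (hU.fromSpec_primeIdealOf ⟨hU.fromSpec y, hy⟩)
  show (hU.primeIdealOf ⟨hU.fromSpec y, hy⟩).asIdeal = y.asIdeal
  rw [this]

/-- (Dict) every prime of `O_{X,x}` is `O_x ∩ m_{x₀}` for a generization `x₀` of `x`, and its height is
the dimension of `O_{x₀}`. -/
theorem exists_point_of_prime (x : X) (p : Ideal (X.presheaf.stalk x)) [p.IsPrime] :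
    ∃ x₀ : X, x₀ ⤳ x ∧ ringKrullDim (X.presheaf.stalk x₀) = p.height ∧
      ∀ c : X.presheaf.stalk x, c ∈ p ↔
        algebraMap (X.presheaf.stalk x) X.functionField c ∈
          algebraMap (X.presheaf.stalk x₀) X.functionField '' (maximalIdeal (X.presheaf.stalk x₀)) := by
  obtain ⟨_, ⟨U, hU : IsAffineOpen U, rfl⟩, hxU, -⟩ :=
    X.isBasis_affineOpens.exists_subset_of_mem_open (Set.mem_univ x) isOpen_univ
  haveI : Nonempty U := ⟨⟨x, hxU⟩⟩
  letI : Algebra Γ(X, U) (X.presheaf.stalk x) :=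
    TopCat.Presheaf.algebra_section_stalk X.presheaf ⟨x, hxU⟩
  haveI : IsLocalization.AtPrime (X.presheaf.stalk x) (pr hU x hxU) :=
    hU.isLocalization_stalk ⟨x, hxU⟩
  haveI : IsScalarTower Γ(X, U) (X.presheaf.stalk x) X.functionField :=
    functionField_isScalarTower X U ⟨x, hxU⟩
  haveI : IsFractionRing Γ(X, U) X.functionField := functionField_isFractionRing_of_isAffineOpen X U hU
  set q₀ : Ideal Γ(X, U) := p.comap (algebraMap Γ(X, U) (X.presheaf.stalk x)) with hq₀
  haveI : q₀.IsPrime := Ideal.comap_isPrime _ _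
  set y₀ : PrimeSpectrum Γ(X, U) := ⟨q₀, inferInstance⟩ with hy₀
  have hx₀U : hU.fromSpec y₀ ∈ U := by
    rw [← SetLike.mem_coe, ← hU.range_fromSpec]; exact Set.mem_range_self y₀
  have hpr : pr hU (hU.fromSpec y₀) hx₀U = q₀ := pr_fromSpec hU y₀ hx₀U
  have hle : q₀ ≤ pr hU x hxU := by
    intro t ht
    rw [← IsLocalization.AtPrime.to_map_mem_maximal_iff (X.presheaf.stalk x) (pr hU x hxU) t]
    exact le_maximalIdeal (Ideal.IsPrime.ne_top ‹p.IsPrime›) ht
  refine ⟨hU.fromSpec y₀, ?_, ?_, ?_⟩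
  · rw [specializes_iff_le hU x _ hxU hx₀U, hpr]
    exact hle
  · letI : Algebra Γ(X, U) (X.presheaf.stalk (hU.fromSpec y₀)) :=
      TopCat.Presheaf.algebra_section_stalk X.presheaf ⟨hU.fromSpec y₀, hx₀U⟩
    haveI : IsLocalization.AtPrime (X.presheaf.stalk (hU.fromSpec y₀)) y₀.asIdeal :=
      hU.isLocalization_stalk' y₀ hx₀U
    rw [IsLocalization.AtPrime.ringKrullDim_eq_height y₀.asIdeal
      (X.presheaf.stalk (hU.fromSpec y₀))]
    congr 1
    exact IsLocalization.height_under (pr hU x hxU).primeCompl p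
  · intro c
    obtain ⟨⟨a, s⟩, hcs⟩ := IsLocalization.surj (pr hU x hxU).primeCompl c
    have hsu : IsUnit (algebraMap Γ(X, U) (X.presheaf.stalk x) s.1) :=
      IsLocalization.map_units (X.presheaf.stalk x) s
    have hK : algebraMap (X.presheaf.stalk x) X.functionField c *
        algebraMap Γ(X, U) X.functionField s.1 = algebraMap Γ(X, U) X.functionField a := by
      rw [IsScalarTower.algebraMap_apply Γ(X, U) (X.presheaf.stalk x) X.functionField,
        IsScalarTower.algebraMap_apply Γ(X, U) (X.presheaf.stalk x) X.functionField a, ← hcs, map_mul]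
    have hcp : c ∈ p ↔ a ∈ q₀ := by
      rw [hq₀, Ideal.mem_comap, ← hcs]
      constructor
      · intro h; exact Ideal.mul_mem_right _ _ h
      · intro h
        exact (Ideal.IsPrime.mem_or_mem ‹p.IsPrime› h).resolve_right fun hs =>
          (Ideal.IsPrime.ne_top ‹p.IsPrime›) (Ideal.eq_top_of_isUnit_mem _ hs hsu)
    rw [hcp, mem_image_maximalIdeal_iff hU _ hx₀U, hpr]
    constructor
    · intro ha
      exact ⟨a, s.1, ha, fun hs => s.2 (hle hs), hK⟩
    · rintro ⟨a', s', ha', hs', hK'⟩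
      have h1 : a * s' = a' * s.1 := by
        apply IsFractionRing.injective Γ(X, U) X.functionField
        rw [map_mul, map_mul, ← hK, ← hK']
        ring
      have h2 : a * s' ∈ q₀ := by rw [h1]; exact Ideal.mul_mem_right _ _ ha'
      exact (Ideal.IsPrime.mem_or_mem ‹q₀.IsPrime› h2).resolve_right hs'

omit [IsIntegral X] in
/-- (F6) `c ∉ q_y` iff `y` lies in the basic open of `c` -/
theorem not_mem_pr_iff {U : X.Opens} (hU : IsAffineOpen U) (y : X) (hy : y ∈ U) (c : Γ(X, U)) :
    c ∉ pr hU y hy ↔ y ∈ X.basicOpen c := by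
  letI : Algebra Γ(X, U) (X.presheaf.stalk y) :=
    TopCat.Presheaf.algebra_section_stalk X.presheaf ⟨y, hy⟩
  haveI : IsLocalization.AtPrime (X.presheaf.stalk y) (pr hU y hy) :=
    hU.isLocalization_stalk ⟨y, hy⟩
  rw [X.mem_basicOpen c y hy]
  exact (IsLocalization.AtPrime.isUnit_to_map_iff (X.presheaf.stalk y) (pr hU y hy) c).symm

end Groth.Agent.Lib.Helper64.StalkFrac
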