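import Mathlib
import Groth.Prelude.Def_CAlg
import Groth.Agent.Lib.Helper64.HartogsCore
import Groth.Agent.Lib.Helper64.HartogsDepth
import Groth.Agent.Lib.Helper64.HartogsGlue
import Groth.Agent.Lib.Helper64.StalkFrac

/-!
# Hartogs extension for the structure sheaf of a locally Noetherian scheme
-/

set_option autoImplicit false
set_option linter.style.haveILetI false
universe u

open CategoryTheory Opposite TopologicalSpace AlgebraicGeometry IsLocalRing

namespace Groth.Agent.Lib.Helper64.HartogsRing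

open Groth.Agent.Lib.Helper64.StalkFrac

/-- A local ring has an (elementwise) regular pair in its maximal ideal. -/
def HasRegPair (R : Type*) [CommRing R] [IsLocalRing R] : Prop :=
  ∃ a ∈ maximalIdeal R, ∃ b ∈ maximalIdeal R,
    (∀ z : R, a • z = 0 → z = 0) ∧ (∀ z1 z2 : R, b • z1 = a • z2 → ∃ z', z1 = a • z')

theorem hasRegPair_of_two_le_depth {R : Type u} [CommRing R] [IsLocalRing R]
    (h : 2 ≤ LocCoh.depth R R) : HasRegPair R :=
  HartogsDepth.exists_pair_of_two_le_depth h

theorem hasRegPair_of_isWeaklyRegular {R : Type*} [CommRing R] [IsLocalRing R] {a b : R}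
    (ha : a ∈ maximalIdeal R) (hb : b ∈ maximalIdeal R)
    (h : RingTheory.Sequence.IsWeaklyRegular R [a, b]) : HasRegPair R :=
  ⟨a, ha, b, hb, HartogsDepth.pair_of_isWeaklyRegular h⟩

variable {X : Scheme.{u}}

theorem germ_res_apply' {V W : X.Opens} (hWV : W ≤ V) (x : X) (hx : x ∈ W) (s : Γ(X, V)) :
    X.presheaf.germ W x hx (X.presheaf.map (homOfLE hWV).op s) = X.presheaf.germ V x (hWV hx) s :=
  TopCat.Presheaf.germ_res_apply X.presheaf (homOfLE hWV) x hx s

/-- Affine case. -/
theorem bijective_res_of_isAffineOpen {V : X.Opens} (hV : IsAffineOpen V)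
    [IsNoetherianRing Γ(X, V)] (W : X.Opens) (hWV : W ≤ V)
    (hreg : ∀ x ∈ V, x ∉ W → HasRegPair (X.presheaf.stalk x)) :
    Function.Bijective (X.presheaf.map (homOfLE hWV).op) := by
  classical
  set ρ : Γ(X, V) →+* Γ(X, W) := (X.presheaf.map (homOfLE hWV).op).hom with hρ
  letI : Algebra Γ(X, V) Γ(X, W) := ρ.toAlgebra
  let φ : Γ(X, V) →ₗ[Γ(X, V)] Γ(X, W) := Algebra.linearMap _ _
  have hφ : ∀ c, φ c = ρ c := fun c => rfl
  have hsmul : ∀ (c : Γ(X, V)) (t : Γ(X, W)), c • t = ρ c * t := fun c t => rfl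
  have hWcpt : IsCompact (W : Set X) := by
    haveI : NoetherianSpace ↥(V : Scheme.{u}) := noetherianSpace_of_isAffineOpen V hV
    have h1 : IsCompact (V.ι ⁻¹' (W : Set X)) := NoetherianSpace.isCompact _
    have h2 := h1.image V.ι.continuous
    rwa [Set.image_preimage_eq_inter_range, Scheme.Opens.range_ι, Set.inter_eq_left.2 hWV] at h2
  have key : ∀ (p : Ideal Γ(X, V)), p.IsPrime →
      ((∀ m, φ m = 0 → ∃ f, f ∉ p ∧ f • m = 0) ∧
        (∀ t : Γ(X, W), ∃ f, f ∉ p ∧ f • t ∈ LinearMap.range φ)) ∨
      ((∀ t : Γ(X, W), (∀ c ∈ p, c • t = 0) → ∃ e, e ∉ p ∧ e • t = 0) ∧ ∃ a ∈ p, ∃ b ∈ p,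
        (∀ m : Γ(X, V), a • m = 0 → ∃ e, e ∉ p ∧ e • m = 0) ∧
        (∀ m1 m2 : Γ(X, V), b • m1 = a • m2 → ∃ c, c ∉ p ∧ ∃ m' : Γ(X, V), c • m1 = a • m')) := by
    intro p hp
    set y : PrimeSpectrum Γ(X, V) := ⟨p, hp⟩ with hy
    set x : X := hV.fromSpec y with hx
    have hxV : x ∈ V := by
      rw [← SetLike.mem_coe, ← hV.range_fromSpec]; exact Set.mem_range_self y
    letI : Algebra Γ(X, V) (X.presheaf.stalk x) :=
      TopCat.Presheaf.algebra_section_stalk X.presheaf ⟨x, hxV⟩
    haveI hloc : IsLocalization.AtPrime (X.presheaf.stalk x) p := hV.isLocalization_stalk' y hxV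
    have halg : ∀ c : Γ(X, V), algebraMap Γ(X, V) (X.presheaf.stalk x) c =
        X.presheaf.germ V x hxV c := fun c => rfl
    have hnot : ∀ c : Γ(X, V), c ∉ p ↔ x ∈ X.basicOpen c := by
      intro c
      rw [← not_mem_pr_iff hV x hxV c, pr_fromSpec hV y hxV]
    by_cases hxW : x ∈ W
    · left
      constructor
      · intro m hm
        have h0 : algebraMap Γ(X, V) (X.presheaf.stalk x) m = 0 := by
          rw [halg, ← germ_res_apply' hWV x hxW m]
          have : X.presheaf.map (homOfLE hWV).op m = 0 := hm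
          rw [this, map_zero]
        obtain ⟨c, hc⟩ := (IsLocalization.map_eq_zero_iff p.primeCompl _ m).1 h0
        exact ⟨c.1, c.2, hc⟩
      · intro t
        obtain ⟨⟨m, r⟩, hmr⟩ := IsLocalization.surj p.primeCompl (X.presheaf.germ W x hxW t)
        -- t1 := ρ r * t - ρ m has zero germ at x
        set t1 : Γ(X, W) := ρ r.1 * t - ρ m with ht1
        have hg : X.presheaf.germ W x hxW t1 = X.presheaf.germ W x hxW 0 := by
          rw [ht1, map_sub, map_mul, map_zero, sub_eq_zero]
          have e1 : X.presheaf.germ W x hxW (ρ r.1) = algebraMap Γ(X, V) (X.presheaf.stalk x) r.1 :=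
            germ_res_apply' hWV x hxW r.1
          have e2 : X.presheaf.germ W x hxW (ρ m) = algebraMap Γ(X, V) (X.presheaf.stalk x) m :=
            germ_res_apply' hWV x hxW m
          rw [e1, e2, ← hmr, mul_comm]
        obtain ⟨W', hxW', i1, i2, hres⟩ := X.presheaf.germ_eq x hxW hxW t1 0 hg
        rw [map_zero] at hres
        obtain ⟨h, hhW', hxh⟩ := hV.exists_basicOpen_le (⟨x, hxW'⟩ : W') hxV
        have hle : X.basicOpen (ρ h) ≤ W' := by
          have : X.basicOpen (ρ h) = W ⊓ X.basicOpen h := Scheme.basicOpen_res X h (homOfLE hWV).op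
          rw [this]
          exact inf_le_right.trans hhW'
        have hzero : t1 |_ (X.basicOpen (ρ h)) = 0 := by
          show X.presheaf.map (homOfLE _).op t1 = 0
          have : X.presheaf.map (homOfLE (X.basicOpen_le (ρ h))).op t1 =
              X.presheaf.map (homOfLE hle).op (X.presheaf.map i1.op t1) := by
            rw [← ConcreteCategory.comp_apply, ← X.presheaf.map_comp]
            rfl
          rw [this, hres, map_zero]
        obtain ⟨n, hn⟩ := exists_pow_mul_eq_zero_of_res_basicOpen_eq_zero_of_isCompact X hWcpt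
          t1 (ρ h) hzero
        have hhp : h ∉ p := (hnot h).2 hxh
        refine ⟨h ^ n * r.1, ?_, h ^ n * m, ?_⟩
        · intro hmem
          rcases hp.mem_or_mem hmem with h1 | h1
          · exact hhp (hp.mem_of_pow_mem n h1)
          · exact r.2 h1
        · rw [hφ, hsmul, map_mul, map_mul, map_pow]
          rw [ht1, mul_sub, sub_eq_zero] at hn
          rw [mul_assoc, hn]
    · right
      refine ⟨?_, ?_⟩
      · intro t ht
        refine ⟨1, fun h1 => hp.ne_top ((Ideal.eq_top_iff_one p).2 h1), ?_⟩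
        rw [one_smul]
        refine TopCat.Presheaf.section_ext X.sheaf W t 0 ?_
        intro z hzW
        show X.presheaf.germ W z hzW t = X.presheaf.germ W z hzW 0
        rw [map_zero]
        obtain ⟨h, hhW, hzh⟩ := hV.exists_basicOpen_le (⟨z, hzW⟩ : W) (hWV hzW)
        have hhp : h ∈ p := by
          by_contra hcon
          exact hxW (hhW ((hnot h).1 hcon))
        have h0 := ht h hhp
        rw [hsmul] at h0
        have h1 : X.presheaf.germ W z hzW (ρ h) * X.presheaf.germ W z hzW t = 0 := by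
          rw [← map_mul, h0, map_zero]
        have e1 : X.presheaf.germ W z hzW (ρ h) = X.presheaf.germ V z (hWV hzW) h :=
          germ_res_apply' hWV z hzW h
        have hunit : IsUnit (X.presheaf.germ V z (hWV hzW) h) :=
          (X.mem_basicOpen h z (hWV hzW)).1 hzh
        rw [e1] at h1
        exact (hunit.mul_right_eq_zero).1 h1
      · exact HartogsDepth.exists_pair_of_isLocalizedModule p (Rp := X.presheaf.stalk x)
          (Algebra.linearMap Γ(X, V) (X.presheaf.stalk x)) (hreg x hxV hxW)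
  have hinj : Function.Injective φ := by
    apply HartogsCore.injective_of_forall_prime
    intro p hp
    rcases key p hp with ⟨h1, -⟩ | ⟨-, a, haP, -, -, h1, -⟩
    · exact Or.inl h1
    · exact Or.inr ⟨a, haP, h1⟩
  have hsurj : Function.Surjective φ := by
    apply HartogsCore.surjective_of_forall_prime φ hinj
    intro p hp
    rcases key p hp with ⟨-, h1⟩ | h2
    · exact Or.inl h1
    · exact Or.inr h2
  exact ⟨hinj, hsurj⟩

end Groth.Agent.Lib.Helper64.HartogsRing

namespace Groth.Agent.Lib.Helper64.HartogsRing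

variable {X : Scheme.{u}}

/-- **Hartogs for the structure sheaf** (basic form). -/
theorem bijective_res_inf [IsLocallyNoetherian X] (U : X.Opens)
    (hreg : ∀ x : X, x ∉ U → HasRegPair (X.presheaf.stalk x)) (V : X.Opens) :
    Function.Bijective (X.presheaf.map (homOfLE (inf_le_left : V ⊓ U ≤ V)).op) := by
  refine HartogsGlue.bijective_res_inf_of_basis X.sheaf U X.affineOpens X.isBasis_affineOpens ?_ V
  intro V' hV'
  haveI : IsNoetherianRing Γ(X, V') := IsLocallyNoetherian.component_noetherian ⟨V', hV'⟩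
  exact bijective_res_of_isAffineOpen hV' (V' ⊓ U) inf_le_left
    (fun x _ hx => hreg x (fun hxU => hx ⟨‹x ∈ V'›, hxU⟩))

/-- **Hartogs for the structure sheaf**: flexible form. -/
theorem bijective_res [IsLocallyNoetherian X] (U : X.Opens)
    (hreg : ∀ x : X, x ∉ U → HasRegPair (X.presheaf.stalk x)) {V W : X.Opens} (hWV : W ≤ V)
    (hW : W = V ⊓ U) : Function.Bijective (X.presheaf.map (homOfLE hWV).op) := by
  subst hW
  exact bijective_res_inf U hreg V

/-- Restriction of global sections to `U` is bijective. -/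
theorem bijective_ι_appTop [IsLocallyNoetherian X] (U : X.Opens)
    (hreg : ∀ x : X, x ∉ U → HasRegPair (X.presheaf.stalk x)) :
    Function.Bijective U.ι.appTop := by
  have h : U.ι.appTop = X.presheaf.map (homOfLE (by simp : U.ι ''ᵁ (U.ι ⁻¹ᵁ ⊤) ≤ ⊤)).op :=
    Scheme.Opens.ι_app U ⊤
  rw [h]
  exact bijective_res U hreg _ (by simp)

end Groth.Agent.Lib.Helper64.HartogsRing
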