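import Mathlib
import Groth.Agent.Lib.Helper64.HartogsRing

/-!
# Hartogs extension of morphisms into a scheme affine over a base
-/

set_option autoImplicit false
set_option linter.style.haveILetI false
universe u

open CategoryTheory CategoryTheory.Limits Opposite TopologicalSpace AlgebraicGeometry IsLocalRing

namespace Groth.Agent.Lib.Helper64.HartogsRel

open Groth.Agent.Lib.Helper64.HartogsRing

/-- Morphisms into an affine scheme extend uniquely along a morphism inducing a bijection on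
global sections. -/
theorem existsUnique_of_bijective_appTop {U' X' Z : Scheme.{u}} [IsAffine Z] (j : U' ⟶ X')
    (hj : Function.Bijective j.appTop) (ψ : U' ⟶ Z) : ∃! φ : X' ⟶ Z, j ≫ φ = ψ := by
  haveI : IsIso j.appTop := (ConcreteCategory.isIso_iff_bijective _).2 hj
  haveI : IsIso Z.toSpecΓ := inferInstance
  have key : j ≫ X'.toSpecΓ ≫ Spec.map (ψ.appTop ≫ inv j.appTop) ≫ inv Z.toSpecΓ = ψ := by
    rw [← cancel_mono Z.toSpecΓ]
    simp only [Category.assoc, IsIso.inv_hom_id, Category.comp_id]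
    rw [← Category.assoc, Scheme.toSpecΓ_naturality, Category.assoc, ← Spec.map_comp,
      Category.assoc, IsIso.inv_hom_id, Category.comp_id, ← Scheme.toSpecΓ_naturality]
  refine ⟨X'.toSpecΓ ≫ Spec.map (ψ.appTop ≫ inv j.appTop) ≫ inv Z.toSpecΓ, key, ?_⟩
  intro g' hg'
  apply ext_of_isAffine
  have h1 : g'.appTop ≫ j.appTop = ψ.appTop := by
    rw [← Scheme.Hom.comp_appTop, hg']
  have h2 : (X'.toSpecΓ ≫ Spec.map (ψ.appTop ≫ inv j.appTop) ≫ inv Z.toSpecΓ).appTop ≫ j.appTop
      = ψ.appTop := by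
    rw [← Scheme.Hom.comp_appTop, key]
  rw [← cancel_mono j.appTop, h1, h2]

theorem HasRegPair.of_ringEquiv {R R' : Type*} [CommRing R] [IsLocalRing R] [CommRing R']
    [IsLocalRing R'] (e : R ≃+* R') (h : HasRegPair R) : HasRegPair R' := by
  obtain ⟨a, ha, b, hb, h1, h2⟩ := h
  have hmem : ∀ c : R, c ∈ maximalIdeal R → e c ∈ maximalIdeal R' := by
    intro c hc
    rw [mem_maximalIdeal, mem_nonunits_iff] at hc ⊢
    intro hu
    apply hc
    have := hu.map e.symm
    simpa using this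
  refine ⟨e a, hmem a ha, e b, hmem b hb, ?_, ?_⟩
  · intro z hz
    obtain ⟨z, rfl⟩ := e.surjective z
    rw [smul_eq_mul, ← map_mul, map_eq_zero_iff e e.injective] at hz
    rw [h1 z hz, map_zero]
  · intro z1 z2 h12
    obtain ⟨z1, rfl⟩ := e.surjective z1
    obtain ⟨z2, rfl⟩ := e.surjective z2
    rw [smul_eq_mul, smul_eq_mul, ← map_mul, ← map_mul] at h12
    obtain ⟨z', hz'⟩ := h2 z1 z2 (e.injective h12)
    exact ⟨e z', by rw [hz', smul_eq_mul, smul_eq_mul, map_mul]⟩

variable {X : Scheme.{u}}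

/-- Morphisms into an affine scheme from an open subscheme `V' → X` extend uniquely from the part
lying over `U`. -/
theorem existsUnique_of_isOpenImmersion [IsLocallyNoetherian X] (U : X.Opens)
    (hreg : ∀ x : X, x ∉ U → HasRegPair (X.presheaf.stalk x))
    {V' W' Z : Scheme.{u}} [IsAffine Z] (i : V' ⟶ X) [IsOpenImmersion i]
    (j : W' ⟶ V') [IsOpenImmersion j] (hj : Set.range j = i ⁻¹' (U : Set X)) (ψ : W' ⟶ Z) :
    ∃! φ : V' ⟶ Z, j ≫ φ = ψ := by
  haveI : IsLocallyNoetherian V' := isLocallyNoetherian_of_isOpenImmersion i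
  apply existsUnique_of_bijective_appTop
  have hreg' : ∀ x : V', x ∉ j.opensRange → HasRegPair (V'.presheaf.stalk x) := by
    intro x hx
    have hix : i x ∉ U := by
      intro h
      apply hx
      show x ∈ Set.range j
      rw [hj]
      exact h
    exact HasRegPair.of_ringEquiv (asIso (i.stalkMap x)).commRingCatIsoToRingEquiv (hreg _ hix)
  have h1 := bijective_ι_appTop j.opensRange hreg'
  have h2 : j = j.isoOpensRange.hom ≫ j.opensRange.ι := (Scheme.Hom.isoOpensRange_hom_ι j).symm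
  rw [h2, Scheme.Hom.comp_appTop]
  have h3 : Function.Bijective j.isoOpensRange.hom.appTop := by
    haveI : IsIso j.isoOpensRange.hom.appTop :=
      ⟨j.isoOpensRange.inv.appTop, by simp [← Scheme.Hom.comp_appTop],
        by simp [← Scheme.Hom.comp_appTop]⟩
    exact (ConcreteCategory.isIso_iff_bijective _).1 inferInstance
  exact h3.comp h1

end Groth.Agent.Lib.Helper64.HartogsRel

namespace Groth.Agent.Lib.Helper64.HartogsRel

open Groth.Agent.Lib.Helper64.HartogsRing

/-- A morphism to `Y` lying over the open `T ⊆ S` factors through `g ⁻¹ᵁ T`. -/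
theorem exists_lift_preimage {P Y S : Scheme.{u}} (g : Y ⟶ S) (T : S.Opens) (a : P ⟶ Y)
    (b : P ⟶ (T : Scheme.{u})) (h : a ≫ g = b ≫ T.ι) :
    ∃ a' : P ⟶ ((g ⁻¹ᵁ T : Y.Opens) : Scheme.{u}), a' ≫ (g ⁻¹ᵁ T).ι = a := by
  have hr : Set.range a ⊆ Set.range (g ⁻¹ᵁ T).ι := by
    rw [Scheme.Opens.range_ι]
    rintro _ ⟨z, rfl⟩
    show g (a z) ∈ T
    rw [← Scheme.Hom.comp_apply, h, Scheme.Hom.comp_apply]
    exact (b z).2
  exact ⟨IsOpenImmersion.lift (g ⁻¹ᵁ T).ι a hr, IsOpenImmersion.lift_fac _ _ _⟩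

variable {X S Y : Scheme.{u}}

/-- Local existence and uniqueness over an affine open `T` of the base. -/
theorem local_existsUnique [IsLocallyNoetherian X] (U : X.Opens)
    (hreg : ∀ x : X, x ∉ U → HasRegPair (X.presheaf.stalk x))
    (f : X ⟶ S) (g : Y ⟶ S) [IsAffineHom g] (ψ : (U : Scheme.{u}) ⟶ Y)
    (hψ : ψ ≫ g = U.ι ≫ f) (T : S.Opens) (hT : IsAffineOpen T) {P W : Scheme.{u}} (i : P ⟶ X)
    [IsOpenImmersion i] (p : P ⟶ (T : Scheme.{u})) (hp : i ≫ f = p ≫ T.ι) (j : W ⟶ P)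
    [IsOpenImmersion j] (hj : Set.range j = i ⁻¹' (U : Set X)) (k : W ⟶ (U : Scheme.{u}))
    (hk : k ≫ U.ι = j ≫ i) :
    ∃! φ : P ⟶ Y, φ ≫ g = i ≫ f ∧ j ≫ φ = k ≫ ψ := by
  have hYT : IsAffineOpen (g ⁻¹ᵁ T) := hT.preimage g
  haveI : IsAffine ((g ⁻¹ᵁ T : Y.Opens) : Scheme.{u}) := hYT
  haveI : IsAffine (T : Scheme.{u}) := hT
  have h0 : (k ≫ ψ) ≫ g = (j ≫ p) ≫ T.ι := by
    rw [Category.assoc, hψ, ← Category.assoc, hk, Category.assoc, hp, Category.assoc]
  obtain ⟨ψ', hψ'⟩ := exists_lift_preimage g T (k ≫ ψ) (j ≫ p) h0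
  obtain ⟨φ', hφ', huniq⟩ := existsUnique_of_isOpenImmersion U hreg i j hj ψ'
  have hφg : φ' ≫ (g ∣_ T) = p := by
    obtain ⟨q, -, hq⟩ := existsUnique_of_isOpenImmersion U hreg i j hj (j ≫ p)
    have e1 : φ' ≫ (g ∣_ T) = q := by
      apply hq
      rw [← cancel_mono T.ι]
      calc (j ≫ φ' ≫ (g ∣_ T)) ≫ T.ι = (j ≫ φ') ≫ ((g ∣_ T) ≫ T.ι) := by
            simp only [Category.assoc]
        _ = ψ' ≫ ((g ⁻¹ᵁ T).ι ≫ g) := by rw [hφ', morphismRestrict_ι]
        _ = (ψ' ≫ (g ⁻¹ᵁ T).ι) ≫ g := by rw [Category.assoc]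
        _ = (j ≫ p) ≫ T.ι := by rw [hψ', h0]
    have e2 : p = q := hq _ rfl
    rw [e1, e2]
  refine ⟨φ' ≫ (g ⁻¹ᵁ T).ι, ⟨?_, ?_⟩, ?_⟩
  · rw [Category.assoc, ← morphismRestrict_ι, ← Category.assoc, hφg, hp]
  · rw [← Category.assoc, hφ', hψ']
  · rintro φ₂ ⟨h1, h2⟩
    obtain ⟨φ₂', hφ₂'⟩ := exists_lift_preimage g T φ₂ p (h1.trans hp)
    have : φ₂' = φ' := by
      apply huniq
      rw [← cancel_mono (g ⁻¹ᵁ T).ι, Category.assoc, hφ₂', h2, hψ']
    rw [← hφ₂', this]

/-- **Relative Hartogs**: `X` locally Noetherian, `U ⊆ X` open with regular pairs off `U`,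
`g : Y ⟶ S` affine.  Every `S`-morphism `U ⟶ Y` extends uniquely to an `S`-morphism `X ⟶ Y`. -/
theorem existsUnique_extension_of_isAffineHom [IsLocallyNoetherian X] (U : X.Opens)
    (hreg : ∀ x : X, x ∉ U → HasRegPair (X.presheaf.stalk x))
    (f : X ⟶ S) (g : Y ⟶ S) [IsAffineHom g] (ψ : (U : Scheme.{u}) ⟶ Y)
    (hψ : ψ ≫ g = U.ι ≫ f) :
    ∃! φ : X ⟶ Y, φ ≫ g = f ∧ U.ι ≫ φ = ψ := by
  let 𝒰 : X.OpenCover := S.directedAffineCover.pullback₁ f
  -- local data
  have hloc : ∀ T : S.affineOpens, ∃! φ : pullback f T.1.ι ⟶ Y,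
      φ ≫ g = pullback.fst f T.1.ι ≫ f ∧
      pullback.snd U.ι (pullback.fst f T.1.ι) ≫ φ = pullback.fst U.ι (pullback.fst f T.1.ι) ≫ ψ :=
    fun T => local_existsUnique U hreg f g ψ hψ T.1 T.2 (pullback.fst f T.1.ι)
      (pullback.snd f T.1.ι) pullback.condition (pullback.snd U.ι (pullback.fst f T.1.ι))
      (by rw [Scheme.Pullback.range_snd, Scheme.Opens.range_ι]) (pullback.fst U.ι _)
      pullback.condition
  choose φT hφT huniq using hloc
  have hcompat' : ∀ (T T' : S.affineOpens) (t : pullback f T.1.ι ⟶ pullback f T'.1.ι),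
      t ≫ pullback.fst f T'.1.ι = pullback.fst f T.1.ι → t ≫ φT T' = φT T := by
    intro T T' t htr
    apply huniq T
    constructor
    · rw [Category.assoc, (hφT T').1, ← Category.assoc, htr]
    · let m : pullback U.ι (pullback.fst f T.1.ι) ⟶ pullback U.ι (pullback.fst f T'.1.ι) :=
        pullback.lift (pullback.fst U.ι _) (pullback.snd U.ι _ ≫ t)
          (by rw [Category.assoc, htr, pullback.condition])
      have hm1 : m ≫ pullback.fst U.ι _ = pullback.fst U.ι _ := pullback.lift_fst _ _ _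
      have hm2 : m ≫ pullback.snd U.ι _ = pullback.snd U.ι _ ≫ t :=
        pullback.lift_snd _ _ _
      rw [← Category.assoc, ← hm2, Category.assoc, (hφT T').2, ← Category.assoc, hm1]
  have hcompat : ∀ {T T' : 𝒰.I₀} (hij : T ⟶ T'), 𝒰.trans hij ≫ φT T' = φT T :=
    fun {T T'} hij => hcompat' T T' (𝒰.trans hij) (𝒰.trans_map hij)
  let φ : X ⟶ Y := 𝒰.glueMorphismsOfLocallyDirected φT hcompat
  have hφ : ∀ T : S.affineOpens, pullback.fst f T.1.ι ≫ φ = φT T :=
    fun T => 𝒰.map_glueMorphismsOfLocallyDirected φT hcompat T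
  refine ⟨φ, ⟨?_, ?_⟩, ?_⟩
  · refine 𝒰.hom_ext _ _ (fun (T : S.affineOpens) => ?_)
    show pullback.fst f T.1.ι ≫ φ ≫ g = pullback.fst f T.1.ι ≫ f
    rw [← Category.assoc, hφ, (hφT T).1]
  · refine Scheme.Cover.hom_ext (𝒰.pullback₁ U.ι) _ _ (fun (T : S.affineOpens) => ?_)
    show pullback.fst U.ι (pullback.fst f T.1.ι) ≫ U.ι ≫ φ =
      pullback.fst U.ι (pullback.fst f T.1.ι) ≫ ψ
    rw [← Category.assoc, pullback.condition, Category.assoc, hφ, (hφT T).2]
  · rintro φ₂ ⟨h1, h2⟩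
    refine 𝒰.hom_ext _ _ (fun (T : S.affineOpens) => ?_)
    show pullback.fst f T.1.ι ≫ φ₂ = pullback.fst f T.1.ι ≫ φ
    rw [hφ]
    apply huniq T
    constructor
    · rw [Category.assoc, h1]
    · rw [← Category.assoc, ← pullback.condition, Category.assoc, h2]

end Groth.Agent.Lib.Helper64.HartogsRel

namespace Groth.Agent.Lib.Helper64.HartogsRel

open Groth.Agent.Lib.Helper64.HartogsRing RingTheory.Sequence

/-- A local ring has a weakly regular sequence of length two in its maximal ideal. -/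
def HasWRegPair (R : Type*) [CommRing R] [IsLocalRing R] : Prop :=
  ∃ a ∈ maximalIdeal R, ∃ b ∈ maximalIdeal R, IsWeaklyRegular R [a, b]

theorem HasWRegPair.hasRegPair {R : Type*} [CommRing R] [IsLocalRing R] (h : HasWRegPair R) :
    HasRegPair R := by
  obtain ⟨a, ha, b, hb, hab⟩ := h
  exact hasRegPair_of_isWeaklyRegular ha hb hab

theorem hasWRegPair_of_two_le_depth {R : Type u} [CommRing R] [IsLocalRing R]
    (h : 2 ≤ LocCoh.depth R R) : HasWRegPair R := by
  have h' : ((2 : ℕ) : ℕ∞) ≤ LocCoh.idealDepth (maximalIdeal R) R := h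
  rcases (Groth.Agent.Lib.Helper67.le_idealDepth_iff _ R 2).1 h' with htop | ⟨rs, hlen, hreg, hmem⟩
  · exfalso
    have h1 : (1 : R) ∈ maximalIdeal R • (⊤ : Submodule R R) := by
      rw [htop]; exact Submodule.mem_top
    have h2 : maximalIdeal R • (⊤ : Submodule R R) ≤ maximalIdeal R := by
      rw [Submodule.smul_le]
      intro r hr n _
      exact Ideal.mul_mem_right _ _ hr
    exact (Ideal.ne_top_iff_one _).1 (IsLocalRing.maximalIdeal.isMaximal R).ne_top (h2 h1)
  · match rs, hlen with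
    | [a, b], _ => exact ⟨a, hmem a (by simp), b, hmem b (by simp), hreg⟩

theorem HasWRegPair.of_flat_isLocalHom {R S : Type*} [CommRing R] [IsLocalRing R] [CommRing S]
    [IsLocalRing S] (φ : R →+* S) [IsLocalHom φ] (hφ : φ.Flat) (h : HasWRegPair R) :
    HasWRegPair S := by
  obtain ⟨a, ha, b, hb, hab⟩ := h
  algebraize [φ]
  refine ⟨φ a, map_nonunit φ a ha, φ b, map_nonunit φ b hb, ?_⟩
  exact IsWeaklyRegular.of_flat (S := S) hab

end Groth.Agent.Lib.Helper64.HartogsRel

namespace Groth.Agent.Lib.Helper64.HartogsRel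

open Groth.Agent.Lib.Helper64.HartogsRing RingTheory.Sequence

variable {X S Y : Scheme.{u}}

/-- **Relative Hartogs**, open immersion form. -/
theorem existsUnique_extension_of_isAffineHom' [IsLocallyNoetherian X] {W : Scheme.{u}}
    (j : W ⟶ X) [IsOpenImmersion j]
    (hreg : ∀ x : X, x ∉ Set.range j → HasRegPair (X.presheaf.stalk x))
    (f : X ⟶ S) (g : Y ⟶ S) [IsAffineHom g] (ψ : W ⟶ Y) (hψ : ψ ≫ g = j ≫ f) :
    ∃! φ : X ⟶ Y, φ ≫ g = f ∧ j ≫ φ = ψ := by
  have hj : j.isoOpensRange.hom ≫ j.opensRange.ι = j := Scheme.Hom.isoOpensRange_hom_ι j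
  have hj' : j.isoOpensRange.inv ≫ j = j.opensRange.ι := Scheme.Hom.isoOpensRange_inv_comp j
  have hreg' : ∀ x : X, x ∉ j.opensRange → HasRegPair (X.presheaf.stalk x) := hreg
  obtain ⟨φ, ⟨h1, h2⟩, huniq⟩ := existsUnique_extension_of_isAffineHom j.opensRange hreg' f g
    (j.isoOpensRange.inv ≫ ψ) (by rw [Category.assoc, hψ, ← Category.assoc, hj'])
  refine ⟨φ, ⟨h1, ?_⟩, ?_⟩
  · calc j ≫ φ = (j.isoOpensRange.hom ≫ j.opensRange.ι) ≫ φ := by rw [hj]
      _ = j.isoOpensRange.hom ≫ (j.opensRange.ι ≫ φ) := by rw [Category.assoc]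
      _ = ψ := by rw [h2, Iso.hom_inv_id_assoc]
  · rintro φ₂ ⟨h3, h4⟩
    apply huniq
    refine ⟨h3, ?_⟩
    rw [← h4, ← Category.assoc, hj']

/-- The local ring of `Spec A` at the closed point inherits weakly regular pairs from `A`. -/
theorem hasWRegPair_stalk_closedPoint (A : Type u) [CommRing A] [IsLocalRing A]
    (h : HasWRegPair A) :
    HasWRegPair ((Spec (CommRingCat.of A)).presheaf.stalk (IsLocalRing.closedPoint A)) := by
  letI k : Algebra A ((Spec (CommRingCat.of A)).presheaf.stalk (IsLocalRing.closedPoint A)) :=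
    StructureSheaf.stalkAlgebra A (IsLocalRing.closedPoint A)
  haveI hloc : IsLocalization.AtPrime
      ((Spec (CommRingCat.of A)).presheaf.stalk (IsLocalRing.closedPoint A))
      (IsLocalRing.closedPoint A).asIdeal :=
    StructureSheaf.IsLocalization.to_stalk A (IsLocalRing.closedPoint A)
  haveI : IsLocalHom (algebraMap A
      ((Spec (CommRingCat.of A)).presheaf.stalk (IsLocalRing.closedPoint A))) := by
    constructor
    intro a ha
    have h1 := (IsLocalization.AtPrime.isUnit_to_map_iff _ (IsLocalRing.closedPoint A).asIdeal a).1 ha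
    by_contra hna
    exact h1 ((IsLocalRing.mem_maximalIdeal a).2 hna)
  refine HasWRegPair.of_flat_isLocalHom (algebraMap A _) ?_ h
  rw [RingHom.flat_algebraMap_iff]
  exact IsLocalization.flat _ (IsLocalRing.closedPoint A).asIdeal.primeCompl

end Groth.Agent.Lib.Helper64.HartogsRel

namespace Groth.Agent.Lib.Helper64.HartogsRel

open Groth.Agent.Lib.Helper64.HartogsRing

/-- Hartogs: an open immersion whose complement consists of points with regular pairs induces a
bijection on global sections. -/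
theorem bijective_appTop_of_isOpenImmersion {X W : Scheme.{u}} [IsLocallyNoetherian X]
    (j : W ⟶ X) [IsOpenImmersion j]
    (hreg : ∀ x : X, x ∉ Set.range j → HasRegPair (X.presheaf.stalk x)) :
    Function.Bijective j.appTop := by
  have hreg' : ∀ x : X, x ∉ j.opensRange → HasRegPair (X.presheaf.stalk x) := hreg
  have h1 := bijective_ι_appTop j.opensRange hreg'
  have h2 : j = j.isoOpensRange.hom ≫ j.opensRange.ι := (Scheme.Hom.isoOpensRange_hom_ι j).symm
  rw [h2, Scheme.Hom.comp_appTop]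
  have h3 : Function.Bijective j.isoOpensRange.hom.appTop := by
    haveI : IsIso j.isoOpensRange.hom.appTop :=
      ⟨j.isoOpensRange.inv.appTop, by simp [← Scheme.Hom.comp_appTop],
        by simp [← Scheme.Hom.comp_appTop]⟩
    exact (ConcreteCategory.isIso_iff_bijective _).1 inferInstance
  exact h3.comp h1

/-- Regular pairs on a scheme flat over `Spec A` at the points over the closed point. -/
theorem hasRegPair_of_flat_over_closedPoint (A : Type u) [CommRing A] [IsLocalRing A]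
    (hA : (2 : ℕ∞) ≤ LocCoh.depth A A) {L : Scheme.{u}} (g : L ⟶ Spec (CommRingCat.of A))
    [Flat g] (y : L) (hy : g y = IsLocalRing.closedPoint A) :
    HasRegPair (L.presheaf.stalk y) := by
  have h1 := hasWRegPair_stalk_closedPoint A (hasWRegPair_of_two_le_depth hA)
  have h2 : HasWRegPair ((Spec (CommRingCat.of A)).presheaf.stalk (g y)) := by
    rw [hy]; exact h1
  exact (HasWRegPair.of_flat_isLocalHom (g.stalkMap y).hom
    (AlgebraicGeometry.Flat.stalkMap g y) h2).hasRegPair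

end Groth.Agent.Lib.Helper64.HartogsRel
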