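import Mathlib
import Groth.Prelude.Def_CAlg
import Groth.Agent.Lib.Helper67.Depth
import Groth.Agent.Lib.Helper64.HartogsRel
import Groth.Agent.Lib.Helper64.HartogsMod
import Groth.Agent.S10957

/-!
# Normal Noetherian local domains of dimension `≥ 2` have depth `≥ 2` (Serre's `S₂`), and flat modules
over them have a regular pair.
-/

set_option autoImplicit false
set_option linter.style.haveILetI false
universe u v

namespace Groth.Agent.Lib.Helper64.NormalS2

open LocCoh IsLocalRing RingTheory.Sequence TensorProduct Pointwise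

/-- A normal Noetherian local domain of dimension not `≤ 1` has depth `≥ 2`. -/
theorem two_le_depth_of_normal (A : Type u) [CommRing A] [IsDomain A] [IsNoetherianRing A]
    [IsLocalRing A] [IsIntegrallyClosed A] (hdim : ¬ ringKrullDim A ≤ 1) :
    2 ≤ LocCoh.depth A A := by
  -- `A` is not a field
  have hnf : ¬ IsField A := by
    intro hf
    apply hdim
    letI := hf.toField
    rw [ringKrullDim_eq_zero_of_field]
    exact zero_le_one
  obtain ⟨r, hrm, hr0⟩ : ∃ r ∈ maximalIdeal A, r ≠ 0 := by
    by_contra hcon
    push Not at hcon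
    apply hnf
    rw [IsLocalRing.isField_iff_maximalIdeal_eq]
    exact le_antisymm (fun x hx => by rw [hcon x hx]; exact Submodule.zero_mem _) bot_le
  have hreg : IsSMulRegular A r := fun x y h => mul_left_cancel₀ hr0 h
  have hIM : maximalIdeal A • (⊤ : Submodule A A) ≠ ⊤ := by
    rw [smul_eq_mul, Ideal.mul_top]
    exact (maximalIdeal.isMaximal A).ne_top
  have key := Helper67.idealDepth_quotSMulTop_add_one (maximalIdeal A) A hIM r hrm hreg
  have h0 : LocCoh.depth A (QuotSMulTop r A) ≠ 0 := by
    intro h0
    rw [Helper67.depth_eq_zero_iff] at h0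
    apply hdim
    have heq : (r • (⊤ : Submodule A A)) = Ideal.span ({r} : Set A) := by
      ext a
      rw [Submodule.mem_smul_pointwise_iff_exists, Ideal.mem_span_singleton']
      constructor
      · rintro ⟨c, -, hc⟩
        exact ⟨c, by rw [mul_comm]; exact hc⟩
      · rintro ⟨c, hc⟩
        exact ⟨c, trivial, by rw [smul_eq_mul, mul_comm]; exact hc⟩
    have e : QuotSMulTop r A ≃ₗ[A] (A ⧸ Ideal.span ({r} : Set A)) :=
      Submodule.quotEquivOfEq _ _ heq
    haveI : IsDiscreteValuationRing A := by
      refine Groth.Agent.S10957.result A r hr0 ?_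
      rw [← LinearEquiv.AssociatedPrimes.eq e]
      exact h0
    exact (IsDiscreteValuationRing.ringKrullDim_eq_one A).le
  have h1 : 1 ≤ LocCoh.depth A (QuotSMulTop r A) := Order.one_le_iff_ne_zero.mpr h0
  unfold LocCoh.depth at h1 ⊢
  rw [← key]
  calc (2 : ℕ∞) = 1 + 1 := by norm_num
    _ ≤ _ := add_le_add h1 le_rfl

/-- A weakly regular sequence on the ring is weakly regular on any flat module. -/
theorem isWeaklyRegular_of_flat {R : Type*} [CommRing R] {M : Type*} [AddCommGroup M] [Module R M]
    [Module.Flat R M] {rs : List R} (h : IsWeaklyRegular R rs) : IsWeaklyRegular M rs := by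
  have h1 : IsWeaklyRegular (M ⊗[R] R) rs := h.isWeaklyRegular_lTensor
  exact ((TensorProduct.rid R M).isWeaklyRegular_congr rs).mp h1

/-- A flat module over a local ring with a weakly regular pair has a regular pair. -/
theorem hasRegPairMod_of_flat {R : Type*} [CommRing R] [IsLocalRing R] {M : Type*}
    [AddCommGroup M] [Module R M] [Module.Flat R M] (h : HartogsRel.HasWRegPair R) :
    HartogsMod.HasRegPairMod R M := by
  obtain ⟨a, ha, b, hb, hab⟩ := h
  exact ⟨a, ha, b, hb, HartogsDepth.pair_of_isWeaklyRegular (isWeaklyRegular_of_flat hab)⟩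

/-- Flat modules over a normal Noetherian local domain of dimension `≥ 2` have a regular pair. -/
theorem hasRegPairMod_of_normal (A : Type u) [CommRing A] [IsDomain A] [IsNoetherianRing A]
    [IsLocalRing A] [IsIntegrallyClosed A] (hdim : ¬ ringKrullDim A ≤ 1)
    (M : Type*) [AddCommGroup M] [Module A M] [Module.Flat A M] :
    HartogsMod.HasRegPairMod A M :=
  hasRegPairMod_of_flat (HartogsRel.hasWRegPair_of_two_le_depth (two_le_depth_of_normal A hdim))

end Groth.Agent.Lib.Helper64.NormalS2
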