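import Mathlib
import Groth.Prelude.Def_CAlg
import Groth.Agent.Lib.Helper67.Depth

/-!
# Depth `≥ 2` from the absence of socle elements in `N` and `N / aN` (helper64)
-/

set_option autoImplicit false
universe u

namespace Groth.Agent.Lib.Helper64.HartogsConvAlg

open IsLocalRing Groth.Agent.Lib.Helper67 LocCoh

variable {R : Type u} [CommRing R] [IsNoetherianRing R] [IsLocalRing R]

/-- If no nonzero element of the finite module `N` is killed by the maximal ideal, the maximal
ideal is not an associated prime. -/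
theorem not_mem_associatedPrimes_of_socle_free (N : Type u) [AddCommGroup N] [Module R N]
    (T0 : ∀ n : N, (∀ t ∈ maximalIdeal R, t • n = 0) → n = 0) :
    maximalIdeal R ∉ associatedPrimes R N := by
  intro h
  obtain ⟨-, n, hn⟩ := (isAssociatedPrime_iff).1 h
  have h0 : n = 0 := by
    apply T0
    intro t ht
    rw [hn, Submodule.mem_colon_singleton, Submodule.mem_bot] at ht
    exact ht
  have h1 : (1 : R) ∈ maximalIdeal R := by
    rw [hn, Submodule.mem_colon_singleton, h0, smul_zero]
    exact Submodule.zero_mem _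
  exact (maximalIdeal.isMaximal R).ne_top ((Ideal.eq_top_iff_one _).2 h1)

/-- **Depth `≥ 2` criterion.** -/
theorem two_le_depth_of_socle_free (N : Type u) [AddCommGroup N] [Module R N] [Module.Finite R N]
    (T0 : ∀ n : N, (∀ t ∈ maximalIdeal R, t • n = 0) → n = 0)
    (T1 : ∀ a ∈ maximalIdeal R, (∀ z : N, a • z = 0 → z = 0) → ∀ n : N,
      (∀ t ∈ maximalIdeal R, ∃ n' : N, t • n = a • n') → ∃ n'' : N, n = a • n'') :
    2 ≤ LocCoh.depth R N := by
  by_cases hN : Subsingleton N
  · have : maximalIdeal R • (⊤ : Submodule R N) = ⊤ := Subsingleton.elim _ _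
    change 2 ≤ idealDepth (maximalIdeal R) N
    rw [idealDepth_eq_top_of_smul_top_eq_top _ N this]
    exact le_top
  rw [not_subsingleton_iff_nontrivial] at hN
  have hmN : maximalIdeal R • (⊤ : Submodule R N) ≠ ⊤ := maximalIdeal_smul_top_ne_top N
  -- a regular element
  have hA : depth R N ≠ 0 := fun h0 =>
    not_mem_associatedPrimes_of_socle_free N T0 ((depth_eq_zero_iff N).1 h0)
  have hA1 : 1 ≤ idealDepth (maximalIdeal R) N := Order.one_le_iff_ne_zero.2 hA
  rcases (one_le_idealDepth_iff _ N).1 hA1 with h | ⟨a, ha, hreg⟩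
  · exact absurd h hmN
  have hreg' : ∀ z : N, a • z = 0 → z = 0 := fun z hz => hreg (by simpa using hz)
  -- the quotient has no socle either
  have hB : depth R (QuotSMulTop a N) ≠ 0 := by
    intro h0
    refine not_mem_associatedPrimes_of_socle_free (QuotSMulTop a N) ?_
      ((depth_eq_zero_iff (QuotSMulTop a N)).1 h0)
    intro q hq
    obtain ⟨n, rfl⟩ := Submodule.Quotient.mk_surjective _ q
    have h1 : ∀ t ∈ maximalIdeal R, ∃ n' : N, t • n = a • n' := by
      intro t ht
      have := hq t ht
      rw [← Submodule.Quotient.mk_smul, Submodule.Quotient.mk_eq_zero] at this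
      obtain ⟨n', -, hn'⟩ := (Submodule.mem_smul_pointwise_iff_exists _ _ _).1 this
      exact ⟨n', hn'.symm⟩
    obtain ⟨n'', hn''⟩ := T1 a ha hreg' n h1
    rw [Submodule.Quotient.mk_eq_zero, hn'']
    exact Submodule.smul_mem_pointwise_smul n'' a ⊤ Submodule.mem_top
  have hB1 : 1 ≤ idealDepth (maximalIdeal R) (QuotSMulTop a N) := Order.one_le_iff_ne_zero.2 hB
  have hsum := idealDepth_quotSMulTop_add_one (maximalIdeal R) N hmN a ha hreg
  change 2 ≤ idealDepth (maximalIdeal R) N
  rw [← hsum]
  calc (2 : ℕ∞) = 1 + 1 := by norm_num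
    _ ≤ idealDepth (maximalIdeal R) (QuotSMulTop a N) + 1 := add_le_add hB1 le_rfl

end Groth.Agent.Lib.Helper64.HartogsConvAlg
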