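import Mathlib
import Groth.Agent.Lib.Lead.CohAff4
import Groth.Agent.Lib.Lead.SheafPts
import Groth.Agent.Lib.Helper64.DepthIso
import Groth.Agent.Lib.Helper64.HartogsConvAlg

/-!
# Converse Hartogs: if sections extend uniquely over a point, the stalk has depth `≥ 2` (helper64)

Let `H` be a quasi-coherent module on a locally Noetherian scheme and `x` a point such that for
every open `V ∋ x` restriction `H(V) → H(V ∖ closure {x})` is bijective.  Then no nonzero element
of `H_x` is killed by `𝔪_x`, and for every `H_x`-regular `a ∈ 𝔪_x`, no nonzero element of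
`H_x / a H_x` is killed by `𝔪_x`.  If `H_x` is finite this gives `depth H_x ≥ 2`.
-/

set_option autoImplicit false
set_option linter.style.haveILetI false
universe u

open AlgebraicGeometry CategoryTheory TopologicalSpace Opposite

namespace Groth.Agent.Lib.Helper64.HartogsConv

open Groth.Agent.Lib.Lead.QCohAff Groth.Agent.Lib.Lead.SheafGlue

variable {X : Scheme.{u}}

/-- The open complement of the closure of a point. -/
def complClosure (x : X) : X.Opens := ⟨(closure {x})ᶜ, isClosed_closure.isOpen_compl⟩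

theorem mem_complClosure_iff (x y : X) : y ∈ complClosure x ↔ ¬ x ⤳ y := by
  change y ∈ (closure {x})ᶜ ↔ _
  rw [Set.mem_compl_iff, specializes_iff_mem_closure]

/-- The Hartogs property of a module at a point: sections extend uniquely over the closure of the
point. -/
structure HartogsAt (H : X.Modules) (x : X) : Prop where
  inj : ∀ V : X.Opens, x ∈ V → ∀ σ : Γ(H, V),
    H.presheaf.map (homOfLE (inf_le_left : V ⊓ complClosure x ≤ V)).op σ = 0 → σ = 0
  surj : ∀ V : X.Opens, x ∈ V → ∀ s : Γ(H, V ⊓ complClosure x),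
    ∃ σ : Γ(H, V), H.presheaf.map (homOfLE (inf_le_left : V ⊓ complClosure x ≤ V)).op σ = s

section Affine

variable {W : X.Opens} (hW : IsAffineOpen W) (x : X) (hx : x ∈ W)

include hW hx

/-- A basic open `D(t)` with `t` in the prime of `x` misses the closure of `x`. -/
theorem basicOpen_le_complClosure (t : Γ(X, W)) (ht : t ∈ (hW.primeIdealOf ⟨x, hx⟩).asIdeal) :
    X.basicOpen t ≤ W ⊓ complClosure x := by
  intro y hy
  refine ⟨X.basicOpen_le t hy, ?_⟩
  change y ∈ complClosure x
  rw [mem_complClosure_iff]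
  intro hspec
  have hxt : x ∈ X.basicOpen t := hspec.mem_open (X.basicOpen t).isOpen hy
  exact (mem_basicOpen_iff_notMem_primeIdealOf hW x hx t).1 hxt ht

/-- Points of `W` off the closure of `x` lie in some `D(t)` with `t` in the prime of `x`. -/
theorem exists_basicOpen_of_mem_complClosure (y : X) (hy : y ∈ W ⊓ complClosure x) :
    ∃ t ∈ (hW.primeIdealOf ⟨x, hx⟩).asIdeal, y ∈ X.basicOpen t := by
  by_contra hcon
  push Not at hcon
  have hle : hW.primeIdealOf ⟨x, hx⟩ ≤ hW.primeIdealOf ⟨y, hy.1⟩ := by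
    intro t ht
    by_contra hnot
    exact hcon t ht ((mem_basicOpen_iff_notMem_primeIdealOf hW y hy.1 t).2 hnot)
  have h1 : hW.primeIdealOf ⟨x, hx⟩ ⤳ hW.primeIdealOf ⟨y, hy.1⟩ :=
    (PrimeSpectrum.le_iff_specializes _ _).1 hle
  have h2 := h1.map hW.fromSpec.continuous
  rw [hW.fromSpec_primeIdealOf ⟨x, hx⟩, hW.fromSpec_primeIdealOf ⟨y, hy.1⟩] at h2
  exact (mem_complClosure_iff x y).1 hy.2 h2

end Affine

section Sections

variable (H : X.Modules) {W : X.Opens}

/-- A section killed by `t` vanishes on `D(t)`. -/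
theorem res_basicOpen_eq_zero_of_smul_eq_zero (t : Γ(X, W)) (σ : Γ(H, W)) (h : t • σ = 0) :
    H.presheaf.map (homOfLE (X.basicOpen_le t)).op σ = 0 := by
  have h1 := congrArg (H.presheaf.map (homOfLE (X.basicOpen_le t)).op) h
  rw [res_smul, map_zero] at h1
  have hu : IsUnit (X.presheaf.map (homOfLE (X.basicOpen_le t)).op t) :=
    RingedSpace.isUnit_res_basicOpen _ t
  exact hu.smul_eq_zero.1 h1

end Sections

section Stalk

variable [IsLocallyNoetherian X] (H : X.Modules) [H.IsQuasicoherent] (x : X)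

/-- Elements of the prime of `x` have germs in the maximal ideal. -/
theorem germ_mem_maximalIdeal {W : X.Opens} (hW : IsAffineOpen W) (hx : x ∈ W) (t : Γ(X, W))
    (ht : t ∈ (hW.primeIdealOf ⟨x, hx⟩).asIdeal) :
    X.presheaf.germ W x hx t ∈ IsLocalRing.maximalIdeal (X.presheaf.stalk x) := by
  rw [IsLocalRing.mem_maximalIdeal]
  intro hu
  exact (mem_basicOpen_iff_notMem_primeIdealOf hW x hx t).1 ((X.mem_basicOpen t x hx).2 hu) ht

/-- A finite product of functions not vanishing at `x` does not vanish at `x`. -/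
theorem mem_basicOpen_prod {W : X.Opens} (hx : x ∈ W) {ι : Type*} (T : Finset ι)
    (g : ι → Γ(X, W)) (hg : ∀ i ∈ T, x ∈ X.basicOpen (g i)) : x ∈ X.basicOpen (∏ i ∈ T, g i) := by
  rw [X.mem_basicOpen _ x hx, map_prod]
  exact Finset.prod_induction _ IsUnit (fun _ _ ha hb => ha.mul hb) isUnit_one
    (fun i hi => (X.mem_basicOpen _ x hx).1 (hg i hi))

/-- **No `𝔪_x`-torsion**: under the Hartogs property, an element of `H_x` killed by `𝔪_x` is
zero. -/
theorem eq_zero_of_forall_smul_eq_zero (hH : HartogsAt H x) (n : H.presheaf.stalk x)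
    (hn : ∀ t ∈ IsLocalRing.maximalIdeal (X.presheaf.stalk x), t • n = 0) : n = 0 := by
  classical
  obtain ⟨_, ⟨W, hW : IsAffineOpen W, rfl⟩, hx, -⟩ :=
    (X.isBasis_affineOpens).exists_subset_of_mem_open (Set.mem_univ x) isOpen_univ
  haveI : IsNoetherianRing Γ(X, W) := IsLocallyNoetherian.component_noetherian ⟨W, hW⟩
  have hHl := LocOn.of_isQuasicoherent H hW
  obtain ⟨s, σ, hxs, hsσ⟩ := exists_germ_smul_eq_germ_of_locOn H hW hHl x hx n
  have hsu : IsUnit (X.presheaf.germ W x hx s) := isUnit_germ_of_mem_basicOpen s x hx hxs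
  have h1 : ∀ t : Γ(X, W), t ∈ (hW.primeIdealOf ⟨x, hx⟩).asIdeal →
      ∃ g : Γ(X, W), x ∈ X.basicOpen g ∧ g • t • σ = 0 := by
    intro t ht
    have htm := germ_mem_maximalIdeal x hW hx t ht
    have h0 : H.presheaf.germ W x hx (t • σ) = 0 := by
      rw [germ_smul, ← hsσ, smul_comm, hn _ htm, smul_zero]
    exact (germ_eq_zero_iff_of_locOn H hW hHl x hx _).1 h0
  obtain ⟨T, hT⟩ : ((hW.primeIdealOf ⟨x, hx⟩).asIdeal).FG := IsNoetherian.noetherian _
  choose! g hg1 hg2 using h1
  have hTmem : ∀ t ∈ T, t ∈ (hW.primeIdealOf ⟨x, hx⟩).asIdeal := fun t ht => by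
    rw [← hT]; exact Submodule.subset_span ht
  set G := ∏ t ∈ T, g t with hGdef
  have hGx : x ∈ X.basicOpen G := mem_basicOpen_prod x hx T g (fun t ht => hg1 t (hTmem t ht))
  have hG : ∀ t ∈ (hW.primeIdealOf ⟨x, hx⟩).asIdeal, t • (G • σ) = 0 := by
    intro t ht
    rw [← hT] at ht
    induction ht using Submodule.span_induction with
    | mem t ht =>
      obtain ⟨c, hc⟩ := Finset.dvd_prod_of_mem g ht
      have hc' : G = g t * c := hc
      rw [smul_comm, hc', mul_comm, mul_smul, hg2 t (hTmem t ht), smul_zero]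
    | zero => rw [zero_smul]
    | add a b _ _ ha hb => rw [add_smul, ha, hb, add_zero]
    | smul a b _ hb => rw [smul_eq_mul, mul_smul, hb, smul_zero]
  -- `G • σ` vanishes off the closure of `x`
  have hres : H.presheaf.map (homOfLE (inf_le_left : W ⊓ complClosure x ≤ W)).op (G • σ) = 0 := by
    apply eq_of_locally_eq_pts H
    intro y hy
    obtain ⟨t, ht, hyt⟩ := exists_basicOpen_of_mem_complClosure hW x hx y hy
    refine ⟨X.basicOpen t, basicOpen_le_complClosure hW x hx t ht, hyt, ?_⟩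
    rw [res_res, map_zero]
    exact res_basicOpen_eq_zero_of_smul_eq_zero H t _ (hG t ht)
  have hzero : G • σ = 0 := hH.inj W hx _ hres
  have hGu : IsUnit (X.presheaf.germ W x hx G) := isUnit_germ_of_mem_basicOpen G x hx hGx
  have h2 : X.presheaf.germ W x hx G • H.presheaf.germ W x hx σ = 0 := by
    rw [← germ_smul, hzero, map_zero]
  have h3 : H.presheaf.germ W x hx σ = 0 := hGu.smul_eq_zero.1 h2
  rw [h3] at hsσ
  exact hsu.smul_eq_zero.1 hsσ

/-- Points of `W` off the closure of `x` lie in `D(t)` for one of finitely many generators `t`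
of the prime of `x`. -/
theorem exists_basicOpen_of_mem_complClosure_of_span {W : X.Opens} (hW : IsAffineOpen W)
    (hx : x ∈ W) (T : Finset Γ(X, W))
    (hT : Ideal.span (T : Set Γ(X, W)) = (hW.primeIdealOf ⟨x, hx⟩).asIdeal)
    (y : X) (hy : y ∈ W ⊓ complClosure x) : ∃ t ∈ T, y ∈ X.basicOpen t := by
  by_contra hcon
  push Not at hcon
  obtain ⟨t₀, ht₀, hyt₀⟩ := exists_basicOpen_of_mem_complClosure hW x hx y hy
  have hle : Ideal.span (T : Set Γ(X, W)) ≤ (hW.primeIdealOf ⟨y, hy.1⟩).asIdeal := by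
    rw [Ideal.span_le]
    intro t ht
    by_contra hnot
    exact hcon t ht ((mem_basicOpen_iff_notMem_primeIdealOf hW y hy.1 t).2 hnot)
  rw [hT] at hle
  exact (mem_basicOpen_iff_notMem_primeIdealOf hW y hy.1 t₀).1 hyt₀ (hle ht₀)

/-- **Gluing local quotients**: if `t • σ = α • τ_t` for generators `t` of the prime of `x`, with
the `τ_t` compatible, then `σ` is divisible by `α` (under the Hartogs property). -/
theorem exists_smul_eq_of_local_quotients (hH : HartogsAt H x) {W : X.Opens}
    (hW : IsAffineOpen W) (hx : x ∈ W) (T : Finset Γ(X, W))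
    (hT : Ideal.span (T : Set Γ(X, W)) = (hW.primeIdealOf ⟨x, hx⟩).asIdeal)
    (α : Γ(X, W)) (σ : Γ(H, W)) (τ : Γ(X, W) → Γ(H, W))
    (h1 : ∀ t ∈ T, t • σ = α • τ t)
    (h2 : ∀ t ∈ T, ∀ t' ∈ T, t' • τ t = t • τ t') :
    ∃ s : Γ(H, W), α • s = σ := by
  classical
  have hTmem : ∀ t ∈ T, t ∈ (hW.primeIdealOf ⟨x, hx⟩).asIdeal := fun t ht => by
    rw [← hT]; exact Submodule.subset_span ht
  -- local quotients on `D(t)`
  have hu : ∀ t : Γ(X, W), IsUnit (X.presheaf.map (homOfLE (X.basicOpen_le t)).op t) :=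
    fun t => RingedSpace.isUnit_res_basicOpen _ t
  let loc : ∀ t : Γ(X, W), Γ(H, X.basicOpen t) := fun t =>
    (↑((hu t).unit⁻¹) : Γ(X, X.basicOpen t)) • H.presheaf.map (homOfLE (X.basicOpen_le t)).op (τ t)
  have hloc : ∀ t : Γ(X, W), X.presheaf.map (homOfLE (X.basicOpen_le t)).op t • loc t =
      H.presheaf.map (homOfLE (X.basicOpen_le t)).op (τ t) := by
    intro t
    change _ • ((↑((hu t).unit⁻¹) : Γ(X, X.basicOpen t)) • _) = _
    rw [← mul_smul]
    have : X.presheaf.map (homOfLE (X.basicOpen_le t)).op t * ↑((hu t).unit⁻¹) = 1 :=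
      (hu t).mul_val_inv
    rw [this, one_smul]
  -- consequence: after restriction to any smaller open
  have hloc' : ∀ (t : Γ(X, W)) (D : X.Opens) (hD : D ≤ X.basicOpen t),
      X.presheaf.map (homOfLE (hD.trans (X.basicOpen_le t))).op t •
        H.presheaf.map (homOfLE hD).op (loc t) =
      H.presheaf.map (homOfLE (hD.trans (X.basicOpen_le t))).op (τ t) := by
    intro t D hD
    have := congrArg (H.presheaf.map (homOfLE hD).op) (hloc t)
    rw [res_smul, res_res, res_resX] at this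
    exact this
  have hunit' : ∀ (t : Γ(X, W)) (D : X.Opens) (hD : D ≤ X.basicOpen t),
      IsUnit (X.presheaf.map (homOfLE (hD.trans (X.basicOpen_le t))).op t) := by
    intro t D hD
    have := (hu t).map (X.presheaf.map (homOfLE hD).op).hom
    have e : (X.presheaf.map (homOfLE hD).op).hom
        (X.presheaf.map (homOfLE (X.basicOpen_le t)).op t) =
        X.presheaf.map (homOfLE (hD.trans (X.basicOpen_le t))).op t := res_resX _ _ _
    rwa [e] at this
  -- choice of a generator near each point off the closure of `x`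
  have hcov : ∀ y : ↥(W ⊓ complClosure x), ∃ t ∈ T, y.1 ∈ X.basicOpen t := fun y =>
    exists_basicOpen_of_mem_complClosure_of_span x hW hx T hT y.1 y.2
  choose ty hty1 hty2 using hcov
  have hV : ∀ y : ↥(W ⊓ complClosure x), X.basicOpen (ty y) ≤ W ⊓ complClosure x := fun y =>
    basicOpen_le_complClosure hW x hx _ (hTmem _ (hty1 y))
  have hcompat : ∀ y y' : ↥(W ⊓ complClosure x),
      H.presheaf.map (homOfLE (inf_le_left :
        X.basicOpen (ty y) ⊓ X.basicOpen (ty y') ≤ X.basicOpen (ty y))).op (loc (ty y)) =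
      H.presheaf.map (homOfLE (inf_le_right :
        X.basicOpen (ty y) ⊓ X.basicOpen (ty y') ≤ X.basicOpen (ty y'))).op (loc (ty y')) := by
    intro y y'
    set t := ty y with ht
    set t' := ty y' with ht'
    set D := X.basicOpen t ⊓ X.basicOpen t' with hD
    have hDW : D ≤ W := inf_le_left.trans (X.basicOpen_le t)
    have e1 := hloc' t D inf_le_left
    have e2 := hloc' t' D inf_le_right
    have u1 := hunit' t D inf_le_left
    have u2 := hunit' t' D inf_le_right
    -- multiply by the unit `t * t'`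
    have k1 : (X.presheaf.map (homOfLE hDW).op t' * X.presheaf.map (homOfLE hDW).op t) •
        H.presheaf.map (homOfLE (inf_le_left : D ≤ X.basicOpen t)).op (loc t) =
        H.presheaf.map (homOfLE hDW).op (t' • τ t) := by
      rw [mul_smul, e1, res_smul]
    have k2 : (X.presheaf.map (homOfLE hDW).op t' * X.presheaf.map (homOfLE hDW).op t) •
        H.presheaf.map (homOfLE (inf_le_right : D ≤ X.basicOpen t')).op (loc t') =
        H.presheaf.map (homOfLE hDW).op (t • τ t') := by
      rw [mul_comm, mul_smul, e2, res_smul]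
    rw [h2 t (hty1 y) t' (hty1 y')] at k1
    exact ((u2.mul u1).smul_left_cancel).1 (k1.trans k2.symm)
  obtain ⟨s₀, hs₀⟩ := exists_glue_pts H (fun y => X.basicOpen (ty y)) hV hty2
    (fun y => loc (ty y)) hcompat
  obtain ⟨s, hs⟩ := hH.surj W hx s₀
  refine ⟨s, ?_⟩
  apply sub_eq_zero.1
  apply hH.inj W hx
  apply eq_of_locally_eq_pts H
  intro y hy
  refine ⟨X.basicOpen (ty ⟨y, hy⟩), hV ⟨y, hy⟩, hty2 ⟨y, hy⟩, ?_⟩
  set t := ty ⟨y, hy⟩ with ht
  have hle : X.basicOpen t ≤ W := X.basicOpen_le t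
  rw [res_res, map_zero, map_sub, sub_eq_zero, res_smul]
  have e3 : H.presheaf.map (homOfLE hle).op s = loc t := by
    have := hs₀ ⟨y, hy⟩
    rw [← hs, res_res] at this
    exact this
  rw [e3]
  apply ((hu t).smul_left_cancel).1
  rw [smul_comm, hloc t, ← res_smul, ← res_smul, h1 t (hty1 ⟨y, hy⟩)]

omit [IsLocallyNoetherian X] in
/-- Every element of the local ring at `x` is a fraction of sections over an affine open. -/
theorem exists_mul_germ_eq_germ {W : X.Opens} (hW : IsAffineOpen W) (hx : x ∈ W)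
    (a : X.presheaf.stalk x) :
    ∃ α s : Γ(X, W), x ∈ X.basicOpen s ∧
      a * X.presheaf.germ W x hx s = X.presheaf.germ W x hx α := by
  letI := X.presheaf.algebra_section_stalk ⟨x, hx⟩
  haveI := hW.isLocalization_stalk ⟨x, hx⟩
  obtain ⟨⟨α, s⟩, has⟩ := IsLocalization.surj (hW.primeIdealOf ⟨x, hx⟩).asIdeal.primeCompl a
  exact ⟨α, s.1, (mem_basicOpen_iff_notMem_primeIdealOf hW x hx s.1).2 s.2, has⟩

omit [IsLocallyNoetherian X] in
/-- One step of the divisibility argument: from `t_x • n = a • n'` in the stalk to a relation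
between sections. -/
theorem exists_smul_smul_eq {W : X.Opens} (hW : IsAffineOpen W) (hx : x ∈ W)
    (a : X.presheaf.stalk x) (α sa : Γ(X, W))
    (haα : a * X.presheaf.germ W x hx sa = X.presheaf.germ W x hx α)
    (hsa : x ∈ X.basicOpen sa)
    (n : H.presheaf.stalk x) (s : Γ(X, W)) (σ : Γ(H, W))
    (hsσ : X.presheaf.germ W x hx s • n = H.presheaf.germ W x hx σ)
    (t : Γ(X, W)) (n' : H.presheaf.stalk x) (hn' : X.presheaf.germ W x hx t • n = a • n') :
    ∃ (e : Γ(X, W)) (τ : Γ(H, W)), x ∈ X.basicOpen e ∧ e • t • σ = α • τ := by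
  have hHl := LocOn.of_isQuasicoherent H hW
  obtain ⟨s', ν, hxs', hs'ν⟩ := exists_germ_smul_eq_germ_of_locOn H hW hHl x hx n'
  have h0 : H.presheaf.germ W x hx ((sa * s') • t • σ - α • s • ν) = 0 := by
    rw [map_sub, sub_eq_zero, germ_smul, germ_smul, germ_smul, germ_smul, map_mul, ← hsσ, ← hs'ν,
      ← haα]
    rw [smul_smul, smul_smul, smul_smul, smul_smul]
    have e1 : X.presheaf.germ W x hx sa * X.presheaf.germ W x hx s' * X.presheaf.germ W x hx t *
        X.presheaf.germ W x hx s = (X.presheaf.germ W x hx sa * X.presheaf.germ W x hx s' *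
        X.presheaf.germ W x hx s) * X.presheaf.germ W x hx t := by ring
    rw [e1, mul_smul, hn', smul_smul]
    congr 1
    ring
  obtain ⟨h, hxh, hh⟩ := (germ_eq_zero_iff_of_locOn H hW hHl x hx _).1 h0
  refine ⟨h * (sa * s'), h • s • ν, ?_, ?_⟩
  · rw [X.mem_basicOpen _ x hx, map_mul, map_mul]
    exact ((X.mem_basicOpen _ x hx).1 hxh).mul
      (((X.mem_basicOpen _ x hx).1 hsa).mul ((X.mem_basicOpen _ x hx).1 hxs'))
  · rw [smul_sub, sub_eq_zero] at hh
    rw [mul_smul, hh, smul_comm]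

/-- **No `𝔪_x`-torsion modulo a regular element**: under the Hartogs property, if `a` is regular
on `H_x` and `𝔪_x • n ⊆ a • H_x`, then `n ∈ a • H_x`. -/
theorem exists_eq_smul_of_forall (hH : HartogsAt H x) (a : X.presheaf.stalk x)
    (hreg : ∀ z : H.presheaf.stalk x, a • z = 0 → z = 0) (n : H.presheaf.stalk x)
    (hn : ∀ t ∈ IsLocalRing.maximalIdeal (X.presheaf.stalk x),
      ∃ n' : H.presheaf.stalk x, t • n = a • n') :
    ∃ n'' : H.presheaf.stalk x, n = a • n'' := by
  classical
  obtain ⟨_, ⟨W, hW : IsAffineOpen W, rfl⟩, hx, -⟩ :=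
    (X.isBasis_affineOpens).exists_subset_of_mem_open (Set.mem_univ x) isOpen_univ
  haveI : IsNoetherianRing Γ(X, W) := IsLocallyNoetherian.component_noetherian ⟨W, hW⟩
  have hHl := LocOn.of_isQuasicoherent H hW
  obtain ⟨α, sa, hsa, haα⟩ := exists_mul_germ_eq_germ x hW hx a
  have hsau : IsUnit (X.presheaf.germ W x hx sa) := isUnit_germ_of_mem_basicOpen sa x hx hsa
  obtain ⟨s, σ, hxs, hsσ⟩ := exists_germ_smul_eq_germ_of_locOn H hW hHl x hx n
  have hsu : IsUnit (X.presheaf.germ W x hx s) := isUnit_germ_of_mem_basicOpen s x hx hxs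
  -- relations between sections for all elements of the prime of `x`
  have h3 : ∀ t : Γ(X, W), t ∈ (hW.primeIdealOf ⟨x, hx⟩).asIdeal →
      ∃ (e : Γ(X, W)) (τ : Γ(H, W)), x ∈ X.basicOpen e ∧ e • t • σ = α • τ := by
    intro t ht
    obtain ⟨n', hn'⟩ := hn _ (germ_mem_maximalIdeal x hW hx t ht)
    exact exists_smul_smul_eq H x hW hx a α sa haα hsa n s σ hsσ t n' hn'
  obtain ⟨T, hT⟩ : ((hW.primeIdealOf ⟨x, hx⟩).asIdeal).FG := IsNoetherian.noetherian _
  have hTmem : ∀ t ∈ T, t ∈ (hW.primeIdealOf ⟨x, hx⟩).asIdeal := fun t ht => by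
    rw [← hT]; exact Submodule.subset_span ht
  choose! e τ he1 he2 using h3
  set E := ∏ t ∈ T, e t with hEdef
  have hEx : x ∈ X.basicOpen E := mem_basicOpen_prod x hx T e (fun t ht => he1 t (hTmem t ht))
  have hc : ∀ t ∈ T, ∃ c : Γ(X, W), E = e t * c := fun t ht => Finset.dvd_prod_of_mem e ht
  choose! c hc using hc
  -- first normalisation
  have h4 : ∀ t ∈ T, t • (E • σ) = α • (c t • τ t) := by
    intro t ht
    rw [smul_comm t E σ, hc t ht, mul_comm, mul_smul, he2 t (hTmem t ht), smul_comm]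
  -- compatibility after killing by elements not vanishing at `x`
  have h5 : ∀ t ∈ T, ∀ t' ∈ T, ∃ g : Γ(X, W), x ∈ X.basicOpen g ∧
      g • (t' • (c t • τ t) - t • (c t' • τ t')) = 0 := by
    intro t ht t' ht'
    apply (germ_eq_zero_iff_of_locOn H hW hHl x hx _).1
    have h6 : α • (t' • (c t • τ t) - t • (c t' • τ t')) = 0 := by
      rw [smul_sub, smul_comm α t', smul_comm α t, ← h4 t ht, ← h4 t' ht', smul_comm, sub_self]
    have h7 := congrArg (H.presheaf.germ W x hx) h6
    rw [germ_smul, map_zero, ← haα, mul_smul] at h7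
    exact hsau.smul_eq_zero.1 (hreg _ h7)
  choose! g hg1 hg2 using h5
  set Gt := ∏ q ∈ T ×ˢ T, g q.1 q.2 with hGtdef
  have hGx : x ∈ X.basicOpen Gt := mem_basicOpen_prod x hx (T ×ˢ T) (fun q => g q.1 q.2)
    (fun q hq => hg1 q.1 (Finset.mem_product.1 hq).1 q.2 (Finset.mem_product.1 hq).2)
  have hd : ∀ t ∈ T, ∀ t' ∈ T, ∃ d : Γ(X, W), Gt = g t t' * d := fun t ht t' ht' =>
    Finset.dvd_prod_of_mem (fun q : Γ(X, W) × Γ(X, W) => g q.1 q.2)
      (Finset.mem_product.2 ⟨ht, ht'⟩ : (t, t') ∈ T ×ˢ T)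
  -- glue
  obtain ⟨st, hst⟩ := exists_smul_eq_of_local_quotients H x hH hW hx T hT α (Gt • E • σ)
    (fun t => Gt • c t • τ t)
    (fun t ht => by rw [smul_comm t Gt, h4 t ht, smul_comm])
    (fun t ht t' ht' => by
      obtain ⟨d, hd⟩ := hd t ht t' ht'
      have := hg2 t ht t' ht'
      have h8 : Gt • (t' • (c t • τ t) - t • (c t' • τ t')) = 0 := by
        rw [hd, mul_comm, mul_smul, this, smul_zero]
      rw [smul_sub, sub_eq_zero] at h8
      rw [smul_comm t' Gt, smul_comm t Gt]
      exact h8)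
  -- conclude on germs
  have hEu : IsUnit (X.presheaf.germ W x hx E) := isUnit_germ_of_mem_basicOpen E x hx hEx
  have hGu : IsUnit (X.presheaf.germ W x hx Gt) := isUnit_germ_of_mem_basicOpen Gt x hx hGx
  have h9 := congrArg (H.presheaf.germ W x hx) hst
  rw [germ_smul, germ_smul, germ_smul, ← hsσ, ← haα] at h9
  have hw : IsUnit (X.presheaf.germ W x hx Gt * X.presheaf.germ W x hx E *
      X.presheaf.germ W x hx s) := (hGu.mul hEu).mul hsu
  obtain ⟨w, hw'⟩ := hw
  refine ⟨((↑w⁻¹ : X.presheaf.stalk x) * X.presheaf.germ W x hx sa) •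
    H.presheaf.germ W x hx st, ?_⟩
  have h10 : (w : X.presheaf.stalk x) • n = a • (X.presheaf.germ W x hx sa •
      H.presheaf.germ W x hx st) := by
    rw [hw', mul_smul, mul_smul, ← h9, mul_smul]
  calc n = ((↑w⁻¹ : X.presheaf.stalk x) * (w : X.presheaf.stalk x)) • n := by
        rw [Units.inv_mul, one_smul]
    _ = (↑w⁻¹ : X.presheaf.stalk x) • ((w : X.presheaf.stalk x) • n) := mul_smul _ _ _
    _ = _ := by rw [h10, smul_smul, smul_smul, smul_smul]; congr 1; ring

/-- **Converse Hartogs**: if `H` has the Hartogs property at `x` and `H_x` is finite, then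
`depth H_x ≥ 2`. -/
theorem two_le_depth_of_hartogsAt (hH : HartogsAt H x)
    [Module.Finite (X.presheaf.stalk x) (H.presheaf.stalk x)] :
    (2 : ℕ∞) ≤ LocCoh.depth (X.presheaf.stalk x) (H.presheaf.stalk x) :=
  Groth.Agent.Lib.Helper64.HartogsConvAlg.two_le_depth_of_socle_free _
    (fun n hn => eq_zero_of_forall_smul_eq_zero H x hH n hn)
    (fun a _ hreg n hn => exists_eq_smul_of_forall H x hH a hreg n hn)

end Stalk

end Groth.Agent.Lib.Helper64.HartogsConv
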