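import Mathlib
import Groth.Agent.Lib.Helper64.HartogsConv
import Groth.Agent.Lib.Lead.Inv2

/-!
# `j_*(F|_U)`: depth `≥ 2` off `U` and the universal property (helper64)
-/

set_option autoImplicit false
set_option linter.style.haveILetI false
universe u

open AlgebraicGeometry CategoryTheory TopologicalSpace Opposite

namespace Groth.Agent.Lib.Helper64.PushRestrictDepth

open Groth.Agent.Lib.Lead.QCohAff Groth.Agent.Lib.Lead.SheafGlue
  Groth.Agent.Lib.Helper64.HartogsConv Groth.Agent.Lib.Helper64.DepthIso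

variable {X : Scheme.{u}} (U : X.Opens)

/-- `U ∩ V` in the form in which it appears in sections of `j_*(F|_U)`. -/
theorem ι_image_preimage (V : X.Opens) : U.ι ''ᵁ U.ι ⁻¹ᵁ V = U ⊓ V := by
  rw [Scheme.Hom.image_preimage_eq_opensRange_inf, Scheme.Opens.opensRange_ι]

/-- An open not containing `x` misses the closure of `x`. -/
theorem le_complClosure (x : X) (hx : x ∉ U) : U ≤ complClosure x := by
  intro y hy
  change y ∈ complClosure x
  rw [mem_complClosure_iff]
  intro hspec
  exact hx (hspec.mem_open U.isOpen hy)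

/-- **The Hartogs property of `j_*(G)` at points outside `U`.** -/
theorem hartogsAt_pushforward (G : (U : Scheme.{u}).Modules) (x : X) (hx : x ∉ U) :
    HartogsAt ((Scheme.Modules.pushforward U.ι).obj G) x := by
  have key : ∀ V : X.Opens, Function.Bijective
      (((Scheme.Modules.pushforward U.ι).obj G).presheaf.map
        (homOfLE (inf_le_left : V ⊓ complClosure x ≤ V)).op) := by
    intro V
    have heq : U.ι ⁻¹ᵁ (V ⊓ complClosure x) = U.ι ⁻¹ᵁ V := by
      ext y
      constructor
      · intro hy; exact hy.1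
      · intro hy; exact ⟨hy, le_complClosure U x hx y.2⟩
    have hb := Groth.Agent.Lib.Lead.Inv.res_bijective_of_eq G heq
    exact hb
  exact ⟨fun V _ σ hσ => (key V).1 (hσ.trans (map_zero _).symm), fun V _ s => (key V).2 s⟩

/-- A morphism of modules whose restriction to `U` is an isomorphism is bijective on the stalks at
points of `U`. -/
theorem stalk_bijective_of_isIso_restrict {M N : X.Modules} (ψ : M ⟶ N)
    (h : IsIso ((Scheme.Modules.restrictFunctor U.ι).map ψ)) (x : X) (hx : x ∈ U) :
    Function.Bijective ((TopCat.Presheaf.stalkFunctor AddCommGrpCat.{u} x).map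
      (Scheme.Modules.Hom.mapPresheaf ψ)) := by
  let x' : (U : Scheme.{u}) := ⟨x, hx⟩
  let e := Scheme.Modules.restrictStalkNatIso U.ι x'
  have nat := e.hom.naturality ψ
  haveI : IsIso ((Scheme.Modules.restrictFunctor U.ι ⋙ Scheme.Modules.toPresheaf _ ⋙
      TopCat.Presheaf.stalkFunctor _ x').map ψ) := by
    rw [Functor.comp_map]
    infer_instance
  have h2 : (Scheme.Modules.toPresheaf X ⋙ TopCat.Presheaf.stalkFunctor AddCommGrpCat.{u} (U.ι x')).map ψ =
      inv (e.hom.app M) ≫ (Scheme.Modules.restrictFunctor U.ι ⋙ Scheme.Modules.toPresheaf _ ⋙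
      TopCat.Presheaf.stalkFunctor _ x').map ψ ≫ e.hom.app N := by
    rw [nat, IsIso.inv_hom_id_assoc]
  haveI : IsIso ((Scheme.Modules.toPresheaf _ ⋙
      TopCat.Presheaf.stalkFunctor AddCommGrpCat.{u} (U.ι x')).map ψ) := by
    rw [h2]; infer_instance
  exact ConcreteCategory.bijective_of_isIso
    ((Scheme.Modules.toPresheaf X ⋙ TopCat.Presheaf.stalkFunctor AddCommGrpCat.{u} (U.ι x')).map ψ)

section Universal

variable [IsLocallyNoetherian X] (F : X.Modules)

/-- `j_*(F|_U)` has depth `≥ 2` at the points outside `U`, when it is coherent. -/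
theorem two_le_depth_pushforward_restrict
    (hF' : Coh.IsCoh ((Scheme.Modules.pushforward U.ι).obj (F.restrict U.ι))) (x : X)
    (hx : x ∉ U) :
    (2 : ℕ∞) ≤ LocCoh.depth (X.presheaf.stalk x)
      (((Scheme.Modules.pushforward U.ι).obj (F.restrict U.ι)).presheaf.stalk x) := by
  haveI : ((Scheme.Modules.pushforward U.ι).obj (F.restrict U.ι)).IsQuasicoherent := hF'.1
  haveI : Module.Finite (X.presheaf.stalk x)
      (((Scheme.Modules.pushforward U.ι).obj (F.restrict U.ι)).presheaf.stalk x) :=
    Groth.Agent.Lib.Lead.CohAff.finite_stalk_of_isFiniteType _ hF'.2 x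
  exact two_le_depth_of_hartogsAt _ x (hartogsAt_pushforward U _ x hx)

/-- **Universal property of `F → j_*(F|_U)`** among maps to coherent modules of depth `≥ 2` off
`U` which are isomorphisms over `U`. -/
theorem existsUnique_and_isIso
    (hF' : Coh.IsCoh ((Scheme.Modules.pushforward U.ι).obj (F.restrict U.ι)))
    (G : X.Modules) (hG : Coh.IsCoh G) (φ : F ⟶ G)
    (hφ : IsIso ((Scheme.Modules.restrictFunctor U.ι).map φ))
    (hd : ∀ x : X, x ∉ U →
      (2 : ℕ∞) ≤ LocCoh.depth (X.presheaf.stalk x) (G.presheaf.stalk x)) :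
    (∃! ψ : G ⟶ (Scheme.Modules.pushforward U.ι).obj (F.restrict U.ι),
        φ ≫ ψ = (Scheme.Modules.restrictAdjunction U.ι).unit.app F) ∧
      ∀ ψ : G ⟶ (Scheme.Modules.pushforward U.ι).obj (F.restrict U.ι),
        φ ≫ ψ = (Scheme.Modules.restrictAdjunction U.ι).unit.app F → IsIso ψ := by
  haveI := hφ
  let ψ₀ : G ⟶ (Scheme.Modules.pushforward U.ι).obj (F.restrict U.ι) :=
    (Scheme.Modules.restrictAdjunction U.ι).homEquiv G (F.restrict U.ι) (inv ((Scheme.Modules.restrictFunctor U.ι).map φ))
  have h0 : φ ≫ ψ₀ = (Scheme.Modules.restrictAdjunction U.ι).unit.app F := by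
    change φ ≫ (Scheme.Modules.restrictAdjunction U.ι).homEquiv G (F.restrict U.ι) (inv ((Scheme.Modules.restrictFunctor U.ι).map φ)) = _
    rw [← (Scheme.Modules.restrictAdjunction U.ι).homEquiv_naturality_left, IsIso.hom_inv_id, (Scheme.Modules.restrictAdjunction U.ι).homEquiv_id]
  have huniq : ∀ ψ : G ⟶ (Scheme.Modules.pushforward U.ι).obj (F.restrict U.ι),
      φ ≫ ψ = (Scheme.Modules.restrictAdjunction U.ι).unit.app F → ψ = ψ₀ := by
    intro ψ hψ
    apply ((Scheme.Modules.restrictAdjunction U.ι).homEquiv G (F.restrict U.ι)).symm.injective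
    change _ = ((Scheme.Modules.restrictAdjunction U.ι).homEquiv G (F.restrict U.ι)).symm
      ((Scheme.Modules.restrictAdjunction U.ι).homEquiv G (F.restrict U.ι) (inv ((Scheme.Modules.restrictFunctor U.ι).map φ)))
    rw [Equiv.symm_apply_apply]
    have h1 : (Scheme.Modules.restrictFunctor U.ι).map φ ≫ ((Scheme.Modules.restrictAdjunction U.ι).homEquiv G (F.restrict U.ι)).symm ψ = 𝟙 _ := by
      rw [← (Scheme.Modules.restrictAdjunction U.ι).homEquiv_naturality_left_symm, hψ, ← (Scheme.Modules.restrictAdjunction U.ι).homEquiv_id, Equiv.symm_apply_apply]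
    exact IsIso.eq_inv_of_hom_inv_id h1
  have hiso : IsIso ψ₀ := by
    apply isIso_of_depth ψ₀ hG hF'.1
    intro x
    by_cases hx : x ∈ U
    · left
      apply stalk_bijective_of_isIso_restrict U ψ₀ _ x hx
      have h2 : (Scheme.Modules.restrictFunctor U.ι).map ψ₀ ≫ (Scheme.Modules.restrictAdjunction U.ι).counit.app (F.restrict U.ι) = inv ((Scheme.Modules.restrictFunctor U.ι).map φ) := by
        have := (Scheme.Modules.restrictAdjunction U.ι).homEquiv_counit (X := G)
          (Y := F.restrict U.ι) (g := ψ₀)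
        rw [← this]
        exact Equiv.symm_apply_apply _ _
      have h3 : (Scheme.Modules.restrictFunctor U.ι).map ψ₀ = inv ((Scheme.Modules.restrictFunctor U.ι).map φ) ≫ inv ((Scheme.Modules.restrictAdjunction U.ι).counit.app (F.restrict U.ι)) := by
        rw [← h2, Category.assoc, IsIso.hom_inv_id, Category.comp_id]
      rw [h3]
      infer_instance
    · right
      refine ⟨hd x hx, ?_⟩
      intro hass
      haveI : ((Scheme.Modules.pushforward U.ι).obj (F.restrict U.ι)).IsQuasicoherent := hF'.1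
      exact Groth.Agent.Lib.Helper64.HartogsConvAlg.not_mem_associatedPrimes_of_socle_free _
        (fun n hn => eq_zero_of_forall_smul_eq_zero _ x (hartogsAt_pushforward U _ x hx) n hn)
        hass
  exact ⟨⟨ψ₀, h0, fun ψ hψ => huniq ψ hψ⟩, fun ψ hψ => by rw [huniq ψ hψ]; exact hiso⟩

end Universal

end Groth.Agent.Lib.Helper64.PushRestrictDepth
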