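import Mathlib
import Groth.Agent.Lib.Helper64.HomSh4
import Groth.Agent.Lib.Helper64.DepthIso
import Groth.Agent.Lib.Helper64.NormalS2
import Groth.Agent.Lib.Helper64.HartogsMod
import Groth.Agent.Lib.Helper35.GlobGen
import Groth.Agent.Lib.Lead.Inv2

/-!
# Reflexive modules are S2: regular pairs, torsion-freeness, isomorphisms in codimension one
(helper64)

* algebra: `HasRegPairMod.of_linearEquiv`, `hasRegPairMod_hom` (a regular pair on `O'` is a regular
  pair on `Hom(P, O')`), `hasRegPairMod_of_isReflexive`, `smul_eq_zero_of_isReflexive`.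
* `noZeroSMulDivisors_stalk_of_isReflexive`, `hasRegPairMod_stalk_of_isReflexive`.
* `bijective_stalkMap_of_regPair` (local step), `isIso_of_codim_one`.
* `IsGen.bijective_stalk`, `stalkMapₗ_secHom`, `germ_eq_zero_of_generic`.
-/

set_option autoImplicit false
set_option linter.style.haveILetI false
universe u

open AlgebraicGeometry CategoryTheory Opposite TopologicalSpace

namespace Groth.Agent.Lib.Helper64.RefS2

open Groth.Agent.Lib.Lead.QCohAff Groth.Agent.Lib.Lead.SheafGlue
open Groth.Agent.Lib.Helper64.HartogsMod Groth.Agent.Lib.Helper64.HomSh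
open IsLocalRing

section algebra

variable {R : Type*} [CommRing R] [IsLocalRing R]

theorem HasRegPairMod.of_linearEquiv {M M' : Type*} [AddCommGroup M] [Module R M]
    [AddCommGroup M'] [Module R M'] (e : M ≃ₗ[R] M') (h : HasRegPairMod R M) :
    HasRegPairMod R M' := by
  obtain ⟨a, ha, b, hb, h1, h2⟩ := h
  refine ⟨a, ha, b, hb, fun z hz => ?_, fun z1 z2 hz => ?_⟩
  · have : a • e.symm z = 0 := by rw [← map_smul, hz, map_zero]
    have := h1 _ this
    simpa using congrArg e this
  · have : b • e.symm z1 = a • e.symm z2 := by rw [← map_smul, ← map_smul, hz]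
    obtain ⟨z', hz'⟩ := h2 _ _ this
    refine ⟨e z', ?_⟩
    rw [← map_smul, ← hz', LinearEquiv.apply_symm_apply]

/-- a regular pair on the target is a regular pair on the module of homomorphisms -/
theorem hasRegPairMod_hom {P O' : Type*} [AddCommGroup P] [Module R P] [AddCommGroup O']
    [Module R O'] (h : HasRegPairMod R O') : HasRegPairMod R (P →ₗ[R] O') := by
  obtain ⟨a, ha, b, hb, h1, h2⟩ := h
  have hinj : ∀ x y : O', a • x = a • y → x = y := by
    intro x y hxy
    have : a • (x - y) = 0 := by rw [smul_sub, hxy, sub_self]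
    exact sub_eq_zero.1 (h1 _ this)
  refine ⟨a, ha, b, hb, fun φ hφ => ?_, fun φ1 φ2 hφ => ?_⟩
  · apply LinearMap.ext
    intro p
    have : a • φ p = 0 := by
      have := LinearMap.congr_fun hφ p
      simpa using this
    exact h1 _ this
  · have h3 : ∀ p, ∃ z', φ1 p = a • z' := by
      intro p
      have : b • φ1 p = a • φ2 p := by
        have := LinearMap.congr_fun hφ p
        simpa using this
      exact h2 _ _ this
    choose c hc using h3
    refine ⟨{ toFun := c, map_add' := fun p q => ?_, map_smul' := fun r p => ?_ }, ?_⟩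
    · apply hinj
      rw [← hc, map_add, smul_add, ← hc, ← hc]
    · apply hinj
      rw [← hc, map_smul, RingHom.id_apply, smul_comm, ← hc]
    · apply LinearMap.ext
      intro p
      exact hc p

/-- reflexive modules inherit a regular pair from the ring -/
theorem hasRegPairMod_of_isReflexive {M : Type*} [AddCommGroup M] [Module R M]
    [Module.IsReflexive R M] (h : HasRegPairMod R R) : HasRegPairMod R M :=
  HasRegPairMod.of_linearEquiv (Module.evalEquiv R M).symm (hasRegPairMod_hom h)

omit [IsLocalRing R] in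
/-- reflexive modules over a domain are torsion-free -/
theorem smul_eq_zero_of_isReflexive [IsDomain R] {M : Type*} [AddCommGroup M] [Module R M]
    [Module.IsReflexive R M] (r : R) (m : M) (h : r • m = 0) : r = 0 ∨ m = 0 := by
  by_cases hr : r = 0
  · exact Or.inl hr
  right
  have h1 : Module.Dual.eval R M m = 0 := by
    apply LinearMap.ext
    intro φ
    have : r * φ m = 0 := by
      rw [← smul_eq_mul, ← map_smul, h, map_zero]
    rcases mul_eq_zero.1 this with h' | h'
    · exact absurd h' hr
    · simpa using h'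
  exact (Module.bijective_dual_eval R M).1 (h1.trans (map_zero _).symm)

end algebra

variable {X : Scheme.{u}}

section stalks

variable [IsLocallyNoetherian X] {F : X.Modules}

/-- the stalks of a coherent reflexive module on an integral scheme are torsion-free -/
theorem noZeroSMulDivisors_stalk_of_isReflexive [IsIntegral X] (hF : Coh.IsCoh F)
    (hr : RefHull.IsReflexive F) (x : X) :
    NoZeroSMulDivisors (X.presheaf.stalk x) (F.presheaf.stalk x) := by
  haveI : Module.IsReflexive (X.presheaf.stalk x) (F.presheaf.stalk x) :=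
    (isReflexive_iff_forall_isReflexiveAt hF).1 hr x
  exact ⟨fun {r m} h => smul_eq_zero_of_isReflexive r m h⟩

/-- the stalks of a coherent reflexive module at points of codimension `≥ 2` of a normal scheme
have a regular pair -/
theorem hasRegPairMod_stalk_of_isReflexive (hX : Pi1.IsNormalScheme X) (hF : Coh.IsCoh F)
    (hr : RefHull.IsReflexive F) (x : X) (hx : ¬ ringKrullDim (X.presheaf.stalk x) ≤ 1) :
    HasRegPairMod (X.presheaf.stalk x) (F.presheaf.stalk x) := by
  haveI : Module.IsReflexive (X.presheaf.stalk x) (F.presheaf.stalk x) :=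
    (isReflexive_iff_forall_isReflexiveAt hF).1 hr x
  haveI := (hX x).1
  haveI := (hX x).2
  exact hasRegPairMod_of_isReflexive
    (Groth.Agent.Lib.Helper64.NormalS2.hasRegPairMod_of_normal (X.presheaf.stalk x) hx
      (X.presheaf.stalk x))

end stalks

section iso

open Groth.Agent.Lib.Helper64.DepthIso Groth.Agent.Lib.Helper64.DepthIsoAlg
  Groth.Agent.Lib.Helper64.DepthOne

variable [IsLocallyNoetherian X] {F G : X.Modules} (φ : F ⟶ G)

/-- local step: the stalk map at `y` is bijective if it is at all proper generizations, `F_y` has a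
regular pair and `y` is not associated to `G` -/
theorem bijective_stalkMap_of_regPair (hF : Coh.IsCoh F) (hG : Coh.IsQCoh G) (y : X)
    (IH : ∀ y' : X, y' ⤳ y → y' ≠ y → Function.Bijective (RefHull.stalkMapₗ φ y'))
    (hpair : HasRegPairMod (X.presheaf.stalk y) (F.presheaf.stalk y))
    (hass : ¬ Curv2.IsAssPoint G y) : Function.Bijective (RefHull.stalkMapₗ φ y) := by
  obtain ⟨_, ⟨U, hU : IsAffineOpen U, rfl⟩, hyU, -⟩ :=
    (X.isBasis_affineOpens).exists_subset_of_mem_open (Set.mem_univ y) isOpen_univ
  haveI : F.IsQuasicoherent := hF.1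
  haveI : G.IsQuasicoherent := hG
  obtain ⟨a, ha, b, hb, hreg, hreg2⟩ := hpair
  exact bijective_of_local (RefHull.stalkMapₗ φ y) a b ha hb hreg hreg2
    (fun k hk Q hQp hQ => exists_smul_eq_zero_of_injective φ hU y hyU
      (fun y' hs hne => (IH y' hs hne).1) k hk Q hQ)
    (fun n₀ Q hQp hQ => exists_smul_mem_range_of_surjective φ hU y hyU
      (fun y' hs hne => (IH y' hs hne).2) n₀ Q hQ)
    hass

/-- a morphism from a coherent module with regular pairs in codimension `≥ 2` to a torsion-free
quasi-coherent module which is bijective on stalks in codimension `≤ 1` is bijective on all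
stalks -/
theorem bijective_stalkMap_of_codim_one [IsIntegral X] (hF : Coh.IsCoh F) (hG : Coh.IsQCoh G)
    (htf : ∀ x : X, NoZeroSMulDivisors (X.presheaf.stalk x) (G.presheaf.stalk x))
    (hpair : ∀ x : X, ¬ ringKrullDim (X.presheaf.stalk x) ≤ 1 →
      HasRegPairMod (X.presheaf.stalk x) (F.presheaf.stalk x))
    (h1 : ∀ x : X, ringKrullDim (X.presheaf.stalk x) ≤ 1 →
      Function.Bijective (RefHull.stalkMapₗ φ x)) :
    ∀ x : X, Function.Bijective (RefHull.stalkMapₗ φ x) := by
  by_contra hcon
  push Not at hcon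
  obtain ⟨x, hx⟩ := hcon
  obtain ⟨y, hyS, -, hmax⟩ := exists_maximal_generization_mem
    {x : X | ¬ Function.Bijective (RefHull.stalkMapₗ φ x)} x hx
  have IH : ∀ y' : X, y' ⤳ y → y' ≠ y → Function.Bijective (RefHull.stalkMapₗ φ y') := by
    intro y' hs hne
    by_contra hnb
    exact hne (hmax y' hnb hs)
  apply hyS
  by_cases hd : ringKrullDim (X.presheaf.stalk y) ≤ 1
  · exact h1 y hd
  · refine bijective_stalkMap_of_regPair φ hF hG y IH (hpair y hd)
      (not_isAssPoint_of_torsionFree G y (htf y) ?_)
    rintro rfl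
    apply hd
    have hfld : IsField (X.presheaf.stalk (genericPoint X)) := Field.toIsField _
    rw [ringKrullDim_eq_zero_of_isField hfld]
    exact zero_le_one

theorem isIso_of_codim_one [IsIntegral X] (hF : Coh.IsCoh F) (hG : Coh.IsQCoh G)
    (htf : ∀ x : X, NoZeroSMulDivisors (X.presheaf.stalk x) (G.presheaf.stalk x))
    (hpair : ∀ x : X, ¬ ringKrullDim (X.presheaf.stalk x) ≤ 1 →
      HasRegPairMod (X.presheaf.stalk x) (F.presheaf.stalk x))
    (h1 : ∀ x : X, ringKrullDim (X.presheaf.stalk x) ≤ 1 →
      Function.Bijective (RefHull.stalkMapₗ φ x)) : IsIso φ :=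
  (isIso_iff_forall_bijective φ).2 (bijective_stalkMap_of_codim_one φ hF hG htf hpair h1)

end iso

section gen

variable {F : X.Modules}

/-- a local generator generates the stalks freely -/
theorem bijective_stalk_of_isGen {W : X.Opens} {e : Γ(F, W)}
    (he : Groth.Agent.Lib.Lead.Inv.IsGen F W e) (y : X) (hy : y ∈ W) :
    Function.Bijective fun a : X.presheaf.stalk y => a • F.presheaf.germ W y hy e := by
  constructor
  · intro a a' h
    have h0 : (a - a') • F.presheaf.germ W y hy e = 0 := by
      rw [sub_smul]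
      exact sub_eq_zero.2 h
    obtain ⟨V, hyV, α, hα⟩ := TopCat.Presheaf.exists_germ_eq X.presheaf (a - a')
    let V' := V ⊓ W
    have hyV' : y ∈ V' := ⟨hyV, hy⟩
    let α' : Γ(X, V') := X.presheaf.map (homOfLE (inf_le_left : V' ≤ V)).op α
    have hα' : X.presheaf.germ V' y hyV' α' = a - a' := by rw [germX_res, hα]
    have h1 : F.presheaf.germ V' y hyV'
        (α' • F.presheaf.map (homOfLE (inf_le_right : V' ≤ W)).op e) = 0 := by
      rw [germ_smul, germ_res, hα', h0]
    obtain ⟨V'', hV'', hyV'', h2⟩ := exists_res_eq_zero_of_germ_eq_zero F _ y hyV' h1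
    rw [res_smul, res_res] at h2
    have h3 := (he V'' (hV''.trans inf_le_right)).1
      (h2.trans (zero_smul _ _).symm)
    have h4 : a - a' = 0 := by
      rw [← hα', ← germX_res hV'' y hyV'', h3, map_zero]
    exact sub_eq_zero.1 h4
  · intro v
    obtain ⟨V, hyV, m, rfl⟩ := TopCat.Presheaf.exists_germ_eq F.presheaf v
    let V' := V ⊓ W
    have hyV' : y ∈ V' := ⟨hyV, hy⟩
    obtain ⟨α, hα⟩ := (he V' inf_le_right).2 (F.presheaf.map (homOfLE inf_le_left).op m)
    refine ⟨X.presheaf.germ V' y hyV' α, ?_⟩
    have := congrArg (F.presheaf.germ V' y hyV') hα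
    rw [germ_smul, germ_res, germ_res] at this
    exact this

/-- the stalk map of the morphism `O_X ⟶ F` defined by a global section -/
theorem stalkMapₗ_secHom (s : Γ(F, ⊤)) (y : X) (a : X.presheaf.stalk y) :
    RefHull.stalkMapₗ (Groth.Agent.Lib.Helper35.GlobGen.secHom F s) y
      (Groth.Agent.Lib.Helper29.QCohLoc.stalkEquiv X y a) = a • F.presheaf.germ ⊤ y trivial s := by
  obtain ⟨V, hyV, α, rfl⟩ := TopCat.Presheaf.exists_germ_eq X.presheaf a
  have h1 : Groth.Agent.Lib.Helper29.QCohLoc.stalkEquiv X y (X.presheaf.germ V y hyV α) =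
      (Coh.structureModule X).presheaf.germ V y hyV
        (Groth.Agent.Lib.Helper29.QCohLoc.ofSec X α) :=
    (Groth.Agent.Lib.Helper29.QCohLoc.germ_ofSec X y hyV α).symm
  rw [h1, RefHull.stalkMapₗ_germ]
  have h2 := Groth.Agent.Lib.Helper35.GlobGen.secHom_app F s V α
  have h3 : (Groth.Agent.Lib.Helper35.GlobGen.secHom F s).app V
      (Groth.Agent.Lib.Helper29.QCohLoc.ofSec X α) =
      α • F.presheaf.map (homOfLE (le_top : V ≤ ⊤)).op s := h2
  rw [h3, germ_smul, germ_res]

theorem bijective_stalkMapₗ_secHom_iff (s : Γ(F, ⊤)) (y : X) :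
    Function.Bijective (RefHull.stalkMapₗ (Groth.Agent.Lib.Helper35.GlobGen.secHom F s) y) ↔
      Function.Bijective fun a : X.presheaf.stalk y => a • F.presheaf.germ ⊤ y trivial s := by
  have h : (fun a : X.presheaf.stalk y => a • F.presheaf.germ ⊤ y trivial s) =
      RefHull.stalkMapₗ (Groth.Agent.Lib.Helper35.GlobGen.secHom F s) y ∘
        Groth.Agent.Lib.Helper29.QCohLoc.stalkEquiv X y := by
    funext a
    exact (stalkMapₗ_secHom s y a).symm
  rw [h]
  exact ⟨fun hb => hb.comp (Groth.Agent.Lib.Helper29.QCohLoc.stalkEquiv X y).bijective,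
    fun hb => (Function.Bijective.of_comp_iff _
      (Groth.Agent.Lib.Helper29.QCohLoc.stalkEquiv X y).bijective).1 hb⟩

/-- on an integral scheme a section of a quasi-coherent module with torsion-free stalks whose germ
at the generic point vanishes is zero -/
theorem eq_zero_of_germ_generic_eq_zero [IsIntegral X] [F.IsQuasicoherent]
    (htf : ∀ x : X, NoZeroSMulDivisors (X.presheaf.stalk x) (F.presheaf.stalk x))
    {W : X.Opens} (s : Γ(F, W)) (hη : genericPoint X ∈ W)
    (h : F.presheaf.germ W (genericPoint X) hη s = 0) : s = 0 := by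
  apply sec_ext
  intro x hx
  rw [map_zero]
  obtain ⟨_, ⟨U, hU : IsAffineOpen U, rfl⟩, hxU, hUW⟩ :=
    (X.isBasis_affineOpens).exists_subset_of_mem_open hx W.isOpen
  have hUW' : U ≤ W := hUW
  have hηU : genericPoint X ∈ U :=
    ((genericPoint_spec X).specializes (Set.mem_univ x)).mem_open U.isOpen hxU
  have h1 : F.presheaf.germ U (genericPoint X) hηU (F.presheaf.map (homOfLE hUW').op s) = 0 := by
    rw [germ_res, h]
  obtain ⟨r, hηr, hr⟩ := (germ_eq_zero_iff F hU _ hηU _).1 h1
  have hr0 : r ≠ 0 := by
    rintro rfl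
    rw [Scheme.basicOpen_zero] at hηr
    exact hηr
  haveI : Nonempty U := ⟨⟨x, hxU⟩⟩
  have hinj := AlgebraicGeometry.germ_injective_of_isIntegral X x hxU
  have hr1 : X.presheaf.germ U x hxU r ≠ 0 := by
    intro h0
    exact hr0 (hinj (h0.trans (map_zero _).symm))
  have h2 : X.presheaf.germ U x hxU r •
      F.presheaf.germ U x hxU (F.presheaf.map (homOfLE hUW').op s) = 0 := by
    rw [← germ_smul, hr, map_zero]
  haveI := htf x
  rcases smul_eq_zero.1 h2 with h3 | h3
  · exact absurd h3 hr1
  · rw [germ_res] at h3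
    exact h3

end gen

end Groth.Agent.Lib.Helper64.RefS2
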