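import Mathlib
import Groth.Agent.Lib.Helper64.HomSh5
import Groth.Agent.Lib.Helper64.RefS2

/-!
# Morphisms into reflexive hulls: extension from codimension one (helper64)

* `surjective_eval_of_pid`: `M → M^**` is surjective for `M` finite over a PID.
* `homOfSec g : A ⟶ B` for a global section `g` of `homSh A B`; `stalkMapₗ_homOfSec`.
* `sp_germ`, `sp_stalkMapₗ` (stalk maps commute with specialization maps).
* `bijective_res_of_codim_two`: sections of coherent reflexive modules on normal schemes extend
  uniquely from opens containing all points of codimension `≤ 1`.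
* `surjective_stalkMap_bidualMap_of_eval`.
* `exists_extension_iff` (= S16083).
-/

set_option autoImplicit false
set_option linter.style.haveILetI false
universe u

open AlgebraicGeometry CategoryTheory Opposite TopologicalSpace

namespace Groth.Agent.Lib.Helper64.RefExt

open Groth.Agent.Lib.Lead.QCohAff Groth.Agent.Lib.Lead.SheafGlue
open Groth.Agent.Lib.Helper64.HartogsMod Groth.Agent.Lib.Helper64.HomSh
open Groth.Agent.Lib.Helper64.RefS2

section algebra

open Module

/-- over a principal ideal domain, `M → M^**` is surjective for finite `M` -/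
theorem surjective_eval_of_pid {R : Type*} [CommRing R] [IsDomain R] [IsPrincipalIdealRing R]
    {M : Type*} [AddCommGroup M] [Module R M] [Module.Finite R M] :
    Function.Surjective (Dual.eval R M) := by
  let T := Submodule.torsion R M
  let q : M →ₗ[R] M ⧸ T := T.mkQ
  have hq : Function.Surjective q := T.mkQ_surjective
  haveI : Module.Free R (M ⧸ T) := Module.free_of_finite_type_torsion_free'
  -- every form factors through the torsion-free quotient
  have hfac : ∀ φ : Dual R M, ∃ φ' : Dual R (M ⧸ T), φ'.comp q = φ := by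
    intro φ
    have hle : T ≤ LinearMap.ker φ := by
      intro m hm
      obtain ⟨a, ha⟩ := (Submodule.mem_torsion_iff m).1 hm
      rw [LinearMap.mem_ker]
      have h1 : (a : R) * φ m = 0 := by
        rw [← smul_eq_mul, ← map_smul]
        have : (a : R) • m = 0 := ha
        rw [this, map_zero]
      rcases mul_eq_zero.1 h1 with h | h
      · exact absurd h (nonZeroDivisors.ne_zero a.2)
      · exact h
    exact ⟨T.liftQ φ hle, T.liftQ_mkQ φ hle⟩
  intro ζ
  obtain ⟨m', hm'⟩ := (Module.evalEquiv R (M ⧸ T)).surjective (ζ.comp q.dualMap)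
  obtain ⟨m, rfl⟩ := hq m'
  refine ⟨m, ?_⟩
  apply LinearMap.ext
  intro φ
  obtain ⟨φ', rfl⟩ := hfac φ
  have h2 := LinearMap.congr_fun hm' φ'
  rw [Module.evalEquiv_apply] at h2
  exact h2

end algebra

variable {X : Scheme.{u}}

section homOfSec

variable {A B : X.Modules}

theorem secApp_map (g : Γ(RefHull.homSh A B, ⊤)) {V V' : X.Opens} (i : V' ⟶ V) (m : Γ(A, V)) :
    B.presheaf.map i.op (secApp g le_top m) = secApp g le_top (A.presheaf.map i.op m) := by
  apply sec_ext
  intro y hy
  rw [TopCat.Presheaf.germ_res_apply, germ_secApp, germ_secApp, TopCat.Presheaf.germ_res_apply]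

/-- the morphism defined by a global section of the sheaf Hom -/
noncomputable def homOfSec (g : Γ(RefHull.homSh A B, ⊤)) : A ⟶ B :=
  ⟨PresheafOfModules.homMk
    { app := fun U => AddCommGrpCat.ofHom (secApp g (le_top : U.unop ≤ ⊤)).toAddMonoidHom
      naturality := fun {U V} i => by
        ext s
        exact (secApp_map g i.unop s).symm }
    (fun U r s => (secApp g (le_top : U.unop ≤ ⊤)).map_smul r s)⟩

theorem homOfSec_app (g : Γ(RefHull.homSh A B, ⊤)) (U : X.Opens) (m : Γ(A, U)) :
    (homOfSec g).app U m = secApp g le_top m := rfl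

theorem stalkMapₗ_homOfSec (g : Γ(RefHull.homSh A B, ⊤)) (x : X) :
    RefHull.stalkMapₗ (homOfSec g) x = g.1 ⟨x, trivial⟩ := by
  apply LinearMap.ext
  intro v
  obtain ⟨U, hx, m, rfl⟩ := TopCat.Presheaf.exists_germ_eq A.presheaf v
  rw [RefHull.stalkMapₗ_germ, homOfSec_app, germ_secApp]

end homOfSec

section sp

theorem sp_germ (F : X.Modules) {U : X.Opens} {x y : X} (h : y ⤳ x) (hx : x ∈ U) (s : Γ(F, U)) :
    (F.presheaf.stalkSpecializes h).hom (F.presheaf.germ U x hx s) =
      F.presheaf.germ U y (h.mem_open U.isOpen hx) s :=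
  ConcreteCategory.congr_hom (F.presheaf.germ_stalkSpecializes hx h) s

theorem sp_stalkMapₗ {A B : X.Modules} (φ : A ⟶ B) {x y : X} (h : y ⤳ x)
    (v : A.presheaf.stalk x) :
    (B.presheaf.stalkSpecializes h).hom (RefHull.stalkMapₗ φ x v) =
      RefHull.stalkMapₗ φ y ((A.presheaf.stalkSpecializes h).hom v) := by
  obtain ⟨U, hx, m, rfl⟩ := TopCat.Presheaf.exists_germ_eq A.presheaf v
  rw [RefHull.stalkMapₗ_germ, sp_germ, sp_germ, RefHull.stalkMapₗ_germ]

end sp

section ext

variable [IsIntegral X] [IsLocallyNoetherian X]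

/-- **sections of coherent reflexive modules on a normal scheme extend uniquely over closed subsets
of codimension `≥ 2`** -/
theorem bijective_res_of_codim_two (hX : Pi1.IsNormalScheme X) {H : X.Modules} (hH : Coh.IsCoh H)
    (hr : RefHull.IsReflexive H) (W' : X.Opens)
    (hW' : ∀ x : X, ringKrullDim (X.presheaf.stalk x) ≤ 1 → x ∈ W') (V : X.Opens) :
    Function.Bijective (H.presheaf.map (homOfLE (inf_le_left : V ⊓ W' ≤ V)).op) := by
  haveI : H.IsQuasicoherent := hH.1
  exact bijective_res_inf H
    (fun V hV => Groth.Agent.Lib.Helper29.QCohLoc.LocAt.of_isQuasicoherent H hV) W'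
    (fun x hx => hasRegPairMod_stalk_of_isReflexive hX hH hr x (fun hd => hx (hW' x hd))) V

end ext

section bidual

variable {F : X.Modules}

/-- surjectivity of the biduality map on a stalk from surjectivity of the module evaluation -/
theorem surjective_stalkMap_bidualMap_of_eval (hF : CohB1.IsFP F)
    (hD : CohB1.IsFP (RefHull.dual F)) (x : X)
    (h : Function.Surjective (Module.Dual.eval (X.presheaf.stalk x) (F.presheaf.stalk x))) :
    Function.Surjective (RefHull.stalkMapₗ (RefHull.bidualMap F) x) := by
  let E2 := LinearEquiv.ofBijective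
    (RefHull.evalStalk (RefHull.dual F) (Coh.structureModule X) x) (evalStalk_bijective hD x)
  let E1 := LinearEquiv.ofBijective
    (RefHull.evalStalk F (Coh.structureModule X) x) (evalStalk_bijective hF x)
  let ε := Groth.Agent.Lib.Helper29.QCohLoc.stalkEquiv X x
  intro w
  -- transport `E2 w` to an element of the double dual of `F_x`
  let e' : (RefHull.dual F).presheaf.stalk x ≃ₗ[X.presheaf.stalk x]
      Module.Dual (X.presheaf.stalk x) (F.presheaf.stalk x) :=
    E1.trans (LinearEquiv.congrRight ε.symm)
  let Φ : Module.Dual (X.presheaf.stalk x)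
      (Module.Dual (X.presheaf.stalk x) (F.presheaf.stalk x)) ≃ₗ[X.presheaf.stalk x]
      ((RefHull.dual F).presheaf.stalk x →ₗ[X.presheaf.stalk x]
        (Coh.structureModule X).presheaf.stalk x) := LinearEquiv.arrowCongr e'.symm ε
  obtain ⟨ζ, hζ⟩ := Φ.surjective (E2 w)
  obtain ⟨v, hv⟩ := h ζ
  refine ⟨v, ?_⟩
  apply E2.injective
  change RefHull.evalStalk (RefHull.dual F) (Coh.structureModule X) x
    (RefHull.stalkMapₗ (RefHull.bidualMap F) x v) = E2 w
  rw [evalStalk_stalkMap_bidualMap, ← hζ, ← hv]
  apply LinearMap.ext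
  intro θ
  rw [RefHull.bidualAt_apply]
  change _ = ε ((Module.Dual.eval _ _ v) (e'.symm.symm θ))
  rw [LinearEquiv.symm_symm, Module.Dual.eval_apply]
  change _ = ε (ε.symm (E1 θ v))
  rw [LinearEquiv.apply_symm_apply]
  rfl

end bidual

end Groth.Agent.Lib.Helper64.RefExt
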