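import Mathlib
import Groth.Agent.Lib.Helper64.RefS2
import Groth.Agent.Lib.Helper35.Triv

/-!
# Rank one reflexive modules: generic generator, non-generating locus of a section (helper64)

* `exists_isGen_of_genInvertible`: `RefHull.GenInvertible F` on an integral scheme gives a local
  generator of `F` near the generic point.
* `ringKrullDim_le_zero_of_le_one`.
* `ringKrullDim_eq_one_of_maximal_off_isoLocus` (= S16084).
-/

set_option autoImplicit false
set_option linter.style.haveILetI false
universe u

open AlgebraicGeometry CategoryTheory Opposite TopologicalSpace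

namespace Groth.Agent.Lib.Helper64.RefS2

open Groth.Agent.Lib.Lead.QCohAff Groth.Agent.Lib.Lead.SheafGlue
open Groth.Agent.Lib.Helper64.HartogsMod Groth.Agent.Lib.Helper64.HomSh
open IsLocalRing

variable {X : Scheme.{u}} {F : X.Modules}

theorem genericPoint_mem_of_dense [IsIntegral X] (U : X.Opens) (hU : Dense (U : Set X)) :
    genericPoint X ∈ U := by
  obtain ⟨x, hx⟩ := hU.nonempty
  exact ((genericPoint_spec X).specializes (Set.mem_univ x)).mem_open U.isOpen hx

theorem exists_isGen_of_genInvertible [IsIntegral X] (h : RefHull.GenInvertible F) :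
    ∃ (W : X.Opens) (_ : genericPoint X ∈ W) (e : Γ(F, W)),
      Groth.Agent.Lib.Lead.Inv.IsGen F W e := by
  obtain ⟨U, hUd, hinv⟩ := h
  have hη : genericPoint X ∈ U := genericPoint_mem_of_dense U hUd
  obtain ⟨V, hηV, e, he⟩ :=
    (Groth.Agent.Lib.Lead.Inv.isInvertible_iff_exists_isGen (M := F.restrict U.ι)).1 hinv
      ⟨genericPoint X, hη⟩
  have he' := Groth.Agent.Lib.Helper35.Triv.isGen_of_restrict F U V e he
  refine ⟨U.ι ''ᵁ V, ⟨⟨genericPoint X, hη⟩, hηV, rfl⟩, (show Γ(F, U.ι ''ᵁ V) from e), he'⟩

theorem withBot_enat_le_zero_of_le_one (d : WithBot ℕ∞) (h1 : d ≤ 1) (h2 : d ≠ 1) : d ≤ 0 := by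
  induction d using WithBot.recBotCoe with
  | bot => exact bot_le
  | coe n =>
    have h3 : n ≤ 1 := by exact_mod_cast h1
    have h4 : n ≠ 1 := by
      intro h
      apply h2
      rw [h]
      rfl
    have h5 : n = 0 := ENat.lt_one_iff_eq_zero.1 (lt_of_le_of_ne h3 h4)
    rw [h5]
    rfl

/-- a local domain of Krull dimension `≤ 0` has zero maximal ideal -/
theorem maximalIdeal_eq_bot_of_ringKrullDim_le_zero (R : Type*) [CommRing R] [IsLocalRing R]
    [IsDomain R] (h : ringKrullDim R ≤ 0) : maximalIdeal R = ⊥ := by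
  haveI : Ring.KrullDimLE 0 R := (Ring.krullDimLE_iff).2 (by exact_mod_cast h)
  have h1 : (⊥ : Ideal R).IsMaximal := Ideal.isMaximal_of_isPrime ⊥
  exact (IsLocalRing.eq_maximalIdeal h1).symm

/-- **S16084** -/
theorem ringKrullDim_eq_one_of_maximal_off_isoLocus [IsIntegral X] [IsLocallyNoetherian X]
    (hX : Pi1.IsNormalScheme X) (hF : RefHull.IsRef1 F) (s : Γ(F, ⊤)) (hs : s ≠ 0) (z : X)
    (hz : ¬ Function.Bijective fun a : X.presheaf.stalk z => a • F.presheaf.germ ⊤ z trivial s)
    (hmax : ∀ y : X, ¬ Function.Bijective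
        (fun a : X.presheaf.stalk y => a • F.presheaf.germ ⊤ y trivial s) → y ⤳ z → y = z) :
    ringKrullDim (X.presheaf.stalk z) = 1 := by
  obtain ⟨hcoh, hrefl, hgen⟩ := hF
  haveI : F.IsQuasicoherent := hcoh.1
  have htf := fun x => noZeroSMulDivisors_stalk_of_isReflexive hcoh hrefl x
  -- the germ of `s` at the generic point is nonzero
  have hsη : F.presheaf.germ ⊤ (genericPoint X) trivial s ≠ 0 := fun h0 =>
    hs (eq_zero_of_germ_generic_eq_zero htf s trivial h0)
  -- `z` is not the generic point
  have hzη : z ≠ genericPoint X := by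
    rintro rfl
    apply hz
    obtain ⟨W, hηW, e, he⟩ := exists_isGen_of_genInvertible hgen
    have hb := bijective_stalk_of_isGen he (genericPoint X) hηW
    obtain ⟨c, hc⟩ := hb.2 (F.presheaf.germ ⊤ (genericPoint X) trivial s)
    have hc' : c • F.presheaf.germ W (genericPoint X) hηW e =
        F.presheaf.germ ⊤ (genericPoint X) trivial s := hc
    have hc0 : c ≠ 0 := by
      rintro rfl
      rw [zero_smul] at hc'
      exact hsη hc'.symm
    have hcu : IsUnit c := IsUnit.mk0 c hc0
    have heq : (fun a : X.presheaf.stalk (genericPoint X) =>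
        a • F.presheaf.germ ⊤ (genericPoint X) trivial s) =
        (fun a : X.presheaf.stalk (genericPoint X) =>
          a • F.presheaf.germ W (genericPoint X) hηW e) ∘ (fun a => a * c) := by
      funext a
      change _ = (a * c) • _
      rw [mul_smul, hc']
    rw [heq]
    refine hb.comp ?_
    obtain ⟨u, rfl⟩ := hcu
    exact (Units.mulRight u).bijective
  haveI := (hX z).1
  haveI := (hX z).2
  by_contra hne
  by_cases hd : ringKrullDim (X.presheaf.stalk z) ≤ 1
  · -- dimension `≤ 0`: then `z` is the generic point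
    have h0 := withBot_enat_le_zero_of_le_one _ hd hne
    exact hzη (Groth.Agent.Lib.Helper64.DepthIso.eq_genericPoint_of_maximalIdeal_eq_bot z
      (maximalIdeal_eq_bot_of_ringKrullDim_le_zero _ h0))
  · -- dimension `≥ 2`: the S2 property forces bijectivity at `z`
    apply hz
    rw [← bijective_stalkMapₗ_secHom_iff]
    refine bijective_stalkMap_of_regPair _ (isCoh_structureModule X) hcoh.1 z ?_ ?_ ?_
    · intro y hyz hne'
      rw [bijective_stalkMapₗ_secHom_iff]
      by_contra hnb
      exact hne' (hmax y hnb hyz)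
    · exact HasRegPairMod.of_linearEquiv (Groth.Agent.Lib.Helper29.QCohLoc.stalkEquiv X z)
        (Groth.Agent.Lib.Helper64.NormalS2.hasRegPairMod_of_normal (X.presheaf.stalk z) hd
          (X.presheaf.stalk z))
    · exact Groth.Agent.Lib.Helper64.DepthIso.not_isAssPoint_of_torsionFree F z (htf z) hzη

end Groth.Agent.Lib.Helper64.RefS2
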