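import Mathlib
import Groth.Agent.Lib.Helper64.RefExt
import Groth.Agent.Lib.Helper64.RefRank1

/-!
# Extending a generic map to a morphism into the reflexive hull (helper64)

* `homSh_eq_of_generic`: sections of a torsion-free quasi-coherent sheaf Hom agreeing at the generic
  point are equal.
* `exists_local_section`, `exists_extension_of_mapsTo`, `mapsTo_of_extension`,
  `exists_extension_iff` (= S16083).
-/

set_option autoImplicit false
set_option linter.style.haveILetI false
universe u

open AlgebraicGeometry CategoryTheory Opposite TopologicalSpace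

namespace Groth.Agent.Lib.Helper64.RefExt

open Groth.Agent.Lib.Lead.QCohAff Groth.Agent.Lib.Lead.SheafGlue
open Groth.Agent.Lib.Helper64.HartogsMod Groth.Agent.Lib.Helper64.HomSh
open Groth.Agent.Lib.Helper64.RefS2

variable {X : Scheme.{u}} [IsIntegral X]

theorem spη (x : X) : genericPoint X ⤳ x := (genericPoint_spec X).specializes (Set.mem_univ x)

theorem genericPoint_mem {W : X.Opens} {x : X} (hx : x ∈ W) : genericPoint X ∈ W :=
  (spη x).mem_open W.isOpen hx

/-- sections of a quasi-coherent torsion-free sheaf Hom agreeing at the generic point are equal -/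
theorem homSh_eq_of_generic {A B : X.Modules} (hA : CohB1.IsFT A)
    (hq : Coh.IsQCoh (RefHull.homSh A B))
    (htf : ∀ x : X, NoZeroSMulDivisors (X.presheaf.stalk x)
      ((RefHull.homSh A B).presheaf.stalk x))
    {V : X.Opens} (hη : genericPoint X ∈ V) (s1 s2 : Γ(RefHull.homSh A B, V))
    (h : s1.1 ⟨genericPoint X, hη⟩ = s2.1 ⟨genericPoint X, hη⟩) : s1 = s2 := by
  haveI : (RefHull.homSh A B).IsQuasicoherent := hq
  rw [← sub_eq_zero]
  apply eq_zero_of_germ_generic_eq_zero htf (s1 - s2) hη
  apply evalStalk_injective hA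
  rw [RefHull.evalStalk_germ, map_zero]
  change s1.1 ⟨genericPoint X, hη⟩ - s2.1 ⟨genericPoint X, hη⟩ = 0
  rw [h, sub_self]

variable [IsLocallyNoetherian X] {F G : X.Modules}

theorem noZeroSMulDivisors_ddual (hF : Coh.IsCoh F) (x : X) :
    NoZeroSMulDivisors (X.presheaf.stalk x) ((RefHull.ddual F).presheaf.stalk x) :=
  noZeroSMulDivisors_stalk_of_isReflexive (isCoh_ddual hF) (isReflexive_dual (isCoh_dual hF)) x

/-- local construction of the extension near a point where the generic map preserves the images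
of the stalks -/
theorem exists_local_section (hF : Coh.IsCoh F) (hG : Coh.IsCoh G)
    (T : G.presheaf.stalk (genericPoint X) →ₗ[X.presheaf.stalk (genericPoint X)]
      F.presheaf.stalk (genericPoint X)) (x : X)
    (hmaps : Set.MapsTo T (Set.range (G.presheaf.stalkSpecializes (spη x)).hom)
      (Set.range (F.presheaf.stalkSpecializes (spη x)).hom)) :
    ∃ (W : X.Opens) (hxW : x ∈ W) (h : Γ(RefHull.homSh G (RefHull.ddual F), W)),
      h.1 ⟨genericPoint X, genericPoint_mem hxW⟩ =
        (RefHull.stalkMapₗ (RefHull.bidualMap F) (genericPoint X)).comp T := by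
  haveI : SheafOfModules.IsFinitePresentation (R := X.ringCatSheaf) G := isFP_of_isCoh hG
  obtain ⟨_, ⟨U0, hU0 : IsAffineOpen U0, rfl⟩, hxU0, -⟩ :=
    (X.isBasis_affineOpens).exists_subset_of_mem_open (Set.mem_univ x) isOpen_univ
  obtain ⟨n, m, g, r, hP⟩ := exists_isPres_of_affine (F := G) hU0
  have hηU0 : genericPoint X ∈ U0 := genericPoint_mem hxU0
  have h1 : ∀ i, ∃ (V : X.Opens) (hV : x ∈ V) (f : Γ(F, V)),
      F.presheaf.germ V (genericPoint X) (genericPoint_mem hV) f =
        T (G.presheaf.germ U0 (genericPoint X) hηU0 (g i)) := by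
    intro i
    have h2 : G.presheaf.germ U0 (genericPoint X) hηU0 (g i) ∈
        Set.range (G.presheaf.stalkSpecializes (spη x)).hom :=
      ⟨G.presheaf.germ U0 x hxU0 (g i), sp_germ G (spη x) hxU0 (g i)⟩
    obtain ⟨f', hf'⟩ := hmaps h2
    obtain ⟨V, hV, f, rfl⟩ := TopCat.Presheaf.exists_germ_eq F.presheaf f'
    refine ⟨V, hV, f, ?_⟩
    rw [← hf', sp_germ]
  choose V hV f hf using h1
  obtain ⟨W, hxW, hWU0, hWV⟩ := exists_common_nhd x V hV U0 hxU0
  have hηW : genericPoint X ∈ W := genericPoint_mem hxW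
  let f1 : Fin n → Γ(F, W) := fun i => F.presheaf.map (homOfLE (hWV i)).op (f i)
  have hf1 : ∀ i, F.presheaf.germ W (genericPoint X) hηW (f1 i) =
      T (G.presheaf.germ U0 (genericPoint X) hηU0 (g i)) := by
    intro i
    rw [germ_res, hf]
  let t : Fin n → Γ(RefHull.ddual F, W) := fun i => (RefHull.bidualMap F).app W (f1 i)
  have hP' := hP.res hWU0
  have ht : ∀ j, ∑ i, X.presheaf.map (homOfLE hWU0).op (r j i) • t i = 0 := by
    intro j
    have h3 : ∑ i, X.presheaf.map (homOfLE hWU0).op (r j i) • t i =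
        (RefHull.bidualMap F).app W (∑ i, X.presheaf.map (homOfLE hWU0).op (r j i) • f1 i) := by
      rw [map_sum]
      refine Finset.sum_congr rfl fun i _ => ?_
      rw [Scheme.Modules.Hom.app_smul]
    rw [h3]
    haveI : (RefHull.ddual F).IsQuasicoherent := (isCoh_ddual hF).1
    apply eq_zero_of_germ_generic_eq_zero (noZeroSMulDivisors_ddual hF) _ hηW
    rw [← RefHull.stalkMapₗ_germ, map_sum]
    have h4 : ∀ i ∈ Finset.univ, F.presheaf.germ W (genericPoint X) hηW
        (X.presheaf.map (homOfLE hWU0).op (r j i) • f1 i) =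
        T (G.presheaf.germ U0 (genericPoint X) hηU0 (r j i • g i)) := by
      intro i _
      rw [germ_smul, hf1, germX_res, germ_smul, map_smul]
    rw [Finset.sum_congr rfl h4, ← map_sum, ← map_sum, hP.rel j, map_zero, map_zero, map_zero]
  refine ⟨W, hxW, mkOfPres hP' t ht, ?_⟩
  apply stalkHom_ext_of_span _ (hP'.span (genericPoint X) hηW)
  intro i
  rw [mkOfPres_germ hP' t ht (genericPoint X) hηW i, LinearMap.comp_apply, germ_res G, ← hf1,
    RefHull.stalkMapₗ_germ]

/-- **S16083 (⟸)** -/
theorem exists_extension_of_mapsTo (hX : Pi1.IsNormalScheme X) (hF : Coh.IsCoh F)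
    (hG : Coh.IsCoh G)
    (T : G.presheaf.stalk (genericPoint X) →ₗ[X.presheaf.stalk (genericPoint X)]
      F.presheaf.stalk (genericPoint X))
    (hmaps : ∀ x : X, ringKrullDim (X.presheaf.stalk x) = 1 →
      Set.MapsTo T (Set.range (G.presheaf.stalkSpecializes (spη x)).hom)
        (Set.range (F.presheaf.stalkSpecializes (spη x)).hom)) :
    ∃ ψ : G ⟶ RefHull.ddual F, RefHull.stalkMapₗ ψ (genericPoint X) =
      (RefHull.stalkMapₗ (RefHull.bidualMap F) (genericPoint X)).comp T := by
  -- the sheaf Hom into the reflexive hull is coherent, reflexive, torsion-free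
  have hHc : Coh.IsCoh (RefHull.homSh G (RefHull.ddual F)) := isCoh_homSh hG (isCoh_ddual hF)
  have hHr : RefHull.IsReflexive (RefHull.homSh G (RefHull.ddual F)) :=
    isReflexive_homSh hG (isCoh_ddual hF) (isReflexive_dual (isCoh_dual hF))
  have hHtf := fun x => noZeroSMulDivisors_stalk_of_isReflexive hHc hHr x
  -- points of codimension `≤ 1` satisfy the mapping condition
  have hmaps' : ∀ x : X, ringKrullDim (X.presheaf.stalk x) ≤ 1 →
      Set.MapsTo T (Set.range (G.presheaf.stalkSpecializes (spη x)).hom)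
        (Set.range (F.presheaf.stalkSpecializes (spη x)).hom) := by
    intro x hx
    by_cases h1 : ringKrullDim (X.presheaf.stalk x) = 1
    · exact hmaps x h1
    · have h0 := withBot_enat_le_zero_of_le_one _ hx h1
      haveI : IsDomain (X.presheaf.stalk x) := (hX x).1
      have hxη : x = genericPoint X :=
        Groth.Agent.Lib.Helper64.DepthIso.eq_genericPoint_of_maximalIdeal_eq_bot x
          (maximalIdeal_eq_bot_of_ringKrullDim_le_zero _ h0)
      subst hxη
      intro v _
      refine ⟨T v, ?_⟩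
      have : F.presheaf.stalkSpecializes (spη (genericPoint X)) = 𝟙 _ :=
        F.presheaf.stalkSpecializes_refl (genericPoint X)
      rw [this]
      rfl
  let S : Set X := {x | ringKrullDim (X.presheaf.stalk x) ≤ 1}
  have hloc := fun x : S => exists_local_section hF hG T x.1 (hmaps' x.1 x.2)
  choose W hxW h hh using hloc
  let W' : X.Opens := ⨆ x : S, W x
  have hηS : genericPoint X ∈ S := by
    change ringKrullDim (X.presheaf.stalk (genericPoint X)) ≤ 1
    have hfld : IsField (X.presheaf.stalk (genericPoint X)) := Field.toIsField _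
    rw [ringKrullDim_eq_zero_of_isField hfld]
    exact zero_le_one
  have hidx : ∀ y : W', ∃ x : S, y.1 ∈ W x := fun y => Opens.mem_iSup.1 y.2
  choose idx hidx using hidx
  -- glue
  obtain ⟨rr, hrr⟩ := exists_glue_pts (RefHull.homSh G (RefHull.ddual F)) (W := W')
    (fun y => W (idx y)) (fun y => le_iSup (fun x : S => W x) (idx y)) hidx
    (fun y => h (idx y)) (by
      intro y y'
      have hη : genericPoint X ∈ W (idx y) ⊓ W (idx y') :=
        ⟨genericPoint_mem (hidx y), genericPoint_mem (hidx y')⟩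
      apply homSh_eq_of_generic hG.2 hHc.1 hHtf hη
      rw [homSh_res_apply, homSh_res_apply, hh, hh])
  -- extend
  obtain ⟨tt, htt⟩ := (bijective_res_of_codim_two hX hHc hHr W'
    (fun x hx => Opens.mem_iSup.2 ⟨⟨x, hx⟩, hxW ⟨x, hx⟩⟩) ⊤).2
    ((RefHull.homSh G (RefHull.ddual F)).presheaf.map (homOfLE (inf_le_right : ⊤ ⊓ W' ≤ W')).op rr)
  refine ⟨homOfSec tt, ?_⟩
  rw [stalkMapₗ_homOfSec]
  have hηW' : genericPoint X ∈ W' := Opens.mem_iSup.2 ⟨⟨_, hηS⟩, hxW ⟨_, hηS⟩⟩
  have e1 := congrArg (fun s : Γ(RefHull.homSh G (RefHull.ddual F), ⊤ ⊓ W') =>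
    s.1 ⟨genericPoint X, ⟨trivial, hηW'⟩⟩) htt
  simp only [homSh_res_apply] at e1
  rw [e1]
  have e2 := congrArg (fun s : Γ(RefHull.homSh G (RefHull.ddual F), W (idx ⟨_, hηW'⟩)) =>
    s.1 ⟨genericPoint X, hidx ⟨_, hηW'⟩⟩) (hrr ⟨_, hηW'⟩)
  simp only [homSh_res_apply] at e2
  rw [e2]
  exact hh _

/-- **S16083 (⟹)** -/
theorem mapsTo_of_extension (hX : Pi1.IsNormalScheme X) (hF : Coh.IsCoh F)
    (T : G.presheaf.stalk (genericPoint X) →ₗ[X.presheaf.stalk (genericPoint X)]
      F.presheaf.stalk (genericPoint X))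
    (ψ : G ⟶ RefHull.ddual F)
    (hψ : RefHull.stalkMapₗ ψ (genericPoint X) =
      (RefHull.stalkMapₗ (RefHull.bidualMap F) (genericPoint X)).comp T)
    (x : X) (hx : ringKrullDim (X.presheaf.stalk x) = 1) :
    Set.MapsTo T (Set.range (G.presheaf.stalkSpecializes (spη x)).hom)
      (Set.range (F.presheaf.stalkSpecializes (spη x)).hom) := by
  have hFP := isFP_of_isCoh hF
  have hDP := isFP_of_isCoh (isCoh_dual hF)
  -- the local ring at `x` is a discrete valuation ring
  haveI : IsDomain (X.presheaf.stalk x) := (hX x).1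
  haveI : IsIntegrallyClosed (X.presheaf.stalk x) := (hX x).2
  haveI : Ring.KrullDimLE 1 (X.presheaf.stalk x) := Ring.krullDimLE_iff.mpr hx.le
  haveI : Ring.DimensionLEOne (X.presheaf.stalk x) :=
    ⟨fun hp hprime => hprime.isMaximal_of_ne_bot hp⟩
  haveI : IsDedekindDomain (X.presheaf.stalk x) := {}
  have hnf : ¬ IsField (X.presheaf.stalk x) := by
    intro hf
    letI := hf.toField
    rw [ringKrullDim_eq_zero_of_field] at hx
    exact zero_ne_one hx
  haveI : IsDiscreteValuationRing (X.presheaf.stalk x) :=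
    ((IsDiscreteValuationRing.TFAE (X.presheaf.stalk x) hnf).out 2 0).mp ‹_›
  haveI : Module.Finite (X.presheaf.stalk x) (F.presheaf.stalk x) :=
    Groth.Agent.Lib.Helper64.FinTypeStalk.finite_stalk F hF.2 x
  have hsurj := surjective_stalkMap_bidualMap_of_eval hFP hDP x surjective_eval_of_pid
  -- the biduality map is injective at the generic point
  have hinj : Function.Injective (RefHull.stalkMapₗ (RefHull.bidualMap F) (genericPoint X)) := by
    have hfld : IsField (X.presheaf.stalk (genericPoint X)) := Field.toIsField _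
    haveI : Module.Finite (X.presheaf.stalk (genericPoint X))
        (F.presheaf.stalk (genericPoint X)) :=
      Groth.Agent.Lib.Helper64.FinTypeStalk.finite_stalk F hF.2 _
    have hrefl : RefHull.IsReflexiveAt F (genericPoint X) := by
      letI := hfld.toField
      exact inferInstanceAs (Module.IsReflexive (X.presheaf.stalk (genericPoint X))
        (F.presheaf.stalk (genericPoint X)))
    exact ((bijective_stalkMap_bidualMap_iff hFP hDP _).2 hrefl).1
  rintro _ ⟨g, rfl⟩
  obtain ⟨f, hf⟩ := hsurj (RefHull.stalkMapₗ ψ x g)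
  refine ⟨f, ?_⟩
  apply hinj
  rw [← sp_stalkMapₗ, hf, sp_stalkMapₗ, hψ]
  rfl

end Groth.Agent.Lib.Helper64.RefExt
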