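import Mathlib
import Groth.Prelude.Def_CAlg
import Groth.Agent.Lib.Helper64.HartogsRing

/-!
# Injectivity of restriction (schematic density) from depth ≥ 1
-/

set_option autoImplicit false
set_option linter.style.haveILetI false
universe u x v w

open CategoryTheory Opposite TopologicalSpace AlgebraicGeometry IsLocalRing

namespace Groth.Agent.Lib.Helper64.HartogsInj

open Groth.Agent.Lib.Helper64.StalkFrac Groth.Agent.Lib.Helper64.HartogsRing

section Glue

variable {C : Type w} [Category.{v} C] {FC : C → C → Type*} {CC : C → Type*}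
  [∀ X Y, FunLike (FC X Y) (CC X) (CC Y)] [ConcreteCategory C FC]
  [Limits.HasLimitsOfSize.{x, x} C] [(CategoryTheory.forget C).ReflectsIsomorphisms]
  [Limits.PreservesLimitsOfSize.{x, x} (CategoryTheory.forget C)]
  {X : TopCat.{x}} (F : TopCat.Sheaf C X)

theorem injective_res_inf_of_basis (U : Opens X) (B : Set (Opens X)) (hB : Opens.IsBasis B)
    (h : ∀ V ∈ B, Function.Injective (F.1.map (homOfLE (inf_le_left : V ⊓ U ≤ V)).op))
    (V : Opens X) : Function.Injective (F.1.map (homOfLE (inf_le_left : V ⊓ U ≤ V)).op) := by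
  intro s s' hss
  let ι := {W : Opens X // W ∈ B ∧ W ≤ V}
  have hcover : V ≤ ⨆ i : ι, i.1 := by
    intro x hx
    obtain ⟨W, hWB, hxW, hWV⟩ := Opens.isBasis_iff_nbhd.1 hB hx
    exact Opens.mem_iSup.2 ⟨⟨W, hWB, hWV⟩, hxW⟩
  refine F.eq_of_locally_eq' (fun i : ι => i.1) V (fun i => homOfLE i.2.2) hcover s s' ?_
  intro i
  apply h i.1 i.2.1
  rw [HartogsGlue.res_res F _ _ (homOfLE (inf_le_left.trans i.2.2) : i.1 ⊓ U ⟶ V),
    HartogsGlue.res_res F _ _ (homOfLE (inf_le_left.trans i.2.2) : i.1 ⊓ U ⟶ V),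
    ← HartogsGlue.res_res F (homOfLE (inf_le_inf_right U i.2.2) : i.1 ⊓ U ⟶ V ⊓ U)
      (homOfLE inf_le_left : V ⊓ U ⟶ V), hss, HartogsGlue.res_res]

end Glue

/-- A local ring has a nonzerodivisor in its maximal ideal (elementwise form). -/
def HasRegElt (R : Type*) [CommRing R] [IsLocalRing R] : Prop :=
  ∃ a ∈ maximalIdeal R, ∀ z : R, a • z = 0 → z = 0

theorem hasRegElt_of_one_le_depth {R : Type u} [CommRing R] [IsLocalRing R]
    (h : 1 ≤ LocCoh.depth R R) : HasRegElt R := by
  rcases (Groth.Agent.Lib.Helper67.one_le_idealDepth_iff _ R).1 h with htop | ⟨r, hr, hreg⟩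
  · exfalso
    have h1 : (1 : R) ∈ maximalIdeal R • (⊤ : Submodule R R) := by
      rw [htop]; exact Submodule.mem_top
    have h2 : maximalIdeal R • (⊤ : Submodule R R) ≤ maximalIdeal R := by
      rw [Submodule.smul_le]
      intro r hr n _
      exact Ideal.mul_mem_right _ _ hr
    exact (Ideal.ne_top_iff_one _).1 (IsLocalRing.maximalIdeal.isMaximal R).ne_top (h2 h1)
  · exact ⟨r, hr, fun z hz => hreg (by simpa using hz)⟩

/-- Transport of a regular element along a localization. -/
theorem exists_elt_of_isLocalization {R : Type*} [CommRing R] (p : Ideal R) [hp : p.IsPrime]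
    {Rp : Type*} [CommRing Rp] [Algebra R Rp] [IsLocalization.AtPrime Rp p] [IsLocalRing Rp]
    (h : HasRegElt Rp) :
    ∃ a ∈ p, ∀ m : R, a • m = 0 → ∃ e, e ∉ p ∧ e • m = 0 := by
  obtain ⟨a0, ha0, h1⟩ := h
  obtain ⟨a, u, hau⟩ := IsLocalization.exists_mk'_eq p.primeCompl a0
  have hau' : algebraMap R Rp a = a0 * algebraMap R Rp u := by
    rw [← hau, IsLocalization.mk'_spec]
  have haP : a ∈ p := by
    rw [← IsLocalization.AtPrime.to_map_mem_maximal_iff Rp p a, hau']
    exact Ideal.mul_mem_right _ _ ha0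
  refine ⟨a, haP, ?_⟩
  intro m hm
  have h3 : a0 • (algebraMap R Rp (u.1 * m)) = 0 := by
    rw [smul_eq_mul, map_mul, ← mul_assoc, ← hau', ← map_mul]
    rw [smul_eq_mul] at hm
    rw [hm, map_zero]
  obtain ⟨e, he⟩ := (IsLocalization.map_eq_zero_iff p.primeCompl Rp _).1 (h1 _ h3)
  refine ⟨e.1 * u.1, ?_, by rw [smul_eq_mul, mul_assoc]; exact he⟩
  exact fun hmem => (hp.mem_or_mem hmem).elim e.2 u.2

variable {X : Scheme.{u}}

/-- Affine case of injectivity. -/
theorem injective_res_of_isAffineOpen {V : X.Opens} (hV : IsAffineOpen V)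
    [IsNoetherianRing Γ(X, V)] (W : X.Opens) (hWV : W ≤ V)
    (hreg : ∀ x ∈ V, x ∉ W → HasRegElt (X.presheaf.stalk x)) :
    Function.Injective (X.presheaf.map (homOfLE hWV).op) := by
  classical
  set ρ : Γ(X, V) →+* Γ(X, W) := (X.presheaf.map (homOfLE hWV).op).hom with hρ
  letI : Algebra Γ(X, V) Γ(X, W) := ρ.toAlgebra
  let φ : Γ(X, V) →ₗ[Γ(X, V)] Γ(X, W) := Algebra.linearMap _ _
  have hinj : Function.Injective φ := by
    apply HartogsCore.injective_of_forall_prime
    intro p hp
    set y : PrimeSpectrum Γ(X, V) := ⟨p, hp⟩ with hy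
    set x : X := hV.fromSpec y with hx
    have hxV : x ∈ V := by
      rw [← SetLike.mem_coe, ← hV.range_fromSpec]; exact Set.mem_range_self y
    letI : Algebra Γ(X, V) (X.presheaf.stalk x) :=
      TopCat.Presheaf.algebra_section_stalk X.presheaf ⟨x, hxV⟩
    haveI hloc : IsLocalization.AtPrime (X.presheaf.stalk x) p := hV.isLocalization_stalk' y hxV
    have halg : ∀ c : Γ(X, V), algebraMap Γ(X, V) (X.presheaf.stalk x) c =
        X.presheaf.germ V x hxV c := fun c => rfl
    by_cases hxW : x ∈ W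
    · left
      intro m hm
      have h0 : algebraMap Γ(X, V) (X.presheaf.stalk x) m = 0 := by
        rw [halg, ← germ_res_apply' hWV x hxW m]
        have : X.presheaf.map (homOfLE hWV).op m = 0 := hm
        rw [this, map_zero]
      obtain ⟨c, hc⟩ := (IsLocalization.map_eq_zero_iff p.primeCompl _ m).1 h0
      exact ⟨c.1, c.2, hc⟩
    · right
      exact exists_elt_of_isLocalization p (Rp := X.presheaf.stalk x) (hreg x hxV hxW)
  exact hinj

/-- **Schematic density from depth ≥ 1.** -/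
theorem injective_res_inf [IsLocallyNoetherian X] (U : X.Opens)
    (hreg : ∀ x : X, x ∉ U → HasRegElt (X.presheaf.stalk x)) (V : X.Opens) :
    Function.Injective (X.presheaf.map (homOfLE (inf_le_left : V ⊓ U ≤ V)).op) := by
  refine injective_res_inf_of_basis X.sheaf U X.affineOpens X.isBasis_affineOpens ?_ V
  intro V' hV'
  haveI : IsNoetherianRing Γ(X, V') := IsLocallyNoetherian.component_noetherian ⟨V', hV'⟩
  exact injective_res_of_isAffineOpen hV' (V' ⊓ U) inf_le_left
    (fun x _ hx => hreg x (fun hxU => hx ⟨‹x ∈ V'›, hxU⟩))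

end Groth.Agent.Lib.Helper64.HartogsInj

namespace Groth.Agent.Lib.Helper64.HartogsInj

open Groth.Agent.Lib.Helper64.StalkFrac Groth.Agent.Lib.Helper64.HartogsRing

variable {X : Scheme.{u}}

/-- Converse: schematic density of `U` forces depth ≥ 1 at the points outside `U`. -/
theorem one_le_depth_of_injective [IsLocallyNoetherian X] (U : X.Opens)
    (hinj : ∀ V : X.Opens,
      Function.Injective (X.presheaf.map (homOfLE (inf_le_left : V ⊓ U ≤ V)).op))
    (x : X) (hx : x ∉ U) :
    1 ≤ LocCoh.depth (X.presheaf.stalk x) (X.presheaf.stalk x) := by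
  classical
  by_contra hd
  have h0 : LocCoh.depth (X.presheaf.stalk x) (X.presheaf.stalk x) = 0 := by
    rw [Order.one_le_iff_pos, pos_iff_ne_zero, not_not] at hd
    exact hd
  rw [Groth.Agent.Lib.Helper67.depth_eq_zero_iff, AssociatedPrimes.mem_iff,
    isAssociatedPrime_iff] at h0
  obtain ⟨-, z, hz⟩ := h0
  have hmem : ∀ c : X.presheaf.stalk x, c ∈ maximalIdeal (X.presheaf.stalk x) ↔ c * z = 0 := by
    intro c
    rw [hz, Submodule.mem_colon_singleton, Submodule.mem_bot, smul_eq_mul]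
  have hz0 : z ≠ 0 := by
    intro h
    have : (1 : X.presheaf.stalk x) ∈ maximalIdeal (X.presheaf.stalk x) := by
      rw [hmem, h, mul_zero]
    exact (Ideal.ne_top_iff_one _).1 (IsLocalRing.maximalIdeal.isMaximal _).ne_top this
  obtain ⟨_, ⟨V, hV : IsAffineOpen V, rfl⟩, hxV, -⟩ :=
    X.isBasis_affineOpens.exists_subset_of_mem_open (Set.mem_univ x) isOpen_univ
  haveI : IsNoetherianRing Γ(X, V) := IsLocallyNoetherian.component_noetherian ⟨V, hV⟩
  letI : Algebra Γ(X, V) (X.presheaf.stalk x) :=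
    TopCat.Presheaf.algebra_section_stalk X.presheaf ⟨x, hxV⟩
  haveI hloc : IsLocalization.AtPrime (X.presheaf.stalk x) (pr hV x hxV) :=
    hV.isLocalization_stalk ⟨x, hxV⟩
  set p := pr hV x hxV with hp
  have hpprime : p.IsPrime := inferInstance
  obtain ⟨s, u, hsu⟩ := IsLocalization.exists_mk'_eq p.primeCompl z
  have hsu' : algebraMap Γ(X, V) (X.presheaf.stalk x) s =
      z * algebraMap Γ(X, V) (X.presheaf.stalk x) u := by
    rw [← hsu, IsLocalization.mk'_spec]
  have hkill : ∀ c ∈ p, ∃ e, e ∉ p ∧ e * (c * s) = 0 := by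
    intro c hc
    have h1 : algebraMap Γ(X, V) (X.presheaf.stalk x) c ∈ maximalIdeal (X.presheaf.stalk x) :=
      (IsLocalization.AtPrime.to_map_mem_maximal_iff _ p c).2 hc
    have h2 : algebraMap Γ(X, V) (X.presheaf.stalk x) (c * s) = 0 := by
      rw [map_mul, hsu', ← mul_assoc, (hmem _).1 h1, zero_mul]
    obtain ⟨e, he⟩ := (IsLocalization.map_eq_zero_iff p.primeCompl _ _).1 h2
    exact ⟨e.1, e.2, he⟩
  obtain ⟨S, hS⟩ := (isNoetherianRing_iff_ideal_fg Γ(X, V)).1 inferInstance p
  choose! e heP he using hkill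
  have hSP : ∀ d ∈ S, d ∈ p := fun d hd => hS ▸ Ideal.subset_span hd
  let E : Γ(X, V) := ∏ d ∈ S, e d
  have hEP : E ∉ p := by
    intro hE
    obtain ⟨d, hdS, hd⟩ := (hpprime.prod_mem_iff).1 hE
    exact heP d (hSP d hdS) hd
  have hEd : ∀ d ∈ S, d * (E * s) = 0 := by
    intro d hdS
    obtain ⟨r, hr⟩ : e d ∣ E := Finset.dvd_prod_of_mem e hdS
    rw [hr]
    have := he d (hSP d hdS)
    calc d * (e d * r * s) = r * (e d * (d * s)) := by ring
      _ = 0 := by rw [this, mul_zero]
  have hEall : ∀ d ∈ p, d * (E * s) = 0 := by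
    intro d hdP
    have hle : Ideal.span (S : Set Γ(X, V)) ≤
        LinearMap.ker (LinearMap.toSpanSingleton Γ(X, V) Γ(X, V) (E * s)) := by
      rw [Ideal.span_le]
      intro d hdS
      simpa using hEd d hdS
    have := hle (hS.symm ▸ hdP)
    simpa using this
  -- `s' = E * s` restricts to zero on `V ⊓ U`
  have hres : X.presheaf.map (homOfLE (inf_le_left : V ⊓ U ≤ V)).op (E * s) =
      X.presheaf.map (homOfLE (inf_le_left : V ⊓ U ≤ V)).op 0 := by
    rw [map_zero]
    refine TopCat.Presheaf.section_ext X.sheaf (V ⊓ U) _ 0 ?_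
    intro y hy
    show X.presheaf.germ (V ⊓ U) y hy _ = X.presheaf.germ (V ⊓ U) y hy 0
    rw [map_zero, germ_res_apply' inf_le_left y hy]
    obtain ⟨h, hhW, hyh⟩ := hV.exists_basicOpen_le (⟨y, hy⟩ : (V ⊓ U : X.Opens)) hy.1
    have hhp : h ∈ p := by
      by_contra hcon
      exact hx (hhW ((not_mem_pr_iff hV x hxV h).1 hcon)).2
    have h1 : X.presheaf.germ V y hy.1 h * X.presheaf.germ V y hy.1 (E * s) = 0 := by
      rw [← map_mul, hEall h hhp, map_zero]
    have hunit : IsUnit (X.presheaf.germ V y hy.1 h) := (X.mem_basicOpen h y hy.1).1 hyh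
    exact (hunit.mul_right_eq_zero).1 h1
  have hzero : E * s = 0 := hinj V hres
  have : algebraMap Γ(X, V) (X.presheaf.stalk x) (E * s) ≠ 0 := by
    rw [map_mul, hsu']
    have hEu : IsUnit (algebraMap Γ(X, V) (X.presheaf.stalk x) E) :=
      (IsLocalization.AtPrime.isUnit_to_map_iff _ p E).2 hEP
    have huu : IsUnit (algebraMap Γ(X, V) (X.presheaf.stalk x) u.1) :=
      (IsLocalization.AtPrime.isUnit_to_map_iff _ p u.1).2 u.2
    intro h
    rw [hEu.mul_right_eq_zero, huu.mul_left_eq_zero] at h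
    exact hz0 h
  exact this (by rw [hzero, map_zero])

end Groth.Agent.Lib.Helper64.HartogsInj
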