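import Groth.Agent.Lib.Helper64.StalkFrac

/-!
# Generizations and primes of local rings, on an arbitrary scheme (helper64)

* `primeOf h`, `isLocalization_stalkSpecializes`: for `ζ ⤳ x`, `O_{X,ζ}` is the localization of
  `O_{X,x}` at the prime `primeOf h` (the preimage of `m_ζ` under the specialization map).
* `ringKrullDim_stalk_eq_height_primeOf`, `isDomain_of_specializes`,
  `exists_specializes_coheight_eq_one`.
* `isOpen_singleton_of_forall_specializes`: a point of a locally Noetherian scheme with no proper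
  generization and no proper specialization is open.
* `isDomain_of_prime_span_nonZeroDivisor`: a Noetherian local ring with a prime ideal generated by
  a non-zero-divisor is a domain.
-/

set_option autoImplicit false
set_option linter.style.haveILetI false
universe u

namespace Groth.Agent.Lib.Helper64.StalkSpec

open AlgebraicGeometry CategoryTheory TopologicalSpace IsLocalRing
open Groth.Agent.Lib.Helper64.StalkFrac

/-- A Noetherian local ring having a prime ideal generated by a non-zero-divisor is a domain. -/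
theorem isDomain_of_prime_span_nonZeroDivisor (A : Type u) [CommRing A] [IsNoetherianRing A]
    [IsLocalRing A] (p : Ideal A) [p.IsPrime] (t : A) (ht : t ∈ nonZeroDivisors A)
    (hp : p = Ideal.span {t}) : IsDomain A := by
  obtain ⟨q, hq, hqp⟩ := Ideal.exists_minimalPrimes_le (bot_le : (⊥ : Ideal A) ≤ p)
  have hqprime : q.IsPrime := hq.1.1
  have htq : t ∉ q := fun h =>
    Set.disjoint_left.mp (Ideal.disjoint_nonZeroDivisors_of_mem_minimalPrimes hq) h ht
  have htm : t ∈ maximalIdeal A := by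
    have : t ∈ p := by rw [hp]; exact Ideal.mem_span_singleton_self t
    exact le_maximalIdeal (Ideal.IsPrime.ne_top ‹p.IsPrime›) this
  have hle : q ≤ Ideal.span {t} • q := by
    intro a ha
    have hap : a ∈ Ideal.span {t} := hp ▸ hqp ha
    obtain ⟨a₁, rfl⟩ := Ideal.mem_span_singleton'.mp hap
    have ha₁ : a₁ ∈ q := (hqprime.mem_or_mem ha).resolve_right htq
    rw [mul_comm]
    exact Submodule.smul_mem_smul (Ideal.mem_span_singleton_self t) ha₁
  have hq0 : q = ⊥ := by
    refine Submodule.eq_bot_of_le_smul_of_le_jacobson_bot (Ideal.span {t}) q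
      (IsNoetherian.noetherian q) hle ?_
    rw [IsLocalRing.jacobson_eq_maximalIdeal ⊥ bot_ne_top, Ideal.span_singleton_le_iff_mem]
    exact htm
  rw [hq0] at hqprime
  haveI : NoZeroDivisors A := ⟨fun {a b} hab => by
    have h1 : a * b ∈ (⊥ : Ideal A) := by rw [hab]; exact zero_mem _
    rcases hqprime.mem_or_mem h1 with h | h
    · exact Or.inl ((Submodule.mem_bot A).mp h)
    · exact Or.inr ((Submodule.mem_bot A).mp h)⟩
  exact NoZeroDivisors.to_isDomain A

variable {X : Scheme.{u}}

/-- the prime ideal of `O_{X,x}` corresponding to a generization `ζ` of `x` -/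
noncomputable def primeOf {x ζ : X} (h : ζ ⤳ x) : Ideal (X.presheaf.stalk x) :=
  (maximalIdeal (X.presheaf.stalk ζ)).comap (X.presheaf.stalkSpecializes h).hom

instance {x ζ : X} (h : ζ ⤳ x) : (primeOf h).IsPrime := by
  unfold primeOf; infer_instance

/-- `O_{X,ζ}` is the localization of `O_{X,x}` at the prime of the generization `ζ`. -/
theorem isLocalization_stalkSpecializes {x ζ : X} (h : ζ ⤳ x) :
    @IsLocalization.AtPrime (X.presheaf.stalk x) _ (X.presheaf.stalk ζ) _
      ((X.presheaf.stalkSpecializes h).hom.toAlgebra) (primeOf h) _ := by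
  obtain ⟨_, ⟨U, hU : IsAffineOpen U, rfl⟩, hxU, -⟩ :=
    X.isBasis_affineOpens.exists_subset_of_mem_open (Set.mem_univ x) isOpen_univ
  have hζU : ζ ∈ U := h.mem_open U.isOpen hxU
  letI algx : Algebra Γ(X, U) (X.presheaf.stalk x) :=
    TopCat.Presheaf.algebra_section_stalk X.presheaf ⟨x, hxU⟩
  letI algζ : Algebra Γ(X, U) (X.presheaf.stalk ζ) :=
    TopCat.Presheaf.algebra_section_stalk X.presheaf ⟨ζ, hζU⟩
  letI algxζ : Algebra (X.presheaf.stalk x) (X.presheaf.stalk ζ) :=
    (X.presheaf.stalkSpecializes h).hom.toAlgebra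
  haveI : IsScalarTower Γ(X, U) (X.presheaf.stalk x) (X.presheaf.stalk ζ) := by
    apply IsScalarTower.of_algebraMap_eq'
    simp_rw [RingHom.algebraMap_toAlgebra]
    change _ = (X.presheaf.germ U x hxU ≫ X.presheaf.stalkSpecializes h).hom
    rw [X.presheaf.germ_stalkSpecializes]
  haveI locx : IsLocalization.AtPrime (X.presheaf.stalk x) (pr hU x hxU) :=
    hU.isLocalization_stalk ⟨x, hxU⟩
  haveI locζ : IsLocalization.AtPrime (X.presheaf.stalk ζ) (pr hU ζ hζU) :=
    hU.isLocalization_stalk ⟨ζ, hζU⟩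
  have hle : pr hU ζ hζU ≤ pr hU x hxU := (specializes_iff_le hU x ζ hxU hζU).mp h
  have hMN : (pr hU x hxU).primeCompl ≤ (pr hU ζ hζU).primeCompl := fun t ht htζ => ht (hle htζ)
  haveI h1 : IsLocalization ((pr hU ζ hζU).primeCompl.map
      (algebraMap Γ(X, U) (X.presheaf.stalk x))) (X.presheaf.stalk ζ) :=
    IsLocalization.isLocalization_of_submonoid_le (X.presheaf.stalk x) (X.presheaf.stalk ζ)
      (pr hU x hxU).primeCompl (pr hU ζ hζU).primeCompl hMN
  -- membership in `primeOf` for images of sections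
  have hmem : ∀ t : Γ(X, U), algebraMap Γ(X, U) (X.presheaf.stalk x) t ∈ primeOf h ↔
      t ∈ pr hU ζ hζU := by
    intro t
    rw [← IsLocalization.AtPrime.to_map_mem_maximal_iff (X.presheaf.stalk ζ) (pr hU ζ hζU) t,
      IsScalarTower.algebraMap_apply Γ(X, U) (X.presheaf.stalk x) (X.presheaf.stalk ζ)]
    rfl
  refine IsLocalization.isLocalization_of_is_exists_mul_mem (X.presheaf.stalk ζ)
    ((pr hU ζ hζU).primeCompl.map (algebraMap Γ(X, U) (X.presheaf.stalk x)))
    (primeOf h).primeCompl ?_ ?_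
  · rintro _ ⟨t, ht, rfl⟩
    exact fun hmem' => ht ((hmem t).mp hmem')
  · rintro ⟨w, hw⟩
    obtain ⟨⟨a, s⟩, hws⟩ := IsLocalization.surj (pr hU x hxU).primeCompl w
    refine ⟨algebraMap Γ(X, U) (X.presheaf.stalk x) s.1, a, ?_, ?_⟩
    · intro ha
      have h2 : w * algebraMap Γ(X, U) (X.presheaf.stalk x) s.1 ∈ primeOf h := by
        rw [hws]; exact (hmem a).mpr ha
      rcases Ideal.IsPrime.mem_or_mem inferInstance h2 with h3 | h3
      · exact hw h3
      · exact s.2 (hle ((hmem s.1).mp h3))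
    · rw [mul_comm]; exact hws.symm


theorem ringKrullDim_stalk_eq_height_primeOf {x ζ : X} (h : ζ ⤳ x) :
    ringKrullDim (X.presheaf.stalk ζ) = (primeOf h).height := by
  letI : Algebra (X.presheaf.stalk x) (X.presheaf.stalk ζ) :=
    (X.presheaf.stalkSpecializes h).hom.toAlgebra
  haveI := isLocalization_stalkSpecializes h
  exact IsLocalization.AtPrime.ringKrullDim_eq_height (primeOf h) (X.presheaf.stalk ζ)

/-- generizations of points with integral local ring have integral local rings -/
theorem isDomain_of_specializes {x ζ : X} (h : ζ ⤳ x) [IsDomain (X.presheaf.stalk x)] :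
    IsDomain (X.presheaf.stalk ζ) := by
  letI : Algebra (X.presheaf.stalk x) (X.presheaf.stalk ζ) :=
    (X.presheaf.stalkSpecializes h).hom.toAlgebra
  haveI := isLocalization_stalkSpecializes h
  exact IsLocalization.isDomain_of_atPrime (X.presheaf.stalk ζ) (primeOf h)

/-- a point of positive finite codimension has a generization of codimension one -/
theorem exists_specializes_coheight_eq_one [IsLocallyNoetherian X] (x : X)
    (hx : 1 ≤ Order.coheight x) : ∃ ζ : X, ζ ⤳ x ∧ Order.coheight ζ = 1 := by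
  have hfin : Order.coheight x < ⊤ := by
    have h1 : ringKrullDim (X.presheaf.stalk x) < ⊤ := ringKrullDim_lt_top
    rw [AlgebraicGeometry.ringKrullDim_stalk_eq_coheight] at h1
    exact WithBot.coe_lt_coe.mp h1
  rcases hx.eq_or_lt with h1 | h1
  · exact ⟨x, specializes_rfl, h1.symm⟩
  · obtain ⟨y, hy, hy1⟩ := (Order.coe_lt_coheight_iff (n := 1) hfin).mp (by exact_mod_cast h1)
    exact ⟨y, hy.le, by exact_mod_cast hy1⟩

/-- In a Noetherian ring a prime which is both minimal and maximal is an open point of the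
spectrum. -/
theorem isOpen_singleton_of_minimal_of_maximal {B : Type u} [CommRing B] [IsNoetherianRing B]
    (q : PrimeSpectrum B) (hmin : ∀ q' : PrimeSpectrum B, q' ≤ q → q' = q)
    (hmax : ∀ q' : PrimeSpectrum B, q ≤ q' → q' = q) : IsOpen ({q} : Set (PrimeSpectrum B)) := by
  have hfin : (minimalPrimes B).Finite := minimalPrimes.finite_of_isNoetherianRing B
  have hclosed : IsClosed (⋃ I ∈ (minimalPrimes B) \ {q.asIdeal},
      PrimeSpectrum.zeroLocus (I : Set B)) :=
    (hfin.subset Set.sdiff_subset).isClosed_biUnion fun I _ => PrimeSpectrum.isClosed_zeroLocus _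
  have heq : ({q} : Set (PrimeSpectrum B)) = (⋃ I ∈ (minimalPrimes B) \ {q.asIdeal},
      PrimeSpectrum.zeroLocus (I : Set B))ᶜ := by
    ext P
    simp only [Set.mem_singleton_iff, Set.mem_compl_iff, Set.mem_iUnion, exists_prop, not_exists,
      not_and, PrimeSpectrum.mem_zeroLocus, SetLike.coe_subset_coe]
    constructor
    · rintro rfl I ⟨hI, hIq⟩ hle
      have hIprime : I.IsPrime := hI.1.1
      have := hmin ⟨I, hIprime⟩ hle
      exact hIq (by rw [Set.mem_singleton_iff, ← this])
    · intro h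
      obtain ⟨I, hI, hIP⟩ := Ideal.exists_minimalPrimes_le (bot_le : (⊥ : Ideal B) ≤ P.asIdeal)
      have hIprime : I.IsPrime := hI.1.1
      by_cases hIq : I = q.asIdeal
      · exact hmax P (by show q.asIdeal ≤ P.asIdeal; rw [← hIq]; exact hIP)
      · exact absurd hIP (h I ⟨hI, hIq⟩)
  rw [heq]
  exact hclosed.isOpen_compl

/-- On a locally Noetherian scheme, a point with no proper generization and no proper specialization
is an open point. -/
theorem isOpen_singleton_of_forall_specializes [IsLocallyNoetherian X] (x : X)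
    (hgen : ∀ ζ : X, ζ ⤳ x → ζ = x) (hspec : ∀ y : X, x ⤳ y → y = x) :
    IsOpen ({x} : Set X) := by
  obtain ⟨_, ⟨U, hU : IsAffineOpen U, rfl⟩, hxU, -⟩ :=
    X.isBasis_affineOpens.exists_subset_of_mem_open (Set.mem_univ x) isOpen_univ
  haveI : IsNoetherianRing Γ(X, U) := IsLocallyNoetherian.component_noetherian ⟨U, hU⟩
  have hx0 : hU.fromSpec (hU.primeIdealOf ⟨x, hxU⟩) = x := hU.fromSpec_primeIdealOf ⟨x, hxU⟩
  have key : ∀ q' : PrimeSpectrum Γ(X, U), hU.fromSpec q' = x → q' = hU.primeIdealOf ⟨x, hxU⟩ :=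
    fun q' h => hU.fromSpec.isOpenEmbedding.injective (h.trans hx0.symm)
  let y₀ : ↥(Spec Γ(X, U)) := hU.primeIdealOf ⟨x, hxU⟩
  have hopen : IsOpen ({y₀} : Set ↥(Spec Γ(X, U))) := by
    refine isOpen_singleton_of_minimal_of_maximal (B := Γ(X, U)) (hU.primeIdealOf ⟨x, hxU⟩) ?_ ?_
    · intro q' hle
      apply key
      apply hgen
      rw [← hx0]
      exact ((PrimeSpectrum.le_iff_specializes _ _).mp hle).map hU.fromSpec.continuous
    · intro q' hle
      apply key
      apply hspec
      rw [← hx0]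
      exact ((PrimeSpectrum.le_iff_specializes _ _).mp hle).map hU.fromSpec.continuous
  have h1 := hU.fromSpec.isOpenEmbedding.isOpenMap _ hopen
  have h2 : (hU.fromSpec '' ({y₀} : Set ↥(Spec Γ(X, U)))) = {x} := by
    ext y
    constructor
    · rintro ⟨q', hq', rfl⟩
      have hq'' : q' = y₀ := hq'
      rw [hq'']; exact hx0
    · intro hy
      have hy' : y = x := hy
      exact ⟨y₀, rfl, hx0.trans hy'.symm⟩
  rwa [h2] at h1

theorem germ_mem_primeOf_iff {U : X.Opens} (hU : IsAffineOpen U) {x ζ : X} (h : ζ ⤳ x)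
    (hxU : x ∈ U) (hζU : ζ ∈ U) (t : Γ(X, U)) :
    X.presheaf.germ U x hxU t ∈ primeOf h ↔ t ∈ pr hU ζ hζU := by
  letI algζ : Algebra Γ(X, U) (X.presheaf.stalk ζ) :=
    TopCat.Presheaf.algebra_section_stalk X.presheaf ⟨ζ, hζU⟩
  haveI locζ : IsLocalization.AtPrime (X.presheaf.stalk ζ) (pr hU ζ hζU) :=
    hU.isLocalization_stalk ⟨ζ, hζU⟩
  rw [← IsLocalization.AtPrime.to_map_mem_maximal_iff (X.presheaf.stalk ζ) (pr hU ζ hζU) t]
  show (X.presheaf.stalkSpecializes h).hom (X.presheaf.germ U x hxU t) ∈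
      maximalIdeal (X.presheaf.stalk ζ) ↔
    X.presheaf.germ U ζ hζU t ∈ maximalIdeal (X.presheaf.stalk ζ)
  rw [← CommRingCat.comp_apply, X.presheaf.germ_stalkSpecializes]

/-- every prime of `O_{X,x}` is the prime of a generization of `x` -/
theorem exists_specializes_primeOf_eq (x : X) (p : Ideal (X.presheaf.stalk x)) [p.IsPrime] :
    ∃ (ζ : X) (h : ζ ⤳ x), primeOf h = p := by
  obtain ⟨_, ⟨U, hU : IsAffineOpen U, rfl⟩, hxU, -⟩ :=
    X.isBasis_affineOpens.exists_subset_of_mem_open (Set.mem_univ x) isOpen_univ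
  letI : Algebra Γ(X, U) (X.presheaf.stalk x) :=
    TopCat.Presheaf.algebra_section_stalk X.presheaf ⟨x, hxU⟩
  haveI : IsLocalization.AtPrime (X.presheaf.stalk x) (pr hU x hxU) :=
    hU.isLocalization_stalk ⟨x, hxU⟩
  set q₀ : Ideal Γ(X, U) := p.comap (algebraMap Γ(X, U) (X.presheaf.stalk x)) with hq₀
  haveI : q₀.IsPrime := Ideal.comap_isPrime _ _
  set y₀ : PrimeSpectrum Γ(X, U) := ⟨q₀, inferInstance⟩ with hy₀
  have hζU : hU.fromSpec y₀ ∈ U := by
    rw [← SetLike.mem_coe, ← hU.range_fromSpec]; exact Set.mem_range_self y₀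
  have hpr : pr hU (hU.fromSpec y₀) hζU = q₀ := pr_fromSpec hU y₀ hζU
  have hle : q₀ ≤ pr hU x hxU := by
    intro t ht
    rw [← IsLocalization.AtPrime.to_map_mem_maximal_iff (X.presheaf.stalk x) (pr hU x hxU) t]
    exact le_maximalIdeal (Ideal.IsPrime.ne_top ‹p.IsPrime›) ht
  have hsp : hU.fromSpec y₀ ⤳ x := by
    rw [specializes_iff_le hU x _ hxU hζU, hpr]; exact hle
  refine ⟨hU.fromSpec y₀, hsp, ?_⟩
  have hcomap : (primeOf hsp).comap (algebraMap Γ(X, U) (X.presheaf.stalk x)) = q₀ := by
    ext t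
    rw [Ideal.mem_comap, ← hpr]
    exact germ_mem_primeOf_iff hU hsp hxU hζU t
  have h1 := IsLocalization.map_under (pr hU x hxU).primeCompl (X.presheaf.stalk x) (primeOf hsp)
  have h2 := IsLocalization.map_under (pr hU x hxU).primeCompl (X.presheaf.stalk x) p
  rw [← h1, ← h2]
  congr 1

end Groth.Agent.Lib.Helper64.StalkSpec
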