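import Mathlib
import Groth.Agent.Lib.Helper64.StalkSpec
import Groth.Agent.Lib.Helper64.SubschemeStalk
import Groth.Agent.Lib.Helper82.EffCartierStalk
import Groth.Agent.Lib.Helper82.EffCartierUFD

/-!
# Effective Cartier divisors from ideals without embedded points on locally factorial schemes
-/

set_option autoImplicit false
set_option linter.style.haveILetI false
universe u

namespace Groth.Agent.Lib.Helper64.UfdPrincipal

open AlgebraicGeometry CategoryTheory TopologicalSpace IsLocalRing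
open Groth.Agent.Lib.Helper64.StalkFrac Groth.Agent.Lib.Helper64.StalkSpec

/-- In a Noetherian UFD, an ideal `J` such that `R/J` has no embedded primes and all minimal
primes over `J` have height one is principal, generated by a nonzero element. -/
theorem exists_span_singleton_of_ufd {R : Type u} [CommRing R] [IsDomain R] [IsNoetherianRing R]
    [UniqueFactorizationMonoid R] (J : Ideal R)
    (ha : ∀ P ∈ associatedPrimes R (R ⧸ J), P ∈ J.minimalPrimes)
    (hb : ∀ P ∈ J.minimalPrimes, P.height = 1) :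
    ∃ g : R, g ≠ 0 ∧ J = Ideal.span {g} := by
  classical
  have hJ0 : J ≠ ⊥ := by
    rintro rfl
    have hmin : (⊥ : Ideal R) ∈ (⊥ : Ideal R).minimalPrimes := by
      rw [Ideal.minimalPrimes_eq_subsingleton_self]; rfl
    have := hb ⊥ hmin
    rw [Ideal.height_bot] at this
    exact zero_ne_one this
  obtain ⟨s, hs⟩ := (isNoetherianRing_iff_ideal_fg R).mp ‹_› J
  have hsne : s.Nonempty := by
    rw [Finset.nonempty_iff_ne_empty]
    rintro rfl
    apply hJ0
    rw [← hs]; simp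
  letI : StrongNormalizationMonoid R := UniqueFactorizationMonoid.strongNormalizationMonoid
  letI : NormalizedGCDMonoid R := UniqueFactorizationMonoid.toNormalizedGCDMonoid R
  obtain ⟨f, hf, hgcd⟩ := s.extract_gcd id hsne
  set g := s.gcd id with hg
  have hg0 : g ≠ 0 := by
    intro h0
    apply hJ0
    rw [← hs, Ideal.span_eq_bot]
    intro x hx
    exact (Finset.gcd_eq_zero_iff.mp h0) x hx
  set J' : Ideal R := Ideal.span (f '' (s : Set R)) with hJ'
  have hJJ' : J = Ideal.span {g} * J' := by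
    rw [hJ', Ideal.span_mul_span, ← hs]
    congr 1
    ext x
    constructor
    · intro hx
      refine ⟨g, rfl, f x, ⟨x, hx, rfl⟩, ?_⟩
      exact (hf x hx).symm
    · rintro ⟨_, rfl, _, ⟨b, hb, rfl⟩, rfl⟩
      have := hf b hb
      simp only [id] at this
      show g * f b ∈ (s : Set R)
      rw [← this]; exact hb
  refine ⟨g, hg0, ?_⟩
  suffices hJ't : J' = ⊤ by rw [hJJ', hJ't, Ideal.mul_top]
  by_contra hne
  haveI : Nontrivial (R ⧸ J') := Ideal.Quotient.nontrivial_iff.mpr hne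
  obtain ⟨P, hP⟩ := associatedPrimes.nonempty R (R ⧸ J')
  -- multiplication by g : R/J' → R/J
  have hle : J' ≤ Submodule.comap (LinearMap.lsmul R R g) J := by
    intro a ha'
    show g • a ∈ J
    rw [hJJ', smul_eq_mul]
    exact Ideal.mul_mem_mul (Ideal.mem_span_singleton_self g) ha'
  let φ : (R ⧸ J') →ₗ[R] (R ⧸ J) := Submodule.mapQ J' J (LinearMap.lsmul R R g) hle
  have hφ : Function.Injective φ := by
    rw [← LinearMap.ker_eq_bot, LinearMap.ker_eq_bot']
    intro m hm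
    obtain ⟨a, rfl⟩ := Submodule.Quotient.mk_surjective _ m
    have h1 : g * a ∈ J := by
      have : φ (Submodule.Quotient.mk a) = Submodule.Quotient.mk (g • a) := rfl
      rw [this, Submodule.Quotient.mk_eq_zero] at hm
      exact hm
    rw [hJJ', Ideal.mem_span_singleton_mul] at h1
    obtain ⟨z, hz, hgz⟩ := h1
    have : z = a := mul_left_cancel₀ hg0 hgz
    rw [Submodule.Quotient.mk_eq_zero, ← this]
    exact hz
  have hPJ : P ∈ associatedPrimes R (R ⧸ J) := IsAssociatedPrime.map_of_injective φ hP hφ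
  have hPmin := ha P hPJ
  have hPh := hb P hPmin
  haveI : P.IsPrime := hPmin.1.1
  have hPn : P ≠ ⊥ := P.ne_bot_of_height_eq_one hPh
  obtain ⟨p, hpP, hp⟩ := Ideal.IsPrime.exists_mem_prime_of_ne_bot ‹_› hPn
  have hPp : P = Ideal.span {p} := P.eq_span_singleton_of_height_eq_one hPh hpP hp
  have hJ'P : J' ≤ P := by
    have h1 : Module.annihilator R (R ⧸ J') ≤ P := by
      have := IsAssociatedPrime.annihilator_le hP
      rwa [Submodule.annihilator_top] at this
    rwa [Ideal.annihilator_quotient] at h1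
  have hdvd : p ∣ s.gcd f := by
    apply Finset.dvd_gcd
    intro b hb
    have : f b ∈ P := hJ'P (Ideal.subset_span ⟨b, hb, rfl⟩)
    rw [hPp, Ideal.mem_span_singleton] at this
    exact this
  rw [hgcd] at hdvd
  exact hp.not_isUnit (isUnit_of_dvd_one hdvd)


variable {X : Scheme.{u}}

/-- The preimage of `primeOf h` in the sections over an affine open is the prime of `ζ`. -/
theorem comap_primeOf {U : X.Opens} (hU : IsAffineOpen U) {x ζ : X} (h : ζ ⤳ x) (hxU : x ∈ U)
    (hζU : ζ ∈ U) :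
    (primeOf h).comap (X.presheaf.germ U x hxU).hom = pr hU ζ hζU := by
  ext t
  exact germ_mem_primeOf_iff hU h hxU hζU t

/-- Generizations of `x` are ordered as the corresponding primes of `O_{X,x}`. -/
theorem primeOf_le_iff {x ζ₁ ζ₂ : X} (h₁ : ζ₁ ⤳ x) (h₂ : ζ₂ ⤳ x) :
    primeOf h₁ ≤ primeOf h₂ ↔ ζ₁ ⤳ ζ₂ := by
  obtain ⟨_, ⟨U, hU : IsAffineOpen U, rfl⟩, hxU, -⟩ :=
    X.isBasis_affineOpens.exists_subset_of_mem_open (Set.mem_univ x) isOpen_univ
  have h₁U : ζ₁ ∈ U := h₁.mem_open U.isOpen hxU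
  have h₂U : ζ₂ ∈ U := h₂.mem_open U.isOpen hxU
  letI : Algebra Γ(X, U) (X.presheaf.stalk x) :=
    TopCat.Presheaf.algebra_section_stalk X.presheaf ⟨x, hxU⟩
  haveI : IsLocalization.AtPrime (X.presheaf.stalk x) (pr hU x hxU) :=
    hU.isLocalization_stalk ⟨x, hxU⟩
  rw [specializes_iff_le hU ζ₂ ζ₁ h₂U h₁U, ← comap_primeOf hU h₁ hxU h₁U,
    ← comap_primeOf hU h₂ hxU h₂U]
  constructor
  · intro h
    exact Ideal.comap_mono h
  · intro h
    have e1 := IsLocalization.map_under (pr hU x hxU).primeCompl (X.presheaf.stalk x) (primeOf h₁)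
    have e2 := IsLocalization.map_under (pr hU x hxU).primeCompl (X.presheaf.stalk x) (primeOf h₂)
    rw [← e1, ← e2]
    exact Ideal.map_mono h

theorem eq_of_primeOf_eq {x ζ₁ ζ₂ : X} (h₁ : ζ₁ ⤳ x) (h₂ : ζ₂ ⤳ x)
    (h : primeOf h₁ = primeOf h₂) : ζ₁ = ζ₂ :=
  (((primeOf_le_iff h₁ h₂).mp h.le).antisymm ((primeOf_le_iff h₂ h₁).mp h.ge)).eq

/-- `𝓘_x ⊆ primeOf (ζ ⤳ x)` iff `ζ` lies in the support of `𝓘`. -/
theorem map_ideal_le_primeOf_iff (𝓘 : X.IdealSheafData) (U : X.affineOpens) {x ζ : X}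
    (h : ζ ⤳ x) (hxU : x ∈ U.1) :
    (𝓘.ideal U).map (X.presheaf.germ U.1 x hxU).hom ≤ primeOf h ↔ ζ ∈ 𝓘.support := by
  have hζU : ζ ∈ U.1 := h.mem_open U.1.isOpen hxU
  rw [Ideal.map_le_iff_le_comap, comap_primeOf U.2 h hxU hζU,
    Groth.Agent.Lib.Helper82.mem_support_iff_ideal_le_primeIdealOf 𝓘 U ζ hζU]

/-- If `P = primeOf (ι z ⤳ x)` is an associated prime of `O_{X,x}/𝓘_x`, then the maximal ideal of
`O_{Z,z}` is an associated prime of `O_{Z,z}`. -/
theorem isAssociatedPrime_maximalIdeal_stalk [IsLocallyNoetherian X] (𝓘 : X.IdealSheafData)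
    (U : X.affineOpens) (x : X) (hxU : x ∈ U.1) (z : 𝓘.subscheme)
    (hζ : 𝓘.subschemeι z ⤳ x)
    (hP : primeOf hζ ∈ associatedPrimes (X.presheaf.stalk x)
      (X.presheaf.stalk x ⧸ (𝓘.ideal U).map (X.presheaf.germ U.1 x hxU).hom)) :
    IsAssociatedPrime (maximalIdeal (𝓘.subscheme.presheaf.stalk z))
      (𝓘.subscheme.presheaf.stalk z) := by
  have hζU : 𝓘.subschemeι z ∈ U.1 := hζ.mem_open U.1.isOpen hxU
  obtain ⟨hPprime, rbar, hrbar⟩ := isAssociatedPrime_iff.mp hP
  obtain ⟨r, rfl⟩ := Ideal.Quotient.mk_surjective rbar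
  have hcolon : ∀ a : X.presheaf.stalk x, a ∈ primeOf hζ ↔
      a * r ∈ (𝓘.ideal U).map (X.presheaf.germ U.1 x hxU).hom := by
    intro a
    rw [hrbar, Submodule.mem_colon_singleton, Submodule.mem_bot]
    rw [show a • (Ideal.Quotient.mk _ r : X.presheaf.stalk x ⧸
        (𝓘.ideal U).map (X.presheaf.germ U.1 x hxU).hom) = Ideal.Quotient.mk _ (a * r) from rfl,
      Ideal.Quotient.eq_zero_iff_mem]
  have hker := Groth.Agent.Lib.Helper64.SubschemeStalk.ker_stalkMap_subschemeι 𝓘 U z hζU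
  have hker' : RingHom.ker (𝓘.subschemeι.stalkMap z).hom =
      ((𝓘.ideal U).map (X.presheaf.germ U.1 x hxU).hom).map
        (X.presheaf.stalkSpecializes hζ).hom := by
    rw [hker, Ideal.map_map]
    congr 1
    rw [← CommRingCat.hom_comp, X.presheaf.germ_stalkSpecializes]
  letI : Algebra (X.presheaf.stalk x) (X.presheaf.stalk (𝓘.subschemeι z)) :=
    (X.presheaf.stalkSpecializes hζ).hom.toAlgebra
  haveI := isLocalization_stalkSpecializes hζ
  have halg : ∀ a, algebraMap (X.presheaf.stalk x) (X.presheaf.stalk (𝓘.subschemeι z)) a =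
      (X.presheaf.stalkSpecializes hζ).hom a := fun a => rfl
  have hsurj := 𝓘.subschemeι.stalkMap_surjective z
  refine ⟨inferInstance, (𝓘.subschemeι.stalkMap z).hom ((X.presheaf.stalkSpecializes hζ).hom r), ?_⟩
  have hle : maximalIdeal (𝓘.subscheme.presheaf.stalk z) ≤
      (⊥ : Submodule (𝓘.subscheme.presheaf.stalk z) (𝓘.subscheme.presheaf.stalk z)).colon
        {(𝓘.subschemeι.stalkMap z).hom ((X.presheaf.stalkSpecializes hζ).hom r)} := by
    intro t ht
    rw [Submodule.mem_colon_singleton, Submodule.mem_bot, smul_eq_mul]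
    obtain ⟨t', rfl⟩ := hsurj t
    have ht' : t' ∈ maximalIdeal (X.presheaf.stalk (𝓘.subschemeι z)) := by
      rw [mem_maximalIdeal, mem_nonunits_iff] at ht ⊢
      intro hu
      exact ht (hu.map _)
    obtain ⟨⟨a, s⟩, has⟩ := IsLocalization.surj (primeOf hζ).primeCompl t'
    simp only [halg] at has
    have hsu : IsUnit ((X.presheaf.stalkSpecializes hζ).hom s.1) :=
      IsLocalization.map_units (X.presheaf.stalk (𝓘.subschemeι z)) s
    have haP : a ∈ primeOf hζ := by
      show (X.presheaf.stalkSpecializes hζ).hom a ∈ maximalIdeal _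
      rw [← has]
      exact Ideal.mul_mem_right _ _ ht'
    have har := (hcolon a).mp haP
    have h0 : (𝓘.subschemeι.stalkMap z).hom ((X.presheaf.stalkSpecializes hζ).hom (a * r)) = 0 := by
      rw [← RingHom.mem_ker, hker']
      exact Ideal.mem_map_of_mem _ har
    have hsu' : IsUnit ((𝓘.subschemeι.stalkMap z).hom ((X.presheaf.stalkSpecializes hζ).hom s.1)) :=
      hsu.map _
    apply hsu'.mul_left_cancel
    rw [mul_zero, ← mul_assoc, ← map_mul, mul_comm _ t', has, ← map_mul, ← map_mul]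
    exact h0
  have hne : (⊥ : Submodule (𝓘.subscheme.presheaf.stalk z) (𝓘.subscheme.presheaf.stalk z)).colon
        {(𝓘.subschemeι.stalkMap z).hom ((X.presheaf.stalkSpecializes hζ).hom r)} ≠ ⊤ := by
    intro htop
    have h1 : (1 : 𝓘.subscheme.presheaf.stalk z) ∈
        (⊥ : Submodule (𝓘.subscheme.presheaf.stalk z) (𝓘.subscheme.presheaf.stalk z)).colon
        {(𝓘.subschemeι.stalkMap z).hom ((X.presheaf.stalkSpecializes hζ).hom r)} := by
      rw [htop]; trivial
    rw [Submodule.mem_colon_singleton, Submodule.mem_bot, one_smul, ← RingHom.mem_ker, hker'] at h1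
    change algebraMap (X.presheaf.stalk x) (X.presheaf.stalk (𝓘.subschemeι z)) r ∈
      Ideal.map (algebraMap (X.presheaf.stalk x) (X.presheaf.stalk (𝓘.subschemeι z))) _ at h1
    rw [IsLocalization.mem_map_algebraMap_iff (primeOf hζ).primeCompl] at h1
    obtain ⟨⟨⟨j, hj⟩, s⟩, hjs⟩ := h1
    simp only at hjs
    rw [← map_mul, IsLocalization.eq_iff_exists (primeOf hζ).primeCompl] at hjs
    obtain ⟨s', hs'⟩ := hjs
    have hmem : (s'.1 * s.1) * r ∈ (𝓘.ideal U).map (X.presheaf.germ U.1 x hxU).hom := by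
      have : (s'.1 * s.1) * r = s'.1 * j := by rw [← hs']; ring
      rw [this]
      exact Ideal.mul_mem_left _ _ hj
    have := (hcolon _).mpr hmem
    exact (primeOf hζ).primeCompl.mul_mem s'.2 s.2 this
  have heq : (⊥ : Submodule (𝓘.subscheme.presheaf.stalk z) (𝓘.subscheme.presheaf.stalk z)).colon
        {(𝓘.subschemeι.stalkMap z).hom ((X.presheaf.stalkSpecializes hζ).hom r)} =
      maximalIdeal (𝓘.subscheme.presheaf.stalk z) :=
    ((maximalIdeal.isMaximal _).eq_of_le hne hle).symm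
  rw [heq, Ideal.IsPrime.radical inferInstance]

theorem isEffCartierIdeal_of_noEmbedded_codim_one_ufd (X : Scheme.{u}) [IsNoetherian X]
    (𝓘 : X.IdealSheafData)
    (h1 : ∀ z : ↥𝓘.subscheme,
      IsAssociatedPrime (IsLocalRing.maximalIdeal ↑(𝓘.subscheme.presheaf.stalk z))
        ↑(𝓘.subscheme.presheaf.stalk z) → ∀ z' : ↥𝓘.subscheme, z' ⤳ z → z' = z)
    (h2 : ∀ z : ↥𝓘.subscheme, (∀ z' : ↥𝓘.subscheme, z' ⤳ z → z' = z) →
      ringKrullDim (X.presheaf.stalk (𝓘.subschemeι z)) = 1)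
    (h3 : ∀ x : ↥X, x ∈ 𝓘.support →
      IsDomain (X.presheaf.stalk x) ∧ UniqueFactorizationMonoid (X.presheaf.stalk x)) :
    BlowUp.IsEffCartierIdeal 𝓘 := by
  apply Groth.Agent.Lib.Helper82.isEffCartierIdeal_of_stalk_principal
  intro x hx U hxU
  obtain ⟨hdom, hufd⟩ := h3 x hx
  have hι : Topology.IsEmbedding 𝓘.subschemeι := 𝓘.subschemeι.isEmbedding
  have hsupp : ∀ ζ : X, ζ ∈ 𝓘.support → ∃ z : 𝓘.subscheme, 𝓘.subschemeι z = ζ := by
    intro ζ hζ
    have : ζ ∈ Set.range 𝓘.subschemeι := by rw [𝓘.range_subschemeι]; exact hζ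
    exact this
  have hsuppz : ∀ z : 𝓘.subscheme, 𝓘.subschemeι z ∈ 𝓘.support := by
    intro z
    have : 𝓘.subschemeι z ∈ Set.range 𝓘.subschemeι := ⟨z, rfl⟩
    rwa [𝓘.range_subschemeι] at this
  have key := exists_span_singleton_of_ufd
    ((𝓘.ideal U).map (X.presheaf.germ U.1 x hxU).hom) ?_ ?_
  · obtain ⟨g, hg0, hJ⟩ := key
    exact ⟨g, mem_nonZeroDivisors_of_ne_zero hg0, hJ⟩
  · -- no embedded primes
    intro P hP
    haveI : P.IsPrime := hP.isPrime
    have hJP : (𝓘.ideal U).map (X.presheaf.germ U.1 x hxU).hom ≤ P := by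
      have h1 : Module.annihilator (X.presheaf.stalk x)
          (X.presheaf.stalk x ⧸ (𝓘.ideal U).map (X.presheaf.germ U.1 x hxU).hom) ≤ P := by
        have := IsAssociatedPrime.annihilator_le hP
        rwa [Submodule.annihilator_top] at this
      rwa [Ideal.annihilator_quotient] at h1
    obtain ⟨ζ, hζ, rfl⟩ := exists_specializes_primeOf_eq x P
    have hζsupp : ζ ∈ 𝓘.support := (map_ideal_le_primeOf_iff 𝓘 U hζ hxU).mp hJP
    obtain ⟨z, rfl⟩ := hsupp ζ hζsupp
    have hass := isAssociatedPrime_maximalIdeal_stalk 𝓘 U x hxU z hζ hP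
    have hmax := h1 z hass
    refine ⟨⟨inferInstance, hJP⟩, ?_⟩
    rintro Q ⟨hQprime, hJQ⟩ hQP
    obtain ⟨ζ', hζ', rfl⟩ := exists_specializes_primeOf_eq x Q
    have hsp : ζ' ⤳ 𝓘.subschemeι z := (primeOf_le_iff hζ' hζ).mp hQP
    have hζ'supp : ζ' ∈ 𝓘.support := (map_ideal_le_primeOf_iff 𝓘 U hζ' hxU).mp hJQ
    obtain ⟨z', rfl⟩ := hsupp ζ' hζ'supp
    have hzz : z' ⤳ z := hι.toIsInducing.specializes_iff.mp hsp
    have : z' = z := hmax z' hzz
    subst this
    exact le_refl _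
  · -- minimal primes have height one
    intro P hP
    haveI : P.IsPrime := hP.1.1
    have hJP := hP.1.2
    obtain ⟨ζ, hζ, rfl⟩ := exists_specializes_primeOf_eq x P
    have hζsupp : ζ ∈ 𝓘.support := (map_ideal_le_primeOf_iff 𝓘 U hζ hxU).mp hJP
    obtain ⟨z, rfl⟩ := hsupp ζ hζsupp
    have hmaxpt : ∀ z' : 𝓘.subscheme, z' ⤳ z → z' = z := by
      intro z' hz'
      have hsp' : 𝓘.subschemeι z' ⤳ 𝓘.subschemeι z := hz'.map 𝓘.subschemeι.continuous
      have hsp'' : 𝓘.subschemeι z' ⤳ x := hsp'.trans hζ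
      have hle : primeOf hsp'' ≤ primeOf hζ := (primeOf_le_iff _ _).mpr hsp'
      have hJle : (𝓘.ideal U).map (X.presheaf.germ U.1 x hxU).hom ≤ primeOf hsp'' :=
        (map_ideal_le_primeOf_iff 𝓘 U hsp'' hxU).mpr (hsuppz z')
      have hge := hP.2 ⟨inferInstance, hJle⟩ hle
      have hsp2 : 𝓘.subschemeι z ⤳ 𝓘.subschemeι z' := (primeOf_le_iff _ _).mp hge
      have heq : 𝓘.subschemeι z' = 𝓘.subschemeι z := (hsp'.antisymm hsp2).eq
      exact hι.injective heq
    have hdim := h2 z hmaxpt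
    rw [ringKrullDim_stalk_eq_height_primeOf hζ] at hdim
    exact_mod_cast hdim

end Groth.Agent.Lib.Helper64.UfdPrincipal
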