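import Mathlib
import Groth.Agent.Lib.Helper64.UfdPrincipal

set_option autoImplicit false
set_option linter.style.haveILetI false
universe u

namespace Groth.Agent.Lib.Helper64.StalkIdeal

open AlgebraicGeometry CategoryTheory TopologicalSpace IsLocalRing Opposite
open Groth.Agent.Lib.Helper64.StalkSpec Groth.Agent.Lib.Helper64.UfdPrincipal
open Groth.Agent.Lib.Helper64.StalkFrac

variable {X : Scheme.{u}}

/-- The stalk of an ideal sheaf at a point, as an ideal of the local ring. -/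
noncomputable def stalkIdeal (𝓘 : X.IdealSheafData) (x : X) : Ideal (X.presheaf.stalk x) :=
  ⨆ (U : X.affineOpens) (hx : x ∈ U.1), (𝓘.ideal U).map (X.presheaf.germ U.1 x hx).hom

theorem map_germ_eq_of_le (𝓘 : X.IdealSheafData) {U V : X.affineOpens} (h : U ≤ V) (x : X)
    (hx : x ∈ U.1) :
    (𝓘.ideal V).map (X.presheaf.germ V.1 x (h hx)).hom =
      (𝓘.ideal U).map (X.presheaf.germ U.1 x hx).hom := by
  rw [← 𝓘.map_ideal h, Ideal.map_map, ← CommRingCat.hom_comp]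
  congr 2
  exact (X.presheaf.germ_res (homOfLE h) x hx).symm

theorem map_germ_eq (𝓘 : X.IdealSheafData) (U V : X.affineOpens) (x : X)
    (hxU : x ∈ U.1) (hxV : x ∈ V.1) :
    (𝓘.ideal U).map (X.presheaf.germ U.1 x hxU).hom =
      (𝓘.ideal V).map (X.presheaf.germ V.1 x hxV).hom := by
  obtain ⟨_, ⟨W, hW : IsAffineOpen W, rfl⟩, hxW, hWUV⟩ :=
    X.isBasis_affineOpens.exists_subset_of_mem_open
      (show x ∈ ((U.1 ⊓ V.1 : X.Opens) : Set X) from ⟨hxU, hxV⟩) (U.1 ⊓ V.1).isOpen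
  have hWU : (⟨W, hW⟩ : X.affineOpens) ≤ U := fun y hy => (hWUV hy).1
  have hWV : (⟨W, hW⟩ : X.affineOpens) ≤ V := fun y hy => (hWUV hy).2
  rw [map_germ_eq_of_le 𝓘 hWU x hxW, map_germ_eq_of_le 𝓘 hWV x hxW]

theorem stalkIdeal_eq (𝓘 : X.IdealSheafData) (U : X.affineOpens) (x : X) (hx : x ∈ U.1) :
    stalkIdeal 𝓘 x = (𝓘.ideal U).map (X.presheaf.germ U.1 x hx).hom := by
  apply le_antisymm
  · exact iSup₂_le fun V hV => (map_germ_eq 𝓘 V U x hV hx).le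
  · exact le_iSup₂ (f := fun (V : X.affineOpens) (hV : x ∈ V.1) =>
      (𝓘.ideal V).map (X.presheaf.germ V.1 x hV).hom) U hx

theorem exists_affine_nhd (x : X) : ∃ U : X.affineOpens, x ∈ U.1 := by
  obtain ⟨_, ⟨U, hU : IsAffineOpen U, rfl⟩, hxU, -⟩ :=
    X.isBasis_affineOpens.exists_subset_of_mem_open (Set.mem_univ x) isOpen_univ
  exact ⟨⟨U, hU⟩, hxU⟩

theorem stalkIdeal_map_stalkSpecializes (𝓘 : X.IdealSheafData) {x ζ : X} (h : ζ ⤳ x) :
    (stalkIdeal 𝓘 x).map (X.presheaf.stalkSpecializes h).hom = stalkIdeal 𝓘 ζ := by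
  obtain ⟨U, hxU⟩ := exists_affine_nhd x
  have hζU : ζ ∈ U.1 := h.mem_open U.1.isOpen hxU
  rw [stalkIdeal_eq 𝓘 U x hxU, stalkIdeal_eq 𝓘 U ζ hζU, Ideal.map_map, ← CommRingCat.hom_comp,
    X.presheaf.germ_stalkSpecializes]

theorem stalkIdeal_mono {𝓘 𝓙 : X.IdealSheafData} (h : 𝓘 ≤ 𝓙) (x : X) :
    stalkIdeal 𝓘 x ≤ stalkIdeal 𝓙 x := by
  obtain ⟨U, hxU⟩ := exists_affine_nhd x
  rw [stalkIdeal_eq 𝓘 U x hxU, stalkIdeal_eq 𝓙 U x hxU]
  exact Ideal.map_mono (h U)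

theorem ideal_le_of_stalkIdeal_le {𝓘 𝓙 : X.IdealSheafData} (U : X.affineOpens)
    (h : ∀ x ∈ U.1, stalkIdeal 𝓘 x ≤ stalkIdeal 𝓙 x) : 𝓘.ideal U ≤ 𝓙.ideal U := by
  rw [U.2.ideal_le_iff]
  intro x hx
  rw [← stalkIdeal_eq 𝓘 U x hx, ← stalkIdeal_eq 𝓙 U x hx]
  exact h x hx

theorem le_of_stalkIdeal_le {𝓘 𝓙 : X.IdealSheafData}
    (h : ∀ x, stalkIdeal 𝓘 x ≤ stalkIdeal 𝓙 x) : 𝓘 ≤ 𝓙 :=
  fun U => ideal_le_of_stalkIdeal_le U fun x _ => h x

@[simp] theorem stalkIdeal_mul (𝓘 𝓙 : X.IdealSheafData) (x : X) :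
    stalkIdeal (𝓘 * 𝓙) x = stalkIdeal 𝓘 x * stalkIdeal 𝓙 x := by
  obtain ⟨U, hxU⟩ := exists_affine_nhd x
  rw [stalkIdeal_eq _ U x hxU, stalkIdeal_eq 𝓘 U x hxU, stalkIdeal_eq 𝓙 U x hxU,
    Scheme.IdealSheafData.ideal_mul, Pi.mul_apply, Ideal.map_mul]

@[simp] theorem stalkIdeal_one (x : X) : stalkIdeal (1 : X.IdealSheafData) x = ⊤ := by
  obtain ⟨U, hxU⟩ := exists_affine_nhd x
  rw [stalkIdeal_eq _ U x hxU, Scheme.IdealSheafData.one_eq_top, Scheme.IdealSheafData.ideal_top,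
    Pi.top_apply, Ideal.map_top]

@[simp] theorem stalkIdeal_pow (𝓘 : X.IdealSheafData) (n : ℕ) (x : X) :
    stalkIdeal (𝓘 ^ n) x = stalkIdeal 𝓘 x ^ n := by
  obtain ⟨U, hxU⟩ := exists_affine_nhd x
  rw [stalkIdeal_eq _ U x hxU, stalkIdeal_eq 𝓘 U x hxU,
    Scheme.IdealSheafData.ideal_pow, Pi.pow_apply, Ideal.map_pow]

theorem stalkIdeal_prod {ι : Type*} (s : Finset ι) (𝓘 : ι → X.IdealSheafData) (x : X) :
    stalkIdeal (∏ i ∈ s, 𝓘 i) x = ∏ i ∈ s, stalkIdeal (𝓘 i) x := by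
  classical
  induction s using Finset.induction_on with
  | empty =>
    rw [Finset.prod_empty, Finset.prod_empty, stalkIdeal_one, Ideal.one_eq_top]
  | insert i s hi ih => rw [Finset.prod_insert hi, Finset.prod_insert hi, stalkIdeal_mul, ih]

theorem stalkIdeal_le_primeOf_iff (𝓘 : X.IdealSheafData) {x ζ : X} (h : ζ ⤳ x) :
    stalkIdeal 𝓘 x ≤ primeOf h ↔ ζ ∈ 𝓘.support := by
  obtain ⟨U, hxU⟩ := exists_affine_nhd x
  rw [stalkIdeal_eq 𝓘 U x hxU]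
  exact map_ideal_le_primeOf_iff 𝓘 U h hxU

theorem primeOf_refl (y : X) :
    primeOf (specializes_refl y) = maximalIdeal (X.presheaf.stalk y) := by
  unfold primeOf
  rw [TopCat.Presheaf.stalkSpecializes_refl]
  rfl

theorem mem_support_iff_stalkIdeal_le (𝓘 : X.IdealSheafData) (x : X) :
    x ∈ 𝓘.support ↔ stalkIdeal 𝓘 x ≤ maximalIdeal (X.presheaf.stalk x) := by
  rw [← primeOf_refl, stalkIdeal_le_primeOf_iff]

theorem mem_support_iff_stalkIdeal_ne_top (𝓘 : X.IdealSheafData) (x : X) :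
    x ∈ 𝓘.support ↔ stalkIdeal 𝓘 x ≠ ⊤ := by
  rw [mem_support_iff_stalkIdeal_le]
  constructor
  · intro h htop
    rw [htop] at h
    exact (Ideal.IsPrime.ne_top inferInstance) (top_le_iff.mp h)
  · intro h
    exact le_maximalIdeal h

/-- Algebraic core of openness: for an f.g. ideal `I` with `I_P ≤ J_P` there is `t ∉ P` with
`t • I ≤ J`. -/
theorem exists_notMem_smul_le {A : Type*} [CommRing A] (P : Ideal A) [P.IsPrime]
    (S : Type*) [CommRing S] [Algebra A S] [IsLocalization.AtPrime S P] (I J : Ideal A)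
    (hI : I.FG) (h : I.map (algebraMap A S) ≤ J.map (algebraMap A S)) :
    ∃ t : A, t ∉ P ∧ ∀ a ∈ I, t * a ∈ J := by
  revert h
  refine Submodule.fg_induction (R := A) (M := A)
    (motive := fun (I : Ideal A) _ => I.map (algebraMap A S) ≤ J.map (algebraMap A S) →
      ∃ t : A, t ∉ P ∧ ∀ a ∈ I, t * a ∈ J)
    ?_ ?_ I hI
  · intro f hf
    have hfm : algebraMap A S f ∈ J.map (algebraMap A S) :=
      hf (Ideal.mem_map_of_mem _ (Ideal.subset_span (Set.mem_singleton f)))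
    rw [IsLocalization.mem_map_algebraMap_iff P.primeCompl] at hfm
    obtain ⟨⟨⟨j, hj⟩, s⟩, hjs⟩ := hfm
    simp only at hjs
    rw [← map_mul, IsLocalization.eq_iff_exists P.primeCompl] at hjs
    obtain ⟨s', hs'⟩ := hjs
    refine ⟨s'.1 * s.1, fun hmem => ?_, ?_⟩
    · rcases Ideal.IsPrime.mem_or_mem ‹P.IsPrime› hmem with h1 | h1
      · exact s'.2 h1
      · exact s.2 h1
    · intro a ha
      obtain ⟨c, rfl⟩ := Ideal.mem_span_singleton'.mp ha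
      have : s'.1 * s.1 * (c * f) = c * (s'.1 * j) := by rw [← hs']; ring
      rw [this]
      exact Ideal.mul_mem_left _ _ (Ideal.mul_mem_left _ _ hj)
  · intro I₁ I₂ _ _ h₁ h₂ h
    obtain ⟨t₁, ht₁, h₁'⟩ := h₁ (le_trans (Ideal.map_mono le_sup_left) h)
    obtain ⟨t₂, ht₂, h₂'⟩ := h₂ (le_trans (Ideal.map_mono le_sup_right) h)
    refine ⟨t₁ * t₂, fun hmem => ?_, ?_⟩
    · rcases Ideal.IsPrime.mem_or_mem ‹P.IsPrime› hmem with h1 | h1
      · exact ht₁ h1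
      · exact ht₂ h1
    · intro a ha
      obtain ⟨a₁, ha₁, a₂, ha₂, rfl⟩ := Submodule.mem_sup.mp ha
      have : t₁ * t₂ * (a₁ + a₂) = t₂ * (t₁ * a₁) + t₁ * (t₂ * a₂) := by ring
      rw [this]
      exact J.add_mem (Ideal.mul_mem_left _ _ (h₁' a₁ ha₁)) (Ideal.mul_mem_left _ _ (h₂' a₂ ha₂))

theorem isOpen_setOf_stalkIdeal_le [IsLocallyNoetherian X] (𝓘 𝓙 : X.IdealSheafData) :
    IsOpen {x : X | stalkIdeal 𝓘 x ≤ stalkIdeal 𝓙 x} := by
  rw [isOpen_iff_forall_mem_open]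
  intro x hx
  obtain ⟨U, hxU⟩ := exists_affine_nhd x
  have hU : IsAffineOpen U.1 := U.2
  haveI : IsNoetherianRing Γ(X, U.1) := IsLocallyNoetherian.component_noetherian U
  letI : Algebra Γ(X, U.1) (X.presheaf.stalk x) :=
    TopCat.Presheaf.algebra_section_stalk X.presheaf ⟨x, hxU⟩
  haveI : IsLocalization.AtPrime (X.presheaf.stalk x) (pr hU x hxU) :=
    hU.isLocalization_stalk ⟨x, hxU⟩
  have hx' : (𝓘.ideal U).map (algebraMap Γ(X, U.1) (X.presheaf.stalk x)) ≤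
      (𝓙.ideal U).map (algebraMap Γ(X, U.1) (X.presheaf.stalk x)) := by
    have := hx
    simp only [Set.mem_ofPred_eq, stalkIdeal_eq 𝓘 U x hxU, stalkIdeal_eq 𝓙 U x hxU] at this
    exact this
  obtain ⟨t, htP, ht⟩ := exists_notMem_smul_le (pr hU x hxU) (X.presheaf.stalk x)
    (𝓘.ideal U) (𝓙.ideal U) ((isNoetherianRing_iff_ideal_fg _).mp inferInstance _) hx'
  refine ⟨X.basicOpen t, ?_, (X.basicOpen t).isOpen, (not_mem_pr_iff hU x hxU t).mp htP⟩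
  intro y hy
  have hyU : y ∈ U.1 := X.basicOpen_le t hy
  simp only [Set.mem_ofPred_eq, stalkIdeal_eq 𝓘 U y hyU, stalkIdeal_eq 𝓙 U y hyU]
  rw [Ideal.map_le_iff_le_comap]
  intro a ha
  rw [Ideal.mem_comap]
  have hunit : IsUnit ((X.presheaf.germ U.1 y hyU).hom t) := (X.mem_basicOpen t y hyU).mp hy
  have hmem : (X.presheaf.germ U.1 y hyU).hom (t * a) ∈
      (𝓙.ideal U).map (X.presheaf.germ U.1 y hyU).hom := Ideal.mem_map_of_mem _ (ht a ha)
  rw [map_mul] at hmem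
  exact (Ideal.unit_mul_mem_iff_mem _ hunit).mp hmem

theorem comap_ι_eq_of_stalkIdeal_eq (𝓘 𝓙 : X.IdealSheafData) (U : X.Opens)
    (h : ∀ x ∈ U, stalkIdeal 𝓘 x = stalkIdeal 𝓙 x) : 𝓘.comap U.ι = 𝓙.comap U.ι := by
  apply Scheme.IdealSheafData.ext
  funext V
  rw [Scheme.IdealSheafData.ideal_comap_of_isOpenImmersion,
    Scheme.IdealSheafData.ideal_comap_of_isOpenImmersion]
  congr 1
  have hsub : ∀ x ∈ (U.ι ''ᵁ V.1 : X.Opens), x ∈ U := by
    intro x hx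
    have : (U.ι ''ᵁ V.1 : X.Opens) ≤ U.ι.opensRange := Scheme.Hom.image_le_opensRange _ _
    have := this hx
    rwa [Scheme.Opens.opensRange_ι] at this
  apply le_antisymm
  · exact ideal_le_of_stalkIdeal_le _ fun x hx => (h x (hsub x hx)).le
  · exact ideal_le_of_stalkIdeal_le _ fun x hx => (h x (hsub x hx)).ge

theorem exists_stalkIdeal_eq_span_of_isEffCartier {𝓘 : X.IdealSheafData}
    (h𝓘 : BlowUp.IsEffCartierIdeal 𝓘) (x : X) :
    ∃ g ∈ nonZeroDivisors (X.presheaf.stalk x), stalkIdeal 𝓘 x = Ideal.span {g} := by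
  obtain ⟨U, hxU, f, hf, hfI⟩ := h𝓘 x
  refine ⟨(X.presheaf.germ U.1 x hxU).hom f,
    Groth.Agent.Lib.Helper64.SubschemeStalk.germ_mem_nonZeroDivisors U.2 x hxU f hf, ?_⟩
  rw [stalkIdeal_eq 𝓘 U x hxU, hfI, Ideal.map_span, Set.image_singleton]

theorem stalkIdeal_isPrime_of_isIntegral (𝓘 : X.IdealSheafData) [IsIntegral 𝓘.subscheme]
    (x : X) (hx : x ∈ 𝓘.support) : (stalkIdeal 𝓘 x).IsPrime := by
  have hxr : x ∈ Set.range 𝓘.subschemeι := by rw [𝓘.range_subschemeι]; exact hx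
  obtain ⟨z, rfl⟩ := hxr
  obtain ⟨U, hxU⟩ := exists_affine_nhd (𝓘.subschemeι z)
  rw [stalkIdeal_eq 𝓘 U _ hxU]
  let e := Groth.Agent.Lib.Helper64.SubschemeStalk.stalkEquiv 𝓘 U z hxU
  rw [← Ideal.Quotient.isDomain_iff_prime]
  exact e.toMulEquiv.isDomain _

end Groth.Agent.Lib.Helper64.StalkIdeal
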