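import Mathlib

/-!
# Units on opens of the spectrum of a UFD (helper64)

For a unique factorisation domain `A`, an open `W'` of `Spec A` and `g : A`, every unit `u` of
`Γ(W' ∩ D(g))` decomposes as `u = u₁ u₂` with `u₁` a unit on `W'` and `u₂` a unit on `D(g)`.
This is the key input for `Pic = 0` on (quasi-compact) opens of the spectrum of a UFD.
-/

set_option autoImplicit false
set_option linter.style.haveILetI false
universe u

open AlgebraicGeometry CategoryTheory TopologicalSpace Opposite

namespace Groth.Agent.Lib.Helper64.UfdUnits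

section Alg

variable {A : Type*} [CommRing A] [IsDomain A] [UniqueFactorizationMonoid A]

/-- Splitting a nonzero element of a UFD according to a second element `g`:
`a = a_g * a'`, every prime ideal containing `a_g` contains `g`, and every prime ideal containing
`a'` contains a prime element dividing `a` and not dividing `g`. -/
theorem exists_split (a g : A) (ha : a ≠ 0) :
    ∃ a₁ a₂ : A, a = a₁ * a₂ ∧ (∀ P : Ideal A, P.IsPrime → a₁ ∈ P → g ∈ P) ∧
      (∀ P : Ideal A, P.IsPrime → a₂ ∈ P → ∃ π : A, Prime π ∧ π ∈ P ∧ π ∣ a ∧ ¬ π ∣ g) := by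
  classical
  obtain ⟨v, hv⟩ := UniqueFactorizationMonoid.factors_prod ha
  set F := UniqueFactorizationMonoid.factors a with hF
  have hsplit : (F.filter (· ∣ g)).prod * (F.filter (fun π => ¬ π ∣ g)).prod = F.prod :=
    Multiset.prod_filter_mul_prod_filter_not _
  refine ⟨(F.filter (· ∣ g)).prod, (F.filter (fun π => ¬ π ∣ g)).prod * v, ?_, ?_, ?_⟩
  · rw [← mul_assoc, hsplit, hv]
  · intro P hP hmem
    obtain ⟨π, hπF, hπP⟩ := (hP.multiset_prod_mem_iff_exists_mem _).1 hmem
    obtain ⟨-, hdvd⟩ := Multiset.mem_filter.1 hπF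
    exact P.mem_of_dvd hdvd hπP
  · intro P hP hmem
    have h1 : (F.filter (fun π => ¬ π ∣ g)).prod ∈ P := by
      rcases hP.mem_or_mem hmem with h | h
      · exact h
      · exact absurd (P.eq_top_of_isUnit_mem h v.isUnit) hP.ne_top
    obtain ⟨π, hπF, hπP⟩ := (hP.multiset_prod_mem_iff_exists_mem _).1 h1
    obtain ⟨hπF', hndvd⟩ := Multiset.mem_filter.1 hπF
    exact ⟨π, UniqueFactorizationMonoid.prime_of_factor π hπF', hπP,
      UniqueFactorizationMonoid.dvd_of_mem_factors hπF', hndvd⟩

end Alg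

section Spec

variable (A : Type u) [CommRing A]

/-- Sections of `Spec A` over an open, as an `A`-algebra (Mathlib's `openAlgebra`, restated for the
scheme-level sections). -/
noncomputable def sectionsAlgebra (W : (Spec (CommRingCat.of A)).Opens) :
    Algebra A Γ(Spec (CommRingCat.of A), W) :=
  StructureSheaf.openAlgebra (R := A) (op W)

/-- Stalks of `Spec A` as `A`-algebras. -/
noncomputable def stalkAlgebra (y : Spec (CommRingCat.of A)) :
    Algebra A ((Spec (CommRingCat.of A)).presheaf.stalk y) :=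
  StructureSheaf.stalkAlgebra A y

attribute [local instance] sectionsAlgebra stalkAlgebra

/-- The basic open `D(g)` as an open of the scheme `Spec A`. -/
def D (g : A) : (Spec (CommRingCat.of A)).Opens := PrimeSpectrum.basicOpen g

/-- The prime ideal of a point of `Spec A`. -/
def idealOf (y : Spec (CommRingCat.of A)) : Ideal A := PrimeSpectrum.asIdeal (R := A) y

instance (y : Spec (CommRingCat.of A)) : (idealOf A y).IsPrime := PrimeSpectrum.isPrime y

variable {A}

theorem mem_D_iff (g : A) (y : Spec (CommRingCat.of A)) : y ∈ D A g ↔ g ∉ idealOf A y := Iff.rfl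

theorem isLocalization_stalk (y : Spec (CommRingCat.of A)) :
    IsLocalization.AtPrime ((Spec (CommRingCat.of A)).presheaf.stalk y) (idealOf A y) :=
  StructureSheaf.IsLocalization.to_stalk A y

theorem isLocalization_D (g : A) : IsLocalization.Away g Γ(Spec (CommRingCat.of A), D A g) :=
  StructureSheaf.IsLocalization.to_basicOpen A g

theorem germ_algebraMap (W : (Spec (CommRingCat.of A)).Opens) (y : Spec (CommRingCat.of A))
    (hy : y ∈ W) (a : A) :
    (Spec (CommRingCat.of A)).presheaf.germ W y hy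
      (algebraMap A Γ(Spec (CommRingCat.of A), W) a) =
      algebraMap A ((Spec (CommRingCat.of A)).presheaf.stalk y) a :=
  StructureSheaf.algebraMap_germ_apply W y hy a

theorem res_algebraMap {W W' : (Spec (CommRingCat.of A)).Opens} (h : W ≤ W') (a : A) :
    (Spec (CommRingCat.of A)).presheaf.map (homOfLE h).op
      (algebraMap A Γ(Spec (CommRingCat.of A), W') a) =
      algebraMap A Γ(Spec (CommRingCat.of A), W) a := rfl

/-- An element of `A` not vanishing at any point of `W` is a unit on `W`. -/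
theorem isUnit_algebraMap_of_forall_not_mem (W : (Spec (CommRingCat.of A)).Opens) (a : A)
    (h : ∀ y ∈ W, a ∉ idealOf A y) : IsUnit (algebraMap A Γ(Spec (CommRingCat.of A), W) a) := by
  have hle : W ≤ D A a := fun y hy => h y hy
  haveI := isLocalization_D a
  have h1 : IsUnit (algebraMap A Γ(Spec (CommRingCat.of A), D A a) a) :=
    IsLocalization.Away.algebraMap_isUnit a
  have h2 := h1.map ((Spec (CommRingCat.of A)).presheaf.map (homOfLE hle).op).hom
  exact h2

end Spec

section UFD

variable {A : Type u} [CommRing A] [IsDomain A]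

attribute [local instance] sectionsAlgebra stalkAlgebra

/-- The key non-vanishing claim: if `u * b = a` on `W` with `u` a unit and `a, b` relatively prime,
then neither `a` nor `b` vanishes at a point of `W`. -/
theorem not_mem_of_isUnit_mul_eq [DecompositionMonoid A] {W : (Spec (CommRingCat.of A)).Opens}
    (u : Γ(Spec (CommRingCat.of A), W)) (hu : IsUnit u) (a b : A) (hrel : IsRelPrime a b)
    (hub : u * algebraMap A Γ(Spec (CommRingCat.of A), W) b =
      algebraMap A Γ(Spec (CommRingCat.of A), W) a)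
    (y : Spec (CommRingCat.of A)) (hy : y ∈ W) : a ∉ idealOf A y ∧ b ∉ idealOf A y := by
  haveI := isLocalization_stalk y
  set S := (Spec (CommRingCat.of A)).presheaf.stalk y with hS
  set û : S := (Spec (CommRingCat.of A)).presheaf.germ W y hy u with hû'
  have hû : IsUnit û := hu.map ((Spec (CommRingCat.of A)).presheaf.germ W y hy).hom
  have h1 : û * algebraMap A S b = algebraMap A S a := by
    rw [← germ_algebraMap W y hy, ← germ_algebraMap W y hy, hû', ← map_mul, hub]
  obtain ⟨⟨c, t⟩, hct⟩ := IsLocalization.surj (idealOf A y).primeCompl û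
  have hct' : û * algebraMap A S t = algebraMap A S c := hct
  have hcunit : IsUnit (algebraMap A S c) := by
    rw [← hct']; exact hû.mul (IsLocalization.map_units S t)
  have hc : c ∉ idealOf A y :=
    (IsLocalization.AtPrime.isUnit_to_map_iff S (idealOf A y) c).1 hcunit
  have heq : c * b = a * t := by
    apply IsLocalization.injective S (idealOf A y).primeCompl_le_nonZeroDivisors
    rw [map_mul, map_mul, ← hct', ← h1]; ring
  have hdvd : a ∣ c := hrel.dvd_of_dvd_mul_right ⟨t, heq⟩
  have ha : a ∉ idealOf A y := fun ha => hc ((idealOf A y).mem_of_dvd hdvd ha)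
  refine ⟨ha, fun hb => ?_⟩
  have h2 : a * t ∈ idealOf A y := heq ▸ (idealOf A y).mul_mem_left c hb
  rcases (inferInstance : (idealOf A y).IsPrime).mem_or_mem h2 with h3 | h3
  · exact ha h3
  · exact t.2 h3

/-- The generic point of `Spec A` for a domain `A`. -/
def genericPt (A : Type u) [CommRing A] [IsDomain A] : Spec (CommRingCat.of A) :=
  (⟨⊥, Ideal.isPrime_bot⟩ : PrimeSpectrum A)

theorem genericPt_mem (W : (Spec (CommRingCat.of A)).Opens) (y : Spec (CommRingCat.of A))
    (hy : y ∈ W) : genericPt A ∈ W := by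
  have h : (genericPt A : PrimeSpectrum A) ⤳ (y : PrimeSpectrum A) :=
    (PrimeSpectrum.le_iff_specializes _ _).1 (bot_le : (⊥ : Ideal A) ≤ _)
  exact h.mem_open W.isOpen hy

/-- The point `(π)` of `Spec A` for a prime element `π`. -/
def primePt {π : A} (hπ : Prime π) : Spec (CommRingCat.of A) :=
  (⟨Ideal.span {π}, (Ideal.span_singleton_prime hπ.ne_zero).2 hπ⟩ : PrimeSpectrum A)

theorem primePt_mem {π : A} (hπ : Prime π) (W : (Spec (CommRingCat.of A)).Opens)
    (y : Spec (CommRingCat.of A)) (hy : y ∈ W) (hπy : π ∈ idealOf A y) : primePt hπ ∈ W := by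
  have hle : Ideal.span {π} ≤ idealOf A y := by
    rw [Ideal.span_singleton_le_iff_mem]
    exact hπy
  have h : (primePt hπ : PrimeSpectrum A) ⤳ (y : PrimeSpectrum A) :=
    (PrimeSpectrum.le_iff_specializes _ _).1 hle
  exact h.mem_open W.isOpen hy

omit [IsDomain A] in
theorem mem_idealOf_primePt {π : A} (hπ : Prime π) (a : A) :
    a ∈ idealOf A (primePt hπ) ↔ π ∣ a := Ideal.mem_span_singleton

variable [UniqueFactorizationMonoid A]

/-- **Unit decomposition**, general form: over a UFD `A`, a unit on `W = W' ∩ D(g)` is the product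
of a unit on `W'` and a unit on `D(g)`. -/
theorem exists_units_decomp' (W' W : (Spec (CommRingCat.of A)).Opens) (g : A)
    (h₁ : W ≤ W') (h₂ : W ≤ D A g) (hW : ∀ y, y ∈ W' → y ∈ D A g → y ∈ W)
    (u : Γ(Spec (CommRingCat.of A), W)) (hu : IsUnit u) :
    ∃ (u₁ : Γ(Spec (CommRingCat.of A), W')) (u₂ : Γ(Spec (CommRingCat.of A), D A g)),
      IsUnit u₁ ∧ IsUnit u₂ ∧
      u = (Spec (CommRingCat.of A)).presheaf.map (homOfLE h₁).op u₁ *
        (Spec (CommRingCat.of A)).presheaf.map (homOfLE h₂).op u₂ := by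
  classical
  by_cases hne : ∃ y, y ∈ W
  swap
  · have hbot : W = ⊥ := by
      ext y
      simp only [Opens.coe_bot, Set.mem_empty_iff_false, iff_false]
      exact fun hy => hne ⟨y, hy⟩
    refine ⟨1, 1, isUnit_one, isUnit_one, ?_⟩
    subst hbot
    exact Subsingleton.elim _ _
  obtain ⟨y0, hy0⟩ := hne
  have hη : genericPt A ∈ W := genericPt_mem W y0 hy0
  haveI : Nonempty ((W : (Spec (CommRingCat.of A)).Opens) : Scheme.{u}) := ⟨⟨y0, hy0⟩⟩
  haveI : IsDomain Γ(Spec (CommRingCat.of A), W) := IsIntegral.component_integral W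
  -- write `u` as a fraction at the generic point
  haveI := isLocalization_stalk (genericPt A)
  set S := (Spec (CommRingCat.of A)).presheaf.stalk (genericPt A) with hS
  have hginj : Function.Injective ((Spec (CommRingCat.of A)).presheaf.germ W (genericPt A) hη) :=
    germ_injective_of_isIntegral _ (genericPt A) hη
  have hAinj : Function.Injective (algebraMap A S) :=
    IsLocalization.injective S (idealOf A (genericPt A)).primeCompl_le_nonZeroDivisors
  obtain ⟨⟨a0, b0⟩, hab0⟩ := IsLocalization.surj (idealOf A (genericPt A)).primeCompl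
    ((Spec (CommRingCat.of A)).presheaf.germ W (genericPt A) hη u)
  have hb0 : (b0 : A) ≠ 0 := fun h => b0.2 (by rw [h]; exact Submodule.zero_mem _)
  obtain ⟨a, b, d, hrel, hda, hdb⟩ :=
    UniqueFactorizationMonoid.exists_reduced_factors' a0 (b0 : A) hb0
  have hd0 : d ≠ 0 := fun h => hb0 (by rw [← hdb, h, zero_mul])
  -- `u * b = a` on `W`
  have hub : u * algebraMap A Γ(Spec (CommRingCat.of A), W) b =
      algebraMap A Γ(Spec (CommRingCat.of A), W) a := by
    apply hginj
    rw [map_mul, germ_algebraMap, germ_algebraMap]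
    have h1 : (Spec (CommRingCat.of A)).presheaf.germ W (genericPt A) hη u *
        algebraMap A S (d * b) = algebraMap A S (d * a) := by
      rw [hda, hdb]; exact hab0
    rw [map_mul, map_mul] at h1
    have hdS : algebraMap A S d ≠ 0 := fun h => hd0 (hAinj (h.trans (map_zero _).symm))
    apply mul_left_cancel₀ hdS
    rw [← h1]; ring
  -- non-vanishing on `W`
  have hnv := fun y hy => not_mem_of_isUnit_mul_eq u hu a b hrel hub y hy
  have ha0 : a ≠ 0 := fun h => (hnv _ hη).1 (by rw [h]; exact Submodule.zero_mem _)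
  have hbne : b ≠ 0 := fun h => (hnv _ hη).2 (by rw [h]; exact Submodule.zero_mem _)
  obtain ⟨a₁, a₂, haeq, ha₁, ha₂⟩ := exists_split a g ha0
  obtain ⟨b₁, b₂, hbeq, hb₁, hb₂⟩ := exists_split b g hbne
  -- the parts prime to `g` do not vanish on `W'`
  have key : ∀ (c c₂ : A), (∀ y ∈ W, c ∉ idealOf A y) →
      (∀ P : Ideal A, P.IsPrime → c₂ ∈ P → ∃ π : A, Prime π ∧ π ∈ P ∧ π ∣ c ∧ ¬ π ∣ g) →
      ∀ y ∈ W', c₂ ∉ idealOf A y := by
    intro c c₂ hc hc₂ y hy hmem
    obtain ⟨π, hπ, hπy, hπc, hπg⟩ := hc₂ _ inferInstance hmem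
    have h1 : primePt hπ ∈ W' := primePt_mem hπ W' y hy hπy
    have h2 : primePt hπ ∈ D A g := by
      rw [mem_D_iff, mem_idealOf_primePt]; exact hπg
    exact hc _ (hW _ h1 h2) ((mem_idealOf_primePt hπ c).2 hπc)
  have hA₂ := isUnit_algebraMap_of_forall_not_mem W' a₂ (key a a₂ (fun y hy => (hnv y hy).1) ha₂)
  have hB₂ := isUnit_algebraMap_of_forall_not_mem W' b₂ (key b b₂ (fun y hy => (hnv y hy).2) hb₂)
  have hA₁ := isUnit_algebraMap_of_forall_not_mem (D A g) a₁
    (fun y hy hmem => hy (ha₁ _ inferInstance hmem))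
  have hB₁ := isUnit_algebraMap_of_forall_not_mem (D A g) b₁
    (fun y hy hmem => hy (hb₁ _ inferInstance hmem))
  refine ⟨algebraMap A _ a₂ * ↑(hB₂.unit⁻¹), algebraMap A _ a₁ * ↑(hB₁.unit⁻¹),
    hA₂.mul (Units.isUnit _), hA₁.mul (Units.isUnit _), ?_⟩
  -- check the identity after multiplying by the unit `b₁ b₂`
  set ρ₁ := (Spec (CommRingCat.of A)).presheaf.map (homOfLE h₁).op with hρ₁
  set ρ₂ := (Spec (CommRingCat.of A)).presheaf.map (homOfLE h₂).op with hρ₂
  have hβ₂ : ρ₁ (algebraMap A _ b₂) * ρ₁ ↑(hB₂.unit⁻¹) = 1 := by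
    rw [← map_mul]
    have : algebraMap A Γ(Spec (CommRingCat.of A), W') b₂ * ↑(hB₂.unit⁻¹) = 1 :=
      hB₂.mul_val_inv
    rw [this, map_one]
  have hβ₁ : ρ₂ (algebraMap A _ b₁) * ρ₂ ↑(hB₁.unit⁻¹) = 1 := by
    rw [← map_mul]
    have : algebraMap A Γ(Spec (CommRingCat.of A), D A g) b₁ * ↑(hB₁.unit⁻¹) = 1 :=
      hB₁.mul_val_inv
    rw [this, map_one]
  have hr₁ : ∀ c : A, ρ₁ (algebraMap A _ c) = algebraMap A Γ(Spec (CommRingCat.of A), W) c :=
    fun c => rfl
  have hr₂ : ∀ c : A, ρ₂ (algebraMap A _ c) = algebraMap A Γ(Spec (CommRingCat.of A), W) c :=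
    fun c => rfl
  rw [hr₁] at hβ₂
  rw [hr₂] at hβ₁
  have hub' : u * (algebraMap A Γ(Spec (CommRingCat.of A), W) b₁ *
      algebraMap A Γ(Spec (CommRingCat.of A), W) b₂) =
      algebraMap A Γ(Spec (CommRingCat.of A), W) a₁ *
        algebraMap A Γ(Spec (CommRingCat.of A), W) a₂ := by
    rw [← map_mul, ← map_mul, ← haeq, ← hbeq]; exact hub
  rw [map_mul, map_mul, hr₁, hr₂]
  calc u = u * ((algebraMap A Γ(Spec (CommRingCat.of A), W) b₁ * ρ₂ ↑(hB₁.unit⁻¹)) *
        (algebraMap A Γ(Spec (CommRingCat.of A), W) b₂ * ρ₁ ↑(hB₂.unit⁻¹))) := by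
        rw [hβ₁, hβ₂, mul_one, mul_one]
    _ = (u * (algebraMap A Γ(Spec (CommRingCat.of A), W) b₁ *
        algebraMap A Γ(Spec (CommRingCat.of A), W) b₂)) *
        (ρ₂ ↑(hB₁.unit⁻¹) * ρ₁ ↑(hB₂.unit⁻¹)) := by ring
    _ = _ := by rw [hub']; ring

end UFD

end Groth.Agent.Lib.Helper64.UfdUnits
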