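import Mathlib
import Groth.Agent.Lib.Lead.Inv3
import Groth.Agent.Lib.Helper64.UfdUnits
import Groth.Prelude.Def_ParaF

/-!
# Locally trivial modules on quasi-compact opens of the spectrum of a UFD are trivial (helper64)
-/

set_option autoImplicit false
set_option linter.style.haveILetI false
universe u

open AlgebraicGeometry CategoryTheory TopologicalSpace Opposite

namespace Groth.Agent.Lib.Helper64.UfdPic

open Groth.Agent.Lib.Lead.Inv Groth.Agent.Lib.Lead.QCohAff Groth.Agent.Lib.Lead.SheafGlue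

section Glue

variable {X : Scheme.{u}} (M : X.Modules)

/-- A section which restricts to generators on two opens is a generator on their union. -/
theorem isGen_sup {W₁ W₂ : X.Opens} (e : Γ(M, W₁ ⊔ W₂))
    (h₁ : IsGen M W₁ (M.presheaf.map (homOfLE (le_sup_left : W₁ ≤ W₁ ⊔ W₂)).op e))
    (h₂ : IsGen M W₂ (M.presheaf.map (homOfLE (le_sup_right : W₂ ≤ W₁ ⊔ W₂)).op e)) :
    IsGen M (W₁ ⊔ W₂) e := by
  apply isGen_of_local
  · intro W hW r hr
    -- `r` vanishes on `W ⊓ W₁` and `W ⊓ W₂`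
    have hz : ∀ (V : X.Opens) (hV : V ≤ W) (hV' : V ≤ W₁ ⊔ W₂) (e' : Γ(M, V)),
        e' = M.presheaf.map (homOfLE hV').op e →
        (∀ r' : Γ(X, V), r' • e' = 0 → r' = 0) → X.presheaf.map (homOfLE hV).op r = 0 := by
      intro V hV hV' e' he' hinj
      apply hinj
      have := congrArg (M.presheaf.map (homOfLE hV).op) hr
      rw [res_smul, res_res, map_zero] at this
      rw [he']; exact this
    have inj₁ : ∀ r' : Γ(X, W ⊓ W₁), r' • M.presheaf.map (homOfLE
        ((inf_le_right : W ⊓ W₁ ≤ W₁).trans le_sup_left)).op e = 0 → r' = 0 := by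
      intro r' hr'
      have hb := (h₁ (W ⊓ W₁) inf_le_right).1
      apply hb
      change r' • _ = (0 : Γ(X, W ⊓ W₁)) • _
      rw [zero_smul, res_res]; exact hr'
    have inj₂ : ∀ r' : Γ(X, W ⊓ W₂), r' • M.presheaf.map (homOfLE
        ((inf_le_right : W ⊓ W₂ ≤ W₂).trans le_sup_right)).op e = 0 → r' = 0 := by
      intro r' hr'
      have hb := (h₂ (W ⊓ W₂) inf_le_right).1
      apply hb
      change r' • _ = (0 : Γ(X, W ⊓ W₂)) • _
      rw [zero_smul, res_res]; exact hr'
    have z₁ := hz (W ⊓ W₁) inf_le_left _ _ rfl inj₁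
    have z₂ := hz (W ⊓ W₂) inf_le_left _ _ rfl inj₂
    have hcover : W ≤ (W ⊓ W₁) ⊔ (W ⊓ W₂) := by
      intro x hx
      rcases hW hx with h | h
      · exact Or.inl ⟨hx, h⟩
      · exact Or.inr ⟨hx, h⟩
    refine X.sheaf.eq_of_locally_eq₂ (homOfLE (inf_le_left : W ⊓ W₁ ≤ W))
      (homOfLE (inf_le_left : W ⊓ W₂ ≤ W)) hcover r 0 ?_ ?_
    · rw [map_zero]; exact z₁
    · rw [map_zero]; exact z₂
  · intro W hW σ x hxW
    rcases hW hxW with hx | hx
    · refine ⟨W ⊓ W₁, inf_le_left, ⟨hxW, hx⟩, ?_⟩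
      obtain ⟨c, hc⟩ := (h₁ (W ⊓ W₁) inf_le_right).2 (M.presheaf.map (homOfLE inf_le_left).op σ)
      refine ⟨c, ?_⟩
      rw [← hc, res_res]
    · refine ⟨W ⊓ W₂, inf_le_left, ⟨hxW, hx⟩, ?_⟩
      obtain ⟨c, hc⟩ := (h₂ (W ⊓ W₂) inf_le_right).2 (M.presheaf.map (homOfLE inf_le_left).op σ)
      refine ⟨c, ?_⟩
      rw [← hc, res_res]

/-- Scaling a generator by a unit gives a generator. -/
theorem IsGen.smul_unit {W : X.Opens} {e : Γ(M, W)} (he : IsGen M W e) (v : Γ(X, W))
    (hv : IsUnit v) : IsGen M W (v • e) := by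
  intro W' hW'
  have hv' : IsUnit (X.presheaf.map (homOfLE hW').op v) := hv.map _
  have hb := he W' hW'
  have : (fun r : Γ(X, W') => r • M.presheaf.map (homOfLE hW').op (v • e)) =
      (fun r : Γ(X, W') => r • M.presheaf.map (homOfLE hW').op e) ∘
        (fun r : Γ(X, W') => r * X.presheaf.map (homOfLE hW').op v) := by
    funext r
    simp only [Function.comp_apply]
    rw [res_smul, mul_smul]
  rw [this]
  refine hb.comp ?_
  obtain ⟨w, hw⟩ := hv'
  refine ⟨fun a b hab => ?_, fun c => ⟨c * ↑w⁻¹, ?_⟩⟩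
  · simp only at hab
    rw [← hw] at hab
    exact (Units.mul_left_inj w).1 hab
  · simp only
    rw [← hw, mul_assoc, Units.inv_mul, mul_one]

/-- The zero section generates over the empty open. -/
theorem isGen_bot (e : Γ(M, ⊥)) : IsGen M ⊥ e := by
  intro W hW
  have hWbot : W = ⊥ := le_bot_iff.mp hW
  subst hWbot
  constructor
  · intro a b _
    exact Subsingleton.elim _ _
  · intro σ
    refine ⟨0, ?_⟩
    rw [eq_zero_of_bot M rfl σ]
    exact zero_smul _ _

/-- Transport of a generator along an equality of opens. -/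
theorem exists_isGen_of_eq {W W' : X.Opens} (h : W = W') (he : ∃ e : Γ(M, W), IsGen M W e) :
    ∃ e : Γ(M, W'), IsGen M W' e := by
  subst h; exact he

end Glue

section Spec

open Groth.Agent.Lib.Helper64.UfdUnits

variable {A : Type u} [CommRing A] [IsDomain A] [UniqueFactorizationMonoid A]
  (M : (Spec (CommRingCat.of A)).Modules)

/-- **The gluing step**: over a UFD, generators on `D(g)` and on `W'` can be modified by units so
as to glue to a generator on `D(g) ∪ W'`. -/
theorem exists_isGen_D_sup (W' : (Spec (CommRingCat.of A)).Opens) (g : A)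
    {e' : Γ(M, W')} (he' : IsGen M W' e') {e'' : Γ(M, D A g)} (he'' : IsGen M (D A g) e'') :
    ∃ e : Γ(M, D A g ⊔ W'), IsGen M (D A g ⊔ W') e := by
  set W := W' ⊓ D A g with hW
  have hW₁ : W ≤ W' := inf_le_left
  have hW₂ : W ≤ D A g := inf_le_right
  have g₁ : IsGen M W (M.presheaf.map (homOfLE hW₁).op e') := he'.res hW₁
  have g₂ : IsGen M W (M.presheaf.map (homOfLE hW₂).op e'') := he''.res hW₂
  -- the transition unit
  obtain ⟨u, hu⟩ := (g₁ W le_rfl).2 (M.presheaf.map (homOfLE hW₂).op e'')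
  obtain ⟨v, hv⟩ := (g₂ W le_rfl).2 (M.presheaf.map (homOfLE hW₁).op e')
  simp only at hu hv
  have hid : ∀ (s : Γ(M, W)), M.presheaf.map (homOfLE (le_refl W)).op s = s := by
    intro s
    have : (homOfLE (le_refl W)).op = 𝟙 (op W) := rfl
    rw [this, M.presheaf.map_id]; rfl
  rw [hid] at hu hv
  have huv : v * u = 1 := by
    apply (g₁ W le_rfl).1
    simp only
    rw [hid, mul_smul, hu, hv, one_smul]
  have hunit : IsUnit u := IsUnit.of_mul_eq_one v (by rw [mul_comm]; exact huv)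
  obtain ⟨u₁, u₂, hu₁, hu₂, hdec⟩ :=
    exists_units_decomp' W' W g hW₁ hW₂ (fun y h1 h2 => ⟨h1, h2⟩) u hunit
  -- the modified generators
  have G₁ : IsGen M W' (u₁ • e') := IsGen.smul_unit M he' u₁ hu₁
  have G₂ : IsGen M (D A g) ((↑(hu₂.unit⁻¹) : Γ(Spec (CommRingCat.of A), D A g)) • e'') :=
    IsGen.smul_unit M he'' _ (Units.isUnit _)
  have hagree : M.presheaf.map (homOfLE (inf_le_left : D A g ⊓ W' ≤ D A g)).op
      ((↑(hu₂.unit⁻¹) : Γ(Spec (CommRingCat.of A), D A g)) • e'') =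
      M.presheaf.map (homOfLE (inf_le_right : D A g ⊓ W' ≤ W')).op (u₁ • e') := by
    have hWW : D A g ⊓ W' ≤ W := fun y hy => ⟨hy.2, hy.1⟩
    have e1 : M.presheaf.map (homOfLE hW₂).op
        ((↑(hu₂.unit⁻¹) : Γ(Spec (CommRingCat.of A), D A g)) • e'') =
        M.presheaf.map (homOfLE hW₁).op (u₁ • e') := by
      rw [res_smul, res_smul, ← hu, hdec, ← mul_smul]
      congr 1
      have h1 : (Spec (CommRingCat.of A)).presheaf.map (homOfLE hW₂).op
          (↑(hu₂.unit⁻¹) : Γ(Spec (CommRingCat.of A), D A g)) *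
          (Spec (CommRingCat.of A)).presheaf.map (homOfLE hW₂).op u₂ = 1 := by
        rw [← map_mul]
        have : (↑(hu₂.unit⁻¹) : Γ(Spec (CommRingCat.of A), D A g)) * u₂ = 1 := hu₂.val_inv_mul
        rw [this, map_one]
      calc _ = ((Spec (CommRingCat.of A)).presheaf.map (homOfLE hW₂).op
            (↑(hu₂.unit⁻¹) : Γ(Spec (CommRingCat.of A), D A g)) *
            (Spec (CommRingCat.of A)).presheaf.map (homOfLE hW₂).op u₂) *
            (Spec (CommRingCat.of A)).presheaf.map (homOfLE hW₁).op u₁ := by ring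
        _ = _ := by rw [h1, one_mul]
    have := congrArg (M.presheaf.map (homOfLE hWW).op) e1
    rw [res_res, res_res] at this
    exact this
  obtain ⟨e, he₁, he₂⟩ := exists_glue₂ M _ _ hagree
  refine ⟨e, isGen_sup M e ?_ ?_⟩
  · rw [he₁]; exact G₂
  · rw [he₂]; exact G₁

/-- Generators on finitely many basic opens glue (after modification) to a generator on the union. -/
theorem exists_isGen_finset_sup (s : Finset A)
    (h : ∀ g ∈ s, ∃ e : Γ(M, D A g), IsGen M (D A g) e) :
    ∃ e : Γ(M, s.sup (D A)), IsGen M (s.sup (D A)) e := by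
  classical
  induction s using Finset.induction_on with
  | empty =>
    rw [Finset.sup_empty]
    exact ⟨0, isGen_bot M 0⟩
  | insert g s hg ih =>
    rw [Finset.sup_insert]
    obtain ⟨e', he'⟩ := ih (fun g' hg' => h g' (Finset.mem_insert_of_mem hg'))
    obtain ⟨e'', he''⟩ := h g (Finset.mem_insert_self g s)
    exact exists_isGen_D_sup M _ g he' he''

/-- **Locally trivial ⇒ trivial** on a quasi-compact open of the spectrum of a UFD. -/
theorem exists_isGen_of_locally (V : (Spec (CommRingCat.of A)).Opens)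
    (hV : IsCompact (V : Set (Spec (CommRingCat.of A))))
    (hloc : ∀ y ∈ V, ∃ W : (Spec (CommRingCat.of A)).Opens, y ∈ W ∧ ∃ e : Γ(M, W), IsGen M W e) :
    ∃ e : Γ(M, V), IsGen M V e := by
  classical
  -- shrink to basic opens inside `V`
  have hloc' : ∀ y : V, ∃ g : A, y.1 ∈ D A g ∧ D A g ≤ V ∧ ∃ e : Γ(M, D A g), IsGen M (D A g) e := by
    rintro ⟨y, hy⟩
    obtain ⟨W, hyW, e, he⟩ := hloc y hy
    obtain ⟨_, ⟨g, rfl⟩, hyg, hgW⟩ :=
      (PrimeSpectrum.isTopologicalBasis_basic_opens (R := A)).exists_subset_of_mem_open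
      (show y ∈ ((W ⊓ V : (Spec (CommRingCat.of A)).Opens) : Set _) from ⟨hyW, hy⟩) (W ⊓ V).isOpen
    have hle : D A g ≤ W ⊓ V := hgW
    exact ⟨g, hyg, hle.trans inf_le_right, _, he.res (hle.trans inf_le_left)⟩
  choose gf hgf₁ hgf₂ hgf₃ using hloc'
  have hcov : (V : Set (Spec (CommRingCat.of A))) ⊆ ⋃ y : V,
      ((D A (gf y) : (Spec (CommRingCat.of A)).Opens) : Set (Spec (CommRingCat.of A))) := by
    intro y hy
    exact Set.mem_iUnion.2 ⟨⟨y, hy⟩, hgf₁ ⟨y, hy⟩⟩
  obtain ⟨t, ht⟩ := hV.elim_finite_subcover _ (fun y => (D A (gf y)).isOpen) hcov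
  have hsup : (t.image gf).sup (D A) = V := by
    apply le_antisymm
    · apply Finset.sup_le
      intro g hg
      obtain ⟨y, -, rfl⟩ := Finset.mem_image.1 hg
      exact hgf₂ y
    · intro y hy
      obtain ⟨i, hi⟩ := Set.mem_iUnion.1 (ht hy)
      obtain ⟨hit, hyi⟩ := Set.mem_iUnion.1 hi
      exact (Finset.le_sup (f := D A) (Finset.mem_image_of_mem gf hit)) hyi
  refine exists_isGen_of_eq M hsup (exists_isGen_finset_sup M _ ?_)
  intro g hg
  obtain ⟨y, -, rfl⟩ := Finset.mem_image.1 hg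
  exact hgf₃ y

end Spec

section Push

variable {X Z : Scheme.{u}} (f : Z ⟶ X) [IsOpenImmersion f] (L : Z.Modules)

/-- A generator of `L` over `f⁻¹ W` is a generator of `f_* L` over `W` (for `W` inside the image of
the open immersion `f`). -/
theorem isGen_pushforward (W : X.Opens) (hW : W ≤ f.opensRange) {e : Γ(L, f ⁻¹ᵁ W)}
    (he : IsGen L (f ⁻¹ᵁ W) e) :
    IsGen ((Scheme.Modules.pushforward f).obj L) W
      (show Γ((Scheme.Modules.pushforward f).obj L, W) from e) := by
  intro W' hW'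
  have h' : f ⁻¹ᵁ W' ≤ f ⁻¹ᵁ W := fun y hy => hW' hy
  haveI : IsIso (f.app W') := Scheme.Hom.isIso_app f W' (hW'.trans hW)
  have hb : Function.Bijective (f.app W').hom :=
    ConcreteCategory.bijective_of_isIso (f.app W')
  have key : (fun r : Γ(X, W') => r • ((Scheme.Modules.pushforward f).obj L).presheaf.map
      (homOfLE hW').op (show Γ((Scheme.Modules.pushforward f).obj L, W) from e)) =
      (fun r' : Γ(Z, f ⁻¹ᵁ W') => r' • L.presheaf.map (homOfLE h').op e) ∘ (f.app W').hom := by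
    funext r
    rfl
  rw [key]
  exact (he (f ⁻¹ᵁ W') h').comp hb

end Push

section Pic

open Groth.Agent.Lib.Helper64.UfdUnits

variable {A : Type u} [CommRing A] [IsDomain A] [UniqueFactorizationMonoid A]

/-- **Picard groups of quasi-compact opens of the spectrum of a UFD are trivial.** -/
theorem picTrivial_of_ufd (V : (Spec (CommRingCat.of A)).Opens)
    (hV : IsCompact (V : Set (Spec (CommRingCat.of A)))) :
    ParaF.PicTrivial (V : Scheme.{u}) := by
  intro L hL
  set M := (Scheme.Modules.pushforward V.ι).obj L with hM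
  have hloc : ∀ y ∈ V, ∃ W : (Spec (CommRingCat.of A)).Opens, y ∈ W ∧ ∃ e : Γ(M, W), IsGen M W e := by
    intro y hy
    obtain ⟨U', hyU', ⟨ε⟩⟩ := hL ⟨y, hy⟩
    obtain ⟨e, he⟩ := exists_isGen_of_iso ε
    have hle : V.ι ⁻¹ᵁ (V.ι ''ᵁ U') ≤ U' := (V.ι.preimage_image_eq U').le
    refine ⟨V.ι ''ᵁ U', ⟨⟨y, hy⟩, hyU', rfl⟩, _, isGen_pushforward V.ι L (V.ι ''ᵁ U') ?_
      (he.res hle)⟩
    rw [Scheme.Opens.opensRange_ι]
    exact V.ι_image_le U'
  obtain ⟨e, he⟩ := exists_isGen_of_locally M V hV hloc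
  obtain ⟨i⟩ := nonempty_iso_of_isGen he
  exact ⟨(asIso ((Scheme.Modules.restrictAdjunction V.ι).counit.app L)).symm ≪≫ i⟩

end Pic

end Groth.Agent.Lib.Helper64.UfdPic
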