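import Mathlib

set_option autoImplicit false
universe w u

open CategoryTheory CategoryTheory.Limits AlgebraicGeometry MorphismProperty

namespace Groth.Agent.Lib.Helper64.FpqcOpen

/-- (Same argument as `Groth.Agent.Lib.Helper2.FpqcLocal.good_of_qcCover`, by helper2; copied here to
keep this library self-contained.) A "sieve-like" predicate on morphisms into `S` which is
Zariski-local on the source and descends along single fpqc morphisms holds for `𝟙 S` as soon as it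
holds on the members of a quasi-compact flat covering family of `S`. -/
theorem good_of_qcCover {S : Scheme.{u}} (Good : ∀ ⦃T : Scheme.{u}⦄, (T ⟶ S) → Prop)
    (hsieve : ∀ ⦃T T' : Scheme.{u}⦄ (h : T' ⟶ T) (q : T ⟶ S), Good q → Good (h ≫ q))
    (hzar : ∀ ⦃T : Scheme.{u}⦄ (q : T ⟶ S) (𝒱 : Scheme.OpenCover.{u} T),
      (∀ i, Good (𝒱.f i ≫ q)) → Good q)
    (hfpqc : ∀ ⦃T T' : Scheme.{u}⦄ (p : T' ⟶ T) (q : T ⟶ S), Surjective p → Flat p →
      QuasiCompact p → Good (p ≫ q) → Good q)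
    (𝒰 : Scheme.Cover.{u} (Scheme.precoverage @Flat) S)
    [QuasiCompactCover 𝒰.toPreZeroHypercover]
    (h𝒰 : ∀ i, Good (𝒰.f i)) : Good (𝟙 S) := by
  refine hzar (𝟙 S) S.affineCover fun i ↦ ?_
  rw [Category.comp_id]
  set ι := S.affineCover.f i with hι
  let 𝒰' : Scheme.Cover.{u} (Scheme.precoverage @Flat) (S.affineCover.X i) := 𝒰.pullback₁ ι
  have : QuasiCompactCover 𝒰'.toPreZeroHypercover :=
    inferInstanceAs <| QuasiCompactCover (𝒰.toPreZeroHypercover.pullback₁ ι)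
  have h𝒰' : ∀ j, Good (𝒰'.f j ≫ ι) := by
    intro j
    have : 𝒰'.f j ≫ ι = pullback.snd ι (𝒰.f j) ≫ 𝒰.f j := pullback.condition
    rw [this]
    exact hsieve _ _ (h𝒰 j)
  have : IsAffine (S.affineCover.X i) := inferInstanceAs <| IsAffine (Spec _)
  obtain ⟨𝒱, r, hfin, ho⟩ := QuasiCompactCover.exists_hom 𝒰'
  have h𝒱 : ∀ k, Good (𝒱.cover.f k ≫ ι) := by
    intro k
    rw [← r.w₀ k, Category.assoc]
    exact hsieve _ _ (h𝒰' _)
  have : Finite 𝒱.cover.I₀ := hfin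
  let p : (∐ 𝒱.cover.X) ⟶ S.affineCover.X i := Sigma.desc 𝒱.cover.f
  have hpflat : Flat p := IsZariskiLocalAtSource.sigmaDesc 𝒱.cover.map_prop
  have hpsurj : Surjective p := by
    refine ⟨fun x ↦ ?_⟩
    obtain ⟨k, y, rfl⟩ := 𝒱.cover.exists_eq x
    exact ⟨Sigma.ι 𝒱.cover.X k y, by simp [p, ← Scheme.Hom.comp_apply]⟩
  have : ∀ k, IsAffine (𝒱.cover.X k) := fun k ↦ inferInstanceAs <| IsAffine (Spec _)
  have hpqc : QuasiCompact p := inferInstance
  refine hfpqc p ι hpsurj hpflat hpqc ?_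
  refine hzar _ (sigmaOpenCover 𝒱.cover.X) fun k ↦ ?_
  have : (sigmaOpenCover 𝒱.cover.X).f k ≫ p ≫ ι = 𝒱.cover.f k ≫ ι := by
    change Sigma.ι 𝒱.cover.X k ≫ Sigma.desc 𝒱.cover.f ≫ ι = 𝒱.cover.f k ≫ ι
    rw [Sigma.ι_desc_assoc]
  rw [this]
  exact h𝒱 k

/-- Presieve version (same argument as helper2's `good_of_mem_fpqcPrecoverage`). -/
theorem good_of_mem_fpqcPrecoverage {S : Scheme.{u}} (Good : ∀ ⦃T : Scheme.{u}⦄, (T ⟶ S) → Prop)
    (hsieve : ∀ ⦃T T' : Scheme.{u}⦄ (h : T' ⟶ T) (q : T ⟶ S), Good q → Good (h ≫ q))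
    (hzar : ∀ ⦃T : Scheme.{u}⦄ (q : T ⟶ S) (𝒱 : Scheme.OpenCover.{u} T),
      (∀ i, Good (𝒱.f i ≫ q)) → Good q)
    (hfpqc : ∀ ⦃T T' : Scheme.{u}⦄ (p : T' ⟶ T) (q : T ⟶ S), Surjective p → Flat p →
      QuasiCompact p → Good (p ≫ q) → Good q)
    (R : Presieve S) (hR : R ∈ Scheme.fpqcPrecoverage S)
    (hRG : ∀ ⦃T : Scheme.{u}⦄ (f : T ⟶ S), R f → Good f) : Good (𝟙 S) := by
  obtain ⟨𝒰, rfl⟩ := Precoverage.mem_iff_exists_zeroHypercover.mp hR
  let 𝒰₁ : Scheme.Cover.{u + 1} (Scheme.propQCPrecoverage @Flat) S := 𝒰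
  let 𝒰₂ : Scheme.Cover.{u} (Scheme.propQCPrecoverage @Flat) S := 𝒰₁.restrictIndexOfSmall
  refine good_of_qcCover Good hsieve hzar hfpqc 𝒰₂.forgetQc fun i ↦ ?_
  exact hRG _ ⟨_⟩

/-- A subset of `S` whose preimages under all members of an fpqc covering family are open is
open. -/
theorem isOpen_of_fpqc {S : Scheme.{u}} (R : Presieve S) (hR : R ∈ Scheme.fpqcPrecoverage S)
    (V : Set S) (hV : ∀ ⦃T : Scheme.{u}⦄ (f : T ⟶ S), R f → IsOpen (f.base ⁻¹' V)) :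
    IsOpen V := by
  have := good_of_mem_fpqcPrecoverage (S := S) (fun T q => IsOpen (q.base ⁻¹' V)) ?_ ?_ ?_ R hR hV
  · simpa using this
  · intro T T' h q hq
    have : (h ≫ q).base ⁻¹' V = h.base ⁻¹' (q.base ⁻¹' V) := by
      ext x; simp
    rw [this]
    exact hq.preimage h.continuous
  · intro T q 𝒱 h𝒱
    rw [isOpen_iff_forall_mem_open]
    intro x hx
    obtain ⟨i, y, rfl⟩ := 𝒱.exists_eq x
    refine ⟨(𝒱.f i).base '' ((𝒱.f i ≫ q).base ⁻¹' V), ?_, ?_, ?_⟩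
    · rintro _ ⟨z, hz, rfl⟩
      simpa using hz
    · exact (𝒱.f i).isOpenEmbedding.isOpenMap _ (h𝒱 i)
    · exact ⟨y, by simpa using hx, rfl⟩
  · intro T T' p q hs hf hqc hpq
    have hquot : Topology.IsQuotientMap p.base := Flat.isQuotientMap_of_surjective p
    rw [← hquot.isOpen_preimage]
    have : (p ≫ q).base ⁻¹' V = p.base ⁻¹' (q.base ⁻¹' V) := by
      ext x; simp
    rwa [this] at hpq

end Groth.Agent.Lib.Helper64.FpqcOpen
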