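import Groth.Agent.Lib.Helper64.CycLen1
import Groth.Agent.Lib.Helper64.StalkIdeal

/-!
# Generizations of a point and the primes of its local ring: dimension functions (helper64)

* `qOf h`: the prime `ker (O_y → κ(ξ))` of a generization `ξ ⤳ y`, `ker_specMap`.
* `specializes_of_primeOf_le`, `eq_of_primeOf_eq`.
* `krullDimLE_one_stalk`, `ringKrullDim_stalk_eq_one`: dimension of the local ring from a
  dimension function.
* `isFractionRing_locQuot`: `κ(ξ)` is the fraction field of `O_y / 𝔭_ξ`.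
* `length_localization_qOf`: `O_ξ` and the localization of `O_y` have the same length.
* `mem_minimalPrimes_qOf_iff`.
-/

set_option autoImplicit false
set_option linter.style.haveILetI false
set_option linter.unusedSectionVars false
universe u

open AlgebraicGeometry CategoryTheory TopologicalSpace IsLocalRing

namespace Groth.Agent.Lib.Helper64.CycLen

open Groth.Agent.Lib.Helper64.StalkFrac Groth.Agent.Lib.Helper64.StalkSpec
open Groth.Agent.Lib.Helper64.StalkIdeal
open Groth.Agent.Lib.Helper64.CycOrd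

variable {Y : Scheme.{u}}

theorem ker_specMap {y ξ : Y} (h : ξ ⤳ y) : RingHom.ker (Cyc.specMap y ξ h) = primeOf h := by
  ext a
  rw [RingHom.mem_ker]
  unfold primeOf
  rw [Ideal.mem_comap]
  change (Y.residue ξ).hom ((Y.presheaf.stalkSpecializes h).hom a) = 0 ↔ _
  exact IsLocalRing.residue_eq_zero_iff _

/-- the prime of a generization, as a point of the spectrum of the local ring -/
noncomputable def qOf {y ξ : Y} (h : ξ ⤳ y) : PrimeSpectrum (Y.presheaf.stalk y) :=
  ⟨RingHom.ker (Cyc.specMap y ξ h), RingHom.ker_isPrime _⟩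

theorem qOf_asIdeal {y ξ : Y} (h : ξ ⤳ y) : (qOf h).asIdeal = primeOf h := ker_specMap h

theorem specializes_of_primeOf_le {y ξ ξ' : Y} (h : ξ ⤳ y) (h' : ξ' ⤳ y)
    (hle : primeOf h' ≤ primeOf h) : ξ' ⤳ ξ := by
  obtain ⟨_, ⟨U, hU : IsAffineOpen U, rfl⟩, hyU, -⟩ :=
    Y.isBasis_affineOpens.exists_subset_of_mem_open (Set.mem_univ y) isOpen_univ
  have hξU : ξ ∈ U := h.mem_open U.isOpen hyU
  have hξ'U : ξ' ∈ U := h'.mem_open U.isOpen hyU
  rw [specializes_iff_le hU ξ ξ' hξU hξ'U]
  intro t ht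
  exact (germ_mem_primeOf_iff hU h hyU hξU t).1
    (hle ((germ_mem_primeOf_iff hU h' hyU hξ'U t).2 ht))

theorem eq_of_primeOf_eq {y ξ ξ' : Y} (h : ξ ⤳ y) (h' : ξ' ⤳ y)
    (heq : primeOf h' = primeOf h) : ξ' = ξ :=
  ((specializes_of_primeOf_le h h' heq.le).antisymm
    (specializes_of_primeOf_le h' h heq.ge)).eq

theorem primeOf_self {y : Y} (h : y ⤳ y) : primeOf h = maximalIdeal (Y.presheaf.stalk y) :=
  primeOf_refl y

/-- the local ring at a point of `δ`-dimension `k` has dimension at most one if `δ ≤ k + 1` -/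
theorem krullDimLE_one_stalk {δ : Y → ℤ} (hδ : Cyc.IsDimFun Y δ) {k : ℤ}
    (hdim : ∀ z : Y, δ z ≤ k + 1) (y : Y) (hy : δ y = k) :
    Ring.KrullDimLE 1 (Y.presheaf.stalk y) := by
  apply Ring.KrullDimLE.mk₁
  intro I hI
  haveI := hI
  obtain ⟨ξ, h, rfl⟩ := exists_specializes_primeOf_eq y I
  by_cases hξy : ξ = y
  · right
    subst hξy
    rw [primeOf_self]
    exact maximalIdeal.isMaximal _
  · left
    have hδξ : δ ξ = k + 1 := by
      have h1 := (hδ ξ y h hξy).1
      have h2 := hdim ξ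
      omega
    refine ⟨⟨inferInstance, bot_le⟩, ?_⟩
    rintro J ⟨hJ, -⟩ hJI
    haveI := hJ
    obtain ⟨ξ', h', rfl⟩ := exists_specializes_primeOf_eq y J
    have hsp := specializes_of_primeOf_le h h' hJI
    by_cases hne : ξ' = ξ
    · subst hne
      exact le_refl _
    · exfalso
      have h1 := (hδ ξ' ξ hsp hne).1
      have h2 := hdim ξ'
      omega

theorem eq_one_of_le_one_of_not_le_zero {x : WithBot ℕ∞} (h1 : x ≤ 1) (h0 : ¬ x ≤ 0) : x = 1 := by
  induction x using WithBot.recBotCoe with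
  | bot => exact absurd bot_le h0
  | coe n =>
    have h1' : n ≤ 1 := by exact_mod_cast h1
    have h0' : ¬ n ≤ 0 := fun h => h0 (by exact_mod_cast h)
    lift n to ℕ using (ne_top_of_le_ne_top ENat.one_ne_top h1')
    have h1'' : n ≤ 1 := by exact_mod_cast h1'
    have h0'' : ¬ n ≤ 0 := fun h => h0' (by exact_mod_cast h)
    have : n = 1 := by omega
    subst this
    rfl

/-- a nonunit nonzerodivisor forces dimension one -/
theorem ringKrullDim_stalk_eq_one {δ : Y → ℤ} (hδ : Cyc.IsDimFun Y δ) {k : ℤ}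
    (hdim : ∀ z : Y, δ z ≤ k + 1) (y : Y) (hy : δ y = k) (f : Y.presheaf.stalk y)
    (hf : f ∈ nonZeroDivisors (Y.presheaf.stalk y)) (hfu : ¬ IsUnit f) :
    ringKrullDim (Y.presheaf.stalk y) = 1 := by
  haveI := krullDimLE_one_stalk hδ hdim y hy
  have h1 : ringKrullDim (Y.presheaf.stalk y) ≤ 1 := by
    have := (Ring.krullDimLE_iff (n := 1) (R := Y.presheaf.stalk y)).1 inferInstance
    exact_mod_cast this
  have h0 : ¬ ringKrullDim (Y.presheaf.stalk y) ≤ 0 := by
    intro h0
    haveI : Ring.KrullDimLE 0 (Y.presheaf.stalk y) :=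
      (Ring.krullDimLE_iff (n := 0) (R := Y.presheaf.stalk y)).2 (by exact_mod_cast h0)
    have hmin := Ideal.mem_minimalPrimes_of_krullDimLE_zero (maximalIdeal (Y.presheaf.stalk y))
    have hfm : f ∈ maximalIdeal (Y.presheaf.stalk y) := (mem_maximalIdeal f).2 hfu
    exact notMem_nonZeroDivisors_of_mem_mem_minimalPrimes hfm hmin hf
  exact eq_one_of_le_one_of_not_le_zero h1 h0

/-- `κ(ξ)` is the fraction field of `O_y / 𝔭_ξ` -/
theorem isFractionRing_locQuot {y ξ : Y} (h : ξ ⤳ y) :
    IsFractionRing (Cyc.LocQuot y ξ h) (Y.residueField ξ) := by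
  haveI : FaithfulSMul (Cyc.LocQuot y ξ h) (Y.residueField ξ) := by
    rw [faithfulSMul_iff_algebraMap_injective]
    exact RingHom.kerLift_injective (Cyc.specMap y ξ h)
  apply IsFractionRing.of_field
  intro z
  obtain ⟨w, rfl⟩ := Ideal.Quotient.mk_surjective (I := maximalIdeal (Y.presheaf.stalk ξ)) z
  letI : Algebra (Y.presheaf.stalk y) (Y.presheaf.stalk ξ) :=
    (Y.presheaf.stalkSpecializes h).hom.toAlgebra
  haveI := isLocalization_stalkSpecializes h
  obtain ⟨⟨a, s⟩, hws⟩ := IsLocalization.surj (primeOf h).primeCompl w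
  have hws' : w * (Y.presheaf.stalkSpecializes h).hom s.1 =
      (Y.presheaf.stalkSpecializes h).hom a := hws
  have hs0 : Cyc.specMap y ξ h s.1 ≠ 0 := by
    intro h0
    have : s.1 ∈ RingHom.ker (Cyc.specMap y ξ h) := h0
    rw [ker_specMap] at this
    exact s.2 this
  refine ⟨Ideal.Quotient.mk _ a, Ideal.Quotient.mk _ s.1, ?_⟩
  have h1 : algebraMap (Cyc.LocQuot y ξ h) (Y.residueField ξ) (Ideal.Quotient.mk _ a) =
      Cyc.specMap y ξ h a := rfl
  have h2 : algebraMap (Cyc.LocQuot y ξ h) (Y.residueField ξ) (Ideal.Quotient.mk _ s.1) =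
      Cyc.specMap y ξ h s.1 := rfl
  rw [h1, h2, eq_div_iff hs0]
  have h3 := congrArg (Y.residue ξ).hom hws'
  rw [map_mul] at h3
  exact h3

/-- the localization of `O_y` at the prime of `ξ` has the length of `O_ξ` -/
theorem length_localization_of_eq {y ξ : Y} (h : ξ ⤳ y) (q : Ideal (Y.presheaf.stalk y))
    [q.IsPrime] (hq : q = primeOf h) :
    Module.length (Localization.AtPrime q) (Localization.AtPrime q) =
      Module.length (Y.presheaf.stalk ξ) (Y.presheaf.stalk ξ) := by
  subst hq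
  letI : Algebra (Y.presheaf.stalk y) (Y.presheaf.stalk ξ) :=
    (Y.presheaf.stalkSpecializes h).hom.toAlgebra
  haveI := isLocalization_stalkSpecializes h
  let e : Localization.AtPrime (primeOf h) ≃ₐ[Y.presheaf.stalk y] Y.presheaf.stalk ξ :=
    IsLocalization.algEquiv (primeOf h).primeCompl _ _
  exact Groth.Agent.Lib.Helper99.LenPow.length_eq_of_ringEquiv e.toRingEquiv

theorem length_localization_qOf {y ξ : Y} (h : ξ ⤳ y) :
    Module.length (Localization.AtPrime (qOf h).asIdeal) (Localization.AtPrime (qOf h).asIdeal) =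
      Module.length (Y.presheaf.stalk ξ) (Y.presheaf.stalk ξ) :=
  length_localization_of_eq h _ (qOf_asIdeal h)

/-- the order along `ξ ⤳ y` of the image of an element of `O_y`, through the prime `qOf h` -/
theorem ordFrac_qOf {y ξ : Y} (h : ξ ⤳ y) (f : Y.presheaf.stalk y) :
    CycAlg.ordFrac (Y.presheaf.stalk y ⧸ (qOf h).asIdeal) (qOf h).asIdeal.ResidueField
      (algebraMap (Y.presheaf.stalk y) (qOf h).asIdeal.ResidueField f) =
    Cyc.ordAt y ξ h (Cyc.specMap y ξ h f) := by
  letI : Algebra (Y.presheaf.stalk y ⧸ (qOf h).asIdeal) (Y.residueField ξ) :=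
    (inferInstance : Algebra (Cyc.LocQuot y ξ h) (Y.residueField ξ))
  haveI : IsFractionRing (Y.presheaf.stalk y ⧸ (qOf h).asIdeal) (Y.residueField ξ) :=
    isFractionRing_locQuot h
  have h1 : algebraMap (Y.presheaf.stalk y) (qOf h).asIdeal.ResidueField f =
      algebraMap (Y.presheaf.stalk y ⧸ (qOf h).asIdeal) (qOf h).asIdeal.ResidueField
        (Ideal.Quotient.mk _ f) := rfl
  rw [h1]
  exact ordFrac_algebraMap_indep (Y.presheaf.stalk y ⧸ (qOf h).asIdeal)
    (qOf h).asIdeal.ResidueField (Y.residueField ξ) (Ideal.Quotient.mk _ f)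

end Groth.Agent.Lib.Helper64.CycLen
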