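import Mathlib
import Groth.Prelude.Def_Pi1
import Groth.Prelude.Def_CAlg
import Groth.Agent.Lib.Helper67.Depth
import Groth.Agent.S10957

/-!
# Dimension of stalks vs. topological dimension; normal of dimension ≤ 2 is Cohen–Macaulay (helper64)
-/

set_option autoImplicit false
set_option linter.style.haveILetI false
universe u
open AlgebraicGeometry CategoryTheory TopologicalSpace LocCoh IsLocalRing Pointwise

namespace Groth.Agent.Lib.Helper64.DimLib

theorem ringKrullDim_sections_le (X : Scheme.{u}) {U : X.Opens} (hU : IsAffineOpen U) :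
    ringKrullDim Γ(X, U) ≤ topologicalKrullDim X := by
  rw [← PrimeSpectrum.topologicalKrullDim_eq_ringKrullDim]
  have h1 : topologicalKrullDim (PrimeSpectrum Γ(X, U)) = topologicalKrullDim ↥(U : Set X) :=
    ((Scheme.homeoOfIso hU.isoSpec).symm.isHomeomorph.topologicalKrullDim_eq _)
  rw [h1]
  exact topologicalKrullDim_subspace_le X (U : Set X)

theorem ringKrullDim_stalk_le (X : Scheme.{u}) (x : X) :
    ringKrullDim (X.presheaf.stalk x) ≤ topologicalKrullDim X := by
  obtain ⟨_, ⟨U, hU : IsAffineOpen U, rfl⟩, hxU, -⟩ :=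
    X.isBasis_affineOpens.exists_subset_of_mem_open (Set.mem_univ x) isOpen_univ
  letI : Algebra Γ(X, U) (X.presheaf.stalk x) :=
    TopCat.Presheaf.algebra_section_stalk X.presheaf ⟨x, hxU⟩
  haveI : IsLocalization.AtPrime (X.presheaf.stalk x) (hU.primeIdealOf ⟨x, hxU⟩).asIdeal :=
    hU.isLocalization_stalk ⟨x, hxU⟩
  rw [IsLocalization.AtPrime.ringKrullDim_eq_height (hU.primeIdealOf ⟨x, hxU⟩).asIdeal
    (X.presheaf.stalk x)]
  exact (Ideal.height_le_ringKrullDim_of_ne_top (hU.primeIdealOf ⟨x, hxU⟩).isPrime.ne_top).trans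
    (ringKrullDim_sections_le X hU)

/-- A normal Noetherian local domain of dimension `≤ 2` is Cohen–Macaulay. -/
theorem isCohenMacaulayLocalRing_of_normal_of_dim_le_two (A : Type u) [CommRing A] [IsDomain A]
    [IsNoetherianRing A] [IsLocalRing A] [IsIntegrallyClosed A] (hdim : ringKrullDim A ≤ 2) :
    LocCoh.IsCohenMacaulayLocalRing A := by
  refine { supportDim_eq_depth := ?_ }
  refine le_antisymm ?_ (Helper67.depth_le_supportDim A)
  rw [Module.supportDim_self_eq_ringKrullDim]
  by_cases hf : IsField A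
  · letI := hf.toField
    rw [ringKrullDim_eq_zero_of_field]
    exact WithBot.coe_le_coe.mpr (bot_le : (0 : ℕ∞) ≤ LocCoh.depth A A)
  · obtain ⟨a, ham, ha0⟩ : ∃ a ∈ maximalIdeal A, a ≠ 0 := by
      by_contra hcon
      push Not at hcon
      apply hf
      rw [IsLocalRing.isField_iff_maximalIdeal_eq]
      exact (Submodule.eq_bot_iff _).mpr hcon
    have hreg : IsSMulRegular A a := fun x y h => mul_left_cancel₀ ha0 h
    have hIM : maximalIdeal A • (⊤ : Submodule A A) ≠ ⊤ := by
      rw [smul_eq_mul, Ideal.mul_top]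
      exact (maximalIdeal.isMaximal A).ne_top
    have key := Helper67.idealDepth_quotSMulTop_add_one (maximalIdeal A) A hIM a ham hreg
    have heq : (a • (⊤ : Submodule A A)) = Ideal.span ({a} : Set A) := by
      ext b
      rw [Submodule.mem_smul_pointwise_iff_exists, Ideal.mem_span_singleton']
      constructor
      · rintro ⟨c, -, hc⟩
        exact ⟨c, by rw [mul_comm]; exact hc⟩
      · rintro ⟨c, hc⟩
        exact ⟨c, trivial, by rw [smul_eq_mul, mul_comm]; exact hc⟩
    have e : QuotSMulTop a A ≃ₗ[A] (A ⧸ Ideal.span ({a} : Set A)) :=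
      Submodule.quotEquivOfEq _ _ heq
    by_cases hass : maximalIdeal A ∈ associatedPrimes A (QuotSMulTop a A)
    · have hdvr : IsDiscreteValuationRing A := by
        refine Groth.Agent.S10957.result A a ha0 ?_
        rw [← LinearEquiv.AssociatedPrimes.eq e]
        exact hass
      rw [IsDiscreteValuationRing.ringKrullDim_eq_one A]
      have h1 : (1 : ℕ∞) ≤ LocCoh.depth A A := by
        unfold LocCoh.depth
        rw [← key]
        exact le_add_self
      exact_mod_cast h1
    · have h0 : LocCoh.depth A (QuotSMulTop a A) ≠ 0 := by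
        rw [Ne, Helper67.depth_eq_zero_iff]
        exact hass
      have h1 : (1 : ℕ∞) ≤ idealDepth (maximalIdeal A) (QuotSMulTop a A) :=
        Order.one_le_iff_pos.mpr (pos_iff_ne_zero.mpr h0)
      have h2 : (2 : ℕ∞) ≤ LocCoh.depth A A := by
        unfold LocCoh.depth
        rw [← key]
        calc (2 : ℕ∞) = 1 + 1 := by norm_num
          _ ≤ _ := add_le_add_left h1 1
      refine hdim.trans ?_
      exact WithBot.coe_le_coe.mpr h2

end Groth.Agent.Lib.Helper64.DimLib
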