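import Groth.Agent.Lib.Helper64.StalkIso

/-!
# Spreading out stalk generators (helper64)

* `isGen_of_stalk`: a section generating freely all stalks over `V` is a generator over `V`
  (`Lead.Inv.IsGen`).
* `exists_nhd_bijective_of_span`: on an integral scheme, a section of a finite type module whose germ
  generates the stalk at `x` and does not vanish at the generic point generates freely the stalks in a
  neighbourhood of `x`.
* `exists_isGen_of_span`.
-/

set_option autoImplicit false
set_option linter.style.haveILetI false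
set_option linter.unusedSectionVars false
universe u

open AlgebraicGeometry CategoryTheory Opposite TopologicalSpace

namespace Groth.Agent.Lib.Helper64.StalkGen

open Groth.Agent.Lib.Lead.QCohAff Groth.Agent.Lib.Lead.SheafGlue
open Groth.Agent.Lib.Helper64.HomSh Groth.Agent.Lib.Helper64.SecOrd
open Groth.Agent.Lib.Helper64.RefExt

variable {X : Scheme.{u}}

/-- functions with equal germs are equal -/
theorem secX_ext {W : X.Opens} (r r' : Γ(X, W))
    (h : ∀ (x : X) (hx : x ∈ W), X.presheaf.germ W x hx r = X.presheaf.germ W x hx r') : r = r' :=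
  TopCat.Presheaf.section_ext X.sheaf W r r' h

/-- a section generating freely all stalks over `V` is a generator over `V` -/
theorem isGen_of_stalk (M : X.Modules) {V : X.Opens} (e : Γ(M, V))
    (h : ∀ (y : X) (hy : y ∈ V),
      Function.Bijective fun a : X.presheaf.stalk y => a • M.presheaf.germ V y hy e) :
    Groth.Agent.Lib.Lead.Inv.IsGen M V e := by
  have hinj : ∀ (W : X.Opens) (hW : W ≤ V), Function.Injective
      (fun r : Γ(X, W) => r • M.presheaf.map (homOfLE hW).op e) := by
    intro W hW r r' hrr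
    apply secX_ext
    intro y hy
    apply (h y (hW hy)).1
    have := congrArg (M.presheaf.germ W y hy) hrr
    simp only [germ_smul, germ_res] at this
    exact this
  intro W hW
  refine ⟨hinj W hW, ?_⟩
  intro m
  have hloc : ∀ y : W, ∃ (V' : X.Opens) (hV' : V' ≤ W) (_ : y.1 ∈ V') (r : Γ(X, V')),
      r • M.presheaf.map (homOfLE (hV'.trans hW)).op e = M.presheaf.map (homOfLE hV').op m := by
    intro y
    obtain ⟨a, ha⟩ := (h y.1 (hW y.2)).2 (M.presheaf.germ W y.1 y.2 m)
    obtain ⟨W₁, hWW, hWV, hyW₁, a₀, -, hm⟩ :=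
      exists_rs_eq_smul M y.1 y.2 (hW y.2) m e a ha.symm
    exact ⟨W₁, hWW, hyW₁, a₀, hm.symm⟩
  choose V' hV' hyV' r hr using hloc
  obtain ⟨ρ, hρ⟩ := exists_glue_ptsX V' hV' hyV' r (by
    intro y z
    apply hinj (V' y ⊓ V' z) (inf_le_left.trans ((hV' y).trans hW))
    have e1 : ∀ (y : W) (U' : X.Opens) (hU' : U' ≤ V' y),
        X.presheaf.map (homOfLE hU').op (r y) •
          M.presheaf.map (homOfLE (hU'.trans ((hV' y).trans hW))).op e =
        M.presheaf.map (homOfLE (hU'.trans (hV' y))).op m := by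
      intro y U' hU'
      have := congrArg (M.presheaf.map (homOfLE hU').op) (hr y)
      rw [res_smul, res_res, res_res] at this
      exact this
    show X.presheaf.map (homOfLE (inf_le_left : V' y ⊓ V' z ≤ V' y)).op (r y) •
        M.presheaf.map (homOfLE _).op e =
      X.presheaf.map (homOfLE (inf_le_right : V' y ⊓ V' z ≤ V' z)).op (r z) •
        M.presheaf.map (homOfLE _).op e
    rw [e1 y _ inf_le_left, e1 z _ inf_le_right])
  refine ⟨ρ, ?_⟩
  apply eq_of_locally_eq_pts M
  intro y hy
  refine ⟨V' ⟨y, hy⟩, hV' ⟨y, hy⟩, hyV' ⟨y, hy⟩, ?_⟩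
  show M.presheaf.map (homOfLE (hV' ⟨y, hy⟩)).op (ρ • M.presheaf.map (homOfLE hW).op e) = _
  rw [res_smul, res_res, hρ ⟨y, hy⟩, hr ⟨y, hy⟩]


theorem smul_ne_zero_generic' [IsIntegral X] {F : X.Modules} {c : X.functionField} (hc : c ≠ 0)
    {u : F.presheaf.stalk (genericPoint X)} (hu : u ≠ 0) : c • u ≠ 0 := by
  intro h0
  have hunit : IsUnit c := (isUnit_iff_ne_zero (G₀ := X.functionField)).2 hc
  exact hu ((hunit.smul_eq_zero).1 h0)

theorem mem_finset_inf {ι : Type*} (s : Finset ι) (W : ι → X.Opens) (x : X)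
    (h : ∀ i ∈ s, x ∈ W i) : x ∈ s.inf W := by
  classical
  induction s using Finset.induction_on with
  | empty => simp
  | insert a s ha ih =>
    rw [Finset.inf_insert]
    exact ⟨h a (Finset.mem_insert_self a s), ih (fun i hi => h i (Finset.mem_insert_of_mem hi))⟩

/-- if the germ of `e` generates the stalk at `x` of a finite type module, it generates the stalks in
a neighbourhood -/
theorem exists_nhd_span (M : X.Modules)
    (hM : SheafOfModules.IsFiniteType (R := X.ringCatSheaf) M) {U : X.Opens} (e : Γ(M, U)) (x : X)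
    (hx : x ∈ U)
    (hspan : Submodule.span (X.presheaf.stalk x) {M.presheaf.germ U x hx e} = ⊤) :
    ∃ (V : X.Opens) (hVU : V ≤ U) (_ : x ∈ V), ∀ (y : X) (hy : y ∈ V),
      Submodule.span (X.presheaf.stalk y) {M.presheaf.germ U y (hVU hy) e} = ⊤ := by
  obtain ⟨U₁, hxU₁, n, s, hs⟩ :=
    Groth.Agent.Lib.Helper64.FinTypeStalk.exists_local_generators M hM x
  have hloc : ∀ i : Fin n, ∃ (W : X.Opens) (hWU₁ : W ≤ U₁) (hWU : W ≤ U) (_ : x ∈ W) (a : Γ(X, W)),
      M.presheaf.map (homOfLE hWU₁).op (s i) = a • M.presheaf.map (homOfLE hWU).op e := by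
    intro i
    obtain ⟨a, ha⟩ : ∃ a : X.presheaf.stalk x, a • M.presheaf.germ U x hx e =
        M.presheaf.germ U₁ x hxU₁ (s i) := by
      have : M.presheaf.germ U₁ x hxU₁ (s i) ∈
          Submodule.span (X.presheaf.stalk x) {M.presheaf.germ U x hx e} := by
        rw [hspan]; trivial
      exact Submodule.mem_span_singleton.1 this
    obtain ⟨W, hWU₁, hWU, hxW, a₀, -, hm⟩ :=
      exists_rs_eq_smul M x hxU₁ hx (s i) e a ha.symm
    exact ⟨W, hWU₁, hWU, hxW, a₀, hm⟩
  choose W hWU₁ hWU hxW a ha using hloc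
  let V : X.Opens := (Finset.univ.inf W) ⊓ (U₁ ⊓ U)
  have hVW : ∀ i, V ≤ W i := fun i => inf_le_left.trans (Finset.inf_le (Finset.mem_univ i))
  have hxV : x ∈ V := by
    refine ⟨?_, hxU₁, hx⟩
    exact mem_finset_inf Finset.univ W x (fun i _ => hxW i)
  have hVU : V ≤ U := inf_le_right.trans inf_le_right
  have hVU₁ : V ≤ U₁ := inf_le_right.trans inf_le_left
  refine ⟨V, hVU, hxV, ?_⟩
  intro y hy
  rw [eq_top_iff, ← hs y (hVU₁ hy), Submodule.span_le]
  rintro _ ⟨i, rfl⟩
  have h1 := congrArg (M.presheaf.germ (W i) y (hVW i hy)) (ha i)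
  rw [germ_smul, germ_res, germ_res] at h1
  show M.presheaf.germ U₁ y (hVU₁ hy) (s i) ∈ _
  rw [h1]
  exact Submodule.smul_mem _ _ (Submodule.mem_span_singleton_self _)

variable [IsIntegral X]

/-- on an integral scheme, a section whose germ at the generic point is nonzero has torsion-free
multiples at every point -/
theorem smul_germ_injective (M : X.Modules) {U : X.Opens} (e : Γ(M, U))
    (hη : genericPoint X ∈ U) (hne : M.presheaf.germ U (genericPoint X) hη e ≠ 0) (y : X)
    (hy : y ∈ U) :
    Function.Injective fun a : X.presheaf.stalk y => a • M.presheaf.germ U y hy e := by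
  intro a b hab
  have h0 : (a - b) • M.presheaf.germ U y hy e = 0 := by
    rw [sub_smul]
    exact sub_eq_zero.2 hab
  have h1 := congrArg (M.presheaf.stalkSpecializes (spη y)).hom h0
  rw [sp_smul, map_zero, sp_algebraMap, sp_germ] at h1
  have h2 : algebraMap (X.presheaf.stalk y) X.functionField (a - b) = 0 := by
    by_contra hne'
    exact smul_ne_zero_generic' hne' hne h1
  exact sub_eq_zero.1 (IsFractionRing.injective (X.presheaf.stalk y) X.functionField
    (h2.trans (map_zero _).symm))

/-- spreading out a free generator of a stalk -/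
theorem exists_isGen_of_span (M : X.Modules)
    (hM : SheafOfModules.IsFiniteType (R := X.ringCatSheaf) M) {U : X.Opens} (e : Γ(M, U)) (x : X)
    (hx : x ∈ U)
    (hspan : Submodule.span (X.presheaf.stalk x) {M.presheaf.germ U x hx e} = ⊤)
    (hne : M.presheaf.germ U (genericPoint X) (genericPoint_mem hx) e ≠ 0) :
    ∃ (V : X.Opens) (hVU : V ≤ U) (_ : x ∈ V),
      Groth.Agent.Lib.Lead.Inv.IsGen M V (M.presheaf.map (homOfLE hVU).op e) := by
  obtain ⟨V, hVU, hxV, hV⟩ := exists_nhd_span M hM e x hx hspan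
  refine ⟨V, hVU, hxV, isGen_of_stalk M _ ?_⟩
  intro y hy
  have key : (fun a : X.presheaf.stalk y =>
      a • M.presheaf.germ V y hy (M.presheaf.map (homOfLE hVU).op e)) =
      fun a : X.presheaf.stalk y => a • M.presheaf.germ U y (hVU hy) e := by
    funext a
    rw [germ_res]
  rw [key]
  refine ⟨smul_germ_injective M e (genericPoint_mem hx) hne y (hVU hy), ?_⟩
  intro m
  have : m ∈ Submodule.span (X.presheaf.stalk y) {M.presheaf.germ U y (hVU hy) e} := by
    rw [hV y hy]; trivial
  obtain ⟨a, ha⟩ := Submodule.mem_span_singleton.1 this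
  exact ⟨a, ha⟩

end Groth.Agent.Lib.Helper64.StalkGen
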