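import Groth.Agent.Lib.Helper64.RefS2
import Groth.Agent.Lib.Helper64.StalkGen
import Groth.Agent.Lib.Lead.TensorMap
import Groth.Agent.Lib.Helper35.PbTensor

/-!
# The dual of an invertible module is its tensor inverse (helper64)

* `dualGen`: the dual generator `e*` of `RefHull.dual L` over an open where `e` generates `L`.
* `isGen_dualGen`, `isInvertible_dual`.
* `evHom : L ⊗ L^∨ ⟶ O_X`, `isIso_evHom`, `nonempty_tensor_dual_iso`.
-/

set_option autoImplicit false
set_option linter.style.haveILetI false
set_option linter.unusedSectionVars false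
universe u

open AlgebraicGeometry CategoryTheory Opposite TopologicalSpace

namespace Groth.Agent.Lib.Helper64.DualInv

open Groth.Agent.Lib.Lead.QCohAff Groth.Agent.Lib.Lead.SheafGlue
open Groth.Agent.Lib.Lead.Inv
open Groth.Agent.Lib.Helper64.HomSh Groth.Agent.Lib.Helper64.RefS2
open Groth.Agent.Lib.Helper64.StalkGen

variable {X : Scheme.{u}} (L : X.Modules)

/-- the unit section of the structure sheaf as a module -/
noncomputable def oneSec (U : X.Opens) : Γ(Coh.structureModule X, U) :=
  (show Γ(Coh.structureModule X, U) from (1 : Γ(X, U)))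

theorem oneSec_res {U V : X.Opens} (h : V ≤ U) :
    (Coh.structureModule X).presheaf.map (homOfLE h).op (oneSec U) = oneSec V :=
  map_one (X.presheaf.map (homOfLE h).op).hom

theorem smul_oneSec {U : X.Opens} (r : Γ(X, U)) :
    r • oneSec U = (show Γ(Coh.structureModule X, U) from r) :=
  mul_one r

variable {L}

theorem span_germ_of_isGen {U : X.Opens} {e : Γ(L, U)} (he : IsGen L U e) (y : X) (hy : y ∈ U) :
    Submodule.span (X.presheaf.stalk y) (Set.range fun _ : Unit => L.presheaf.germ U y hy e) = ⊤ := by
  rw [eq_top_iff]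
  intro v _
  obtain ⟨a, ha⟩ := (bijective_stalk_of_isGen he y hy).2 v
  rw [← ha]
  exact Submodule.smul_mem _ _ (Submodule.subset_span ⟨(), rfl⟩)

/-- the trivialisation of a stalk by a generator -/
noncomputable def genEquiv {U : X.Opens} {e : Γ(L, U)} (he : IsGen L U e) (y : X) (hy : y ∈ U) :
    X.presheaf.stalk y ≃ₗ[X.presheaf.stalk y] L.presheaf.stalk y :=
  LinearEquiv.ofBijective (LinearMap.toSpanSingleton (X.presheaf.stalk y) _
    (L.presheaf.germ U y hy e)) (bijective_stalk_of_isGen he y hy)

theorem genEquiv_apply {U : X.Opens} {e : Γ(L, U)} (he : IsGen L U e) (y : X) (hy : y ∈ U)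
    (a : X.presheaf.stalk y) : genEquiv he y hy a = a • L.presheaf.germ U y hy e := rfl

theorem genEquiv_symm_germ {U : X.Opens} {e : Γ(L, U)} (he : IsGen L U e) (y : X) (hy : y ∈ U) :
    (genEquiv he y hy).symm (L.presheaf.germ U y hy e) = 1 := by
  rw [LinearEquiv.symm_apply_eq, genEquiv_apply, one_smul]

/-- the stalk map dual to a generator -/
noncomputable def dualStalk {U : X.Opens} {e : Γ(L, U)} (he : IsGen L U e) (y : U) :
    RefHull.StalkHom L (Coh.structureModule X) y.1 :=
  (LinearMap.toSpanSingleton (X.presheaf.stalk y.1) _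
      ((Coh.structureModule X).presheaf.germ U y.1 y.2 (oneSec U))).comp
    (genEquiv he y.1 y.2).symm.toLinearMap

theorem dualStalk_germ {U : X.Opens} {e : Γ(L, U)} (he : IsGen L U e) (y : X) (hy : y ∈ U) :
    dualStalk he ⟨y, hy⟩ (L.presheaf.germ U y hy e) =
      (Coh.structureModule X).presheaf.germ U y hy (oneSec U) := by
  change (genEquiv he y hy).symm (L.presheaf.germ U y hy e) •
    (Coh.structureModule X).presheaf.germ U y hy (oneSec U) = _
  rw [genEquiv_symm_germ, one_smul]

/-- the dual generator -/
noncomputable def dualGen {U : X.Opens} {e : Γ(L, U)} (he : IsGen L U e) :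
    Γ(RefHull.dual L, U) :=
  mkOfGens (F := L) (G := Coh.structureModule X) (fun _ : Unit => e) (fun _ : Unit => oneSec U)
    (fun y hy => span_germ_of_isGen he y hy) (dualStalk he)
    (fun y hy _ => dualStalk_germ he y hy)

theorem secApp_dualGen {U : X.Opens} {e : Γ(L, U)} (he : IsGen L U e) :
    secApp (F := L) (G := Coh.structureModule X) (dualGen he) le_rfl e = oneSec U := by
  apply sec_ext
  intro y hy
  rw [germ_secApp]
  exact dualStalk_germ he y hy

theorem secApp_dualGen_res {U W : X.Opens} {e : Γ(L, U)} (he : IsGen L U e) (hW : W ≤ U) :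
    secApp (F := L) (G := Coh.structureModule X)
      ((RefHull.dual L).presheaf.map (homOfLE hW).op (dualGen he)) le_rfl
      (L.presheaf.map (homOfLE hW).op e) = oneSec W := by
  have h1 := secApp_resHom (F := L) (G := Coh.structureModule X) hW (dualGen he) le_rfl
    (L.presheaf.map (homOfLE hW).op e)
  have h2 := secApp_res (F := L) (G := Coh.structureModule X) (dualGen he) le_rfl hW e
  exact h1.trans (h2.symm.trans (by rw [secApp_dualGen, oneSec_res]))

theorem isGen_dualGen {U : X.Opens} {e : Γ(L, U)} (he : IsGen L U e) :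
    IsGen (RefHull.dual L) U (dualGen he) := by
  intro W hW
  constructor
  · intro r r' hrr
    have h1 := congrArg (fun g : Γ(RefHull.homSh L (Coh.structureModule X), W) =>
      secApp (F := L) (G := Coh.structureModule X) g le_rfl (L.presheaf.map (homOfLE hW).op e)) hrr
    simp only at h1
    erw [secApp_smul, secApp_smul, secApp_dualGen_res he hW, resX_self, resX_self, smul_oneSec,
      smul_oneSec] at h1
    exact h1
  · intro g
    let r : Γ(X, W) := (show Γ(X, W) from
      secApp (F := L) (G := Coh.structureModule X) g le_rfl (L.presheaf.map (homOfLE hW).op e))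
    refine ⟨r, ?_⟩
    apply hom_ext_of_span (F := L) (G := Coh.structureModule X)
      (fun _ : Unit => L.presheaf.map (homOfLE hW).op e)
    · intro y hy
      have := span_germ_of_isGen (he.res hW) y hy
      exact this
    · intro _
      erw [secApp_smul, secApp_dualGen_res he hW, resX_self, smul_oneSec]

theorem isInvertible_dual (hL : PicF.IsInvertible L) : PicF.IsInvertible (RefHull.dual L) := by
  rw [isInvertible_iff_exists_isGen] at hL ⊢
  intro x
  obtain ⟨U, hxU, e, he⟩ := hL x
  exact ⟨U, hxU, dualGen he, isGen_dualGen he⟩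

variable (L)

/-- the evaluation pairing on sections -/
noncomputable def evBil (U : X.Opens) :
    Γ(L, U) →ₗ[Γ(X, U)] Γ(RefHull.dual L, U) →ₗ[Γ(X, U)] Γ(Coh.structureModule X, U) :=
  LinearMap.mk₂ Γ(X, U)
    (fun (m : Γ(L, U)) (g : Γ(RefHull.dual L, U)) =>
      secApp (F := L) (G := Coh.structureModule X) g le_rfl m)
    (fun m m' g => map_add _ m m')
    (fun r m g => map_smul _ r m)
    (fun m g g' => secApp_add (F := L) (G := Coh.structureModule X) g g' le_rfl m)
    (fun r m g => by
      have := secApp_smul (F := L) (G := Coh.structureModule X) r g le_rfl m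
      rw [resX_self] at this
      exact this)

theorem evBil_apply (U : X.Opens) (m : Γ(L, U)) (g : Γ(RefHull.dual L, U)) :
    evBil L U m g = secApp (F := L) (G := Coh.structureModule X) g le_rfl m := rfl

theorem evBil_res {U V : X.Opens} (i : V ⟶ U) (m : Γ(L, U)) (g : Γ(RefHull.dual L, U)) :
    (Coh.structureModule X).presheaf.map i.op (evBil L U m g) =
      evBil L V (L.presheaf.map i.op m) ((RefHull.dual L).presheaf.map i.op g) := by
  rw [evBil_apply, evBil_apply]
  have h1 := secApp_resHom (F := L) (G := Coh.structureModule X) i.le g le_rfl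
    (L.presheaf.map (homOfLE i.le).op m)
  have h2 := secApp_res (F := L) (G := Coh.structureModule X) g le_rfl i.le m
  exact h2.trans h1.symm

/-- the evaluation morphism `L ⊗ L^∨ ⟶ O_X` -/
noncomputable def evHom : CohB1.tensorMod L (RefHull.dual L) ⟶ Coh.structureModule X :=
  tensorLift L (RefHull.dual L) (Coh.structureModule X) (evBil L) (fun i m g => evBil_res L i m g)

theorem evHom_tmul {W : X.Opens} (m : Γ(L, W)) (g : Γ(RefHull.dual L, W)) :
    ((evHom L).app W).hom (tmul L (RefHull.dual L) m g) =
      secApp (F := L) (G := Coh.structureModule X) g le_rfl m :=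
  tensorLift_tmul L (RefHull.dual L) (Coh.structureModule X) (evBil L)
    (fun i m g => evBil_res L i m g) m g

variable {L}

theorem isIso_evHom (hL : PicF.IsInvertible L) : IsIso (evHom L) := by
  apply Groth.Agent.Lib.Helper35.PbTensor.isIso_of_isGen_map
  intro x
  rw [isInvertible_iff_exists_isGen] at hL
  obtain ⟨U, hxU, e, he⟩ := hL x
  refine ⟨U, hxU, tmul L (RefHull.dual L) e (dualGen he), isGen_tmul he (isGen_dualGen he), ?_⟩
  rw [evHom_tmul, secApp_dualGen]
  exact isGen_one U

/-- `L ⊗ L^∨ ≅ O_X` for invertible `L` -/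
theorem nonempty_tensor_dual_iso (hL : PicF.IsInvertible L) :
    Nonempty (CohB1.tensorMod L (RefHull.dual L) ≅ Coh.structureModule X) :=
  haveI := isIso_evHom hL
  ⟨asIso (evHom L)⟩

end Groth.Agent.Lib.Helper64.DualInv
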