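import Mathlib

/-!
# Local principal generators of minimal primes over principal ideals (helper64)

If `q` is a minimal prime over a nonzero principal ideal of a Noetherian domain `A` and `p` is a
prime such that `A_p` is a UFD, then `q` is generated near `p` by one element: there are `t ∈ q` and
`h ∉ p` with `h • q ⊆ (t)`.
-/

set_option autoImplicit false
set_option linter.style.haveILetI false

namespace Groth.Agent.Lib.Helper64.UfdLocalGen

variable {A : Type*} [CommRing A] [IsDomain A]

/-- In a UFD, a nonzero element of a prime ideal has a prime factor in that ideal. -/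
theorem exists_prime_factor_mem {S : Type*} [CommRing S] [IsDomain S]
    [UniqueFactorizationMonoid S] (Q : Ideal S) [hQ : Q.IsPrime] (b : S) (hb0 : b ≠ 0)
    (hbQ : b ∈ Q) : ∃ π : S, Prime π ∧ π ∈ Q ∧ π ∣ b := by
  classical
  obtain ⟨v, hv⟩ := UniqueFactorizationMonoid.factors_prod hb0
  have h1 : (UniqueFactorizationMonoid.factors b).prod ∈ Q := by
    have : (UniqueFactorizationMonoid.factors b).prod = b * ↑v⁻¹ :=
      (Units.eq_mul_inv_iff_mul_eq v).2 hv
    rw [this]
    exact Q.mul_mem_right _ hbQ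
  obtain ⟨π, hπF, hπQ⟩ := (hQ.multiset_prod_mem_iff_exists_mem _).1 h1
  exact ⟨π, UniqueFactorizationMonoid.prime_of_factor π hπF, hπQ,
    UniqueFactorizationMonoid.dvd_of_mem_factors hπF⟩

theorem exists_local_generator [IsNoetherianRing A] (q : Ideal A) [hqp : q.IsPrime] (a : A)
    (ha : a ≠ 0) (hq : q ∈ (Ideal.span {a}).minimalPrimes) (p : Ideal A) [hp : p.IsPrime]
    (S : Type*) [CommRing S] [Algebra A S] [IsLocalization.AtPrime S p] [IsDomain S]
    [UniqueFactorizationMonoid S] :
    ∃ t ∈ q, ∃ h, h ∉ p ∧ ∀ x ∈ q, h * x ∈ Ideal.span {t} := by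
  classical
  by_cases hqp' : q ≤ p
  swap
  · obtain ⟨t, htq, htp⟩ := Set.not_subset.1 hqp'
    exact ⟨t, htq, t, htp, fun x _ => Ideal.mem_span_singleton.2 ⟨x, rfl⟩⟩
  have hinj : Function.Injective (algebraMap A S) :=
    IsLocalization.injective S p.primeCompl_le_nonZeroDivisors
  have haq : a ∈ q := hq.1.2 (Ideal.mem_span_singleton_self a)
  have hdisj : Disjoint (p.primeCompl : Set A) (q : Set A) := by
    rw [Set.disjoint_left]
    intro x hx hxq
    exact hx (hqp' hxq)
  -- the extension of `q` to `S`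
  set Q : Ideal S := q.map (algebraMap A S) with hQ
  haveI hQprime : Q.IsPrime := IsLocalization.isPrime_of_isPrime_disjoint p.primeCompl S q hqp hdisj
  have hQcomap : Q.comap (algebraMap A S) = q :=
    IsLocalization.under_map_of_isPrime_disjoint p.primeCompl S hqp hdisj
  have haS0 : algebraMap A S a ≠ 0 := fun h => ha (hinj (h.trans (map_zero _).symm))
  have haQ : algebraMap A S a ∈ Q := Ideal.mem_map_of_mem _ haq
  obtain ⟨π, hπ, hπQ, hπa⟩ := exists_prime_factor_mem Q (algebraMap A S a) haS0 haQ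
  -- `(π)` contracts to `q` by minimality
  have hP'prime : (Ideal.span {π} : Ideal S).IsPrime :=
    (Ideal.span_singleton_prime hπ.ne_zero).2 hπ
  have hP'le : Ideal.span {π} ≤ Q := (Ideal.span_singleton_le_iff_mem _).2 hπQ
  set P : Ideal A := (Ideal.span {π} : Ideal S).comap (algebraMap A S) with hP
  haveI : P.IsPrime := Ideal.comap_isPrime _ _
  have hPle : P ≤ q := by
    rw [← hQcomap]; exact Ideal.comap_mono hP'le
  have haP : Ideal.span {a} ≤ P := by
    rw [Ideal.span_singleton_le_iff_mem, hP, Ideal.mem_comap, Ideal.mem_span_singleton]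
    exact hπa
  have hqP : q ≤ P := hq.2 ⟨inferInstance, haP⟩ hPle
  have hQeq : Q = Ideal.span {π} := by
    apply le_antisymm _ hP'le
    rw [hQ, Ideal.map_le_iff_le_comap]
    exact hqP
  -- write `π` as a fraction with numerator in `q`
  obtain ⟨⟨⟨t, htq⟩, s⟩, hts⟩ := (IsLocalization.mem_map_algebraMap_iff p.primeCompl S).1 hπQ
  simp only at hts
  have hsunit : IsUnit (algebraMap A S (s : A)) := IsLocalization.map_units S s
  -- every element of `q` becomes a multiple of `t` after multiplying by something outside `p`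
  have hone : ∀ x ∈ q, ∃ h, h ∉ p ∧ h * x ∈ Ideal.span {t} := by
    intro x hx
    have hxQ : algebraMap A S x ∈ Ideal.span {π} := hQeq ▸ Ideal.mem_map_of_mem _ hx
    obtain ⟨c, hc⟩ := Ideal.mem_span_singleton.1 hxQ
    obtain ⟨⟨c₀, s'⟩, hcs⟩ := IsLocalization.surj p.primeCompl c
    simp only at hcs
    refine ⟨(s' : A) * (s : A), fun hmem => ?_, ?_⟩
    · rcases hp.mem_or_mem hmem with h | h
      · exact s'.2 h
      · exact s.2 h
    · rw [Ideal.mem_span_singleton]
      refine ⟨c₀, hinj ?_⟩
      rw [map_mul, map_mul, map_mul, hc, ← hts, ← hcs]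
      ring
  -- finitely many generators
  obtain ⟨T, hT⟩ := (isNoetherianRing_iff_ideal_fg A).1 inferInstance q
  have hTq : ∀ x ∈ T, x ∈ q := fun x hx => hT ▸ Ideal.subset_span hx
  choose! hf hf₁ hf₂ using hone
  refine ⟨t, htq, ∏ x ∈ T, hf x, ?_, ?_⟩
  · intro hmem
    obtain ⟨x, hxT, hxp⟩ := (hp.prod_mem_iff).1 hmem
    exact hf₁ x (hTq x hxT) hxp
  · intro x hx
    rw [← hT] at hx
    refine Submodule.span_induction ?_ ?_ ?_ ?_ hx
    · intro y hy
      obtain ⟨r, hr⟩ := Finset.dvd_prod_of_mem hf hy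
      rw [hr, mul_comm (hf y) r, mul_assoc]
      exact Ideal.mul_mem_left _ _ (hf₂ y (hTq y hy))
    · rw [mul_zero]; exact Submodule.zero_mem _
    · intro y z _ _ hy hz
      rw [mul_add]; exact Submodule.add_mem _ hy hz
    · intro r y _ hy
      rw [smul_eq_mul, mul_left_comm]
      exact Ideal.mul_mem_left _ _ hy

end Groth.Agent.Lib.Helper64.UfdLocalGen
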