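import Mathlib
import Groth.Agent.Lib.Helper64.UfdPic
import Groth.Agent.Lib.Helper64.UfdLocalGen

/-!
# Locally trivial modules on arbitrary opens of the spectrum of a UFD are trivial (helper64)

Extension of `UfdPic.picTrivial_of_ufd` to opens which are not quasi-compact.
-/

set_option autoImplicit false
set_option linter.style.haveILetI false
universe u

open AlgebraicGeometry CategoryTheory TopologicalSpace Opposite

namespace Groth.Agent.Lib.Helper64.UfdPicGen

open Groth.Agent.Lib.Lead.Inv Groth.Agent.Lib.Lead.QCohAff Groth.Agent.Lib.Lead.SheafGlue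
open Groth.Agent.Lib.Helper64.UfdPic

section Glue

variable {X : Scheme.{u}} (M : X.Modules)

/-- A section which is a generator near every point is a generator. -/
theorem isGen_of_cover {U : X.Opens} (e : Γ(M, U))
    (h : ∀ x ∈ U, ∃ (V : X.Opens) (hV : V ≤ U), x ∈ V ∧
      IsGen M V (M.presheaf.map (homOfLE hV).op e)) : IsGen M U e := by
  apply isGen_of_local
  · intro W hW r hr
    apply eq_of_locally_eq_ptsX r 0
    intro x hx
    obtain ⟨V, hV, hxV, hgen⟩ := h x (hW hx)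
    refine ⟨W ⊓ V, inf_le_left, ⟨hx, hxV⟩, ?_⟩
    rw [map_zero]
    apply (hgen (W ⊓ V) inf_le_right).1
    simp only
    rw [zero_smul, res_res]
    have := congrArg (M.presheaf.map (homOfLE (inf_le_left : W ⊓ V ≤ W)).op) hr
    rw [res_smul, res_res, map_zero] at this
    exact this
  · intro W hW σ x hx
    obtain ⟨V, hV, hxV, hgen⟩ := h x (hW hx)
    refine ⟨W ⊓ V, inf_le_left, ⟨hx, hxV⟩, ?_⟩
    obtain ⟨c, hc⟩ := (hgen (W ⊓ V) inf_le_right).2 (M.presheaf.map (homOfLE inf_le_left).op σ)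
    refine ⟨c, ?_⟩
    rw [← hc, res_res]

variable {M}

/-- Two generators over the same open differ by a unit. -/
theorem IsGen.exists_unit {W : X.Opens} {e e' : Γ(M, W)} (he : IsGen M W e)
    (he' : IsGen M W e') : ∃ u : Γ(X, W), IsUnit u ∧ u • e = e' := by
  obtain ⟨u, hu⟩ := (he W le_rfl).2 e'
  obtain ⟨v, hv⟩ := (he' W le_rfl).2 e
  simp only at hu hv
  rw [res_self] at hu hv
  have huv : v * u = 1 := by
    apply (he W le_rfl).1
    simp only
    rw [res_self, mul_smul, hu, hv, one_smul]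
  exact ⟨u, IsUnit.of_mul_eq_one v (by rw [mul_comm]; exact huv), hu⟩

/-- A coefficient fixing a generator is `1`. -/
theorem IsGen.eq_one_of_smul_eq {W : X.Opens} {e : Γ(M, W)} (he : IsGen M W e) (c : Γ(X, W))
    (hc : c • e = e) : c = 1 := by
  apply (he W le_rfl).1
  simp only
  rw [res_self, hc, one_smul]

end Glue

section Spec

open Groth.Agent.Lib.Helper64.UfdUnits Groth.Agent.Lib.Helper64.UfdLocalGen

attribute [local instance] sectionsAlgebra stalkAlgebra

variable {A : Type u} [CommRing A] [IsDomain A] [UniqueFactorizationMonoid A]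

/-- A unit on a nonempty open of the spectrum of a UFD is a reduced fraction `a / b`. -/
theorem exists_frac_of_isUnit (W : (Spec (CommRingCat.of A)).Opens) (y0 : Spec (CommRingCat.of A))
    (hy0 : y0 ∈ W) (u : Γ(Spec (CommRingCat.of A), W)) :
    ∃ a b : A, IsRelPrime a b ∧ b ≠ 0 ∧ u * algebraMap A Γ(Spec (CommRingCat.of A), W) b =
      algebraMap A Γ(Spec (CommRingCat.of A), W) a := by
  classical
  have hη : genericPt A ∈ W := genericPt_mem W y0 hy0
  haveI : Nonempty ((W : (Spec (CommRingCat.of A)).Opens) : Scheme.{u}) := ⟨⟨y0, hy0⟩⟩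
  haveI : IsDomain Γ(Spec (CommRingCat.of A), W) := IsIntegral.component_integral W
  haveI := isLocalization_stalk (genericPt A)
  set S := (Spec (CommRingCat.of A)).presheaf.stalk (genericPt A) with hS
  have hginj : Function.Injective ((Spec (CommRingCat.of A)).presheaf.germ W (genericPt A) hη) :=
    germ_injective_of_isIntegral _ (genericPt A) hη
  have hAinj : Function.Injective (algebraMap A S) :=
    IsLocalization.injective S (idealOf A (genericPt A)).primeCompl_le_nonZeroDivisors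
  obtain ⟨⟨a0, b0⟩, hab0⟩ := IsLocalization.surj (idealOf A (genericPt A)).primeCompl
    ((Spec (CommRingCat.of A)).presheaf.germ W (genericPt A) hη u)
  have hb0 : (b0 : A) ≠ 0 := fun h => b0.2 (by rw [h]; exact Submodule.zero_mem _)
  obtain ⟨a, b, d, hrel, hda, hdb⟩ :=
    UniqueFactorizationMonoid.exists_reduced_factors' a0 (b0 : A) hb0
  have hd0 : d ≠ 0 := fun h => hb0 (by rw [← hdb, h, zero_mul])
  have hbne : b ≠ 0 := fun h => hb0 (by rw [← hdb, h, mul_zero])
  refine ⟨a, b, hrel, hbne, ?_⟩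
  apply hginj
  rw [map_mul, germ_algebraMap, germ_algebraMap]
  have h1 : (Spec (CommRingCat.of A)).presheaf.germ W (genericPt A) hη u *
      algebraMap A S (d * b) = algebraMap A S (d * a) := by
    rw [hda, hdb]; exact hab0
  rw [map_mul, map_mul] at h1
  have hdS : algebraMap A S d ≠ 0 := fun h => hd0 (hAinj (h.trans (map_zero _).symm))
  apply mul_left_cancel₀ hdS
  rw [← h1]; ring

/-- **Unit extension**: if `V₀ ≤ U` contains all the height-one points `(π)` of `U`, then every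
unit on `V₀` extends to a unit on `U`. -/
theorem exists_unit_extension (U V₀ : (Spec (CommRingCat.of A)).Opens) (h : V₀ ≤ U)
    (hcodim : ∀ (π : A) (hπ : Prime π), primePt hπ ∈ U → primePt hπ ∈ V₀)
    (y0 : Spec (CommRingCat.of A)) (hy0 : y0 ∈ V₀)
    (w : Γ(Spec (CommRingCat.of A), V₀)) (hw : IsUnit w) :
    ∃ w' : Γ(Spec (CommRingCat.of A), U), IsUnit w' ∧
      (Spec (CommRingCat.of A)).presheaf.map (homOfLE h).op w' = w := by
  obtain ⟨a, b, hrel, hbne, hub⟩ := exists_frac_of_isUnit V₀ y0 hy0 w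
  have hnv := fun y hy => not_mem_of_isUnit_mul_eq w hw a b hrel hub y hy
  have hη : genericPt A ∈ V₀ := genericPt_mem V₀ y0 hy0
  have ha0 : a ≠ 0 := fun h => (hnv _ hη).1 (by rw [h]; exact Submodule.zero_mem _)
  have key : ∀ c : A, c ≠ 0 → (∀ y ∈ V₀, c ∉ idealOf A y) → ∀ y ∈ U, c ∉ idealOf A y := by
    intro c hc0 hc y hy hmem
    obtain ⟨π, hπ, hπy, hπc⟩ := exists_prime_factor_mem (idealOf A y) c hc0 hmem
    have h1 : primePt hπ ∈ U := primePt_mem hπ U y hy hπy
    exact hc _ (hcodim π hπ h1) ((mem_idealOf_primePt hπ c).2 hπc)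
  have hA := isUnit_algebraMap_of_forall_not_mem U a (key a ha0 (fun y hy => (hnv y hy).1))
  have hB := isUnit_algebraMap_of_forall_not_mem U b (key b hbne (fun y hy => (hnv y hy).2))
  refine ⟨algebraMap A _ a * ↑(hB.unit⁻¹), hA.mul (Units.isUnit _), ?_⟩
  set ρ := (Spec (CommRingCat.of A)).presheaf.map (homOfLE h).op with hρ
  have hβ : ρ (algebraMap A _ b) * ρ ↑(hB.unit⁻¹) = 1 := by
    rw [← map_mul]
    have : algebraMap A Γ(Spec (CommRingCat.of A), U) b * ↑(hB.unit⁻¹) = 1 := hB.mul_val_inv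
    rw [this, map_one]
  have hr : ∀ c : A, ρ (algebraMap A _ c) = algebraMap A Γ(Spec (CommRingCat.of A), V₀) c :=
    fun c => rfl
  rw [hr] at hβ
  rw [map_mul, hr, ← hub]
  calc w * algebraMap A Γ(Spec (CommRingCat.of A), V₀) b * ρ ↑(hB.unit⁻¹)
      = w * (algebraMap A Γ(Spec (CommRingCat.of A), V₀) b * ρ ↑(hB.unit⁻¹)) := by ring
    _ = w := by rw [hβ, mul_one]

omit [UniqueFactorizationMonoid A] in
theorem primePt_eq_of_associated {π q : A} (hπ : Prime π) (hq : Prime q) (h : Associated π q) :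
    primePt hπ = primePt hq := by
  apply PrimeSpectrum.ext
  exact Ideal.span_singleton_eq_span_singleton.2 h

omit [IsDomain A] [UniqueFactorizationMonoid A] in
theorem isCompact_D (g : A) : IsCompact ((D A g : (Spec (CommRingCat.of A)).Opens) :
    Set (Spec (CommRingCat.of A))) :=
  PrimeSpectrum.isCompact_basicOpen g

/-- Every point of an open `U` of the spectrum of a UFD lies in a quasi-compact open `V₀ ≤ U`
containing all the height-one points `(π)` of `U`. -/
theorem exists_qc_codim_one (U : (Spec (CommRingCat.of A)).Opens) (y0 : Spec (CommRingCat.of A))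
    (hy0 : y0 ∈ U) :
    ∃ V₀ : (Spec (CommRingCat.of A)).Opens, V₀ ≤ U ∧
      IsCompact (V₀ : Set (Spec (CommRingCat.of A))) ∧ y0 ∈ V₀ ∧
      ∀ (π : A) (hπ : Prime π), primePt hπ ∈ U → primePt hπ ∈ V₀ := by
  classical
  obtain ⟨_, ⟨f₀, rfl⟩, hy0f, hfU⟩ :=
    (PrimeSpectrum.isTopologicalBasis_basic_opens (R := A)).exists_subset_of_mem_open
    (show y0 ∈ (U : Set _) from hy0) U.isOpen
  have hfU' : D A f₀ ≤ U := hfU
  have hy0f' : y0 ∈ D A f₀ := hy0f
  have hf₀ : f₀ ≠ 0 := by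
    rintro rfl
    exact hy0f' (Submodule.zero_mem _)
  have hch : ∀ π : A, ∃ g : A, D A g ≤ U ∧ ∀ hπ : Prime π, primePt hπ ∈ U → primePt hπ ∈ D A g := by
    intro π
    by_cases hπ : ∃ hπ : Prime π, primePt hπ ∈ U
    · obtain ⟨hπ₁, hπ₂⟩ := hπ
      obtain ⟨_, ⟨g, rfl⟩, hg₁, hg₂⟩ :=
        (PrimeSpectrum.isTopologicalBasis_basic_opens (R := A)).exists_subset_of_mem_open
        (show primePt hπ₁ ∈ (U : Set _) from hπ₂) U.isOpen
      exact ⟨g, hg₂, fun _ _ => hg₁⟩
    · refine ⟨0, fun y hy => absurd (Submodule.zero_mem _) hy, fun hπ' hU => ?_⟩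
      exact absurd ⟨hπ', hU⟩ hπ
  choose g hg₁ hg₂ using hch
  set F := (UniqueFactorizationMonoid.factors f₀).toFinset with hF
  refine ⟨D A f₀ ⊔ F.sup (fun π => D A (g π)), sup_le hfU' (Finset.sup_le fun π _ => hg₁ π), ?_,
    Or.inl hy0f', ?_⟩
  · rw [Opens.coe_sup, Opens.coe_finset_sup]
    refine (isCompact_D f₀).union ?_
    have : F.sup ((fun W : (Spec (CommRingCat.of A)).Opens => (W : Set (Spec (CommRingCat.of A))))
        ∘ fun π => D A (g π)) = ⋃ π ∈ F, ((D A (g π) : (Spec (CommRingCat.of A)).Opens) :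
        Set (Spec (CommRingCat.of A))) := by
      rw [Finset.sup_eq_iSup]; rfl
    rw [this]
    exact F.isCompact_biUnion fun π _ => isCompact_D (g π)
  · intro π hπ hU
    by_cases hdvd : π ∣ f₀
    · obtain ⟨q, hqF, hassoc⟩ :=
        UniqueFactorizationMonoid.exists_mem_factors_of_dvd hf₀ hπ.irreducible hdvd
      have hq : Prime q := UniqueFactorizationMonoid.prime_of_factor q hqF
      have heq := primePt_eq_of_associated hπ hq hassoc
      rw [heq] at hU ⊢
      refine Or.inr ?_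
      have hle : D A (g q) ≤ F.sup (fun π => D A (g π)) :=
        Finset.le_sup (f := fun π => D A (g π)) (Multiset.mem_toFinset.2 hqF)
      exact hle (hg₂ q hq hU)
    · refine Or.inl ?_
      change primePt hπ ∈ D A f₀
      rw [mem_D_iff, mem_idealOf_primePt]
      exact hdvd

variable (M : (Spec (CommRingCat.of A)).Modules)

/-- **Locally trivial ⇒ trivial** on an arbitrary open of the spectrum of a UFD. -/
theorem exists_isGen_of_locally_gen (U : (Spec (CommRingCat.of A)).Opens)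
    (hloc : ∀ y ∈ U, ∃ W : (Spec (CommRingCat.of A)).Opens, y ∈ W ∧ ∃ e : Γ(M, W), IsGen M W e) :
    ∃ e : Γ(M, U), IsGen M U e := by
  classical
  by_cases hne : ∃ y, y ∈ U
  swap
  · have hbot : U = ⊥ := by
      ext y
      simp only [Opens.coe_bot, Set.mem_empty_iff_false, iff_false]
      exact fun hy => hne ⟨y, hy⟩
    exact exists_isGen_of_eq M hbot.symm ⟨0, isGen_bot M 0⟩
  obtain ⟨y0, hy0⟩ := hne
  obtain ⟨V₀, hV₀U, hV₀c, hy0V₀, hcodim⟩ := exists_qc_codim_one U y0 hy0
  obtain ⟨e₀, he₀⟩ := exists_isGen_of_locally M V₀ hV₀c (fun y hy => hloc y (hV₀U hy))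
  -- normalised generators near every point
  have hpt : ∀ y : U, ∃ (V : (Spec (CommRingCat.of A)).Opens) (hV : V ≤ U) (hV₀ : V₀ ≤ V),
      y.1 ∈ V ∧ ∃ ε : Γ(M, V), IsGen M V ε ∧ M.presheaf.map (homOfLE hV₀).op ε = e₀ := by
    rintro ⟨y, hy⟩
    obtain ⟨_, ⟨g, rfl⟩, hyg, hgU⟩ :=
      (PrimeSpectrum.isTopologicalBasis_basic_opens (R := A)).exists_subset_of_mem_open
      (show y ∈ (U : Set _) from hy) U.isOpen
    have hgU' : D A g ≤ U := hgU
    have hyg' : y ∈ D A g := hyg
    have hVU : V₀ ⊔ D A g ≤ U := sup_le hV₀U hgU'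
    have hVc : IsCompact ((V₀ ⊔ D A g : (Spec (CommRingCat.of A)).Opens) :
        Set (Spec (CommRingCat.of A))) := by
      rw [Opens.coe_sup]
      exact hV₀c.union (isCompact_D g)
    obtain ⟨e, he⟩ := exists_isGen_of_locally M _ hVc (fun y hy => hloc y (hVU hy))
    obtain ⟨w, hw, hwe⟩ := IsGen.exists_unit (he.res (le_sup_left : V₀ ≤ V₀ ⊔ D A g)) he₀
    obtain ⟨w', hw', hww'⟩ := exists_unit_extension U V₀ hV₀U hcodim y0 hy0V₀ w hw
    refine ⟨V₀ ⊔ D A g, hVU, le_sup_left, Or.inr hyg',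
      (Spec (CommRingCat.of A)).presheaf.map (homOfLE hVU).op w' • e,
      IsGen.smul_unit M he _ (hw'.map _), ?_⟩
    rw [res_smul, res_resX, hww', hwe]
  choose V hVU hV₀V hyV ε hε hε₀ using hpt
  have hcompat : ∀ x y, M.presheaf.map (homOfLE (inf_le_left : V x ⊓ V y ≤ V x)).op (ε x) =
      M.presheaf.map (homOfLE (inf_le_right : V x ⊓ V y ≤ V y)).op (ε y) := by
    intro x y
    have hV₀W : V₀ ≤ V x ⊓ V y := le_inf (hV₀V x) (hV₀V y)
    have g₁ := (hε x).res (inf_le_left : V x ⊓ V y ≤ V x)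
    have g₂ := (hε y).res (inf_le_right : V x ⊓ V y ≤ V y)
    obtain ⟨c, -, hc⟩ := IsGen.exists_unit g₁ g₂
    have h1 := congrArg (M.presheaf.map (homOfLE hV₀W).op) hc
    rw [res_smul, res_res, res_res, hε₀, hε₀] at h1
    have h2 := IsGen.eq_one_of_smul_eq he₀ _ h1
    haveI : Nonempty ((V₀ : (Spec (CommRingCat.of A)).Opens) : Scheme.{u}) := ⟨⟨y0, hy0V₀⟩⟩
    have hinj := map_injective_of_isIntegral (Spec (CommRingCat.of A)) (homOfLE hV₀W)
    have hc1 : c = 1 := by
      apply hinj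
      rw [map_one]; exact h2
    rw [← hc, hc1, one_smul]
  obtain ⟨e, he⟩ := exists_glue_pts M V hVU hyV ε hcompat
  refine ⟨e, isGen_of_cover M e ?_⟩
  intro x hx
  refine ⟨V ⟨x, hx⟩, hVU _, hyV ⟨x, hx⟩, ?_⟩
  rw [he]; exact hε _

/-- **Invertible modules on arbitrary opens of the spectrum of a UFD are trivial.** -/
theorem nonempty_iso_structureModule_of_ufd (U : (Spec (CommRingCat.of A)).Opens)
    (L : (U : Scheme.{u}).Modules) (hL : PicF.IsInvertible L) :
    Nonempty (L ≅ Coh.structureModule (U : Scheme.{u})) := by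
  set M := (Scheme.Modules.pushforward U.ι).obj L with hM
  have hloc : ∀ y ∈ U, ∃ W : (Spec (CommRingCat.of A)).Opens, y ∈ W ∧ ∃ e : Γ(M, W), IsGen M W e := by
    intro y hy
    obtain ⟨U', hyU', ⟨ε⟩⟩ := hL ⟨y, hy⟩
    obtain ⟨e, he⟩ := exists_isGen_of_iso ε
    have hle : U.ι ⁻¹ᵁ (U.ι ''ᵁ U') ≤ U' := (U.ι.preimage_image_eq U').le
    refine ⟨U.ι ''ᵁ U', ⟨⟨y, hy⟩, hyU', rfl⟩, _, isGen_pushforward U.ι L (U.ι ''ᵁ U') ?_
      (he.res hle)⟩
    rw [Scheme.Opens.opensRange_ι]
    exact U.ι_image_le U'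
  obtain ⟨e, he⟩ := exists_isGen_of_locally_gen M U hloc
  obtain ⟨i⟩ := nonempty_iso_of_isGen he
  exact ⟨(asIso ((Scheme.Modules.restrictAdjunction U.ι).counit.app L)).symm ≪≫ i⟩

end Spec

end Groth.Agent.Lib.Helper64.UfdPicGen
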