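import Groth.Agent.Lib.Helper64.MeroReg4
import Groth.Agent.Lib.Helper29.AssNoeth

/-!
# Weakly associated points are maximal points: reduced schemes, schemes without embedded points
(helper64)
-/

set_option autoImplicit false
set_option linter.style.haveILetI false
set_option linter.unusedSectionVars false
universe u

open AlgebraicGeometry CategoryTheory Opposite TopologicalSpace

namespace Groth.Agent.Lib.Helper64.MeroReg

open Mero Groth.Agent.Lib.Helper29.QCohLoc

variable {X : Scheme.{u}}

/-- on a reduced scheme the weakly associated points of the structure sheaf are maximal points -/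
theorem weakAss_generic_of_isReduced [IsReduced X] (x : X)
    (hwa : Curv2.IsWeakAssPoint (Coh.structureModule X) x) (y : X) (hyx : y ⤳ x) : y = x := by
  obtain ⟨U, hUaff, hxU, -⟩ := (Opens.isBasis_iff_nbhd.1 X.isBasis_affineOpens)
    (show x ∈ (⊤ : X.Opens) from trivial)
  have hU : IsAffineOpen U := hUaff
  have hyU : y ∈ U := hyx.mem_open U.isOpen hxU
  obtain ⟨s, hs⟩ := (isWeakAssPoint_iff (Coh.structureModule X) hU (locAt_structureModule X hU)
    x hxU).1 hwa
  have hle := le_of_minimalPrimes_ann_of_isReduced (A := Γ(X, U)) (toSec X s)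
    (ann (Coh.structureModule X) s) (fun a => by rw [mem_ann]; rfl) _ hs
    (hU.primeIdealOf ⟨y, hyU⟩).asIdeal (primeIdealOf_le_of_specializes hU hxU hyU hyx)
  have hxy : x ⤳ y := specializes_of_primeIdealOf_le hU hyU hxU hle
  exact (hyx.antisymm hxy).eq

/-- every point is a specialization of an associated point of the structure sheaf -/
theorem exists_isAssPoint_specializes_point (y : X) :
    ∃ y' : X, Curv2.IsAssPoint (Coh.structureModule X) y' ∧ y' ⤳ y := by
  obtain ⟨U, hUaff, hyU, -⟩ := (Opens.isBasis_iff_nbhd.1 X.isBasis_affineOpens)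
    (show y ∈ (⊤ : X.Opens) from trivial)
  have hU : IsAffineOpen U := hUaff
  have hne : (Coh.structureModule X).presheaf.germ U y hyU (ofSec X (1 : Γ(X, U))) ≠ 0 := by
    rw [germ_ofSec, map_one, one_smul]
    intro h0
    have h1 : stalkEquiv X y 1 = stalkEquiv X y 0 := by
      rw [map_zero]
      change (1 : X.presheaf.stalk y) • oneGerm X y = 0
      rw [h0, smul_zero]
    exact one_ne_zero ((stalkEquiv X y).injective h1)
  obtain ⟨y', hy', hass, hsp, -⟩ := exists_isAssPoint_specializes (Coh.structureModule X) hU
    (locAt_structureModule X hU) y hyU (ofSec X 1) hne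
  exact ⟨y', hass, hsp⟩

/-- without embedded points the weakly associated points are maximal points -/
theorem weakAss_generic_of_noEmbedded
    (hne : ∀ x : X, Curv2.IsAssPoint (Coh.structureModule X) x →
      ∀ y : X, Curv2.IsAssPoint (Coh.structureModule X) y → y ⤳ x → y = x)
    (x : X) (hwa : Curv2.IsWeakAssPoint (Coh.structureModule X) x) (y : X) (hyx : y ⤳ x) :
    y = x := by
  have hass : Curv2.IsAssPoint (Coh.structureModule X) x :=
    (isAssPoint_iff_isWeakAssPoint (Coh.structureModule X) x).2 hwa
  obtain ⟨y', hy'ass, hy'y⟩ := exists_isAssPoint_specializes_point y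
  have h1 : y' = x := hne x hass y' hy'ass (hy'y.trans hyx)
  rw [h1] at hy'y
  exact (hyx.antisymm hy'y).eq

/-- quasi-compact opens of a locally Noetherian scheme have finitely many irreducible components -/
theorem finite_irreducibleComponents_of_isLocallyNoetherian [IsLocallyNoetherian X] (U : X.Opens)
    (hU : IsCompact (U : Set X)) : (irreducibleComponents ↥(U : Scheme.{u})).Finite := by
  haveI : CompactSpace ↥(U : Scheme.{u}) := isCompact_iff_compactSpace.1 hU
  haveI : IsNoetherian (U : Scheme.{u}) := { }
  exact finite_irreducibleComponents_of_isNoetherian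

end Groth.Agent.Lib.Helper64.MeroReg
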