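import Groth.Agent.Lib.Helper64.MeroDiv3
import Groth.Agent.Lib.Helper60.ProjUP5

/-!
# `O_X(D)` has a regular meromorphic section (helper64)

* `hasRegularMero_of_iso_divMod`: an `O_X`-module isomorphic to `O_X(D)` has a regular meromorphic
  section (no hypothesis on the scheme).
* `exists_iso_divMod_iff_hasRegularMero`.
-/

set_option autoImplicit false
set_option linter.style.haveILetI false
set_option linter.unusedSectionVars false
universe u

open AlgebraicGeometry CategoryTheory Opposite TopologicalSpace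

namespace Groth.Agent.Lib.Helper64.MeroDiv

open Mero Groth.Agent.Lib.Helper29.QCohLoc Groth.Agent.Lib.Helper65.CurveDiv
open Groth.Agent.Lib.Helper64.MeroInv Groth.Agent.Lib.Lead.Inv
open Groth.Agent.Lib.Helper64.RefS2 Groth.Agent.Lib.Helper64.MeroReg

variable {X : Scheme.{u}} {L : X.Modules}

theorem smul_lmk_self (z : X) (c : X.presheaf.stalk z) (r : regStalk X z) :
    (r : X.presheaf.stalk z) • (LocalizedModule.mk c r : KStalk X z) =
      algebraMap (X.presheaf.stalk z) (KStalk X z) c := by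
  rw [algebraMap_eq_lmk, LocalizedModule.smul'_mk, LocalizedModule.mk_eq]
  refine ⟨1, ?_⟩
  rw [one_smul, one_smul, one_smul]
  rfl

theorem hom_res' {F G : X.Modules} (φ : F ⟶ G) {U V : X.Opens} (h : V ≤ U) (s : Γ(F, U)) :
    (φ.app V).hom (F.presheaf.map (homOfLE h).op s) =
      G.presheaf.map (homOfLE h).op ((φ.app U).hom s) :=
  congr($(φ.mapPresheaf.naturality (homOfLE h).op) s)

theorem hom_smul' {F G : X.Modules} (φ : F ⟶ G) {U : X.Opens} (r : Γ(X, U)) (s : Γ(F, U)) :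
    (φ.app U).hom (r • s) = r • (φ.app U).hom s :=
  Scheme.Modules.Hom.app_smul φ r s

/-- compatibility of the local meromorphic sections `(a / b) φ(e)` where `e = b / a` -/
theorem fracM_compat (D : Divisor X) (φ : divMod D ⟶ L) {V V' : X.Opens}
    (a b : regSub X V) (a' b' : regSub X V') (e : Γ(divMod D, V)) (e' : Γ(divMod D, V'))
    (he : ∀ y : V, e.1 y = LocalizedModule.mk (X.presheaf.germ V y.1 y.2 b.1) (regGerm y a))
    (he' : ∀ y : V', e'.1 y = LocalizedModule.mk (X.presheaf.germ V' y.1 y.2 b'.1) (regGerm y a'))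
    (z : X) (hz : z ∈ V) (hz' : z ∈ V') :
    (fracM (a.1 • (φ.app V).hom e) b).1 ⟨z, hz⟩ =
      (fracM (a'.1 • (φ.app V').hom e') b').1 ⟨z, hz'⟩ := by
  have hWV : V ⊓ V' ≤ V := inf_le_left
  have hWV' : V ⊓ V' ≤ V' := inf_le_right
  -- the identity in `O_X(D)`
  have hT : X.presheaf.map (homOfLE hWV').op b'.1 • X.presheaf.map (homOfLE hWV).op a.1 •
        (divMod D).presheaf.map (homOfLE hWV).op e =
      X.presheaf.map (homOfLE hWV).op b.1 • X.presheaf.map (homOfLE hWV').op a'.1 •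
        (divMod D).presheaf.map (homOfLE hWV').op e' := by
    apply Subtype.ext
    funext w
    change X.presheaf.germ (V ⊓ V') w.1 w.2 (X.presheaf.map (homOfLE hWV').op b'.1) •
        X.presheaf.germ (V ⊓ V') w.1 w.2 (X.presheaf.map (homOfLE hWV).op a.1) •
          e.1 ⟨w.1, hWV w.2⟩ =
      X.presheaf.germ (V ⊓ V') w.1 w.2 (X.presheaf.map (homOfLE hWV).op b.1) •
        X.presheaf.germ (V ⊓ V') w.1 w.2 (X.presheaf.map (homOfLE hWV').op a'.1) •
          e'.1 ⟨w.1, hWV' w.2⟩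
    rw [he ⟨w.1, hWV w.2⟩, he' ⟨w.1, hWV' w.2⟩, TopCat.Presheaf.germ_res_apply,
      TopCat.Presheaf.germ_res_apply, TopCat.Presheaf.germ_res_apply,
      TopCat.Presheaf.germ_res_apply]
    have h1 := smul_lmk_self w.1 (X.presheaf.germ V w.1 (hWV w.2) b.1) (regGerm ⟨w.1, hWV w.2⟩ a)
    have h2 := smul_lmk_self w.1 (X.presheaf.germ V' w.1 (hWV' w.2) b'.1)
      (regGerm ⟨w.1, hWV' w.2⟩ a')
    change X.presheaf.germ V w.1 (hWV w.2) a.1 • _ = _ at h1
    change X.presheaf.germ V' w.1 (hWV' w.2) a'.1 • _ = _ at h2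
    rw [h1, h2, smul_kstalk, smul_kstalk, ← map_mul, ← map_mul, mul_comm]
  have hT' := congrArg (fun t => L.presheaf.germ (V ⊓ V') z ⟨hz, hz'⟩ ((φ.app (V ⊓ V')).hom t)) hT
  simp only [hom_smul', hom_res'] at hT'
  rw [Groth.Agent.Lib.Helper29.QCohLoc.germ_smul, Groth.Agent.Lib.Helper29.QCohLoc.germ_smul,
    Groth.Agent.Lib.Helper29.QCohLoc.germ_smul, Groth.Agent.Lib.Helper29.QCohLoc.germ_smul,
    Groth.Agent.Lib.Helper29.QCohLoc.germ_res, Groth.Agent.Lib.Helper29.QCohLoc.germ_res,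
    TopCat.Presheaf.germ_res_apply, TopCat.Presheaf.germ_res_apply,
    TopCat.Presheaf.germ_res_apply, TopCat.Presheaf.germ_res_apply] at hT'
  rw [fracM_apply, fracM_apply, LocalizedModule.mk_eq]
  refine ⟨1, ?_⟩
  rw [one_smul, one_smul, Groth.Agent.Lib.Helper29.QCohLoc.germ_smul,
    Groth.Agent.Lib.Helper29.QCohLoc.germ_smul]
  exact hT'

/-- **an `O_X`-module isomorphic to `O_X(D)` has a regular meromorphic section** -/
theorem hasRegularMero_of_iso_divMod (D : Divisor X) (ψ : L ≅ divMod D) : HasRegularMero L := by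
  have hch : ∀ x : X, ∃ (V : X.Opens) (a b : regSub X V) (e : Γ(divMod D, V)), x ∈ V ∧
      IsGen (divMod D) V e ∧
      ∀ y : V, e.1 y = LocalizedModule.mk (X.presheaf.germ V y.1 y.2 b.1) (regGerm y a) := by
    intro x
    obtain ⟨V, hxV, -, a, b, hab⟩ := local_structure D x ⊤ trivial
    obtain ⟨e, he, hval⟩ := exists_isGen_divMod D a b hab
    refine ⟨V, a, b, e, hxV, he, fun y => ?_⟩
    have := congrArg (fun t : Γ(kmod X, V) => t.1 y) hval
    exact this
  choose V a b e hxV hgen hval using hch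
  have hε : ∀ x : X, IsGen L (V x) ((ψ.inv.app (V x)).hom (e x)) := fun x =>
    Groth.Agent.Lib.Helper60.ProjUPLib.IsGen.map_iso ψ.symm (hgen x)
  obtain ⟨s, hs⟩ := exists_glue_merMod (L := L) V hxV
    (fun x => fracM ((a x).1 • (ψ.inv.app (V x)).hom (e x)) (b x))
    (fun x y z hzx hzy => fracM_compat D ψ.inv (a x) (b x) (a y) (b y) (e x) (e y)
      (hval x) (hval y) z hzx hzy)
  refine ⟨s, fun x q hq => ?_⟩
  rw [hs x x (hxV x), fracM_apply,
    chart_eq_smul ((ψ.inv.app (V x)).hom (e x)) (a x) (b x) ⟨x, hxV x⟩, ← mul_smul] at hq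
  have hB := bijective_smul_mk (L := L) (L.presheaf.germ (V x) x (hxV x)
    ((ψ.inv.app (V x)).hom (e x))) (bijective_stalk_of_isGen (hε x) x (hxV x))
  have h0 : q * (LocalizedModule.mk (X.presheaf.germ (V x) x (hxV x) (a x).1)
      (regGerm ⟨x, hxV x⟩ (b x)) : KStalk X x) = 0 :=
    hB.1 (hq.trans (zero_smul _ _).symm)
  have hu := isUnit_lmk x (regGerm ⟨x, hxV x⟩ (a x)) (regGerm ⟨x, hxV x⟩ (b x))
  exact (hu.mul_left_eq_zero).1 h0

/-- **`L ≅ O_X(D)` for some divisor `D` iff `L` has a regular meromorphic section** -/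
theorem exists_iso_divMod_iff_hasRegularMero (hL : PicF.IsInvertible L) :
    (∃ D : Divisor X, Nonempty (L ≅ divMod D)) ↔ HasRegularMero L :=
  ⟨fun ⟨D, ⟨ψ⟩⟩ => hasRegularMero_of_iso_divMod D ψ,
    fun h => exists_iso_divMod_of_hasRegularMero hL h⟩

end Groth.Agent.Lib.Helper64.MeroDiv
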