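import Groth.Agent.Lib.Helper64.ZeroSch1
import Groth.Agent.Lib.Helper64.MeroDiv4

/-!
# The divisor of the zero scheme of a regular section (helper64)

* `exists_affine_chart`, `eq_zero_of_val_top`, `eq_zero_of_val_eq_zero` (integral schemes),
  `mem_regSub_of_ne_zero`.
* `exists_divisor_of_regular_section`: for a section `s` of an invertible module whose local
  coefficients are regular, a divisor `D` with `IsDivOfIdeal D (zeroScheme L s)` and an isomorphism
  `L ≅ O_X(D)` carrying `s` to `1`.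
-/

set_option autoImplicit false
set_option linter.style.haveILetI false
set_option linter.unusedSectionVars false
universe u

open AlgebraicGeometry CategoryTheory Opposite TopologicalSpace

namespace Groth.Agent.Lib.Helper64.ZeroSch

open Groth.Agent.Lib.Lead.Inv Groth.Agent.Lib.Lead.QCohAff
open Mero Groth.Agent.Lib.Helper65.CurveDiv Groth.Agent.Lib.Helper64.MeroInv
open Groth.Agent.Lib.Helper64.RefS2 Groth.Agent.Lib.Helper64.MeroReg
open Groth.Agent.Lib.Helper64.MeroDiv

variable {X : Scheme.{u}} {L : X.Modules}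

/-- affine charts of a section of an invertible module -/
theorem exists_affine_chart (hL : PicF.IsInvertible L) (s : Coh.structureModule X ⟶ L) (x : X)
    (W : X.Opens) (hxW : x ∈ W) :
    ∃ U : X.affineOpens, x ∈ U.1 ∧ U.1 ≤ W ∧ ∃ (ε : Γ(L, U.1)) (r : Γ(X, U.1)),
      IsGen L U.1 ε ∧ val s U.1 = r • ε := by
  obtain ⟨U₁, hxU₁, ε, hε⟩ := (isInvertible_iff_exists_isGen.1 hL) x
  obtain ⟨V, hVaff, hxV, hVle⟩ := (Opens.isBasis_iff_nbhd.1 X.isBasis_affineOpens)
    (show x ∈ U₁ ⊓ W from ⟨hxU₁, hxW⟩)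
  have hVU₁ : V ≤ U₁ := hVle.trans inf_le_left
  refine ⟨⟨V, hVaff⟩, hxV, hVle.trans inf_le_right, L.presheaf.map (homOfLE hVU₁).op ε,
    (hε.res hVU₁).coeff le_rfl (val s V), hε.res hVU₁, ?_⟩
  have := (hε.res hVU₁).coeff_smul le_rfl (val s V)
  rw [res_self] at this
  exact this.symm

theorem eq_zero_of_val_top (s : Coh.structureModule X ⟶ L) (h : val s ⊤ = 0) : s = 0 := by
  apply Scheme.Modules.hom_ext
  intro U
  ext r
  change (s.app U).hom r = 0
  rw [app_eq_smul, ← val_res s (le_top : U ≤ ⊤), h, map_zero, smul_zero]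

/-- on an integral scheme a section of an invertible module vanishing on a nonempty open vanishes -/
theorem eq_zero_of_val_eq_zero [IsIntegral X] (hL : PicF.IsInvertible L)
    (s : Coh.structureModule X ⟶ L) {U : X.Opens} (hU : (U : Set X).Nonempty)
    (h0 : val s U = 0) : s = 0 := by
  apply eq_zero_of_val_top
  apply Groth.Agent.Lib.Helper64.HomSh.sec_ext
  intro x hx
  rw [map_zero]
  obtain ⟨V, hxV, -, ε, r, hε, hr⟩ := exists_affine_chart hL s x ⊤ trivial
  obtain ⟨y, hyU, hyV⟩ : ((U : Set X) ∩ (V.1 : Set X)).Nonempty :=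
    nonempty_preirreducible_inter U.isOpen V.1.isOpen hU ⟨x, hxV⟩
  have hWU : U ⊓ V.1 ≤ U := inf_le_left
  have hWV : U ⊓ V.1 ≤ V.1 := inf_le_right
  have h1 : val s (U ⊓ V.1) = 0 := by
    rw [← val_res s hWU, h0, map_zero]
  have h2 : val s (U ⊓ V.1) =
      X.presheaf.map (homOfLE hWV).op r • L.presheaf.map (homOfLE hWV).op ε := by
    rw [← val_res s hWV, hr, res_smul]
  have h3 : X.presheaf.map (homOfLE hWV).op r = 0 := by
    apply (hε (U ⊓ V.1) hWV).1
    change _ • _ = (0 : Γ(X, U ⊓ V.1)) • _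
    rw [zero_smul, ← h2, h1]
  have h4 : r = 0 := by
    haveI : Nonempty V.1 := ⟨⟨y, hyV⟩⟩
    apply AlgebraicGeometry.germ_injective_of_isIntegral X y hyV
    rw [map_zero, ← TopCat.Presheaf.germ_res_apply X.presheaf (homOfLE hWV) y ⟨hyU, hyV⟩ r, h3,
      map_zero]
  rw [← Groth.Agent.Lib.Helper29.QCohLoc.germ_res L ⊤ V.1 le_top x hxV, val_res, hr, h4, zero_smul,
    map_zero]

/-- on an integral scheme nonzero sections of the structure sheaf are regular -/
theorem mem_regSub_of_ne_zero [IsIntegral X] {U : X.Opens} (r : Γ(X, U)) (hr : r ≠ 0) :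
    r ∈ regSub X U := by
  intro y
  haveI : Nonempty U := ⟨y⟩
  apply mem_nonZeroDivisors_of_ne_zero
  intro h
  exact hr (AlgebraicGeometry.germ_injective_of_isIntegral X y.1 y.2 (h.trans (map_zero _).symm))

/-- regularity at a point of a chart -/
theorem regular_of_chart {V : X.Opens} {ε : Γ(L, V)} (hε : IsGen L V ε) (r b : regSub X V) (y : V)
    (t : MStalk L y.1)
    (ht : t = LocalizedModule.mk (L.presheaf.germ V y.1 y.2 (r.1 • ε)) (regGerm y b))
    (q : KStalk X y.1) (hq : q • t = 0) : q = 0 := by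
  rw [ht, chart_eq_smul ε r b y, ← mul_smul] at hq
  have hB := bijective_smul_mk (L := L) (L.presheaf.germ V y.1 y.2 ε)
    (bijective_stalk_of_isGen hε y.1 y.2)
  have h0 : q * (LocalizedModule.mk (X.presheaf.germ V y.1 y.2 r.1) (regGerm y b) : KStalk X y.1) =
      0 := hB.1 (hq.trans (zero_smul _ _).symm)
  have hu := isUnit_lmk y.1 (regGerm y r) (regGerm y b)
  exact (hu.mul_left_eq_zero).1 h0

/-- the meromorphic section defined by a section -/
noncomputable def merOf (s : Coh.structureModule X ⟶ L) : Γ(merMod L, ⊤) :=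
  Mero.toMerFun L ⊤ (val s ⊤)

theorem merOf_apply (s : Coh.structureModule X ⟶ L) {U : X.Opens} (y : X) (hy : y ∈ U) :
    (merOf s).1 ⟨y, Opens.mem_top y⟩ =
      LocalizedModule.mk (L.presheaf.germ U y hy (val s U)) 1 := by
  change LocalizedModule.mk (L.presheaf.germ ⊤ y _ (val s ⊤)) 1 = _
  rw [← val_res s (le_top : U ≤ ⊤), Groth.Agent.Lib.Helper29.QCohLoc.germ_res]

theorem regGerm_one {U : X.Opens} (y : U) : regGerm y (1 : regSub X U) = 1 :=
  Subtype.ext (map_one _)

theorem merOf_chart (s : Coh.structureModule X ⟶ L) {U : X.Opens} (ε : Γ(L, U)) (r : Γ(X, U))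
    (hr : val s U = r • ε) (y : U) :
    (merOf s).1 ⟨y.1, Opens.mem_top y.1⟩ =
      LocalizedModule.mk (L.presheaf.germ U y.1 y.2 (r • ε)) (regGerm y (1 : regSub X U)) := by
  rw [merOf_apply s y.1 y.2, hr, regGerm_one]

/-- **the divisor of the zero scheme of a regular section of an invertible module** -/
theorem exists_divisor_of_regular_section (hL : PicF.IsInvertible L)
    (s : Coh.structureModule X ⟶ L)
    (hreg : ∀ (U : X.Opens) (ε : Γ(L, U)) (r : Γ(X, U)), IsGen L U ε → val s U = r • ε →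
      r ∈ regSub X U) :
    ∃ D : Mero.Divisor X, Mero.IsDivOfIdeal D (PicF2.zeroScheme L s) ∧
      ∃ e : L ≅ Mero.divMod D,
        (Mero.divModι D).app ⊤ (e.hom.app ⊤ (SecTwist.val s ⊤)) = 1 := by
  have hs' : IsRegularMero L (merOf s) := by
    intro y q hq
    obtain ⟨U, hyU, -, ε, r, hε, hr⟩ := exists_affine_chart hL s y ⊤ trivial
    exact regular_of_chart hε ⟨r, hreg U.1 ε r hε hr⟩ 1 ⟨y, hyU⟩ _
      (merOf_chart s ε r hr ⟨y, hyU⟩) q hq
  obtain ⟨D, hD, hDof⟩ := exists_hasCharts hL (merOf s) hs'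
  have hbij := bijective_smul_of_isRegularMero hL (merOf s) hs'
  refine ⟨D, ?_, ?_⟩
  · intro x
    obtain ⟨U, hxU, -, ε, r, hε, hr⟩ := exists_affine_chart hL s x ⊤ trivial
    have hrreg := hreg U.1 ε r hε hr
    refine ⟨U, hxU, r, hrreg, ?_, fun y => ?_⟩
    · rw [zeroScheme_ideal hL s U]
      exact zI_eq_span s hε r hr
    · apply hDof y.1 (L.presheaf.germ U.1 y.1 y.2 ε) _ (bijective_stalk_of_isGen hε y.1 y.2)
      rw [merOf_apply s y.1 y.2, hr, Groth.Agent.Lib.Helper29.QCohLoc.germ_smul, mk_smul_eq]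
      rfl
  · haveI := isIso_toDivMod (merOf s) hbij D hD
    refine ⟨asIso (toDivMod (merOf s) hbij D hD), ?_⟩
    apply Subtype.ext
    funext y
    change coefEquiv (merOf s) hbij y.1
      (LocalizedModule.mk (L.presheaf.germ ⊤ y.1 y.2 (val s ⊤)) 1) = 1
    exact coefEquiv_eq (merOf s) hbij y.1 _ 1 (one_smul _ _)

/-- **integral case** -/
theorem exists_divisor_of_section [IsIntegral X] (hL : PicF.IsInvertible L)
    (s : Coh.structureModule X ⟶ L) (hs : s ≠ 0) :
    ∃ D : Mero.Divisor X, Mero.IsDivOfIdeal D (PicF2.zeroScheme L s) ∧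
      ∃ e : L ≅ Mero.divMod D,
        (Mero.divModι D).app ⊤ (e.hom.app ⊤ (SecTwist.val s ⊤)) = 1 := by
  apply exists_divisor_of_regular_section hL s
  intro U ε r hε hr
  by_cases hU : (U : Set X).Nonempty
  · apply mem_regSub_of_ne_zero
    rintro rfl
    rw [zero_smul] at hr
    exact hs (eq_zero_of_val_eq_zero hL s hU hr)
  · intro y
    exact absurd ⟨y.1, y.2⟩ hU

end Groth.Agent.Lib.Helper64.ZeroSch
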