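import Groth.Agent.Lib.Helper64.DenomQC1
import Groth.Agent.Lib.Helper64.ZeroSch2
import Groth.Agent.Lib.Helper64.MeroReg5

/-!
# Sections of invertible modules generating at the associated points (helper64)

* `exists_not_mem_of_prime_submodules`: avoidance for prime submodules.
* `finite_weakAss_of_isNoetherianRing`: finitely many weakly associated points in a Noetherian
  affine open.
* `exists_section_generating_at_weakAss`: on a Noetherian affine open an invertible module has a
  section generating the stalks at all weakly associated points of the structure sheaf.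
-/

set_option autoImplicit false
set_option linter.style.haveILetI false
set_option linter.unusedSectionVars false
universe u

open AlgebraicGeometry CategoryTheory Opposite TopologicalSpace

namespace Groth.Agent.Lib.Helper64.AssReg

/-- avoidance for prime submodules -/
theorem exists_not_mem_of_prime_submodules {A M ι : Type*} [CommRing A] [AddCommGroup M]
    [Module A M] (T : Finset ι) (p : ι → Ideal A) (N : ι → Submodule A M)
    (hprime : ∀ i ∈ T, (p i).IsPrime) (hinj : Set.InjOn p T)
    (ha : ∀ i ∈ T, ∃ m, m ∉ N i)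
    (hb : ∀ i ∈ T, ∀ r ∈ p i, ∀ m, r • m ∈ N i)
    (hc : ∀ i ∈ T, ∀ r, r ∉ p i → ∀ m, m ∉ N i → r • m ∉ N i) :
    ∃ m, ∀ i ∈ T, m ∉ N i := by
  classical
  induction hcard : T.card generalizing T with
  | zero =>
    rw [Finset.card_eq_zero] at hcard
    subst hcard
    exact ⟨0, fun i hi => absurd hi (Finset.notMem_empty i)⟩
  | succ n ih =>
    have hne : T.Nonempty := Finset.card_pos.1 (by omega)
    obtain ⟨i₀, hi₀, hmin⟩ := T.exists_minimalFor p hne
    have hi₀' : i₀ ∈ T := hi₀
    obtain ⟨m₀, hm₀⟩ := ih (T.erase i₀)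
      (fun i hi => hprime i (Finset.mem_of_mem_erase hi))
      (hinj.mono (by intro i hi; exact Finset.mem_of_mem_erase hi))
      (fun i hi => ha i (Finset.mem_of_mem_erase hi))
      (fun i hi => hb i (Finset.mem_of_mem_erase hi))
      (fun i hi => hc i (Finset.mem_of_mem_erase hi))
      (by rw [Finset.card_erase_of_mem hi₀', hcard]; rfl)
    by_cases h0 : m₀ ∈ N i₀
    · obtain ⟨m₁, hm₁⟩ := ha i₀ hi₀'
      have hnle : ¬ (T.erase i₀).inf p ≤ p i₀ := by
        intro hle
        obtain ⟨j, hj, hjle⟩ := (Ideal.IsPrime.inf_le' (hprime i₀ hi₀')).1 hle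
        have hjT : j ∈ T := Finset.mem_of_mem_erase hj
        have heq : p j = p i₀ := le_antisymm hjle (hmin hjT hjle)
        exact (Finset.ne_of_mem_erase hj) (hinj hjT hi₀' heq)
      obtain ⟨r, hr, hr₀⟩ := SetLike.not_le_iff_exists.1 hnle
      refine ⟨m₀ + r • m₁, fun i hi => ?_⟩
      by_cases hii : i = i₀
      · subst hii
        intro hmem
        have h1 : r • m₁ ∈ N i := by
          have := (N i).sub_mem hmem h0
          rwa [add_sub_cancel_left] at this
        exact hc i hi r hr₀ m₁ hm₁ h1
      · have hiE : i ∈ T.erase i₀ := Finset.mem_erase.2 ⟨hii, hi⟩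
        have hri : r ∈ p i := (Finset.inf_le hiE : (T.erase i₀).inf p ≤ p i) hr
        intro hmem
        have h1 : m₀ ∈ N i := by
          have := (N i).sub_mem hmem (hb i hi r hri m₁)
          rwa [add_sub_cancel_right] at this
        exact hm₀ i hiE h1
    · refine ⟨m₀, fun i hi => ?_⟩
      by_cases hii : i = i₀
      · subst hii
        exact h0
      · exact hm₀ i (Finset.mem_erase.2 ⟨hii, hi⟩)


open Mero Groth.Agent.Lib.Helper29.QCohLoc Groth.Agent.Lib.Helper65.CurveDiv
open Groth.Agent.Lib.Helper64.MeroInv Groth.Agent.Lib.Lead.Inv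
open Groth.Agent.Lib.Helper64.RefS2 Groth.Agent.Lib.Helper64.MeroReg

variable {X : Scheme.{u}} {L : X.Modules}

/-- points of an affine open are determined by their primes -/
theorem primeIdealOf_inj {U : X.Opens} (hU : IsAffineOpen U) {y y' : X} (hy : y ∈ U) (hy' : y' ∈ U)
    (h : (hU.primeIdealOf ⟨y, hy⟩).asIdeal = (hU.primeIdealOf ⟨y', hy'⟩).asIdeal) : y = y' := by
  have h1 : y ⤳ y' := specializes_of_primeIdealOf_le hU hy' hy h.le
  have h2 : y' ⤳ y := specializes_of_primeIdealOf_le hU hy hy' h.ge
  exact (h1.antisymm h2).eq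

/-- a Noetherian affine open has finitely many weakly associated points -/
theorem finite_weakAss_of_isNoetherianRing {U : X.Opens} (hU : IsAffineOpen U)
    [IsNoetherianRing Γ(X, U)] :
    {y : X | y ∈ U ∧ Curv2.IsWeakAssPoint (Coh.structureModule X) y}.Finite := by
  classical
  let f : X → Ideal Γ(X, U) := fun y =>
    if hy : y ∈ U then (hU.primeIdealOf ⟨y, hy⟩).asIdeal else ⊤
  apply Set.Finite.of_finite_image (f := f)
  · apply (associatedPrimes.finite Γ(X, U) Γ(X, U)).subset
    rintro _ ⟨y, ⟨hy, hwa⟩, rfl⟩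
    simp only [f, dif_pos hy]
    obtain ⟨s, hs⟩ :=
      (isWeakAssPoint_iff (Coh.structureModule X) hU (locAt_structureModule X hU) y hy).1 hwa
    have hann : ann (Coh.structureModule X) s =
        Module.annihilator Γ(X, U) (Submodule.span Γ(X, U) {toSec X s}) := by
      ext a
      rw [mem_ann]
      exact (Submodule.mem_annihilator_span_singleton (toSec X s) a).symm
    rw [hann] at hs
    have h1 := Module.associatedPrimes.minimalPrimes_annihilator_subset_associatedPrimes Γ(X, U)
      (Submodule.span Γ(X, U) {toSec X s}) hs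
    exact associatedPrimes.subset_of_injective
      (f := (Submodule.span Γ(X, U) {toSec X s}).subtype) (Submodule.injective_subtype _) h1
  · rintro y ⟨hy, -⟩ y' ⟨hy', -⟩ h
    simp only [f, dif_pos hy, dif_pos hy'] at h
    exact primeIdealOf_inj hU hy hy' h

/-- **a section generating at the weakly associated points**: over a Noetherian affine open an
invertible module has a section generating its stalks at all weakly associated points of the
structure sheaf in that open -/
theorem exists_section_generating_at_weakAss (hL : PicF.IsInvertible L) {W : X.Opens}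
    (hW : IsAffineOpen W) [IsNoetherianRing Γ(X, W)] :
    ∃ m : Γ(L, W), ∀ (y : X) (hy : y ∈ W), Curv2.IsWeakAssPoint (Coh.structureModule X) y →
      Function.Bijective (fun a : X.presheaf.stalk y => a • L.presheaf.germ W y hy m) := by
  classical
  haveI := isQuasicoherent_of_isInvertible hL
  have hloc : LocAt L W := LocAt.of_isQuasicoherent L hW
  have hgen : ∀ η : X, ∃ e : L.presheaf.stalk η,
      Function.Bijective (fun a : X.presheaf.stalk η => a • e) := by
    intro η
    obtain ⟨U, hU, ε, hε⟩ := (isInvertible_iff_exists_isGen.1 hL) η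
    exact ⟨_, bijective_stalk_of_isGen hε η hU⟩
  choose e he using hgen
  have hfin := finite_weakAss_of_isNoetherianRing (X := X) hW
  let p : X → Ideal Γ(X, W) := fun y =>
    if hy : y ∈ W then (hW.primeIdealOf ⟨y, hy⟩).asIdeal else ⊤
  let N : X → Submodule Γ(X, W) Γ(L, W) := fun y =>
    { carrier := {m | ∀ hy : y ∈ W, ∃ c ∈ IsLocalRing.maximalIdeal (X.presheaf.stalk y),
        L.presheaf.germ W y hy m = c • e y}
      add_mem' := by
        intro m m' hm hm' hy
        obtain ⟨c, hc, h1⟩ := hm hy
        obtain ⟨c', hc', h2⟩ := hm' hy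
        exact ⟨c + c', Ideal.add_mem _ hc hc', by rw [map_add, h1, h2, add_smul]⟩
      zero_mem' := by
        intro hy
        exact ⟨0, Ideal.zero_mem _, by rw [map_zero, zero_smul]⟩
      smul_mem' := by
        intro a m hm hy
        obtain ⟨c, hc, h1⟩ := hm hy
        refine ⟨X.presheaf.germ W y hy a * c, Ideal.mul_mem_left _ _ hc, ?_⟩
        rw [Groth.Agent.Lib.Helper29.QCohLoc.germ_smul, h1, mul_smul] }
  have hN : ∀ (y : X) (hy : y ∈ W) (m : Γ(L, W)), m ∈ N y ↔
      ∃ c ∈ IsLocalRing.maximalIdeal (X.presheaf.stalk y), L.presheaf.germ W y hy m = c • e y :=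
    fun y hy m => ⟨fun h => h hy, fun h _ => h⟩
  have hp : ∀ (y : X) (hy : y ∈ W) (r : Γ(X, W)), r ∈ p y ↔
      X.presheaf.germ W y hy r ∈ IsLocalRing.maximalIdeal (X.presheaf.stalk y) := by
    intro y hy r
    simp only [p, dif_pos hy]
    rw [mem_primeIdealOf_iff, Scheme.mem_basicOpen X r y hy, IsLocalRing.mem_maximalIdeal,
      mem_nonunits_iff]
  obtain ⟨m, hm⟩ := exists_not_mem_of_prime_submodules hfin.toFinset p N
    (by
      intro y hyT
      have hy : y ∈ W := ((Set.Finite.mem_toFinset hfin).1 hyT).1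
      simp only [p, dif_pos hy]
      exact (hW.primeIdealOf ⟨y, hy⟩).isPrime)
    (by
      intro y hyT y' hyT' h
      have hy : y ∈ W := ((Set.Finite.mem_toFinset hfin).1 hyT).1
      have hy' : y' ∈ W := ((Set.Finite.mem_toFinset hfin).1 hyT').1
      simp only [p, dif_pos hy, dif_pos hy'] at h
      exact primeIdealOf_inj hW hy hy' h)
    (by
      intro y hyT
      have hy : y ∈ W := ((Set.Finite.mem_toFinset hfin).1 hyT).1
      obtain ⟨a, s, ha, hs⟩ := exists_germ_eq_smul L hW hloc y hy (e y)
      refine ⟨s, fun hmem => ?_⟩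
      obtain ⟨c, hc, h1⟩ := (hN y hy s).1 hmem
      have h2 : c = X.presheaf.germ W y hy a := (he y).1 (h1.symm.trans hs)
      have hu : IsUnit (X.presheaf.germ W y hy a) := (Scheme.mem_basicOpen X a y hy).mp ha
      rw [h2, IsLocalRing.mem_maximalIdeal, mem_nonunits_iff] at hc
      exact hc hu)
    (by
      intro y hyT r hr m
      have hy : y ∈ W := ((Set.Finite.mem_toFinset hfin).1 hyT).1
      obtain ⟨c, hc⟩ := (he y).2 (L.presheaf.germ W y hy m)
      refine (hN y hy _).2 ⟨X.presheaf.germ W y hy r * c,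
        Ideal.mul_mem_right _ _ ((hp y hy r).1 hr), ?_⟩
      rw [Groth.Agent.Lib.Helper29.QCohLoc.germ_smul, ← hc, mul_smul])
    (by
      intro y hyT r hr m hm hmem
      have hy : y ∈ W := ((Set.Finite.mem_toFinset hfin).1 hyT).1
      apply hm
      obtain ⟨c, hc, h1⟩ := (hN y hy _).1 hmem
      obtain ⟨c', hc'⟩ := (he y).2 (L.presheaf.germ W y hy m)
      have hc'' : c' • e y = L.presheaf.germ W y hy m := hc'
      rw [Groth.Agent.Lib.Helper29.QCohLoc.germ_smul, ← hc'', ← mul_smul] at h1
      have h2 : X.presheaf.germ W y hy r * c' = c := (he y).1 h1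
      have hu : IsUnit (X.presheaf.germ W y hy r) := by
        by_contra hnu
        exact hr ((hp y hy r).2 ((IsLocalRing.mem_maximalIdeal _).2 hnu))
      refine (hN y hy m).2 ⟨c', ?_, hc''.symm⟩
      rw [← h2] at hc
      exact (Ideal.unit_mul_mem_iff_mem _ hu).1 hc)
  refine ⟨m, fun y hy hwa => ?_⟩
  have hyT : y ∈ hfin.toFinset := (Set.Finite.mem_toFinset hfin).2 ⟨hy, hwa⟩
  have hmy := hm y hyT
  obtain ⟨c, hc⟩ := (he y).2 (L.presheaf.germ W y hy m)
  have hc' : c • e y = L.presheaf.germ W y hy m := hc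
  have hu : IsUnit c := by
    by_contra hnu
    exact hmy ((hN y hy m).2 ⟨c, (IsLocalRing.mem_maximalIdeal _).2 hnu, hc'.symm⟩)
  rw [← hc']
  constructor
  · intro a a' h
    have h1 : (a * c) • e y = (a' * c) • e y := by
      rw [mul_smul, mul_smul]
      exact h
    exact hu.mul_left_inj.1 ((he y).1 h1)
  · intro v
    obtain ⟨d, hd⟩ := (he y).2 v
    obtain ⟨u, rfl⟩ := hu
    refine ⟨d * ↑u⁻¹, ?_⟩
    change (d * ↑u⁻¹) • ((u : X.presheaf.stalk y) • e y) = v
    rw [← mul_smul, mul_assoc, Units.inv_mul, mul_one]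
    exact hd

end Groth.Agent.Lib.Helper64.AssReg
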