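import Groth.Agent.Lib.Helper64.AssReg1
import Groth.Agent.Lib.Helper64.MeroDiv4

/-!
# Regular meromorphic sections when the associated points lie in an affine open (helper64)

* `isCompact_of_le_of_isNoetherianRing`: opens inside a Noetherian affine open are quasi-compact.
* `exists_frac_of_section`: a section over an open `W'` of a Noetherian affine open `V` containing
  all weakly associated points of `V` is a fraction `a / b` with `b` regular on `V`.
* `hasRegularMero_of_weakAss_subset_affine`: on a locally Noetherian scheme whose (weakly) associated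
  points all lie in one affine open, every invertible module has a regular meromorphic section.
* `exists_iso_divMod_of_weakAss_subset_affine`.
-/

set_option autoImplicit false
set_option linter.style.haveILetI false
set_option linter.unusedSectionVars false
universe u

open AlgebraicGeometry CategoryTheory Opposite TopologicalSpace

namespace Groth.Agent.Lib.Helper64.AssReg

open Mero Groth.Agent.Lib.Helper29.QCohLoc Groth.Agent.Lib.Helper65.CurveDiv
open Groth.Agent.Lib.Helper64.MeroInv Groth.Agent.Lib.Lead.Inv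
open Groth.Agent.Lib.Helper64.RefS2 Groth.Agent.Lib.Helper64.MeroReg

variable {X : Scheme.{u}} {L : X.Modules}

/-- opens inside a Noetherian affine open are quasi-compact -/
theorem isCompact_of_le_of_isNoetherianRing {V W' : X.Opens} (hV : IsAffineOpen V)
    [IsNoetherianRing Γ(X, V)] (h : W' ≤ V) : IsCompact (W' : Set X) := by
  haveI := noetherianSpace_of_isAffineOpen V hV
  have h1 : IsCompact ((fun z : ↥(V : Scheme.{u}) => V.ι z) ⁻¹' (W' : Set X)) :=
    NoetherianSpace.isCompact _
  have h2 := h1.image V.ι.continuous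
  have h3 : (fun z : ↥(V : Scheme.{u}) => V.ι z) '' ((fun z : ↥(V : Scheme.{u}) => V.ι z) ⁻¹'
      (W' : Set X)) = (W' : Set X) := by
    rw [Set.image_preimage_eq_inter_range]
    have : Set.range (fun z : ↥(V : Scheme.{u}) => V.ι z) = (V : Set X) := Scheme.Opens.range_ι V
    rw [this]
    exact Set.inter_eq_left.2 h
  rw [← h3]
  exact h2

/-- **sections over a neighbourhood of the associated points are fractions** -/
theorem exists_frac_of_section {V W' : X.Opens} (hV : IsAffineOpen V) [IsNoetherianRing Γ(X, V)]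
    (hW'V : W' ≤ V)
    (hass : ∀ y ∈ V, Curv2.IsWeakAssPoint (Coh.structureModule X) y → y ∈ W')
    (c : Γ(X, W'))
    (hc : ∀ (y : X) (hy : y ∈ W'), Curv2.IsWeakAssPoint (Coh.structureModule X) y →
      IsUnit (X.presheaf.germ W' y hy c)) :
    ∃ a b : Γ(X, V), a ∈ regSub X V ∧ b ∈ regSub X V ∧
      X.presheaf.map (homOfLE hW'V).op b * c = X.presheaf.map (homOfLE hW'V).op a := by
  classical
  have hcompact : IsCompact (W' : Set X) := isCompact_of_le_of_isNoetherianRing hV hW'V
  let I : Ideal Γ(X, V) :=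
    { carrier := {b | ∃ a : Γ(X, V),
        X.presheaf.map (homOfLE hW'V).op b * c = X.presheaf.map (homOfLE hW'V).op a}
      add_mem' := by
        rintro b b' ⟨a, ha⟩ ⟨a', ha'⟩
        exact ⟨a + a', by rw [map_add, add_mul, ha, ha', map_add]⟩
      zero_mem' := ⟨0, by rw [map_zero, zero_mul]⟩
      smul_mem' := by
        rintro r b ⟨a, ha⟩
        exact ⟨r * a, by rw [smul_eq_mul, map_mul, mul_assoc, ha, map_mul]⟩ }
  have hI : ∀ b : Γ(X, V), b ∈ I ↔ ∃ a : Γ(X, V),
      X.presheaf.map (homOfLE hW'V).op b * c = X.presheaf.map (homOfLE hW'V).op a :=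
    fun b => Iff.rfl
  -- the ideal `I` is contained in no weakly associated prime
  have hstep : ∀ (y : X) (hy : y ∈ V), Curv2.IsWeakAssPoint (Coh.structureModule X) y →
      ∃ b ∈ I, y ∈ X.basicOpen b := by
    intro y hy hwa
    have hyW' := hass y hy hwa
    obtain ⟨g, hg1, hg2⟩ := hV.exists_basicOpen_le (V := W') ⟨y, hyW'⟩ hy
    have hloc := hV.isLocalization_basicOpen g
    obtain ⟨⟨a', ⟨_, n, rfl⟩⟩, ha'⟩ := IsLocalization.surj (Submonoid.powers g)
      (X.presheaf.map (homOfLE hg1).op c)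
    have ha'' : X.presheaf.map (homOfLE hg1).op c *
        X.presheaf.map (homOfLE (X.basicOpen_le g)).op (g ^ n) =
        X.presheaf.map (homOfLE (X.basicOpen_le g)).op a' := ha'
    obtain ⟨x, hx⟩ : ∃ x : Γ(X, W'), x = X.presheaf.map (homOfLE hW'V).op (g ^ n) * c -
      X.presheaf.map (homOfLE hW'V).op a' := ⟨_, rfl⟩
    have e1 : X.presheaf.map (homOfLE hg1).op x = 0 := by
      rw [hx, map_sub, map_mul, res_resX, res_resX, sub_eq_zero, mul_comm]
      exact ha''
    have hD' : X.basicOpen (X.presheaf.map (homOfLE hW'V).op g) ≤ X.basicOpen g := by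
      rw [Scheme.basicOpen_res]
      exact inf_le_right
    have H' : X.presheaf.map (homOfLE (X.basicOpen_le (X.presheaf.map (homOfLE hW'V).op g))).op x
        = 0 := by
      have := res_resX hg1 hD' x
      rw [e1, map_zero] at this
      exact this.symm
    obtain ⟨N, hN⟩ := exists_pow_mul_eq_zero_of_res_basicOpen_eq_zero_of_isCompact X hcompact x
      (X.presheaf.map (homOfLE hW'V).op g) H'
    refine ⟨g ^ (N + n), (hI _).2 ⟨g ^ N * a', ?_⟩, ?_⟩
    · rw [hx, mul_sub, sub_eq_zero] at hN
      rw [pow_add, map_mul, map_mul, map_pow, mul_assoc]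
      exact hN
    · rcases Nat.eq_zero_or_pos (N + n) with h0 | hpos
      · rw [h0, pow_zero]
        have : X.basicOpen (1 : Γ(X, V)) = V := Scheme.basicOpen_of_isUnit X isUnit_one
        rw [this]
        exact hy
      · rw [Scheme.basicOpen_pow _ _ hpos]
        exact hg2
  -- hence it contains a nonzerodivisor
  have hex : ∃ b ∈ I, b ∈ nonZeroDivisors Γ(X, V) := by
    by_contra hcon
    push_neg at hcon
    have hdisj : Disjoint (I : Set Γ(X, V)) (nonZeroDivisors Γ(X, V) : Set Γ(X, V)) :=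
      Set.disjoint_left.2 (fun b hb hb' => hcon b hb hb')
    have hlt := Ideal.bot_lt_annihilator_of_disjoint_nonZeroDivisors hdisj
    obtain ⟨z, hz, hz0⟩ := SetLike.exists_of_lt hlt
    have hz0' : z ≠ 0 := fun h => hz0 (by rw [h]; exact Submodule.zero_mem _)
    obtain ⟨y, hy, hwa, hann⟩ := exists_isWeakAssPoint_ann_le hV z hz0'
    obtain ⟨b, hbI, hyb⟩ := hstep y hy hwa
    have h1 : b * z = 0 := by
      have h2 := Module.mem_annihilator.1 hz ⟨b, hbI⟩
      have h3 := congrArg Subtype.val h2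
      rw [mul_comm]
      exact h3
    have h2 := hann b h1
    rw [mem_primeIdealOf_iff] at h2
    exact h2 hyb
  obtain ⟨b, hbI, hb⟩ := hex
  obtain ⟨a, hab⟩ := (hI b).1 hbI
  have hbreg : b ∈ regSub X V := mem_regSub_of_mem_nonZeroDivisors hV hb
  refine ⟨a, b, ?_, hbreg, hab⟩
  apply mem_regSub_of_mem_nonZeroDivisors hV
  apply mem_nonZeroDivisors_of_forall_weakAss hV
  intro y hy hwa
  have hyW' := hass y hy hwa
  rw [Scheme.mem_basicOpen X a y hy]
  have h1 : X.presheaf.germ V y hy a =
      X.presheaf.germ V y hy b * X.presheaf.germ W' y hyW' c := by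
    have h2 := congrArg (X.presheaf.germ W' y hyW') hab
    rw [map_mul, TopCat.Presheaf.germ_res_apply X.presheaf (homOfLE hW'V) y hyW' b,
      TopCat.Presheaf.germ_res_apply X.presheaf (homOfLE hW'V) y hyW' a] at h2
    exact h2.symm
  rw [h1]
  exact (isUnit_of_weakAss hwa (hbreg ⟨y, hy⟩)).mul (hc y hyW' hwa)

/-- **regular meromorphic sections exist when the associated points lie in an affine open** -/
theorem hasRegularMero_of_weakAss_subset_affine [IsLocallyNoetherian X] {W : X.Opens}
    (hW : IsAffineOpen W)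
    (hass : ∀ x : X, Curv2.IsWeakAssPoint (Coh.structureModule X) x → x ∈ W)
    (hL : PicF.IsInvertible L) : HasRegularMero L := by
  classical
  haveI : IsNoetherianRing Γ(X, W) := IsLocallyNoetherian.component_noetherian ⟨W, hW⟩
  obtain ⟨m, hm⟩ := exists_section_generating_at_weakAss hL hW
  -- affine charts trivialising `L`
  have hchart : ∀ x : X, ∃ (V : X.Opens) (ε : Γ(L, V)), IsAffineOpen V ∧ x ∈ V ∧ IsGen L V ε := by
    intro x
    obtain ⟨U, hU, ε, hε⟩ := (isInvertible_iff_exists_isGen.1 hL) x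
    obtain ⟨V, hVaff, hxV, hVU⟩ := (Opens.isBasis_iff_nbhd.1 X.isBasis_affineOpens) hU
    exact ⟨V, _, hVaff, hxV, hε.res hVU⟩
  choose V ε hVaff hxV hε using hchart
  -- the coefficient of `m` in the charts
  obtain ⟨c, hc⟩ : ∃ c : ∀ x : X, Γ(X, V x ⊓ W), c = fun x =>
    (hε x).coeff inf_le_left (L.presheaf.map (homOfLE (inf_le_right : V x ⊓ W ≤ W)).op m) :=
    ⟨_, rfl⟩
  have hcm : ∀ x : X, c x • L.presheaf.map (homOfLE (inf_le_left : V x ⊓ W ≤ V x)).op (ε x) =
      L.presheaf.map (homOfLE (inf_le_right : V x ⊓ W ≤ W)).op m := by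
    intro x
    rw [hc]
    exact (hε x).coeff_smul _ _
  have hgerm : ∀ (x η : X) (hη : η ∈ V x) (hηW : η ∈ W),
      L.presheaf.germ W η hηW m =
        X.presheaf.germ (V x ⊓ W) η ⟨hη, hηW⟩ (c x) • L.presheaf.germ (V x) η hη (ε x) := by
    intro x η hη hηW
    have h1 := congrArg (L.presheaf.germ (V x ⊓ W) η ⟨hη, hηW⟩) (hcm x)
    rw [Groth.Agent.Lib.Helper29.QCohLoc.germ_smul, Groth.Agent.Lib.Helper29.QCohLoc.germ_res,
      Groth.Agent.Lib.Helper29.QCohLoc.germ_res] at h1
    exact h1.symm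
  have hcunit : ∀ (x η : X) (hη : η ∈ V x ⊓ W),
      Curv2.IsWeakAssPoint (Coh.structureModule X) η →
        IsUnit (X.presheaf.germ (V x ⊓ W) η hη (c x)) := by
    intro x η hη hwa
    have hbij := bijective_stalk_of_isGen (hε x) η hη.1
    obtain ⟨d, hd⟩ := (hm η hη.2 hwa).2 (L.presheaf.germ (V x) η hη.1 (ε x))
    have hd' : d • L.presheaf.germ W η hη.2 m = L.presheaf.germ (V x) η hη.1 (ε x) := hd
    rw [hgerm x η hη.1 hη.2, ← mul_smul] at hd'
    have h1 : d * X.presheaf.germ (V x ⊓ W) η hη (c x) = 1 :=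
      hbij.1 (hd'.trans (one_smul _ _).symm)
    exact IsUnit.of_mul_eq_one d (by rw [mul_comm]; exact h1)
  -- the fractions
  have hfrac : ∀ x : X, ∃ a b : Γ(X, V x), a ∈ regSub X (V x) ∧ b ∈ regSub X (V x) ∧
      X.presheaf.map (homOfLE (inf_le_left : V x ⊓ W ≤ V x)).op b * c x =
        X.presheaf.map (homOfLE (inf_le_left : V x ⊓ W ≤ V x)).op a := by
    intro x
    haveI : IsNoetherianRing Γ(X, V x) :=
      IsLocallyNoetherian.component_noetherian ⟨V x, hVaff x⟩
    exact exists_frac_of_section (hVaff x) inf_le_left (fun y hy hwa => ⟨hy, hass y hwa⟩) (c x)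
      (hcunit x)
  choose a b hareg hbreg hab using hfrac
  obtain ⟨σ, hσdef⟩ : ∃ σ : ∀ x : X, Γ(merMod L, V x), σ = fun x =>
    fracM (a x • ε x) ⟨b x, hbreg x⟩ := ⟨_, rfl⟩
  have hσval : ∀ (x η : X) (hη : η ∈ V x) (hwa : Curv2.IsWeakAssPoint (Coh.structureModule X) η),
      (σ x).1 ⟨η, hη⟩ = LocalizedModule.mk (L.presheaf.germ W η (hass η hwa) m) 1 := by
    intro x η hη hwa
    rw [hσdef]
    refine fracM_eq_of_rel (ε x) (a x) ⟨b x, hbreg x⟩ ⟨η, hη⟩
      (X.presheaf.germ (V x ⊓ W) η ⟨hη, hass η hwa⟩ (c x)) _ ?_ (hgerm x η hη (hass η hwa))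
    have h2 := congrArg (X.presheaf.germ (V x ⊓ W) η ⟨hη, hass η hwa⟩) (hab x)
    rw [map_mul, TopCat.Presheaf.germ_res_apply X.presheaf (homOfLE inf_le_left) η _ (b x),
      TopCat.Presheaf.germ_res_apply X.presheaf (homOfLE inf_le_left) η _ (a x)] at h2
    rw [← h2, mul_comm]
  have hσ : ∀ (x y z : X) (hzx : z ∈ V x) (hzy : z ∈ V y),
      (σ x).1 ⟨z, hzx⟩ = (σ y).1 ⟨z, hzy⟩ := by
    intro x y z hzx hzy
    let t : Γ(merMod L, V x ⊓ V y) :=
      (merMod L).presheaf.map (homOfLE (inf_le_left : V x ⊓ V y ≤ V x)).op (σ x) -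
        (merMod L).presheaf.map (homOfLE (inf_le_right : V x ⊓ V y ≤ V y)).op (σ y)
    have ht := merMod_eq_zero_of_weakAss hL t (by
      intro η hwa
      rw [merMod_sub_apply, merMod_res_apply, merMod_res_apply, hσval x η.1 η.2.1 hwa,
        hσval y η.1 η.2.2 hwa, sub_self]) ⟨z, ⟨hzx, hzy⟩⟩
    rw [merMod_sub_apply, merMod_res_apply, merMod_res_apply] at ht
    exact sub_eq_zero.1 ht
  obtain ⟨s, hs⟩ := exists_glue_merMod V hxV σ hσ
  refine ⟨s, ?_⟩
  intro x q hq
  rw [hs x x (hxV x), hσdef] at hq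
  change q • (fracM (a x • ε x) ⟨b x, hbreg x⟩).1 ⟨x, hxV x⟩ = 0 at hq
  rw [fracM_apply] at hq
  induction q using Localization.induction_on with
  | H rt =>
    obtain ⟨r, t'⟩ := rt
    change Localization.mk r t' • _ = 0 at hq
    rw [LocalizedModule.mk_smul_mk, lmkM_eq_zero_iff] at hq
    obtain ⟨d, hd⟩ := hq
    rw [Groth.Agent.Lib.Helper29.QCohLoc.germ_smul, ← mul_smul, ← mul_smul, mul_assoc] at hd
    have h1 : (d : X.presheaf.stalk x) * (r * X.presheaf.germ (V x) x (hxV x) (a x)) = 0 :=
      (bijective_stalk_of_isGen (hε x) x (hxV x)).1 (hd.trans (zero_smul _ _).symm)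
    have h2 : r * X.presheaf.germ (V x) x (hxV x) (a x) = 0 :=
      (mem_nonZeroDivisors_iff.1 (regStalk_le_nonZeroDivisors x d.2)).1 _ h1
    have h3 : r = 0 := (mem_nonZeroDivisors_iff.1 (hareg x ⟨x, hxV x⟩)).2 _ h2
    rw [h3]
    exact Localization.mk_zero t'

/-- on a locally Noetherian scheme whose associated points lie in an affine open every invertible
module is the module of a divisor -/
theorem exists_iso_divMod_of_weakAss_subset_affine [IsLocallyNoetherian X] {W : X.Opens}
    (hW : IsAffineOpen W)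
    (hass : ∀ x : X, Curv2.IsWeakAssPoint (Coh.structureModule X) x → x ∈ W)
    (hL : PicF.IsInvertible L) : ∃ D : Divisor X, Nonempty (L ≅ divMod D) :=
  Groth.Agent.Lib.Helper64.MeroDiv.exists_iso_divMod_of_hasRegularMero hL
    (hasRegularMero_of_weakAss_subset_affine hW hass hL)

/-- weakly associated points of the structure sheaf through the local rings -/
theorem isWeakAssPoint_structureModule_iff (x : X) :
    Curv2.IsWeakAssPoint (Coh.structureModule X) x ↔
      IsAssociatedPrime (IsLocalRing.maximalIdeal (X.presheaf.stalk x)) (X.presheaf.stalk x) :=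
  (isAssPoint_iff_isWeakAssPoint (Coh.structureModule X) x).symm.trans
    (isAssPoint_structureModule_iff X x)

end Groth.Agent.Lib.Helper64.AssReg
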