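import Groth.Agent.Lib.Helper64.DepthOne
import Groth.Agent.S10957

set_option autoImplicit false
universe u
open LocCoh IsLocalRing Pointwise

/-!
# Normal + depth one ⇒ DVR (helper64); uses helper76's S10957.
-/

namespace Groth.Agent.Lib.Helper64.DepthOne

/-- A normal Noetherian local domain of depth `1` is a discrete valuation ring. -/
theorem isDiscreteValuationRing_of_depth_eq_one (A : Type u) [CommRing A] [IsDomain A]
    [IsNoetherianRing A] [IsLocalRing A] [IsIntegrallyClosed A] (h : LocCoh.depth A A = 1) :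
    IsDiscreteValuationRing A := by
  have h1 : (1 : ℕ∞) ≤ idealDepth (maximalIdeal A) A := by
    unfold LocCoh.depth at h; rw [h]
  have hIM : maximalIdeal A • (⊤ : Submodule A A) ≠ ⊤ := by
    rw [smul_eq_mul, Ideal.mul_top]
    exact (maximalIdeal.isMaximal A).ne_top
  rcases (Helper67.one_le_idealDepth_iff _ _).mp h1 with h2 | ⟨r, hrm, hreg⟩
  · exact absurd h2 hIM
  have hr0 : r ≠ 0 := by
    rintro rfl
    have := hreg (show (0 : A) • (1 : A) = (0 : A) • (0 : A) by simp)
    exact one_ne_zero this
  have key := Helper67.idealDepth_quotSMulTop_add_one (maximalIdeal A) A hIM r hrm hreg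
  have h0 : LocCoh.depth A (QuotSMulTop r A) = 0 := by
    unfold LocCoh.depth at h ⊢
    rw [h] at key
    have : idealDepth (maximalIdeal A) (QuotSMulTop r A) + 1 = 0 + 1 := by rw [key, zero_add]
    exact (ENat.add_left_injective_of_ne_top ENat.one_ne_top) this
  rw [Helper67.depth_eq_zero_iff] at h0
  refine Groth.Agent.S10957.result A r hr0 ?_
  have heq : (r • (⊤ : Submodule A A)) = Ideal.span ({r} : Set A) := by
    ext a
    rw [Submodule.mem_smul_pointwise_iff_exists, Ideal.mem_span_singleton']
    constructor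
    · rintro ⟨c, -, hc⟩
      exact ⟨c, by rw [mul_comm]; exact hc⟩
    · rintro ⟨c, hc⟩
      exact ⟨c, trivial, by rw [smul_eq_mul, mul_comm]; exact hc⟩
  have e : QuotSMulTop r A ≃ₗ[A] (A ⧸ Ideal.span ({r} : Set A)) := Submodule.quotEquivOfEq _ _ heq
  rw [← LinearEquiv.AssociatedPrimes.eq e]
  exact h0

end Groth.Agent.Lib.Helper64.DepthOne
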