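import Groth.Agent.Lib.Helper64.DepthOneNormal
import Groth.Agent.S2876

/-!
# Local effectivity criteria for Cartier divisors and orders at DVR stalks (helper64)
-/

set_option autoImplicit false
set_option linter.style.haveILetI false
universe u

namespace Groth.Agent.Lib.Helper64.CDivLocal

open AlgebraicGeometry CategoryTheory TopologicalSpace IsLocalRing CDiv
open Groth.Agent.Lib.Helper64.CDivLib Groth.Agent.Lib.Helper64.DepthOne

variable {X : Scheme.{u}} [IsIntegral X] [IsLocallyNoetherian X]

/-- local form of S2874(a): effectivity at `x` can be tested at the depth-one generizations of `x` -/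
theorem isEffectiveAt_of_forall_depth_one (D : CDiv.Divisor X) (x : X)
    (h : ∀ z : X, z ⤳ x → LocCoh.depth (X.presheaf.stalk z) (X.presheaf.stalk z) = 1 →
      CDiv.IsEffectiveAt D z) : CDiv.IsEffectiveAt D x := by
  by_contra hx
  obtain ⟨z, hzS, hzx, hzmax⟩ :=
    exists_maximal_generization_mem {y : X | ¬ CDiv.IsEffectiveAt D y} x hx
  obtain ⟨U, f, hzU, hU⟩ := D.2 z
  apply hzS
  apply h z hzx
  refine depth_stalk_eq_one z (f : X.functionField) ?_ ?_
  · intro hmem
    exact hzS (Groth.Agent.S2876.isEffectiveAt_of_coe_mem_range D z f (hU z hzU) hmem)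
  · intro z' hz' hne
    have hz'U : z' ∈ U := hz'.mem_open U.isOpen hzU
    have heff : CDiv.IsEffectiveAt D z' := by
      by_contra hcon
      exact hne (hzmax z' hcon hz')
    exact Groth.Agent.S2876.coe_mem_range_of_isEffectiveAt D z' f (hU z' hz'U) heff

/-- local form of S2876(a): on a normal scheme effectivity at `x` can be tested through the orders
at the codimension-one generizations of `x` -/
theorem isEffectiveAt_of_forall_ord_nonneg (hX : Pi1.IsNormalScheme X) (D : CDiv.Divisor X) (x : X)
    (h : ∀ z : X, z ⤳ x → Order.coheight z = 1 → ∀ f : CDiv.KUnits X,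
      D.1 z = CDiv.germOf X z f → 0 ≤ Scheme.ord (f : X.functionField) z) :
    CDiv.IsEffectiveAt D x := by
  refine isEffectiveAt_of_forall_depth_one D x fun z hzx hdepth => ?_
  obtain ⟨hdvr, hz⟩ := Groth.Agent.S2876.dvr_of_depth_one hX z hdepth
  obtain ⟨U, f, hzU, hU⟩ := D.2 z
  exact Groth.Agent.S2876.isEffectiveAt_of_coe_mem_range D z f (hU z hzU)
    (Groth.Agent.S2876.mem_range_of_ord_nonneg hdvr hz f (h z hzx hz f (hU z hzU)))

/-- (O1) on a normal scheme the local ring at a codimension-one point is a DVR -/
theorem dvr_of_coheight_one (hX : Pi1.IsNormalScheme X) (z : X) (hz : Order.coheight z = 1) :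
    IsDiscreteValuationRing (X.presheaf.stalk z) := by
  haveI : IsIntegrallyClosed (X.presheaf.stalk z) := (hX z).2
  have hdim : ringKrullDim (X.presheaf.stalk z) = 1 := by
    rw [AlgebraicGeometry.ringKrullDim_stalk_eq_coheight, hz]; rfl
  haveI : Ring.KrullDimLE 1 (X.presheaf.stalk z) := Ring.krullDimLE_iff.mpr hdim.le
  haveI : Ring.DimensionLEOne (X.presheaf.stalk z) :=
    ⟨fun hp hprime => hprime.isMaximal_of_ne_bot hp⟩
  haveI : IsDedekindDomain (X.presheaf.stalk z) := {}
  have hnf : ¬ IsField (X.presheaf.stalk z) := by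
    intro hf
    letI := hf.toField
    rw [ringKrullDim_eq_zero_of_field] at hdim
    exact zero_ne_one hdim
  exact ((IsDiscreteValuationRing.TFAE (X.presheaf.stalk z) hnf).out 2 0).mp ‹_›

/-- (O5) units of the local ring have order zero -/
theorem ord_eq_zero_of_mem_stalkUnits {z : X} (f : KUnits X)
    (hf : f ∈ stalkUnits X z) : Scheme.ord (f : X.functionField) z = 0 := by
  by_cases hz : Order.coheight z = 1
  · obtain ⟨u, hu⟩ := (mem_stalkUnits_iff z f).mp hf
    rw [Scheme.ord_eq_iff hz f.ne_zero]
    haveI : Ring.KrullDimLE 1 (X.presheaf.stalk z) := krullDimLE_of_coheight_le hz.le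
    have h1 : Ring.ordFrac (X.presheaf.stalk z)
        (algebraMap (X.presheaf.stalk z) X.functionField u) = 1 := Ring.ordFrac_of_isUnit u.isUnit
    rw [hu] at h1
    have h' : Scheme.ordHom z hz (f : X.functionField) = 1 := h1
    simpa using h'
  · exact Scheme.ord_eq_zero_of_coheight_neq_one hz _

/-- (O3) nonzero elements of the maximal ideal of a DVR stalk have positive order -/
theorem one_le_ord_of_mem_maximalIdeal {z : X} (hdvr : IsDiscreteValuationRing (X.presheaf.stalk z))
    (hz : Order.coheight z = 1) (f : KUnits X)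
    (hf : (f : X.functionField) ∈ algebraMap (X.presheaf.stalk z) X.functionField ''
      (maximalIdeal (X.presheaf.stalk z))) : 1 ≤ Scheme.ord (f : X.functionField) z := by
  obtain ⟨c, hc, hcf⟩ := hf
  have h0 : 0 ≤ Scheme.ord (f : X.functionField) z :=
    Groth.Agent.S2876.ord_nonneg_of_mem_range hz f ⟨c, hcf⟩
  have hne : Scheme.ord (f : X.functionField) z ≠ 0 := by
    intro h
    have hu := Groth.Agent.S2876.mem_stalkUnits_of_ord_eq_zero hdvr hz f h
    obtain ⟨u, hu⟩ := (mem_stalkUnits_iff z f).mp hu
    have : (u : X.presheaf.stalk z) = c :=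
      IsFractionRing.injective (X.presheaf.stalk z) X.functionField (hu.trans hcf.symm)
    exact (mem_maximalIdeal c).mp hc (this ▸ u.isUnit)
  omega

/-- (O4) regular functions of positive order lie in the maximal ideal -/
theorem mem_image_maximalIdeal_of_one_le_ord {z : X} (f : KUnits X)
    (hf : (f : X.functionField) ∈ Set.range (algebraMap (X.presheaf.stalk z) X.functionField))
    (hord : 1 ≤ Scheme.ord (f : X.functionField) z) :
    (f : X.functionField) ∈ algebraMap (X.presheaf.stalk z) X.functionField ''
      (maximalIdeal (X.presheaf.stalk z)) := by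
  obtain ⟨c, hc⟩ := hf
  refine ⟨c, ?_, hc⟩
  rw [SetLike.mem_coe, mem_maximalIdeal, mem_nonunits_iff]
  intro hu
  have : f ∈ stalkUnits X z := (mem_stalkUnits_iff z f).mpr ⟨hu.unit, by rw [hu.unit_spec]; exact hc⟩
  have := ord_eq_zero_of_mem_stalkUnits f this
  omega

/-- (O6) a generator of the maximal ideal of a DVR stalk has order one -/
theorem ord_eq_one_of_span_eq {z : X} (hdvr : IsDiscreteValuationRing (X.presheaf.stalk z))
    (hz : Order.coheight z = 1) (f : KUnits X) (π : X.presheaf.stalk z)
    (hπ : maximalIdeal (X.presheaf.stalk z) = Ideal.span {π})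
    (hf : algebraMap (X.presheaf.stalk z) X.functionField π = f) :
    Scheme.ord (f : X.functionField) z = 1 := by
  have hirr : Irreducible π := (IsDiscreteValuationRing.irreducible_iff_uniformizer π).mpr hπ
  rw [Scheme.ord_eq_iff hz f.ne_zero]
  have h1 : Ring.ordFrac (X.presheaf.stalk z)
      (algebraMap (X.presheaf.stalk z) X.functionField π) = WithZero.exp 1 :=
    Ring.ordFrac_irreducible hirr
  rw [hf] at h1
  have h' : Scheme.ordHom z hz (f : X.functionField) = WithZero.exp 1 := h1
  rw [h']
  rfl

end Groth.Agent.Lib.Helper64.CDivLocal
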