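import Mathlib
import Groth.Agent.Lib.Helper64.StalkIdeal
import Groth.Agent.Lib.Helper82.EffCartier
import Groth.Agent.Lib.Helper82.EffCartierStalk

set_option autoImplicit false
set_option linter.style.haveILetI false
universe u

namespace Groth.Agent.Lib.Helper64.EffCartierExtend

open AlgebraicGeometry CategoryTheory CategoryTheory.Limits TopologicalSpace IsLocalRing Opposite
open Groth.Agent.Lib.Helper64.StalkSpec Groth.Agent.Lib.Helper64.UfdPrincipal
open Groth.Agent.Lib.Helper64.StalkFrac Groth.Agent.Lib.Helper64.StalkIdeal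

variable {X : Scheme.{u}}

/-- The scheme-theoretic closure of a closed subscheme of an open `U` restricts to it on `U`. -/
theorem comap_map_ι (U : X.Opens) (D : (U : Scheme.{u}).IdealSheafData)
    [QuasiCompact (D.subschemeι ≫ U.ι)] : (D.map U.ι).comap U.ι = D := by
  apply Scheme.IdealSheafData.ext
  funext W
  rw [Scheme.IdealSheafData.ideal_comap_of_isOpenImmersion]
  have H : IsPullback D.subschemeι (𝟙 _) U.ι (D.subschemeι ≫ U.ι) :=
    IsPullback.of_vert_isIso_mono ⟨by simp⟩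
  have := Scheme.ker_ideal_of_isPullback_of_isOpenImmersion
    (D.subschemeι ≫ U.ι) D.subschemeι (𝟙 _) U.ι H W
  rw [D.ker_subschemeι] at this
  exact this.symm

/-- Pointwise version of `exists_stalkIdeal_eq_span_of_isEffCartier`. -/
theorem exists_stalkIdeal_eq_span_of_principal {𝓘 : X.IdealSheafData} (x : X)
    (h : ∃ U : X.affineOpens, x ∈ U.1 ∧
      ∃ f : Γ(X, U.1), f ∈ nonZeroDivisors Γ(X, U.1) ∧ 𝓘.ideal U = Ideal.span {f}) :
    ∃ g ∈ nonZeroDivisors (X.presheaf.stalk x), stalkIdeal 𝓘 x = Ideal.span {g} := by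
  obtain ⟨U, hxU, f, hf, hfI⟩ := h
  refine ⟨(X.presheaf.germ U.1 x hxU).hom f,
    Groth.Agent.Lib.Helper64.SubschemeStalk.germ_mem_nonZeroDivisors U.2 x hxU f hf, ?_⟩
  rw [stalkIdeal_eq 𝓘 U x hxU, hfI, Ideal.map_span, Set.image_singleton]

/-- If the restriction of `𝓘` to the open `U` is effective Cartier, then `𝓘` is locally principal
generated by a nonzerodivisor at all points of `U`. -/
theorem exists_principal_of_comap_ι (𝓘 : X.IdealSheafData) (U : X.Opens)
    (h : BlowUp.IsEffCartierIdeal (𝓘.comap U.ι)) (x : X) (hx : x ∈ U) :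
    ∃ V : X.affineOpens, x ∈ V.1 ∧
      ∃ f : Γ(X, V.1), f ∈ nonZeroDivisors Γ(X, V.1) ∧ 𝓘.ideal V = Ideal.span {f} := by
  obtain ⟨W, hxW, hW⟩ := h ⟨x, hx⟩
  refine ⟨⟨U.ι ''ᵁ W.1, W.2.image_of_isOpenImmersion U.ι⟩, ⟨⟨x, hx⟩, hxW, rfl⟩, ?_⟩
  rw [Scheme.IdealSheafData.ideal_comap_of_isOpenImmersion] at hW
  exact Groth.Agent.Lib.Helper82.IsPrincipalNZD.of_comap_iso_inv (U.ι.appIso W.1) hW

/-- If the image of `a` in the localization lies in the extension of `I`, then `s * a ∈ I` for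
some `s ∉ P`. -/
theorem exists_notMem_mul_mem {A : Type*} [CommRing A] (P : Ideal A) [P.IsPrime]
    (S : Type*) [CommRing S] [Algebra A S] [IsLocalization.AtPrime S P] (I : Ideal A) (a : A)
    (h : algebraMap A S a ∈ I.map (algebraMap A S)) : ∃ s : A, s ∉ P ∧ s * a ∈ I := by
  rw [IsLocalization.mem_map_algebraMap_iff P.primeCompl] at h
  obtain ⟨⟨⟨j, hj⟩, s⟩, hjs⟩ := h
  simp only at hjs
  rw [← map_mul, IsLocalization.eq_iff_exists P.primeCompl] at hjs
  obtain ⟨s', hs'⟩ := hjs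
  refine ⟨s'.1 * s.1, fun hmem => ?_, ?_⟩
  · rcases Ideal.IsPrime.mem_or_mem ‹P.IsPrime› hmem with h1 | h1
    · exact s'.2 h1
    · exact s.2 h1
  · have : s'.1 * s.1 * a = s'.1 * j := by rw [← hs']; ring
    rw [this]
    exact Ideal.mul_mem_left _ _ hj

/-- The scheme-theoretic closure in `X` of a closed subscheme of an open `U` has no embedded
points outside `U`. -/
theorem mem_stalkIdeal_map_ι [IsLocallyNoetherian X] (U : X.Opens)
    (D : (U : Scheme.{u}).IdealSheafData) (x : X) (hx : x ∉ U) (r : X.presheaf.stalk x)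
    (hr : ∀ t ∈ maximalIdeal (X.presheaf.stalk x), ∃ n : ℕ, t ^ n * r ∈ stalkIdeal (D.map U.ι) x) :
    r ∈ stalkIdeal (D.map U.ι) x := by
  classical
  obtain ⟨V, hxV⟩ := exists_affine_nhd x
  have hV : IsAffineOpen V.1 := V.2
  haveI : IsNoetherianRing Γ(X, V.1) := IsLocallyNoetherian.component_noetherian V
  letI : Algebra Γ(X, V.1) (X.presheaf.stalk x) :=
    TopCat.Presheaf.algebra_section_stalk X.presheaf ⟨x, hxV⟩
  haveI : IsLocalization.AtPrime (X.presheaf.stalk x) (pr hV x hxV) :=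
    hV.isLocalization_stalk ⟨x, hxV⟩
  have halg : ∀ a, algebraMap Γ(X, V.1) (X.presheaf.stalk x) a = (X.presheaf.germ V.1 x hxV).hom a :=
    fun a => rfl
  set j : D.subscheme ⟶ X := D.subschemeι ≫ U.ι with hj
  have hker : (D.map U.ι).ideal V = RingHom.ker (j.app V.1).hom := Scheme.Hom.ker_apply j V
  rw [stalkIdeal_eq _ V x hxV] at hr ⊢
  -- reduce to `r` the germ of a section
  obtain ⟨⟨β, s₀⟩, hβ⟩ := IsLocalization.surj (pr hV x hxV).primeCompl r
  simp only at hβ
  have hs₀ : IsUnit (algebraMap Γ(X, V.1) (X.presheaf.stalk x) s₀.1) :=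
    IsLocalization.map_units _ s₀
  rw [← Ideal.mul_unit_mem_iff_mem _ hs₀, hβ]
  have hr' : ∀ t ∈ maximalIdeal (X.presheaf.stalk x), ∃ n : ℕ,
      t ^ n * algebraMap Γ(X, V.1) (X.presheaf.stalk x) β ∈
        ((D.map U.ι).ideal V).map (X.presheaf.germ V.1 x hxV).hom := by
    intro t ht
    obtain ⟨n, hn⟩ := hr t ht
    refine ⟨n, ?_⟩
    rw [← hβ, ← mul_assoc]
    exact Ideal.mul_mem_right _ _ hn
  -- generators of the prime
  obtain ⟨T, hT⟩ := (isNoetherianRing_iff_ideal_fg _).mp ‹IsNoetherianRing Γ(X, V.1)› (pr hV x hxV)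
  have hTP : ∀ τ ∈ T, τ ∈ pr hV x hxV := fun τ hτ => hT ▸ Ideal.subset_span hτ
  have hstep : ∀ τ ∈ T, ∃ (n : ℕ) (s : Γ(X, V.1)), s ∉ pr hV x hxV ∧
      s * (τ ^ n * β) ∈ (D.map U.ι).ideal V := by
    intro τ hτ
    have hτm : algebraMap Γ(X, V.1) (X.presheaf.stalk x) τ ∈ maximalIdeal (X.presheaf.stalk x) :=
      (IsLocalization.AtPrime.to_map_mem_maximal_iff (X.presheaf.stalk x) (pr hV x hxV) τ).mpr
        (hTP τ hτ)
    obtain ⟨n, hn⟩ := hr' _ hτm
    rw [← map_pow, ← map_mul] at hn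
    obtain ⟨s, hs, hsm⟩ := exists_notMem_mul_mem (pr hV x hxV) (X.presheaf.stalk x) _ _ hn
    exact ⟨n, s, hs, hsm⟩
  choose! n s hs hsm using hstep
  set σ : Γ(X, V.1) := ∏ τ ∈ T, s τ with hσ
  have hσP : σ ∉ pr hV x hxV := by
    rw [hσ]
    intro hmem
    obtain ⟨τ, hτ, hτm⟩ := (Ideal.IsPrime.prod_mem_iff).mp hmem
    exact hs τ hτ hτm
  have hσm : ∀ τ ∈ T, σ * (τ ^ n τ * β) ∈ (D.map U.ι).ideal V := by
    intro τ hτ
    have : σ = (∏ τ' ∈ T.erase τ, s τ') * s τ := by
      rw [hσ, ← Finset.prod_erase_mul T s hτ]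
    rw [this, mul_assoc]
    exact Ideal.mul_mem_left _ _ (hsm τ hτ)
  -- the key claim
  have hclaim : σ * β ∈ (D.map U.ι).ideal V := by
    rw [hker, RingHom.mem_ker]
    apply TopCat.Presheaf.section_ext D.subscheme.sheaf (j ⁻¹ᵁ V.1)
    intro y hy
    show (D.subscheme.presheaf.germ (j ⁻¹ᵁ V.1) y hy).hom ((j.app V.1).hom (σ * β)) =
      (D.subscheme.presheaf.germ (j ⁻¹ᵁ V.1) y hy).hom 0
    rw [map_zero]
    have hwV : j y ∈ V.1 := hy
    have hwU : j y ∈ U := by
      rw [hj, Scheme.Hom.comp_apply]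
      exact (D.subschemeι y).2
    -- some generator is not in the prime of `j y`
    have hex : ∃ τ ∈ T, τ ∉ pr hV (j y) hwV := by
      by_contra hcon
      push Not at hcon
      have hle : pr hV x hxV ≤ pr hV (j y) hwV := by
        rw [← hT, Ideal.span_le]
        exact fun τ hτ => hcon τ hτ
      have hsp : x ⤳ j y := (specializes_iff_le hV (j y) x hwV hxV).mpr hle
      exact hx (hsp.mem_open U.isOpen hwU)
    obtain ⟨τ, hτ, hτw⟩ := hex
    have hunit : IsUnit ((X.presheaf.germ V.1 (j y) hwV).hom τ) :=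
      (X.mem_basicOpen τ (j y) hwV).mp ((not_mem_pr_iff hV (j y) hwV τ).mp hτw)
    have hunit' : IsUnit ((D.subscheme.presheaf.germ (j ⁻¹ᵁ V.1) y hy).hom ((j.app V.1).hom τ)) := by
      have := hunit.map (j.stalkMap y).hom
      rwa [Scheme.Hom.germ_stalkMap_apply] at this
    have hzero : (j.app V.1).hom (σ * (τ ^ n τ * β)) = 0 := by
      have := hσm τ hτ
      rwa [hker, RingHom.mem_ker] at this
    have h2 : (D.subscheme.presheaf.germ (j ⁻¹ᵁ V.1) y hy).hom ((j.app V.1).hom τ) ^ n τ *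
        (D.subscheme.presheaf.germ (j ⁻¹ᵁ V.1) y hy).hom ((j.app V.1).hom (σ * β)) = 0 := by
      rw [← map_pow, ← map_pow, ← map_mul, ← map_mul]
      have : τ ^ n τ * (σ * β) = σ * (τ ^ n τ * β) := by ring
      rw [this, hzero, map_zero]
    exact (hunit'.pow (n τ)).mul_right_eq_zero.mp h2
  have := Ideal.mem_map_of_mem (X.presheaf.germ V.1 x hxV).hom hclaim
  rw [map_mul] at this
  have hσu : IsUnit ((X.presheaf.germ V.1 x hxV).hom σ) :=
    (X.mem_basicOpen σ x hxV).mp ((not_mem_pr_iff hV x hxV σ).mp hσP)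
  exact (Ideal.unit_mul_mem_iff_mem _ hσu).mp this

/-- In a local UFD, if the maximal ideal is (up to radical) the annihilator of a nonzero element
of `B/(g)` with `g ≠ 0`, then the maximal ideal is generated by a prime element. -/
theorem exists_prime_maximalIdeal_eq_span {B : Type*} [CommRing B] [IsDomain B] [IsLocalRing B]
    [UniqueFactorizationMonoid B] (g : B) (hg : g ≠ 0) (r : B) (hr : r ∉ Ideal.span {g})
    (h : ∀ t ∈ maximalIdeal B, ∃ n : ℕ, t ^ n * r ∈ Ideal.span {g}) :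
    ∃ p : B, Prime p ∧ maximalIdeal B = Ideal.span {p} := by
  revert hg r
  refine UniqueFactorizationMonoid.induction_on_prime
    (P := fun g => g ≠ 0 → ∀ r, r ∉ Ideal.span {g} →
      (∀ t ∈ maximalIdeal B, ∃ n : ℕ, t ^ n * r ∈ Ideal.span {g}) →
      ∃ p : B, Prime p ∧ maximalIdeal B = Ideal.span {p}) g ?_ ?_ ?_
  · intro h0; exact absurd rfl h0
  · intro x hx _ r hr _
    exact absurd (by rw [Ideal.span_singleton_eq_top.mpr hx]; trivial) hr
  · intro a p ha hp ih _ r hr h
    by_cases hpr : p ∣ r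
    · obtain ⟨r₁, rfl⟩ := hpr
      apply ih ha r₁
      · intro hmem
        apply hr
        obtain ⟨c, hc⟩ := Ideal.mem_span_singleton'.mp hmem
        exact Ideal.mem_span_singleton'.mpr ⟨c, by rw [← hc]; ring⟩
      · intro t ht
        obtain ⟨n, hn⟩ := h t ht
        refine ⟨n, ?_⟩
        obtain ⟨c, hc⟩ := Ideal.mem_span_singleton'.mp hn
        refine Ideal.mem_span_singleton'.mpr ⟨c, ?_⟩
        apply mul_left_cancel₀ hp.ne_zero
        rw [← mul_assoc, mul_comm p c, mul_assoc, hc]; ring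
    · refine ⟨p, hp, le_antisymm ?_ ?_⟩
      · intro t ht
        obtain ⟨n, hn⟩ := h t ht
        rw [Ideal.mem_span_singleton] at hn ⊢
        have h1 : p ∣ t ^ n * r := (dvd_mul_right p a).trans hn
        rcases hp.dvd_or_dvd h1 with h2 | h2
        · exact hp.dvd_of_dvd_pow h2
        · exact absurd h2 hpr
      · rw [Ideal.span_le, Set.singleton_subset_iff]
        exact (mem_maximalIdeal _).mpr hp.not_isUnit

theorem ringKrullDim_eq_one_of_maximalIdeal_eq_span {B : Type*} [CommRing B] [IsDomain B]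
    [IsLocalRing B] [IsNoetherianRing B] (p : B) (hp : p ≠ 0)
    (h : maximalIdeal B = Ideal.span {p}) : ringKrullDim B = 1 := by
  rw [← IsLocalRing.maximalIdeal_height_eq_ringKrullDim]
  have hle : (maximalIdeal B).height ≤ 1 := by
    apply Ideal.height_le_one_of_isPrincipal_of_mem_minimalPrimes (Ideal.span {p})
    rw [← h, Ideal.minimalPrimes_eq_subsingleton_self]
    rfl
  have hge : 1 ≤ (maximalIdeal B).height := by
    rw [h]
    exact Ideal.one_le_height_span_singleton_of_mem_nonZeroDivisors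
      (mem_nonZeroDivisors_of_ne_zero hp)
  rw [le_antisymm hle hge]
  rfl

/-- Associated primes of `O_{X,x}/𝓘_x` have height one, provided that points `ζ ⤳ x` at which
`𝓘` has an "embedded point" have one-dimensional local rings. -/
theorem height_eq_one_of_mem_associatedPrimes [IsLocallyNoetherian X] (𝓘 : X.IdealSheafData)
    (x : X)
    (ha : ∀ (ζ : X) (_ : ζ ⤳ x) (r : X.presheaf.stalk ζ), r ∉ stalkIdeal 𝓘 ζ →
      (∀ t ∈ maximalIdeal (X.presheaf.stalk ζ), ∃ n : ℕ, t ^ n * r ∈ stalkIdeal 𝓘 ζ) →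
      ringKrullDim (X.presheaf.stalk ζ) = 1)
    (P : Ideal (X.presheaf.stalk x))
    (hP : P ∈ associatedPrimes (X.presheaf.stalk x) (X.presheaf.stalk x ⧸ stalkIdeal 𝓘 x)) :
    P.height = 1 := by
  obtain ⟨hPprime, rbar, hrbar⟩ := isAssociatedPrime_iff.mp hP
  obtain ⟨r, rfl⟩ := Ideal.Quotient.mk_surjective rbar
  have hcolon : ∀ a : X.presheaf.stalk x, a ∈ P ↔ a * r ∈ stalkIdeal 𝓘 x := by
    intro a
    rw [hrbar, Submodule.mem_colon_singleton, Submodule.mem_bot]
    rw [show a • (Ideal.Quotient.mk _ r : X.presheaf.stalk x ⧸ stalkIdeal 𝓘 x) =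
      Ideal.Quotient.mk _ (a * r) from rfl, Ideal.Quotient.eq_zero_iff_mem]
  obtain ⟨ζ, hζ, rfl⟩ := exists_specializes_primeOf_eq x P
  letI : Algebra (X.presheaf.stalk x) (X.presheaf.stalk ζ) :=
    (X.presheaf.stalkSpecializes hζ).hom.toAlgebra
  haveI := isLocalization_stalkSpecializes hζ
  have halg : ∀ a, algebraMap (X.presheaf.stalk x) (X.presheaf.stalk ζ) a =
      (X.presheaf.stalkSpecializes hζ).hom a := fun a => rfl
  have hmap : stalkIdeal 𝓘 ζ =
      (stalkIdeal 𝓘 x).map (algebraMap (X.presheaf.stalk x) (X.presheaf.stalk ζ)) :=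
    (stalkIdeal_map_stalkSpecializes 𝓘 hζ).symm
  have hdim := ha ζ hζ (algebraMap _ _ r) ?_ ?_
  · rw [ringKrullDim_stalk_eq_height_primeOf hζ] at hdim
    exact_mod_cast hdim
  · intro hmem
    rw [hmap] at hmem
    obtain ⟨s, hs, hsr⟩ := exists_notMem_mul_mem (primeOf hζ) (X.presheaf.stalk ζ) _ _ hmem
    exact hs ((hcolon s).mpr hsr)
  · intro t ht
    refine ⟨1, ?_⟩
    rw [pow_one]
    obtain ⟨⟨a, s⟩, has⟩ := IsLocalization.surj (primeOf hζ).primeCompl t
    simp only at has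
    have hsu : IsUnit (algebraMap (X.presheaf.stalk x) (X.presheaf.stalk ζ) s.1) :=
      IsLocalization.map_units (X.presheaf.stalk ζ) s
    have haP : a ∈ primeOf hζ := by
      show (X.presheaf.stalkSpecializes hζ).hom a ∈ maximalIdeal _
      rw [← halg, ← has]
      exact Ideal.mul_mem_right _ _ ht
    have har := (hcolon a).mp haP
    have h1 : algebraMap (X.presheaf.stalk x) (X.presheaf.stalk ζ) (a * r) ∈ stalkIdeal 𝓘 ζ := by
      rw [hmap]; exact Ideal.mem_map_of_mem _ har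
    rw [map_mul, ← has, mul_assoc, mul_comm _ (algebraMap _ _ r), ← mul_assoc] at h1
    exact (Ideal.mul_unit_mem_iff_mem _ hsu).mp h1

theorem exists_stalkIdeal_eq_span_of_ufd [IsLocallyNoetherian X] (𝓘 : X.IdealSheafData) (x : X)
    [IsDomain (X.presheaf.stalk x)] [UniqueFactorizationMonoid (X.presheaf.stalk x)]
    (ha : ∀ (ζ : X) (_ : ζ ⤳ x) (r : X.presheaf.stalk ζ), r ∉ stalkIdeal 𝓘 ζ →
      (∀ t ∈ maximalIdeal (X.presheaf.stalk ζ), ∃ n : ℕ, t ^ n * r ∈ stalkIdeal 𝓘 ζ) →
      ringKrullDim (X.presheaf.stalk ζ) = 1) :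
    ∃ g : X.presheaf.stalk x, g ≠ 0 ∧ stalkIdeal 𝓘 x = Ideal.span {g} := by
  have hht := height_eq_one_of_mem_associatedPrimes 𝓘 x ha
  apply exists_span_singleton_of_ufd
  · intro P hP
    haveI : P.IsPrime := hP.isPrime
    have hJP : stalkIdeal 𝓘 x ≤ P := by
      have h1 : Module.annihilator (X.presheaf.stalk x)
          (X.presheaf.stalk x ⧸ stalkIdeal 𝓘 x) ≤ P := by
        have := IsAssociatedPrime.annihilator_le hP
        rwa [Submodule.annihilator_top] at this
      rwa [Ideal.annihilator_quotient] at h1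
    refine ⟨⟨inferInstance, hJP⟩, ?_⟩
    rintro Q ⟨hQprime, hJQ⟩ hQP
    by_contra hnot
    have hlt : Q < P := lt_of_le_not_ge hQP hnot
    haveI := hQprime
    have h1 : Q.height < P.height := Ideal.height_strict_mono_of_isPrime hlt
    rw [hht P hP, Order.lt_one_iff, Ideal.height_eq_zero_iff_eq_bot] at h1
    subst h1
    have hJ : stalkIdeal 𝓘 x = ⊥ := le_bot_iff.mp hJQ
    -- then `P = ⊥`
    obtain ⟨-, rbar, hrbar⟩ := isAssociatedPrime_iff.mp hP
    obtain ⟨r, rfl⟩ := Ideal.Quotient.mk_surjective rbar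
    have hr0 : r ≠ 0 := by
      rintro rfl
      apply (Ideal.IsPrime.ne_top ‹P.IsPrime›)
      rw [hrbar, map_zero]
      ext a; simp
    apply hnot
    intro a haP
    rw [hrbar, Submodule.mem_colon_singleton, Submodule.mem_bot] at haP
    rw [show a • (Ideal.Quotient.mk _ r : X.presheaf.stalk x ⧸ stalkIdeal 𝓘 x) =
      Ideal.Quotient.mk _ (a * r) from rfl, Ideal.Quotient.eq_zero_iff_mem, hJ, Ideal.mem_bot] at haP
    rcases mul_eq_zero.mp haP with h | h
    · rw [h]; exact zero_mem _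
    · exact absurd h hr0
  · intro P hP
    apply hht
    have := Module.associatedPrimes.minimalPrimes_annihilator_subset_associatedPrimes
      (X.presheaf.stalk x) (X.presheaf.stalk x ⧸ stalkIdeal 𝓘 x)
    rw [Ideal.annihilator_quotient] at this
    exact this hP

/-- **Stacks 0BCV-type statement**: an effective Cartier divisor on an open `U` of a locally
Noetherian scheme extends to an effective Cartier divisor on `X` (namely its scheme-theoretic
closure) if the local rings at the points outside `U` are UFDs. -/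
theorem exists_effCartier_extension (X : Scheme.{u}) [IsLocallyNoetherian X] (U : X.Opens)
    (D : (U : Scheme.{u}).IdealSheafData) (hD : BlowUp.IsEffCartierIdeal D)
    (hufd : ∀ x : X, x ∉ U →
      IsDomain (X.presheaf.stalk x) ∧ UniqueFactorizationMonoid (X.presheaf.stalk x)) :
    ∃ D' : X.IdealSheafData, BlowUp.IsEffCartierIdeal D' ∧ D'.comap U.ι = D := by
  haveI : QuasiCompact (D.subschemeι ≫ U.ι) := inferInstance
  have hcomap := comap_map_ι U D
  refine ⟨D.map U.ι, ?_, hcomap⟩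
  -- principal at points of `U`
  have hU : ∀ x ∈ U, ∃ g ∈ nonZeroDivisors (X.presheaf.stalk x),
      stalkIdeal (D.map U.ι) x = Ideal.span {g} := by
    intro x hx
    apply exists_stalkIdeal_eq_span_of_principal
    apply exists_principal_of_comap_ι (D.map U.ι) U _ x hx
    rw [hcomap]; exact hD
  apply Groth.Agent.Lib.Helper82.isEffCartierIdeal_of_stalk_principal
  intro x _ V hxV
  rw [← stalkIdeal_eq _ V x hxV]
  by_cases hxU : x ∈ U
  · exact hU x hxU
  · obtain ⟨hdom, hufdx⟩ := hufd x hxU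
    have hcrit : ∀ (ζ : X) (_ : ζ ⤳ x) (r : X.presheaf.stalk ζ), r ∉ stalkIdeal (D.map U.ι) ζ →
        (∀ t ∈ maximalIdeal (X.presheaf.stalk ζ), ∃ n : ℕ,
          t ^ n * r ∈ stalkIdeal (D.map U.ι) ζ) →
        ringKrullDim (X.presheaf.stalk ζ) = 1 := by
      intro ζ hζ r hr hrad
      by_cases hζU : ζ ∈ U
      · obtain ⟨g, hg, hgD⟩ := hU ζ hζU
        letI : Algebra (X.presheaf.stalk x) (X.presheaf.stalk ζ) :=
          (X.presheaf.stalkSpecializes hζ).hom.toAlgebra
        haveI := isLocalization_stalkSpecializes hζ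
        haveI : IsDomain (X.presheaf.stalk ζ) := isDomain_of_specializes hζ
        haveI : UniqueFactorizationMonoid (X.presheaf.stalk ζ) :=
          UniqueFactorizationMonoid.of_isLocalization (primeOf hζ).primeCompl _
        rw [hgD] at hr hrad
        obtain ⟨p, hp, hm⟩ :=
          exists_prime_maximalIdeal_eq_span g (nonZeroDivisors.ne_zero hg) r hr hrad
        exact ringKrullDim_eq_one_of_maximalIdeal_eq_span p hp.ne_zero hm
      · exact absurd (mem_stalkIdeal_map_ι U D ζ hζU r hrad) hr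
    obtain ⟨g, hg0, hg⟩ := exists_stalkIdeal_eq_span_of_ufd (D.map U.ι) x hcrit
    exact ⟨g, mem_nonZeroDivisors_of_ne_zero hg0, hg⟩

end Groth.Agent.Lib.Helper64.EffCartierExtend
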