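import Mathlib
import Groth.Agent.Lib.Helper64.EffCartierExtend

set_option autoImplicit false
set_option linter.style.haveILetI false
universe u

namespace Groth.Agent.Lib.Helper64.CartierProp

open AlgebraicGeometry CategoryTheory TopologicalSpace IsLocalRing Opposite
open Groth.Agent.Lib.Helper64.StalkIdeal

/-- proportionality of pairs of natural numbers -/
def Prop2 (p q : ℕ × ℕ) : Prop := p.1 * q.2 = q.1 * p.2

theorem Prop2.symm {p q : ℕ × ℕ} (h : Prop2 p q) : Prop2 q p := Eq.symm h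

theorem Prop2.refl (p : ℕ × ℕ) : Prop2 p p := rfl

theorem Prop2.trans {p q r : ℕ × ℕ} (hq : q ≠ (0, 0)) (h1 : Prop2 p q) (h2 : Prop2 q r) :
    Prop2 p r := by
  obtain ⟨m, n⟩ := p
  obtain ⟨m', n'⟩ := q
  obtain ⟨m'', n''⟩ := r
  simp only [Prop2] at *
  by_cases hn' : n' = 0
  · subst hn'
    have hm' : m' ≠ 0 := fun h => hq (by rw [h])
    have hn : n = 0 := by
      have : m' * n = 0 := by rw [← h1]; ring
      exact (mul_eq_zero.mp this).resolve_left hm'
    have hn'' : n'' = 0 := by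
      have : m' * n'' = 0 := by rw [h2]; ring
      exact (mul_eq_zero.mp this).resolve_left hm'
    rw [hn, hn'']; ring
  · apply Nat.eq_of_mul_eq_mul_right (Nat.pos_of_ne_zero hn')
    calc m * n'' * n' = (m * n') * n'' := by ring
      _ = (m' * n) * n'' := by rw [h1]
      _ = (m' * n'') * n := by ring
      _ = (m'' * n') * n := by rw [h2]
      _ = m'' * n * n' := by ring

/-- two nonzero proportional pairs have a common nonzero multiple -/
theorem Prop2.exists_common_multiple {p q : ℕ × ℕ} (hp : p ≠ (0, 0)) (hq : q ≠ (0, 0))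
    (h : Prop2 p q) : ∃ (P : ℕ × ℕ) (a b : ℕ), P ≠ (0, 0) ∧ P = (a * p.1, a * p.2) ∧
      P = (b * q.1, b * q.2) ∧ Prop2 P p := by
  obtain ⟨M, N⟩ := p
  obtain ⟨m, n⟩ := q
  simp only [Prop2] at *
  by_cases hm : m = 0
  · subst hm
    have hn : n ≠ 0 := fun h' => hq (by rw [h'])
    have hM : M = 0 := by
      have : M * n = 0 := by rw [h]; ring
      exact (mul_eq_zero.mp this).resolve_right hn
    subst hM
    have hN : N ≠ 0 := fun h' => hp (by rw [h'])
    refine ⟨(0, n * N), n, N, ?_, by simp, by simp [mul_comm], by simp⟩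
    intro h0
    have := (Prod.mk.injEq _ _ _ _ ▸ h0).2
    exact (mul_ne_zero hn hN) this
  · have hM : M ≠ 0 := by
      intro hM
      subst hM
      have hN : N ≠ 0 := fun h' => hp (by rw [h'])
      have : m * N = 0 := by rw [← h]; ring
      exact hm ((mul_eq_zero.mp this).resolve_right hN)
    refine ⟨(m * M, m * N), m, M, ?_, rfl, ?_, ?_⟩
    · intro h0
      have := (Prod.mk.injEq _ _ _ _ ▸ h0).1
      exact (mul_ne_zero hm hM) this
    · rw [Prod.mk.injEq]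
      exact ⟨mul_comm _ _, by rw [h, mul_comm]⟩
    · show m * M * N = M * (m * N)
      ring

theorem pow_inj_of_nonunit_nzd {A : Type*} [CommRing A] (d : A) (hd : d ∈ nonZeroDivisors A)
    (hu : ¬ IsUnit d) {a b : ℕ} (h : Ideal.span {d} ^ a = Ideal.span {d} ^ b) : a = b := by
  have key : ∀ a b : ℕ, a ≤ b → Ideal.span {d} ^ a = Ideal.span {d} ^ b → a = b := by
    intro a b hab h
    rw [Ideal.span_singleton_pow, Ideal.span_singleton_pow] at h
    have hmem : d ^ a ∈ Ideal.span {d ^ b} := h ▸ Ideal.mem_span_singleton_self _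
    obtain ⟨c, hc⟩ := Ideal.mem_span_singleton'.mp hmem
    obtain ⟨k, rfl⟩ := Nat.exists_eq_add_of_le hab
    have h1 : (c * d ^ k) * d ^ a = 1 * d ^ a := by
      rw [one_mul]; conv_rhs => rw [← hc, pow_add]
      ring
    have h2 : c * d ^ k = 1 :=
      (mul_cancel_right_mem_nonZeroDivisors (Submonoid.pow_mem _ hd a)).mp h1
    by_contra hne
    have hk : k ≠ 0 := fun hk => hne (by rw [hk, add_zero])
    apply hu
    obtain ⟨k', rfl⟩ := Nat.exists_eq_succ_of_ne_zero hk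
    exact IsUnit.of_mul_eq_one (c * d ^ k') (by rw [← h2, pow_succ]; ring)
  rcases Nat.le_total a b with hab | hab
  · exact key a b hab h
  · exact (key b a hab h.symm).symm

theorem mul_eq_mul_of_pow_eq {A : Type*} [CommRing A] (I J : Ideal A) (d e : A)
    (hd : d ∈ nonZeroDivisors A) (he : e ∈ nonZeroDivisors A) (hI : I = Ideal.span {d})
    (hJ : J = Ideal.span {e}) (hne : I ≠ ⊤ ∨ J ≠ ⊤) {m n m' n' : ℕ}
    (h : I ^ m = J ^ n) (h' : I ^ m' = J ^ n') : m * n' = m' * n := by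
  rcases hne with hI' | hJ'
  · have hu : ¬ IsUnit d := by rwa [hI, Ne, Ideal.span_singleton_eq_top] at hI'
    apply pow_inj_of_nonunit_nzd d hd hu
    rw [← hI]
    calc I ^ (m * n') = (I ^ m) ^ n' := pow_mul _ _ _
      _ = (J ^ n) ^ n' := by rw [h]
      _ = (J ^ n') ^ n := by rw [← pow_mul, ← pow_mul, mul_comm]
      _ = (I ^ m') ^ n := by rw [h']
      _ = I ^ (m' * n) := (pow_mul _ _ _).symm
  · have hu : ¬ IsUnit e := by rwa [hJ, Ne, Ideal.span_singleton_eq_top] at hJ'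
    have : n * m' = n' * m := by
      apply pow_inj_of_nonunit_nzd e he hu
      rw [← hJ]
      calc J ^ (n * m') = (J ^ n) ^ m' := pow_mul _ _ _
        _ = (I ^ m) ^ m' := by rw [h]
        _ = (I ^ m') ^ m := by rw [← pow_mul, ← pow_mul, mul_comm]
        _ = (J ^ n') ^ m := by rw [h']
        _ = J ^ (n' * m) := (pow_mul _ _ _).symm
    rw [mul_comm m n', mul_comm m' n]; exact this.symm

/-- common multiple of a finite family of pairs proportional to a given one -/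
theorem exists_common_multiple_finset (t : Finset (ℕ × ℕ)) (p₀ : ℕ × ℕ) (hp₀ : p₀ ≠ (0, 0))
    (ht : ∀ p ∈ t, p ≠ (0, 0) ∧ Prop2 p p₀) :
    ∃ P : ℕ × ℕ, P ≠ (0, 0) ∧ Prop2 P p₀ ∧ ∀ p ∈ t, ∃ c : ℕ, P = (c * p.1, c * p.2) := by
  classical
  induction t using Finset.induction_on with
  | empty => exact ⟨p₀, hp₀, Prop2.refl _, fun p hp => absurd hp (Finset.notMem_empty p)⟩
  | insert q t hq ih =>
    obtain ⟨P, hP0, hPp₀, hP⟩ := ih fun p hp => ht p (Finset.mem_insert_of_mem hp)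
    obtain ⟨hq0, hqp₀⟩ := ht q (Finset.mem_insert_self q t)
    have hPq : Prop2 P q := Prop2.trans hp₀ hPp₀ hqp₀.symm
    obtain ⟨P', a, b, hP'0, hP'a, hP'b, hP'P⟩ := Prop2.exists_common_multiple hP0 hq0 hPq
    refine ⟨P', hP'0, Prop2.trans hP0 hP'P hPp₀, ?_⟩
    intro p hp
    rcases Finset.mem_insert.mp hp with rfl | hp
    · exact ⟨b, hP'b⟩
    · obtain ⟨c, hc⟩ := hP p hp
      refine ⟨a * c, ?_⟩
      rw [hP'a, hc]
      simp only [mul_assoc]

variable {X : Scheme.{u}}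

theorem exists_global_pow_eq [IsNoetherian X] (D E : X.IdealSheafData)
    (hD : BlowUp.IsEffCartierIdeal D) (hE : BlowUp.IsEffCartierIdeal E)
    (hconn : IsPreconnected ((D.support : Set X) ∪ (E.support : Set X)))
    (hloc : ∀ x : X, ∃ m n : ℕ, (m, n) ≠ (0, 0) ∧ stalkIdeal D x ^ m = stalkIdeal E x ^ n) :
    ∃ m n : ℕ, (m, n) ≠ (0, 0) ∧ D ^ m = E ^ n := by
  classical
  set S : Set X := (D.support : Set X) ∪ (E.support : Set X) with hSdef
  let G : ℕ × ℕ → Set X := fun p => {x | stalkIdeal D x ^ p.1 = stalkIdeal E x ^ p.2}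
  have hGopen : ∀ p, IsOpen (G p) := by
    intro p
    have h1 := isOpen_setOf_stalkIdeal_le (D ^ p.1) (E ^ p.2)
    have h2 := isOpen_setOf_stalkIdeal_le (E ^ p.2) (D ^ p.1)
    convert h1.inter h2 using 1
    ext x
    simp only [G, Set.mem_ofPred_eq, Set.mem_inter_iff, stalkIdeal_pow]
    exact le_antisymm_iff
  have hglobal : ∀ P : ℕ × ℕ, (∀ x, x ∈ G P) → D ^ P.1 = E ^ P.2 := by
    intro P hP
    apply le_antisymm
    · apply le_of_stalkIdeal_le
      intro x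
      rw [stalkIdeal_pow, stalkIdeal_pow]
      exact (hP x).le
    · apply le_of_stalkIdeal_le
      intro x
      rw [stalkIdeal_pow, stalkIdeal_pow]
      exact (hP x).ge
  have hnS : ∀ x, x ∉ S → ∀ p, x ∈ G p := by
    intro x hx p
    have hxD : stalkIdeal D x = ⊤ := by
      by_contra h
      exact hx (Or.inl ((mem_support_iff_stalkIdeal_ne_top D x).mpr h))
    have hxE : stalkIdeal E x = ⊤ := by
      by_contra h
      exact hx (Or.inr ((mem_support_iff_stalkIdeal_ne_top E x).mpr h))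
    show stalkIdeal D x ^ p.1 = stalkIdeal E x ^ p.2
    rw [hxD, hxE, Ideal.top_pow, Ideal.top_pow]
  have hS : ∀ x ∈ S, ∀ p q, x ∈ G p → x ∈ G q → Prop2 p q := by
    intro x hx p q hp hq
    obtain ⟨d, hd, hdD⟩ := exists_stalkIdeal_eq_span_of_isEffCartier hD x
    obtain ⟨e, he, heE⟩ := exists_stalkIdeal_eq_span_of_isEffCartier hE x
    have hne : stalkIdeal D x ≠ ⊤ ∨ stalkIdeal E x ≠ ⊤ := by
      rcases hx with h | h
      · exact Or.inl ((mem_support_iff_stalkIdeal_ne_top D x).mp h)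
      · exact Or.inr ((mem_support_iff_stalkIdeal_ne_top E x).mp h)
    exact mul_eq_mul_of_pow_eq _ _ d e hd he hdD heE hne hp hq
  by_cases hSne : S.Nonempty
  · obtain ⟨x₀, hx₀⟩ := hSne
    obtain ⟨m₀, n₀, hp₀, hx₀G⟩ := hloc x₀
    set p₀ : ℕ × ℕ := (m₀, n₀) with hp₀def
    -- Claim A
    have hA : ∀ q : ℕ × ℕ, q ≠ (0, 0) → (G q ∩ S).Nonempty → Prop2 q p₀ := by
      intro q hq0 hqS
      by_contra hnot
      let u : Set X := ⋃ p : {p : ℕ × ℕ // p ≠ (0, 0) ∧ Prop2 p p₀}, G p.1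
      let v : Set X := ⋃ p : {p : ℕ × ℕ // p ≠ (0, 0) ∧ ¬ Prop2 p p₀}, G p.1
      have hu : IsOpen u := isOpen_iUnion fun p => hGopen p.1
      have hv : IsOpen v := isOpen_iUnion fun p => hGopen p.1
      have hsub : S ⊆ u ∪ v := by
        intro x _
        obtain ⟨m, n, hmn, hx⟩ := hloc x
        by_cases hp : Prop2 (m, n) p₀
        · exact Or.inl (Set.mem_iUnion.mpr ⟨⟨(m, n), hmn, hp⟩, hx⟩)
        · exact Or.inr (Set.mem_iUnion.mpr ⟨⟨(m, n), hmn, hp⟩, hx⟩)
      have hSu : (S ∩ u).Nonempty :=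
        ⟨x₀, hx₀, Set.mem_iUnion.mpr ⟨⟨p₀, hp₀, Prop2.refl _⟩, hx₀G⟩⟩
      have hSv : (S ∩ v).Nonempty := by
        obtain ⟨y, hyG, hyS⟩ := hqS
        exact ⟨y, hyS, Set.mem_iUnion.mpr ⟨⟨q, hq0, hnot⟩, hyG⟩⟩
      obtain ⟨z, hzS, hzu, hzv⟩ := hconn u v hu hv hsub hSu hSv
      obtain ⟨⟨p, hp0, hpp₀⟩, hzp⟩ := Set.mem_iUnion.mp hzu
      obtain ⟨⟨q', hq'0, hq'p₀⟩, hzq'⟩ := Set.mem_iUnion.mp hzv
      exact hq'p₀ (Prop2.trans hp0 (hS z hzS q' p hzq' hzp) hpp₀)
    -- compactness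
    have hcover : (Set.univ : Set X) ⊆ ⋃ p : {p : ℕ × ℕ // p ≠ (0, 0)}, G p.1 := by
      intro x _
      obtain ⟨m, n, hmn, hx⟩ := hloc x
      exact Set.mem_iUnion.mpr ⟨⟨(m, n), hmn⟩, hx⟩
    obtain ⟨t, ht⟩ := isCompact_univ.elim_finite_subcover (fun p : {p : ℕ × ℕ // p ≠ (0, 0)} => G p.1)
      (fun p => hGopen p.1) hcover
    let t' : Finset (ℕ × ℕ) := (t.image Subtype.val).filter fun p => (G p ∩ S).Nonempty
    have ht' : ∀ p ∈ t', p ≠ (0, 0) ∧ Prop2 p p₀ := by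
      intro p hp
      rw [Finset.mem_filter, Finset.mem_image] at hp
      obtain ⟨⟨⟨p', hp'0⟩, _, rfl⟩, hne⟩ := hp
      exact ⟨hp'0, hA _ hp'0 hne⟩
    obtain ⟨P, hP0, -, hP⟩ := exists_common_multiple_finset t' p₀ hp₀ ht'
    refine ⟨P.1, P.2, hP0, hglobal P ?_⟩
    intro x
    by_cases hxS : x ∈ S
    · obtain ⟨p, hpt, hxp⟩ := Set.mem_iUnion₂.mp (ht (Set.mem_univ x))
      have hpt' : p.1 ∈ t' := by
        rw [Finset.mem_filter, Finset.mem_image]
        exact ⟨⟨p, hpt, rfl⟩, ⟨x, hxp, hxS⟩⟩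
      obtain ⟨c, hc⟩ := hP p.1 hpt'
      show stalkIdeal D x ^ P.1 = stalkIdeal E x ^ P.2
      have hxp' : stalkIdeal D x ^ p.1.1 = stalkIdeal E x ^ p.1.2 := hxp
      rw [hc]
      simp only
      rw [mul_comm c, mul_comm c, pow_mul, pow_mul, hxp']
    · exact hnS x hxS P
  · refine ⟨1, 1, by simp, hglobal (1, 1) fun x => hnS x (fun hx => hSne ⟨x, hx⟩) _⟩

end Groth.Agent.Lib.Helper64.CartierProp
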