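import Groth.Agent.Lib.Helper64.CohPush
import Groth.Prelude.Def_CohB1

/-!
# Direct image of a coherent module along an open immersion, when the support is closed in the
ambient scheme (helper64)

* `subsingleton_sections_of_forall_stalk`
* `finite_sections_pushforward_of_finite_app`
* `isCoh_pushforward_ι_of_support_subset_closed`
-/

set_option autoImplicit false
universe u

open AlgebraicGeometry CategoryTheory Opposite TopologicalSpace

namespace Groth.Agent.Lib.Helper64.CohOpenPush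

open Groth.Agent.Lib.Helper64.CohAffine Groth.Agent.Lib.Helper64.CohPush
  Groth.Agent.Lib.Lead.QCohAff

/-- a module all of whose stalks on `W` vanish has no nonzero sections over `W` -/
theorem subsingleton_sections_of_forall_stalk {X : Scheme.{u}} (F : X.Modules) (W : X.Opens)
    (h : ∀ x ∈ W, Subsingleton (F.presheaf.stalk x)) : Subsingleton Γ(F, W) := by
  refine ⟨fun a b => ?_⟩
  apply TopCat.Presheaf.section_ext (F := ⟨F.presheaf, F.isSheaf⟩)
  intro x hx
  haveI := h x hx
  exact Subsingleton.elim _ _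

variable {X Y : Scheme.{u}} (π : X ⟶ Y) (F : X.Modules)

theorem finite_sections_pushforward_of_finite_app [F.IsQuasicoherent]
    (hft : SheafOfModules.IsFiniteType (R := X.ringCatSheaf) F) (V : Y.Opens)
    (hV : IsAffineOpen (π ⁻¹ᵁ V)) (h2 : (π.app V).hom.Finite) :
    Module.Finite Γ(Y, V) Γ((Scheme.Modules.pushforward π).obj F, V) := by
  have h1 : Module.Finite Γ(X, π ⁻¹ᵁ V) Γ(F, π ⁻¹ᵁ V) := finite_sections F hft hV
  letI alg : Algebra Γ(Y, V) Γ(X, π ⁻¹ᵁ V) := (π.app V).hom.toAlgebra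
  letI m : Module Γ(Y, V) Γ(F, π ⁻¹ᵁ V) := Module.compHom _ (π.app V).hom
  haveI : IsScalarTower Γ(Y, V) Γ(X, π ⁻¹ᵁ V) Γ(F, π ⁻¹ᵁ V) :=
    ⟨fun a b c => by
      show ((π.app V).hom a * b) • c = (π.app V).hom a • (b • c)
      rw [mul_smul]⟩
  haveI : Module.Finite Γ(Y, V) Γ(X, π ⁻¹ᵁ V) := h2
  have h3 : Module.Finite Γ(Y, V) Γ(F, π ⁻¹ᵁ V) := Module.Finite.trans Γ(X, π ⁻¹ᵁ V) _
  let e : Γ(F, π ⁻¹ᵁ V) →ₗ[Γ(Y, V)] Γ((Scheme.Modules.pushforward π).obj F, V) :=
    { toFun := fun t => t
      map_add' := fun _ _ => rfl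
      map_smul' := fun a t => (CohPush.pushforward_smul π F V a t).symm }
  exact Module.Finite.of_surjective e (fun t => ⟨t, rfl⟩)

/-- `LocOn` holds trivially on an open over which all sections vanish -/
theorem locOn_of_subsingleton {X : Scheme.{u}} (G : X.Modules) (W : X.Opens)
    (h : ∀ W' : X.Opens, W' ≤ W → Subsingleton Γ(G, W')) : LocOn G W := by
  constructor
  · intro f s _
    haveI := h W le_rfl
    exact ⟨0, Subsingleton.elim _ _⟩
  · intro f t
    haveI := h (X.basicOpen f) (X.basicOpen_le f)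
    exact ⟨0, 0, Subsingleton.elim _ _⟩

/-- Let `U ⊆ X` be open and `T ⊆ U` closed in `X`. The direct image along `U ↪ X` of a coherent
module on `U` supported in `T` is coherent. -/
theorem isCoh_pushforward_ι_of_support_subset_closed (X : Scheme.{u}) (U : X.Opens) (T : Set X)
    (hT : IsClosed T) (hTU : T ⊆ (U : Set X)) (F : (↑U : Scheme.{u}).Modules) (hF : Coh.IsCoh F)
    (hs : ∀ x : ↥U, x ∈ CohB1.support F → (x : X) ∈ T) :
    Coh.IsCoh ((Coh.push U.ι).obj F) := by
  haveI : SheafOfModules.IsQuasicoherent (R := (↑U : Scheme.{u}).ringCatSheaf) F := hF.1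
  -- sections vanish away from `T`
  have hvan : ∀ W : X.Opens, Disjoint (W : Set X) T →
      Subsingleton Γ((Scheme.Modules.pushforward U.ι).obj F, W) := by
    intro W hW
    apply subsingleton_sections_of_forall_stalk F (U.ι ⁻¹ᵁ W)
    intro x hx
    by_contra hne
    have hxT : U.ι x ∈ T := hs x hne
    exact (Set.disjoint_left.mp hW) hx hxT
  -- affine neighbourhoods of the two kinds
  have hnhd : ∀ x : X, ∃ W : X.Opens, IsAffineOpen W ∧ x ∈ W ∧
      (W ≤ U ∨ Disjoint (W : Set X) T) := by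
    intro x
    by_cases hx : x ∈ U
    · obtain ⟨_, ⟨W, hW : IsAffineOpen W, rfl⟩, hxW, hWU⟩ :=
        X.isBasis_affineOpens.exists_subset_of_mem_open hx U.2
      exact ⟨W, hW, hxW, Or.inl hWU⟩
    · have hxT : x ∈ Tᶜ := fun h => hx (hTU h)
      obtain ⟨_, ⟨W, hW : IsAffineOpen W, rfl⟩, hxW, hWT⟩ :=
        X.isBasis_affineOpens.exists_subset_of_mem_open hxT hT.isOpen_compl
      exact ⟨W, hW, hxW, Or.inr (Set.disjoint_left.mpr fun y hy hyT => hWT hy hyT)⟩
  have haff : ∀ W : X.Opens, IsAffineOpen W → W ≤ U → IsAffineOpen (U.ι ⁻¹ᵁ W) := by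
    intro W hW hWU
    apply hW.preimage_of_isOpenImmersion
    rw [Scheme.Opens.opensRange_ι]
    exact hWU
  have hqc : SheafOfModules.IsQuasicoherent (R := X.ringCatSheaf)
      ((Scheme.Modules.pushforward U.ι).obj F) := by
    apply Groth.Agent.Lib.Lead.QCohCrit.isQuasicoherent_of_locOn
    intro x
    obtain ⟨W, hW, hxW, h | h⟩ := hnhd x
    · exact ⟨W, hW, hxW, LocOn.pushforward U.ι F (LocOn.of_isQuasicoherent F (haff W hW h))⟩
    · refine ⟨W, hW, hxW, locOn_of_subsingleton _ W ?_⟩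
      intro W' hW'
      exact hvan W' (Set.disjoint_of_subset_left hW' h)
  haveI := hqc
  refine ⟨hqc, ?_⟩
  apply isFiniteType_of_finite_sections
  intro x
  obtain ⟨W, hW, hxW, h | h⟩ := hnhd x
  · refine ⟨W, hxW, hW, ?_⟩
    apply finite_sections_pushforward_of_finite_app U.ι F hF.2 W (haff W hW h)
    haveI : IsIso (U.ι.app W) := U.ι.isIso_app W (by rw [Scheme.Opens.opensRange_ι]; exact h)
    exact RingHom.Finite.of_surjective _ (ConcreteCategory.bijective_of_isIso (U.ι.app W)).2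
  · refine ⟨W, hxW, hW, ?_⟩
    haveI := hvan W h
    infer_instance

end Groth.Agent.Lib.Helper64.CohOpenPush
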