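import Mathlib

set_option autoImplicit false

open TensorProduct Function

namespace Groth.Agent.Lib.Helper64.CokerProj

theorem cancel_natural {R S : Type*} [CommRing R] [CommRing S] [Algebra R S]
    (κ : Type*) [AddCommGroup κ] [Module R κ] [Module S κ] [IsScalarTower R S κ]
    {I N : Type*} [AddCommGroup I] [Module R I] [AddCommGroup N] [Module R N]
    (f : I →ₗ[R] N) (x : κ ⊗[S] (S ⊗[R] I)) :
    AlgebraTensorModule.cancelBaseChange R S S κ N ((f.baseChange S).lTensor κ x) =
      f.lTensor κ (AlgebraTensorModule.cancelBaseChange R S S κ I x) := by
  induction x using TensorProduct.induction_on with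
  | zero => simp
  | add x y hx hy => simp only [map_add, hx, hy]
  | tmul k y =>
    induction y using TensorProduct.induction_on with
    | zero => simp
    | add x y hx hy => simp only [map_add, tmul_add, hx, hy]
    | tmul s i => simp

theorem lTensor_baseChange_injective_iff {R S : Type*} [CommRing R] [CommRing S] [Algebra R S]
    (κ : Type*) [AddCommGroup κ] [Module R κ] [Module S κ] [IsScalarTower R S κ]
    {I N : Type*} [AddCommGroup I] [Module R I] [AddCommGroup N] [Module R N]
    (f : I →ₗ[R] N) :
    Injective ((f.baseChange S).lTensor κ) ↔ Injective (f.lTensor κ) := by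
  constructor
  · intro h x y hxy
    have := cancel_natural (S := S) κ f ((AlgebraTensorModule.cancelBaseChange R S S κ I).symm x)
    have h2 := cancel_natural (S := S) κ f ((AlgebraTensorModule.cancelBaseChange R S S κ I).symm y)
    rw [LinearEquiv.apply_symm_apply] at this h2
    have h3 := (AlgebraTensorModule.cancelBaseChange R S S κ N).injective
      (this.trans (hxy.trans h2.symm))
    have h4 := h h3
    exact (AlgebraTensorModule.cancelBaseChange R S S κ I).symm.injective h4
  · intro h x y hxy
    have := cancel_natural (S := S) κ f x
    have h2 := cancel_natural (S := S) κ f y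
    rw [hxy, h2] at this
    exact (AlgebraTensorModule.cancelBaseChange R S S κ I).injective (h this.symm)

section general
variable {R : Type*} [CommRing R] {M N Q : Type*} [AddCommGroup M] [Module R M]
  [AddCommGroup N] [Module R N] [AddCommGroup Q] [Module R Q]

/-- (H_A) ⟺ (I_A). -/
theorem ker_baseChange_le_iff (d : M →ₗ[R] N) (A : Type*) [CommRing A] [Algebra R A] :
    LinearMap.ker (d.baseChange A) ≤ LinearMap.range ((LinearMap.ker d).subtype.baseChange A) ↔
      Injective ((LinearMap.range d).subtype.lTensor A) := by
  set π : M →ₗ[R] LinearMap.range d := d.rangeRestrict with hπ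
  set f : LinearMap.range d →ₗ[R] N := (LinearMap.range d).subtype with hf
  set ι : LinearMap.ker d →ₗ[R] M := (LinearMap.ker d).subtype with hι
  have hd : d = f ∘ₗ π := by ext x; rfl
  have hπs : Surjective π := d.surjective_rangeRestrict
  have hex : Exact ι π := by
    rw [LinearMap.exact_iff, LinearMap.ker_rangeRestrict, Submodule.range_subtype]
  have hexA : Exact (ι.lTensor A) (π.lTensor A) := lTensor_exact A hex hπs
  have hπA : Surjective (π.lTensor A) := LinearMap.lTensor_surjective A hπs
  have hdA : ∀ x, d.baseChange A x = f.lTensor A (π.lTensor A x) := by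
    intro x
    rw [LinearMap.baseChange_eq_ltensor, ← LinearMap.comp_apply, ← LinearMap.lTensor_comp]
    rfl
  have hιA : ∀ x, x ∈ LinearMap.range (ι.baseChange A) ↔ π.lTensor A x = 0 := by
    intro x
    rw [hexA x]
    constructor
    · rintro ⟨z, rfl⟩; exact ⟨z, rfl⟩
    · rintro ⟨z, rfl⟩; exact ⟨z, rfl⟩
  constructor
  · intro h
    rw [injective_iff_map_eq_zero]
    intro y hy
    obtain ⟨x, rfl⟩ := hπA y
    have hx : x ∈ LinearMap.ker (d.baseChange A) := by
      rw [LinearMap.mem_ker, hdA, hy]
    exact (hιA x).mp (h hx)
  · intro h x hx
    rw [LinearMap.mem_ker, hdA] at hx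
    rw [hιA]
    exact h (by rw [hx, map_zero])

/-- If the cokernel is projective, the image inclusion is split, so stays injective after any
base change. -/
theorem lTensor_injective_of_projective {I : Type*} [AddCommGroup I] [Module R I]
    (f : I →ₗ[R] N) (g : N →ₗ[R] Q) (hf : Injective f) (hg : Surjective g) (hex : Exact f g)
    [Module.Projective R Q] (A : Type*) [AddCommGroup A] [Module R A] :
    Injective (f.lTensor A) := by
  obtain ⟨σ, hσ⟩ := Module.projective_lifting_property g LinearMap.id hg
  have := (Exact.split_tfae hex hf hg).out 0 1
  obtain ⟨r, hr⟩ := this.mp ⟨σ, hσ⟩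
  have h2 : (r.lTensor A) ∘ₗ (f.lTensor A) = LinearMap.id := by
    rw [← LinearMap.lTensor_comp, hr, LinearMap.lTensor_id]
  exact HasLeftInverse.injective ⟨r.lTensor A, LinearMap.congr_fun h2⟩

theorem exact_subtype_range (d : M →ₗ[R] N) (g : N →ₗ[R] Q) (hex : Exact d g) :
    Exact (LinearMap.range d).subtype g := by
  rw [LinearMap.exact_iff, Submodule.range_subtype]
  exact hex.linearMap_ker_eq

theorem exact_baseChange {I : Type*} [AddCommGroup I] [Module R I]
    (f : I →ₗ[R] N) (g : N →ₗ[R] Q) (hg : Surjective g) (hex : Exact f g)
    (S : Type*) [CommRing S] [Algebra R S] :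
    Exact (f.baseChange S) (g.baseChange S) := by
  have := lTensor_exact S hex hg
  intro y
  rw [LinearMap.baseChange_eq_ltensor, this y]
  constructor
  · rintro ⟨z, rfl⟩; exact ⟨z, rfl⟩
  · rintro ⟨z, rfl⟩; exact ⟨z, rfl⟩

theorem surjective_baseChange (g : N →ₗ[R] Q) (hg : Surjective g)
    (S : Type*) [CommRing S] [Algebra R S] : Surjective (g.baseChange S) := by
  have := LinearMap.lTensor_surjective S hg
  intro y
  obtain ⟨x, hx⟩ := this y
  exact ⟨x, hx⟩

theorem free_baseChange_localization (p : Ideal R) [p.IsPrime] (d : M →ₗ[R] N)
    [Module.Finite R M] [Module.Finite R N] [Module.Projective R N]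
    (g : N →ₗ[R] Q) (hg : Surjective g) (hex : Exact d g)
    (h : Injective ((LinearMap.range d).subtype.lTensor p.ResidueField)) :
    Module.Free (Localization.AtPrime p) (Localization.AtPrime p ⊗[R] Q) := by
  have hfin : Module.Finite R (LinearMap.range d) := Module.Finite.range d
  have hfree : Module.Free (Localization.AtPrime p) (Localization.AtPrime p ⊗[R] N) :=
    Module.free_of_flat_of_isLocalRing
  refine Module.free_of_lTensor_residueField_injective
    ((LinearMap.range d).subtype.baseChange (Localization.AtPrime p))
    (g.baseChange (Localization.AtPrime p)) (surjective_baseChange g hg _)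
    (exact_baseChange _ g hg (exact_subtype_range d g hex) _) ?_
  exact (lTensor_baseChange_injective_iff (S := Localization.AtPrime p) p.ResidueField _).mpr h

theorem finitePresentation_coker (d : M →ₗ[R] N)
    [Module.Finite R M] [Module.Finite R N] [Module.Projective R N]
    (g : N →ₗ[R] Q) (hg : Surjective g) (hex : Exact d g) : Module.FinitePresentation R Q := by
  have : Module.FinitePresentation R N := Module.finitePresentation_of_projective R N
  refine Module.finitePresentation_of_surjective g hg ?_
  rw [hex.linearMap_ker_eq, LinearMap.range_eq_map]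
  exact Module.Finite.fg_top.map d

theorem projective_of_forall_injective (d : M →ₗ[R] N)
    [Module.Finite R M] [Module.Finite R N] [Module.Projective R N]
    (g : N →ₗ[R] Q) (hg : Surjective g) (hex : Exact d g)
    (h : ∀ (p : Ideal R) [p.IsMaximal],
      Injective ((LinearMap.range d).subtype.lTensor p.ResidueField)) :
    Module.Projective R Q := by
  have hfp := finitePresentation_coker d g hg hex
  have hflat : Module.Flat R Q := by
    refine Module.flat_of_isLocalized_maximal R Q
      (fun P _ => Localization.AtPrime P ⊗[R] Q)
      (fun P _ => TensorProduct.mk R (Localization.AtPrime P) Q 1) ?_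
    intro P _
    have hfree := free_baseChange_localization P d g hg hex (h P)
    have : Module.Flat (Localization.AtPrime P) (Localization.AtPrime P ⊗[R] Q) := inferInstance
    exact Module.Flat.trans R (Localization.AtPrime P) _
  exact Module.Flat.projective_of_finitePresentation

/-- `Coker d` is projective iff for all primes `p` the map `κ(p) ⊗ Ker d → Ker (κ(p) ⊗ d)` is
surjective. -/
theorem projective_coker_iff (d : M →ₗ[R] N)
    [Module.Finite R M] [Module.Finite R N] [Module.Projective R N] :
    Module.Projective R (N ⧸ LinearMap.range d) ↔
      ∀ p : PrimeSpectrum R,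
        LinearMap.ker (d.baseChange p.asIdeal.ResidueField) ≤
          LinearMap.range ((LinearMap.ker d).subtype.baseChange p.asIdeal.ResidueField) := by
  constructor
  · intro hproj p
    rw [ker_baseChange_le_iff]
    exact lTensor_injective_of_projective (LinearMap.range d).subtype (LinearMap.range d).mkQ
      (Submodule.subtype_injective _) (Submodule.mkQ_surjective _)
      (LinearMap.exact_subtype_mkQ _) _
  · intro h
    exact projective_of_forall_injective d (LinearMap.range d).mkQ (Submodule.mkQ_surjective _)
      (LinearMap.exact_map_mkQ_range d)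
      (fun P _ => (ker_baseChange_le_iff d _).mp (h ⟨P, inferInstance⟩))

/-- Local version: at a prime `p`, the kernel condition holds iff the cokernel is projective on a
basic open neighbourhood of `p`. -/
theorem ker_baseChange_le_iff_exists_away (d : M →ₗ[R] N)
    [Module.Finite R M] [Module.Finite R N] [Module.Projective R N] (p : PrimeSpectrum R) :
    LinearMap.ker (d.baseChange p.asIdeal.ResidueField) ≤
        LinearMap.range ((LinearMap.ker d).subtype.baseChange p.asIdeal.ResidueField) ↔
      ∃ f : R, f ∉ p.asIdeal ∧
        Module.Projective (Localization.Away f)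
          (LocalizedModule (Submonoid.powers f) (N ⧸ LinearMap.range d)) := by
  rw [ker_baseChange_le_iff]
  constructor
  · intro h
    have hfp : Module.FinitePresentation R (N ⧸ LinearMap.range d) :=
      finitePresentation_coker d (LinearMap.range d).mkQ (Submodule.mkQ_surjective _)
        (LinearMap.exact_map_mkQ_range d)
    have hfree := free_baseChange_localization p.asIdeal d (LinearMap.range d).mkQ
      (Submodule.mkQ_surjective _) (LinearMap.exact_map_mkQ_range d) h
    obtain ⟨r, hr, hrfree, -⟩ := Module.FinitePresentation.exists_free_localizedModule_powers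
      p.asIdeal.primeCompl
      (TensorProduct.mk R (Localization.AtPrime p.asIdeal) (N ⧸ LinearMap.range d) 1)
      (Localization.AtPrime p.asIdeal)
    exact ⟨r, hr, inferInstance⟩
  · rintro ⟨f, hf, hproj⟩
    have hunit : IsUnit (algebraMap R p.asIdeal.ResidueField f) := by
      rw [isUnit_iff_ne_zero, Ne, Ideal.algebraMap_residueField_eq_zero]
      exact hf
    let _ : Algebra (Localization.Away f) p.asIdeal.ResidueField :=
      (IsLocalization.Away.lift f hunit).toAlgebra
    have : IsScalarTower R (Localization.Away f) p.asIdeal.ResidueField :=
      IsScalarTower.of_algebraMap_eq (fun x => (IsLocalization.Away.lift_eq f hunit x).symm)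
    have hprojS : Module.Projective (Localization.Away f)
        (Localization.Away f ⊗[R] (N ⧸ LinearMap.range d)) :=
      Module.Projective.of_equiv (IsLocalizedModule.isBaseChange (Submonoid.powers f)
        (Localization.Away f)
        (LocalizedModule.mkLinearMap (Submonoid.powers f) (N ⧸ LinearMap.range d))).equiv.symm
    have hinj : Injective ((LinearMap.range d).subtype.baseChange (Localization.Away f)) := by
      have := Module.Flat.lTensor_preserves_injective_linearMap (M := Localization.Away f)
        (LinearMap.range d).subtype (Submodule.subtype_injective _)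
      intro x y hxy
      exact this hxy
    have h1 := lTensor_injective_of_projective
      ((LinearMap.range d).subtype.baseChange (Localization.Away f))
      ((LinearMap.range d).mkQ.baseChange (Localization.Away f)) hinj
      (surjective_baseChange _ (Submodule.mkQ_surjective _) _)
      (exact_baseChange _ _ (Submodule.mkQ_surjective _) (LinearMap.exact_subtype_mkQ _) _)
      p.asIdeal.ResidueField
    exact (lTensor_baseChange_injective_iff (S := Localization.Away f) p.asIdeal.ResidueField _).mp h1

end general

end Groth.Agent.Lib.Helper64.CokerProj
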