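import Mathlib
import Groth.Agent.Lib.Helper64.DimOneCompl
import Groth.Agent.Lib.Helper64.UfdPrincipal

set_option autoImplicit false
set_option linter.style.haveILetI false
universe u

namespace Groth.Agent.Lib.Helper64.ComplCartier

open AlgebraicGeometry CategoryTheory TopologicalSpace IsLocalRing Opposite
open Groth.Agent.Lib.Helper64.StalkSpec Groth.Agent.Lib.Helper64.UfdPrincipal

/-- In a reduced local ring, if the maximal ideal is an associated prime then it is a minimal
prime. -/
theorem maximalIdeal_mem_minimalPrimes_of_isAssociatedPrime {S : Type*} [CommRing S]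
    [IsLocalRing S] [IsReduced S] (h : IsAssociatedPrime (maximalIdeal S) S) :
    maximalIdeal S ∈ minimalPrimes S := by
  obtain ⟨-, x, hx⟩ := h
  have hx0 : x ∉ sInf (minimalPrimes S) := by
    have h0 : sInf (minimalPrimes S) = ⊥ := by
      show sInf (⊥ : Ideal S).minimalPrimes = ⊥
      rw [Ideal.sInf_minimalPrimes]
      exact nilradical_eq_zero S
    rw [h0, Ideal.mem_bot]
    rintro rfl
    have : (1 : S) ∈ maximalIdeal S := by
      rw [hx]
      apply Ideal.le_radical
      rw [Submodule.mem_colon_singleton]
      simp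
    exact (Ideal.ne_top_iff_one _).mp (Ideal.IsPrime.ne_top inferInstance) this
  rw [Ideal.mem_sInf] at hx0
  push Not at hx0
  obtain ⟨Q, hQ, hxQ⟩ := hx0
  haveI : Q.IsPrime := hQ.1.1
  have hle : maximalIdeal S ≤ Q := by
    intro t ht
    rw [hx] at ht
    obtain ⟨n, hn⟩ := ht
    rw [Submodule.mem_colon_singleton, Submodule.mem_bot, smul_eq_mul] at hn
    have : t ^ n * x ∈ Q := by rw [hn]; exact zero_mem _
    rcases ‹Q.IsPrime›.mem_or_mem this with h | h
    · exact ‹Q.IsPrime›.mem_of_pow_mem n h
    · exact absurd h hxQ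
  have : Q = maximalIdeal S := le_antisymm (le_maximalIdeal ‹Q.IsPrime›.ne_top) hle
  rwa [this] at hQ

variable {X : Scheme.{u}}

theorem primeOf_refl (y : X) : primeOf (specializes_refl y) = maximalIdeal (X.presheaf.stalk y) := by
  unfold primeOf
  rw [TopCat.Presheaf.stalkSpecializes_refl]
  rfl

/-- If the maximal ideal of `O_{Y,y}` is a minimal prime then `y` has no proper generization. -/
theorem eq_of_specializes_of_maximalIdeal_mem_minimalPrimes {y y' : X} (h : y' ⤳ y)
    (hm : maximalIdeal (X.presheaf.stalk y) ∈ minimalPrimes (X.presheaf.stalk y)) : y' = y := by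
  have hle : primeOf h ≤ maximalIdeal (X.presheaf.stalk y) :=
    le_maximalIdeal (Ideal.IsPrime.ne_top inferInstance)
  have hge := hm.2 ⟨inferInstance, bot_le⟩ hle
  have heq : primeOf h = primeOf (specializes_refl y) := by
    rw [primeOf_refl]; exact le_antisymm hle hge
  exact eq_of_primeOf_eq h (specializes_refl y) heq

/-- The stalks of the reduced induced closed subscheme are reduced. -/
theorem isReduced_stalk_subscheme_vanishingIdeal (Z : Closeds X)
    (z : (Scheme.IdealSheafData.vanishingIdeal Z).subscheme) :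
    IsReduced ((Scheme.IdealSheafData.vanishingIdeal Z).subscheme.presheaf.stalk z) := by
  obtain ⟨_, ⟨U, hU : IsAffineOpen U, rfl⟩, hzU, -⟩ :=
    X.isBasis_affineOpens.exists_subset_of_mem_open
      (Set.mem_univ ((Scheme.IdealSheafData.vanishingIdeal Z).subschemeι z)) isOpen_univ
  let e := Groth.Agent.Lib.Helper64.SubschemeStalk.stalkEquiv
    (Scheme.IdealSheafData.vanishingIdeal Z) ⟨U, hU⟩ z hzU
  have hrad : (((Scheme.IdealSheafData.vanishingIdeal Z).ideal ⟨U, hU⟩).map
      (X.presheaf.germ U ((Scheme.IdealSheafData.vanishingIdeal Z).subschemeι z) hzU).hom).IsRadical := by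
    letI : Algebra Γ(X, U) (X.presheaf.stalk ((Scheme.IdealSheafData.vanishingIdeal Z).subschemeι z)) :=
      TopCat.Presheaf.algebra_section_stalk X.presheaf ⟨_, hzU⟩
    haveI := hU.isLocalization_stalk ⟨_, hzU⟩
    have h1 : ((Scheme.IdealSheafData.vanishingIdeal Z).ideal ⟨U, hU⟩).IsRadical := by
      rw [Scheme.IdealSheafData.vanishingIdeal_ideal]
      exact PrimeSpectrum.isRadical_vanishingIdeal _
    show (Ideal.map (algebraMap Γ(X, U) _) _).IsRadical
    rw [← h1.radical, IsLocalization.map_radical
      (hU.primeIdealOf ⟨_, hzU⟩).asIdeal.primeCompl]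
    exact Ideal.radical_isRadical _
  haveI : IsReduced (X.presheaf.stalk ((Scheme.IdealSheafData.vanishingIdeal Z).subschemeι z) ⧸
      ((Scheme.IdealSheafData.vanishingIdeal Z).ideal ⟨U, hU⟩).map
        (X.presheaf.germ U ((Scheme.IdealSheafData.vanishingIdeal Z).subschemeι z) hzU).hom) :=
    (Ideal.isRadical_iff_quotient_reduced _).mp hrad
  exact isReduced_of_injective e.symm.toRingHom e.symm.injective

/-- **Stacks 0BCU-type statement.** On a Noetherian scheme, if `U` is a dense open whose inclusion
is an affine morphism and all local rings at points outside `U` are UFDs, then the reduced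
induced structure on the complement of `U` is an effective Cartier divisor. -/
theorem exists_effCartier_compl (X : Scheme.{u}) [IsNoetherian X] (U : X.Opens) [IsAffineHom U.ι]
    (hdense : Dense (U : Set X))
    (hufd : ∀ x : X, x ∉ U →
      IsDomain (X.presheaf.stalk x) ∧ UniqueFactorizationMonoid (X.presheaf.stalk x)) :
    ∃ 𝓘 : X.IdealSheafData, BlowUp.IsEffCartierIdeal 𝓘 ∧ (𝓘.support : Set X) = (U : Set X)ᶜ := by
  let Z : Closeds X := ⟨(U : Set X)ᶜ, U.isOpen.isClosed_compl⟩
  have hsupp : ((Scheme.IdealSheafData.vanishingIdeal Z).support : Set X) = (U : Set X)ᶜ :=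
    Scheme.IdealSheafData.coe_support_vanishingIdeal Z
  refine ⟨Scheme.IdealSheafData.vanishingIdeal Z, ?_, hsupp⟩
  have hmem : ∀ z : (Scheme.IdealSheafData.vanishingIdeal Z).subscheme,
      (Scheme.IdealSheafData.vanishingIdeal Z).subschemeι z ∉ U := by
    intro z
    have : (Scheme.IdealSheafData.vanishingIdeal Z).subschemeι z ∈
        Set.range (Scheme.IdealSheafData.vanishingIdeal Z).subschemeι := ⟨z, rfl⟩
    rw [(Scheme.IdealSheafData.vanishingIdeal Z).range_subschemeι, hsupp] at this
    exact this
  apply isEffCartierIdeal_of_noEmbedded_codim_one_ufd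
  · intro z hz z' hz'
    haveI := isReduced_stalk_subscheme_vanishingIdeal Z z
    exact eq_of_specializes_of_maximalIdeal_mem_minimalPrimes hz'
      (maximalIdeal_mem_minimalPrimes_of_isAssociatedPrime hz)
  · intro z hz
    apply Groth.Agent.Lib.Helper64.PuncturedAffine.ringKrullDim_stalk_eq_one X U _ (hmem z)
    · intro y hy hsp
      have hyr : y ∈ Set.range (Scheme.IdealSheafData.vanishingIdeal Z).subschemeι := by
        rw [(Scheme.IdealSheafData.vanishingIdeal Z).range_subschemeι, hsupp]
        exact hy
      obtain ⟨z', rfl⟩ := hyr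
      have hemb : Topology.IsEmbedding (Scheme.IdealSheafData.vanishingIdeal Z).subschemeι :=
        (Scheme.IdealSheafData.vanishingIdeal Z).subschemeι.isEmbedding
      have : z' ⤳ z := hemb.specializes_iff.mp hsp
      rw [hz z' this]
    · rw [hdense.closure_eq]; trivial
  · intro x hx
    apply hufd x
    have : x ∈ ((Scheme.IdealSheafData.vanishingIdeal Z).support : Set X) := hx
    rw [hsupp] at this
    exact this

/-- An open subscheme `U` of `X` such that the intersection of `U` with any affine open is affine
has affine inclusion morphism. -/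
theorem isAffineHom_ι_of_inf (U : X.Opens)
    (h : ∀ V : X.Opens, IsAffineOpen V → IsAffineOpen (U ⊓ V)) : IsAffineHom U.ι := by
  apply isAffineHom_of_forall_exists_isAffineOpen
  intro x
  obtain ⟨_, ⟨V, hV : IsAffineOpen V, rfl⟩, hxV, -⟩ :=
    X.isBasis_affineOpens.exists_subset_of_mem_open (Set.mem_univ x) isOpen_univ
  refine ⟨V, hxV, hV, ?_⟩
  rw [← (U.ι).isAffineOpen_iff_of_isOpenImmersion, Scheme.Hom.image_preimage_eq_opensRange_inf,
    Scheme.Opens.opensRange_ι]
  exact h V hV

/-- An affine open of a separated scheme has affine inclusion morphism. -/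
theorem isAffineHom_ι_of_isSeparated [X.IsSeparated] (U : X.Opens) (hU : IsAffineOpen U) :
    IsAffineHom U.ι := by
  haveI : IsAffine ↑U := hU
  haveI : IsSeparated (Limits.terminal.from X) := inferInstance
  haveI : IsAffineHom (U.ι ≫ Limits.terminal.from X) := inferInstance
  exact IsAffineHom.of_comp U.ι (Limits.terminal.from X)

end Groth.Agent.Lib.Helper64.ComplCartier
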