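import Groth.Agent.Lib.Helper64.CycExc3

/-!
# Principal divisors and cycles along closed immersions (helper64)

* `ordAt_of_surjective`: orders along specializations are invariant under morphisms surjective on
  the stalk and bijective on the residue field.
* `divFun_closedImmersion`, `divFun_eq_zero_of_notMem_range`.
* `map_closedImmersion_apply`, `map_closedImmersion_apply_of_notMem`: pushforward of cycles
  along a closed immersion.
-/

set_option autoImplicit false
set_option linter.style.haveILetI false
set_option linter.unusedSectionVars false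
universe u v

open AlgebraicGeometry CategoryTheory TopologicalSpace IsLocalRing

namespace Groth.Agent.Lib.Helper64.CycCl

open Groth.Agent.Lib.Helper64.CycOrd Groth.Agent.Lib.Helper64.CycLen
open Groth.Agent.Lib.Helper64.CycTens Groth.Agent.Lib.Helper64.CycExc

variable {X Z : Scheme.{u}} (g : Z ⟶ X)

/-- orders along specializations are invariant under morphisms surjective on the stalk and
bijective on the residue field -/
theorem ordAt_of_surjective {z ζ : Z} (h : ζ ⤳ z) (h' : g ζ ⤳ g z)
    (hφ : Function.Surjective (g.stalkMap z).hom)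
    (hE : Function.Bijective (g.residueFieldMap ζ).hom) (k : X.residueField (g ζ)) :
    Cyc.ordAt z ζ h ((g.residueFieldMap ζ).hom k) = Cyc.ordAt (g z) (g ζ) h' k := by
  obtain ⟨φ, hφd⟩ : ∃ φ : X.presheaf.stalk (g z) →+* Z.presheaf.stalk z,
      φ = (g.stalkMap z).hom := ⟨_, rfl⟩
  let E : X.residueField (g ζ) ≃+* Z.residueField ζ :=
    RingEquiv.ofBijective (g.residueFieldMap ζ).hom hE
  have hE' : ∀ k, E k = (g.residueFieldMap ζ).hom k := fun k => rfl
  have hφr : ∀ r, φ r = (g.stalkMap z).hom r := fun r => by rw [hφd]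
  have hcomap : (RingHom.ker (Cyc.specMap z ζ h)).comap φ =
      RingHom.ker (Cyc.specMap (g z) (g ζ) h') := by
    ext r
    rw [Ideal.mem_comap, RingHom.mem_ker, RingHom.mem_ker, hφr, specMap_stalkMap g h h']
    constructor
    · intro h0
      apply E.injective
      rw [map_zero, hE']
      exact h0
    · intro h0
      rw [h0, map_zero]
  let q : Cyc.LocQuot (g z) (g ζ) h' →+* Cyc.LocQuot z ζ h :=
    Ideal.quotientMap (RingHom.ker (Cyc.specMap z ζ h)) φ hcomap.ge
  have hq_inj : Function.Injective q := Ideal.quotientMap_injective' hcomap.le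
  have hq_surj : Function.Surjective q := by
    apply Ideal.quotientMap_surjective
    rw [hφd]
    exact hφ
  let e : Cyc.LocQuot (g z) (g ζ) h' ≃+* Cyc.LocQuot z ζ h :=
    RingEquiv.ofBijective q ⟨hq_inj, hq_surj⟩
  have hcompat : ∀ r, E (algebraMap (Cyc.LocQuot (g z) (g ζ) h') (X.residueField (g ζ)) r) =
      algebraMap (Cyc.LocQuot z ζ h) (Z.residueField ζ) (e r) := by
    intro r
    obtain ⟨r, rfl⟩ := Ideal.Quotient.mk_surjective r
    have h1 : algebraMap (Cyc.LocQuot (g z) (g ζ) h') (X.residueField (g ζ))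
        (Ideal.Quotient.mk _ r) = Cyc.specMap (g z) (g ζ) h' r := rfl
    have h2 : e (Ideal.Quotient.mk _ r) = Ideal.Quotient.mk _ (φ r) := rfl
    have h3 : algebraMap (Cyc.LocQuot z ζ h) (Z.residueField ζ) (Ideal.Quotient.mk _ (φ r)) =
        Cyc.specMap z ζ h (φ r) := rfl
    rw [h1, h2, h3, hφr, specMap_stalkMap g h h', hE']
  exact cycOrdFrac_ringEquiv e E hcompat k

/-- the residue field map is bijective when the stalk map is surjective -/
theorem residueFieldMap_bijective_of_surjective (ζ : Z)
    (hφ : Function.Surjective (g.stalkMap ζ).hom) :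
    Function.Bijective (g.residueFieldMap ζ).hom := by
  refine ⟨(g.residueFieldMap ζ).hom.injective, ?_⟩
  intro b
  obtain ⟨b', rfl⟩ := Z.residue_surjective ζ b
  obtain ⟨a, rfl⟩ := hφ b'
  refine ⟨(X.residue (g ζ)).hom a, ?_⟩
  have h1 := Scheme.residue_residueFieldMap g ζ
  exact DFunLike.congr_fun (CommRingCat.hom_ext_iff.mp h1) a

variable [IsClosedImmersion g]

theorem stalkMap_surjective_hom (z : Z) : Function.Surjective (g.stalkMap z).hom :=
  g.stalkMap_surjective z

theorem residueFieldMap_bijective (ζ : Z) : Function.Bijective (g.residueFieldMap ζ).hom :=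
  residueFieldMap_bijective_of_surjective g ζ (stalkMap_surjective_hom g ζ)

theorem specializes_iff_closedImmersion {ζ z : Z} : g ζ ⤳ g z ↔ ζ ⤳ z :=
  g.isClosedEmbedding.toIsInducing.specializes_iff

/-- principal divisors are compatible with closed immersions -/
theorem divFun_closedImmersion (δ : X → ℤ) (ζ z : Z) (k : X.residueField (g ζ)) :
    Cyc.divFun (fun z => δ (g z)) ζ ((g.residueFieldMap ζ).hom k) z =
      Cyc.divFun δ (g ζ) k (g z) := by
  have hsp : g ζ ⤳ g z ↔ ζ ⤳ z := specializes_iff_closedImmersion g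
  unfold Cyc.divFun
  beta_reduce
  by_cases hc : ζ ⤳ z ∧ δ (g z) + 1 = δ (g ζ)
  · have hc' : g ζ ⤳ g z ∧ δ (g z) + 1 = δ (g ζ) := ⟨hsp.2 hc.1, hc.2⟩
    rw [dif_pos hc, dif_pos hc']
    exact ordAt_of_surjective g hc.1 hc'.1 (stalkMap_surjective_hom g z)
      (residueFieldMap_bijective g ζ) k
  · have hc' : ¬ (g ζ ⤳ g z ∧ δ (g z) + 1 = δ (g ζ)) := fun h => hc ⟨hsp.1 h.1, h.2⟩
    rw [dif_neg hc, dif_neg hc']

/-- a principal divisor on a closed subscheme vanishes outside of it -/
theorem divFun_eq_zero_of_notMem_range (δ : X → ℤ) (ζ : Z) (k : X.residueField (g ζ)) (x : X)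
    (hx : x ∉ Set.range g) : Cyc.divFun δ (g ζ) k x = 0 := by
  apply divFun_eq_zero_of_not_specializes
  intro hsp
  apply hx
  have h1 : x ∈ closure {(g ζ : X)} := specializes_iff_mem_closure.1 hsp
  have h2 : closure {(g ζ : X)} ⊆ Set.range g :=
    g.isClosedEmbedding.isClosed_range.closure_subset_iff.2
      (Set.singleton_subset_iff.2 (Set.mem_range_self ζ))
  exact h2 h1

/-- transport of a rational function to a closed subscheme, with its divisor -/
theorem exists_divFun_eq (δ : X → ℤ) (ξ : X) (f : X.residueField ξ) (hf : f ≠ 0) (ζ : Z)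
    (hζ : g ζ = ξ) :
    ∃ f' : Z.residueField ζ, f' ≠ 0 ∧
      ∀ z, Cyc.divFun (fun z => δ (g z)) ζ f' z = Cyc.divFun δ ξ f (g z) := by
  subst hζ
  refine ⟨(g.residueFieldMap ζ).hom f, ?_, fun z => divFun_closedImmersion g δ ζ z f⟩
  intro h0
  apply hf
  apply (g.residueFieldMap ζ).hom.injective
  rw [h0, map_zero]

/-- the degree of the residue field extension of a closed immersion is one -/
theorem residueDegree_eq_one (z : Z) : g.residueDegree z = 1 := by
  unfold Scheme.Hom.residueDegree
  letI := (g.residueFieldMap z).hom.toAlgebra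
  have hbij : Function.Bijective (algebraMap (X.residueField (g z)) (Z.residueField z)) :=
    residueFieldMap_bijective g z
  have e := LinearEquiv.ofBijective
    (Algebra.linearMap (X.residueField (g z)) (Z.residueField z)) hbij
  rw [← e.finrank_eq, Module.finrank_self]

/-- pushforward of cycles along a closed immersion, on the image -/
theorem map_closedImmersion_apply (wz : Z → ℤ) (wx : X → ℤ) (hw : ∀ z, wz z = wx (g z))
    (α : AlgebraicCycle Z ℤ) (z : Z) :
    AlgebraicCycle.map g wz wx α (g z) = α z := by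
  have hinj : Function.Injective g := g.isClosedEmbedding.injective
  unfold AlgebraicCycle.map
  rw [Function.locallyFinsupp.map_apply]
  have hset : (⇑g ⁻¹' {(g z : X)}) = {z} := by
    ext y
    simp only [Set.mem_preimage, Set.mem_singleton_iff]
    exact hinj.eq_iff
  rw [hset, finsum_mem_singleton]
  have h1 : AlgebraicCycle.mapCoeff g wz wx z = 1 := by
    unfold AlgebraicCycle.mapCoeff
    rw [if_pos (hw z)]
    exact residueDegree_eq_one g z
  rw [h1]
  simp

/-- pushforward of cycles along a closed immersion, off the image -/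
theorem map_closedImmersion_apply_of_notMem (wz : Z → ℤ) (wx : X → ℤ)
    (α : AlgebraicCycle Z ℤ) (x : X) (hx : x ∉ Set.range g) :
    AlgebraicCycle.map g wz wx α x = 0 := by
  unfold AlgebraicCycle.map
  rw [Function.locallyFinsupp.map_apply]
  have hset : (⇑g ⁻¹' {x}) = ∅ := by
    rw [Set.eq_empty_iff_forall_notMem]
    intro y hy
    exact hx ⟨y, hy⟩
  rw [hset, finsum_mem_empty]

end Groth.Agent.Lib.Helper64.CycCl
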