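import Groth.Agent.Lib.Helper64.CycCl1

/-!
# Families of principal divisors: supports, splitting, restriction to closed subschemes (helper64)
-/

set_option autoImplicit false
set_option linter.style.haveILetI false
set_option linter.unusedSectionVars false
universe u v

open AlgebraicGeometry CategoryTheory TopologicalSpace IsLocalRing

namespace Groth.Agent.Lib.Helper64.CycCl

open Groth.Agent.Lib.Helper64.CycOrd Groth.Agent.Lib.Helper64.CycLen
open Groth.Agent.Lib.Helper64.CycTens Groth.Agent.Lib.Helper64.CycExc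

/-- splitting a finite-support sum along a subset of the index type -/
theorem finsum_eq_add_subtype {ι : Type*} (g : ι → ℤ) (hg : (Function.support g).Finite)
    (P : Set ι) : ∑ᶠ j, g j = ∑ᶠ j : ↥P, g j.1 + ∑ᶠ j : ↥Pᶜ, g j.1 := by
  classical
  have h1 : ∀ j, g j = P.indicator g j + Pᶜ.indicator g j := fun j =>
    (Set.indicator_self_add_compl_apply P g j).symm
  have hs1 : (Function.support (P.indicator g)).Finite := by
    rw [Set.support_indicator]
    exact hg.subset Set.inter_subset_right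
  have hs2 : (Function.support (Pᶜ.indicator g)).Finite := by
    rw [Set.support_indicator]
    exact hg.subset Set.inter_subset_right
  calc ∑ᶠ j, g j = ∑ᶠ j, (P.indicator g j + Pᶜ.indicator g j) := finsum_congr h1
    _ = ∑ᶠ j, P.indicator g j + ∑ᶠ j, Pᶜ.indicator g j := finsum_add_distrib hs1 hs2
    _ = ∑ᶠ j ∈ P, g j + ∑ᶠ j ∈ Pᶜ, g j := by rw [finsum_mem_def, finsum_mem_def]
    _ = ∑ᶠ j : ↥P, g j.1 + ∑ᶠ j : ↥Pᶜ, g j.1 := by
      rw [← finsum_set_coe_eq_finsum_mem, ← finsum_set_coe_eq_finsum_mem]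

variable {X Z : Scheme.{u}}

/-- at each point only finitely many members of a locally finite family of principal divisors
are nonzero -/
theorem finite_support_divFun_family {δ : X → ℤ} {ι : Type*} (ξ : ι → X)
    (f : ∀ i, X.residueField (ξ i))
    (hlf : ∀ x : X, ∃ U : Set X, IsOpen U ∧ x ∈ U ∧ {i | (closure {ξ i} ∩ U).Nonempty}.Finite)
    (x : X) : (Function.support (fun i => Cyc.divFun δ (ξ i) (f i) x)).Finite := by
  obtain ⟨U, -, hxU, hfin⟩ := hlf x
  apply hfin.subset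
  intro i hi
  have hi' : Cyc.divFun δ (ξ i) (f i) x ≠ 0 := hi
  have hsp : ξ i ⤳ x := by
    by_contra hc
    exact hi' (divFun_eq_zero_of_not_specializes δ _ _ x hc)
  exact ⟨x, specializes_iff_mem_closure.1 hsp, hxU⟩

/-- a locally finite sum of principal divisors has locally finite support -/
theorem exists_nhd_finite_support_finsum_divFun [IsLocallyNoetherian X] {δ : X → ℤ}
    (hδ : Cyc.IsDimFun X δ) {ι : Type*} (ξ : ι → X) (f : ∀ i, X.residueField (ξ i))
    (hne : ∀ i, f i ≠ 0)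
    (hlf : ∀ x : X, ∃ U : Set X, IsOpen U ∧ x ∈ U ∧ {i | (closure {ξ i} ∩ U).Nonempty}.Finite)
    (z : X) :
    ∃ t ∈ nhds z,
      (t ∩ Function.support (fun x => ∑ᶠ i, Cyc.divFun δ (ξ i) (f i) x)).Finite := by
  obtain ⟨V₀, hV₀, hzV₀, hJ⟩ := hlf z
  have hVi : ∀ i, ∃ Vi : Set X, IsOpen Vi ∧ z ∈ Vi ∧
      (Vi ∩ Function.support (Cyc.divFun δ (ξ i) (f i))).Finite := fun i =>
    exists_nhd_finite_support_divFun hδ (ξ i) (f i) (hne i) z
  choose Vi hVio hzVi hVif using hVi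
  refine ⟨V₀ ∩ ⋂ i ∈ {i | (closure {ξ i} ∩ V₀).Nonempty}, Vi i, ?_, ?_⟩
  · refine Filter.inter_mem (hV₀.mem_nhds hzV₀) ?_
    exact (Filter.biInter_mem hJ).2 (fun i _ => (hVio i).mem_nhds (hzVi i))
  · apply (hJ.biUnion (fun i _ => hVif i)).subset
    rintro x ⟨⟨hxV₀, hxI⟩, hx⟩
    have hS : ∑ᶠ i, Cyc.divFun δ (ξ i) (f i) x ≠ 0 := hx
    have hex : ∃ i, Cyc.divFun δ (ξ i) (f i) x ≠ 0 := by
      by_contra hc
      push Not at hc
      exact hS (finsum_eq_zero_of_forall_eq_zero hc)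
    obtain ⟨i, hi⟩ := hex
    have hsp : ξ i ⤳ x := by
      by_contra hc
      exact hi (divFun_eq_zero_of_not_specializes δ _ _ x hc)
    have hiJ : i ∈ {i | (closure {ξ i} ∩ V₀).Nonempty} :=
      ⟨x, specializes_iff_mem_closure.1 hsp, hxV₀⟩
    rw [Set.mem_iUnion₂]
    refine ⟨i, hiJ, ?_, hi⟩
    exact Set.mem_iInter₂.1 hxI i hiJ

/-- a principal divisor lives in one dimension -/
theorem divFun_eq_zero_of_delta_ne (δ : X → ℤ) (ξ : X) (f : X.residueField ξ) (x : X) {k : ℤ}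
    (hξ : δ ξ = k + 1) (hx : δ x ≠ k) : Cyc.divFun δ ξ f x = 0 := by
  unfold Cyc.divFun
  rw [dif_neg]
  rintro ⟨-, hc⟩
  apply hx
  omega

/-- the divisor of the inverse -/
theorem divFun_inv (δ : X → ℤ) (ξ : X) {f : X.residueField ξ} (hf : f ≠ 0) (x : X) :
    Cyc.divFun δ ξ f⁻¹ x = - Cyc.divFun δ ξ f x := by
  have h := divFun_zpow δ ξ hf (-1) x
  rw [zpow_neg_one] at h
  rw [h]
  ring

/-- **restriction of a family of principal divisors to a closed subscheme containing it** -/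
theorem exists_family_closedImmersion (g : Z ⟶ X) [IsClosedImmersion g] (δ : X → ℤ) (k : ℤ)
    {ι : Type*} (ξ : ι → X) (f : ∀ i, X.residueField (ξ i)) (hmem : ∀ i, ξ i ∈ Set.range g)
    (hdim : ∀ i, δ (ξ i) = k + 1) (hne : ∀ i, f i ≠ 0)
    (hlf : ∀ x : X, ∃ U : Set X, IsOpen U ∧ x ∈ U ∧
      {i | (closure {ξ i} ∩ U).Nonempty}.Finite) :
    ∃ (ζ : ι → Z) (f' : ∀ i, Z.residueField (ζ i)),
      (∀ i, δ (g (ζ i)) = k + 1) ∧ (∀ i, f' i ≠ 0) ∧
      (∀ z : Z, ∃ U : Set Z, IsOpen U ∧ z ∈ U ∧ {i | (closure {ζ i} ∩ U).Nonempty}.Finite) ∧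
      ∀ i z, Cyc.divFun (fun z => δ (g z)) (ζ i) (f' i) z = Cyc.divFun δ (ξ i) (f i) (g z) := by
  choose ζ hζ using hmem
  have hex : ∀ i, ∃ f' : Z.residueField (ζ i), f' ≠ 0 ∧
      ∀ z, Cyc.divFun (fun z => δ (g z)) (ζ i) f' z = Cyc.divFun δ (ξ i) (f i) (g z) := fun i =>
    exists_divFun_eq g δ (ξ i) (f i) (hne i) (ζ i) (hζ i)
  choose f' hf'ne hf' using hex
  refine ⟨ζ, f', ?_, hf'ne, ?_, hf'⟩
  · intro i
    rw [hζ i]
    exact hdim i
  · intro z
    obtain ⟨U, hU, hzU, hfin⟩ := hlf (g z)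
    refine ⟨g ⁻¹' U, hU.preimage g.continuous, hzU, ?_⟩
    apply hfin.subset
    rintro i ⟨y, hy, hyU⟩
    have hsp : ζ i ⤳ y := specializes_iff_mem_closure.2 hy
    have hsp' : g (ζ i) ⤳ g y := hsp.map g.continuous
    rw [hζ i] at hsp'
    exact ⟨g y, specializes_iff_mem_closure.1 hsp', hyU⟩

end Groth.Agent.Lib.Helper64.CycCl
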