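import Groth.Agent.Lib.Helper64.CycCl2

/-!
# Mayer–Vietoris for Chow groups: exactness in the middle (helper64)
-/

set_option autoImplicit false
set_option linter.style.haveILetI false
set_option linter.unusedSectionVars false
universe u v

open AlgebraicGeometry CategoryTheory TopologicalSpace IsLocalRing Limits

namespace Groth.Agent.Lib.Helper64.CycCl

open Groth.Agent.Lib.Helper64.CycOrd Groth.Agent.Lib.Helper64.CycLen
open Groth.Agent.Lib.Helper64.CycTens Groth.Agent.Lib.Helper64.CycExc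

/-- **Mayer–Vietoris for Chow groups, exactness in the middle** -/
theorem mayerVietoris (X : Scheme.{u}) (δ : X → ℤ) (hX : Cyc.IsSetup X δ) (X₁ X₂ : Scheme.{u})
    (i₁ : X₁ ⟶ X) (i₂ : X₂ ⟶ X) [IsClosedImmersion i₁] [IsClosedImmersion i₂]
    (hcov : Set.range ⇑i₁ ∪ Set.range ⇑i₂ = Set.univ) (k : ℤ) (α₁ : AlgebraicCycle X₁ ℤ)
    (α₂ : AlgebraicCycle X₂ ℤ) (h₁ : α₁ ∈ Cyc.Zk X₁ (fun x => δ (i₁ x)) k)
    (h₂ : α₂ ∈ Cyc.Zk X₂ (fun x => δ (i₂ x)) k)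
    (h : Cyc.RatEquiv δ k (AlgebraicCycle.map i₁ (fun x => δ (i₁ x)) δ α₁)
      (AlgebraicCycle.map i₂ (fun x => δ (i₂ x)) δ α₂)) :
    ∃ β : AlgebraicCycle (pullback i₁ i₂) ℤ,
      β ∈ Cyc.Zk (pullback i₁ i₂) (fun z => δ (i₁ (pullback.fst i₁ i₂ z))) k ∧
      Cyc.RatEquiv (fun x => δ (i₁ x)) k α₁
        (AlgebraicCycle.map (pullback.fst i₁ i₂) (fun z => δ (i₁ (pullback.fst i₁ i₂ z)))
          (fun x => δ (i₁ x)) β) ∧
      Cyc.RatEquiv (fun x => δ (i₂ x)) k α₂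
        (AlgebraicCycle.map (pullback.snd i₁ i₂) (fun z => δ (i₁ (pullback.fst i₁ i₂ z)))
          (fun x => δ (i₂ x)) β) := by
  classical
  haveI : IsLocallyNoetherian X := hX.1
  have hδ : Cyc.IsDimFun X δ := hX.2.2
  obtain ⟨ι, ξ, f, hdim, hne, hlf, hsum⟩ := h
  -- names for the pushforwards
  obtain ⟨A₁, hA₁⟩ : ∃ A₁ : AlgebraicCycle X ℤ,
      A₁ = AlgebraicCycle.map i₁ (fun x => δ (i₁ x)) δ α₁ := ⟨_, rfl⟩
  obtain ⟨A₂, hA₂⟩ : ∃ A₂ : AlgebraicCycle X ℤ,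
      A₂ = AlgebraicCycle.map i₂ (fun x => δ (i₂ x)) δ α₂ := ⟨_, rfl⟩
  rw [← hA₁, ← hA₂] at hsum
  have hA₁i : ∀ z, A₁ (i₁ z) = α₁ z := fun z => by
    rw [hA₁]
    exact map_closedImmersion_apply i₁ _ _ (fun _ => rfl) α₁ z
  have hA₂i : ∀ z, A₂ (i₂ z) = α₂ z := fun z => by
    rw [hA₂]
    exact map_closedImmersion_apply i₂ _ _ (fun _ => rfl) α₂ z
  have hA₁0 : ∀ x, x ∉ Set.range i₁ → A₁ x = 0 := fun x hx => by
    rw [hA₁]
    exact map_closedImmersion_apply_of_notMem i₁ _ _ α₁ x hx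
  have hA₂0 : ∀ x, x ∉ Set.range i₂ → A₂ x = 0 := fun x hx => by
    rw [hA₂]
    exact map_closedImmersion_apply_of_notMem i₂ _ _ α₂ x hx
  -- splitting the index set
  obtain ⟨P, hP⟩ : ∃ P : Set ι, ∀ j, j ∈ P ↔ ξ j ∈ Set.range i₁ :=
    ⟨{j | ξ j ∈ Set.range i₁}, fun j => Iff.rfl⟩
  have hP₁ : ∀ j : ↥P, ξ j.1 ∈ Set.range i₁ := fun j => (hP j.1).1 j.2
  have hP₂ : ∀ j : ↥Pᶜ, ξ j.1 ∈ Set.range i₂ := fun j => by
    have h1 : ξ j.1 ∉ Set.range i₁ := fun hc => j.2 ((hP j.1).2 hc)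
    have h2 : ξ j.1 ∈ Set.range i₁ ∪ Set.range i₂ := by
      rw [hcov]
      exact Set.mem_univ _
    exact h2.resolve_left h1
  have hlfP : ∀ (Q : Set ι) (x : X), ∃ U : Set X, IsOpen U ∧ x ∈ U ∧
      {j : ↥Q | (closure {ξ j.1} ∩ U).Nonempty}.Finite := by
    intro Q x
    obtain ⟨U, hU, hxU, hfin⟩ := hlf x
    exact ⟨U, hU, hxU,
      hfin.preimage (f := (Subtype.val : ↥Q → ι)) Subtype.val_injective.injOn⟩
  -- the two families
  obtain ⟨ζ₁, f₁, hd₁, hn₁, hl₁, hdiv₁⟩ := exists_family_closedImmersion i₁ δ k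
    (fun j : ↥P => ξ j.1) (fun j => f j.1) hP₁ (fun j => hdim j.1) (fun j => hne j.1) (hlfP P)
  obtain ⟨ζ₂, f₂, hd₂, hn₂, hl₂, hdiv₂⟩ := exists_family_closedImmersion i₂ δ k
    (fun j : ↥Pᶜ => ξ j.1) (fun j => (f j.1)⁻¹) hP₂ (fun j => hdim j.1)
    (fun j => inv_ne_zero (hne j.1)) (hlfP Pᶜ)
  -- the partial sums
  obtain ⟨T₁, hT₁⟩ : ∃ T₁ : X → ℤ, T₁ = fun x =>
      ∑ᶠ j : ↥P, Cyc.divFun δ (ξ j.1) (f j.1) x := ⟨_, rfl⟩
  obtain ⟨T₂, hT₂⟩ : ∃ T₂ : X → ℤ, T₂ = fun x =>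
      ∑ᶠ j : ↥Pᶜ, Cyc.divFun δ (ξ j.1) (f j.1) x := ⟨_, rfl⟩
  have hT₁x : ∀ x, T₁ x = ∑ᶠ j : ↥P, Cyc.divFun δ (ξ j.1) (f j.1) x := fun x => by rw [hT₁]
  have hT₂x : ∀ x, T₂ x = ∑ᶠ j : ↥Pᶜ, Cyc.divFun δ (ξ j.1) (f j.1) x := fun x => by rw [hT₂]
  have hsplit : ∀ x, A₁ x - A₂ x = T₁ x + T₂ x := by
    intro x
    have h1 : (A₁ - A₂) x = A₁ x - A₂ x := rfl
    rw [← h1, hsum x, hT₁x, hT₂x]
    exact finsum_eq_add_subtype (fun j => Cyc.divFun δ (ξ j) (f j) x)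
      (finite_support_divFun_family ξ f hlf x) P
  have hT₁0 : ∀ x, x ∉ Set.range i₁ → T₁ x = 0 := by
    intro x hx
    rw [hT₁x]
    apply finsum_eq_zero_of_forall_eq_zero
    intro j
    obtain ⟨z, hz⟩ := hP₁ j
    have := divFun_eq_zero_of_notMem_range i₁ δ z
    apply divFun_eq_zero_of_not_specializes
    intro hsp
    apply hx
    have h1 : x ∈ closure {ξ j.1} := specializes_iff_mem_closure.1 hsp
    have h2 : closure {ξ j.1} ⊆ Set.range i₁ :=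
      i₁.isClosedEmbedding.isClosed_range.closure_subset_iff.2
        (Set.singleton_subset_iff.2 (hP₁ j))
    exact h2 h1
  have hT₂0 : ∀ x, x ∉ Set.range i₂ → T₂ x = 0 := by
    intro x hx
    rw [hT₂x]
    apply finsum_eq_zero_of_forall_eq_zero
    intro j
    apply divFun_eq_zero_of_not_specializes
    intro hsp
    apply hx
    have h1 : x ∈ closure {ξ j.1} := specializes_iff_mem_closure.1 hsp
    have h2 : closure {ξ j.1} ⊆ Set.range i₂ :=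
      i₂.isClosedEmbedding.isClosed_range.closure_subset_iff.2
        (Set.singleton_subset_iff.2 (hP₂ j))
    exact h2 h1
  -- the cycle `c` on `X`
  obtain ⟨c, hc⟩ : ∃ c : X → ℤ, c = fun x => A₁ x - T₁ x := ⟨_, rfl⟩
  have hcx : ∀ x, c x = A₁ x - T₁ x := fun x => by rw [hc]
  have hcx' : ∀ x, c x = A₂ x + T₂ x := by
    intro x
    rw [hcx]
    have := hsplit x
    omega
  have hc0₁ : ∀ x, x ∉ Set.range i₁ → c x = 0 := fun x hx => by
    rw [hcx, hA₁0 x hx, hT₁0 x hx, sub_zero]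
  have hc0₂ : ∀ x, x ∉ Set.range i₂ → c x = 0 := fun x hx => by
    rw [hcx', hA₂0 x hx, hT₂0 x hx, add_zero]
  have hck : ∀ x, δ x ≠ k → c x = 0 := by
    intro x hxk
    rw [hcx]
    have h1 : A₁ x = 0 := by
      by_cases hx : x ∈ Set.range i₁
      · obtain ⟨z, rfl⟩ := hx
        rw [hA₁i]
        exact h₁ z hxk
      · exact hA₁0 x hx
    have h2 : T₁ x = 0 := by
      rw [hT₁x]
      apply finsum_eq_zero_of_forall_eq_zero
      intro j
      exact divFun_eq_zero_of_delta_ne δ _ _ x (hdim j.1) hxk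
    rw [h1, h2, sub_zero]
  have hclf : ∀ z : X, ∃ t ∈ nhds z, (t ∩ Function.support c).Finite := by
    intro z
    obtain ⟨tA, htA, hfA⟩ := A₁.supportLocallyFiniteWithinDomain' z (Set.mem_univ z)
    obtain ⟨tT, htT, hfT⟩ := exists_nhd_finite_support_finsum_divFun hδ
      (fun j : ↥P => ξ j.1) (fun j => f j.1) (fun j => hne j.1) (hlfP P) z
    refine ⟨tA ∩ tT, Filter.inter_mem htA htT, (hfA.union hfT).subset ?_⟩
    rintro x ⟨⟨hxA, hxT⟩, hx⟩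
    have hx' : c x ≠ 0 := hx
    by_cases ha : A₁ x = 0
    · right
      refine ⟨hxT, ?_⟩
      intro h0
      apply hx'
      have h0' : T₁ x = 0 := by
        rw [hT₁x]
        exact h0
      rw [hcx, ha, h0', sub_zero]
    · exact Or.inl ⟨hxA, ha⟩
  -- the cycle `β` on the intersection
  obtain ⟨q, hq⟩ : ∃ q : ↥(pullback i₁ i₂) → X, q = fun p => i₁ (pullback.fst i₁ i₂ p) :=
    ⟨_, rfl⟩
  have hqp : ∀ p, q p = i₁ (pullback.fst i₁ i₂ p) := fun p => by rw [hq]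
  have hqp' : ∀ p, q p = i₂ (pullback.snd i₁ i₂ p) := by
    intro p
    rw [hqp]
    have h1 : pullback.fst i₁ i₂ ≫ i₁ = pullback.snd i₁ i₂ ≫ i₂ := pullback.condition
    have h2 := congrArg (fun (m : pullback i₁ i₂ ⟶ X) => m p) h1
    simpa using h2
  have hqcont : Continuous q := by
    rw [hq]
    exact i₁.continuous.comp (pullback.fst i₁ i₂).continuous
  have hqinj : Function.Injective q := by
    rw [hq]
    exact i₁.isClosedEmbedding.injective.comp (pullback.fst i₁ i₂).isClosedEmbedding.injective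
  have hβlf : ∀ p ∈ (Set.univ : Set ↥(pullback i₁ i₂)), ∃ t ∈ nhds p,
      (t ∩ Function.support (fun p => c (q p))).Finite := by
    intro p _
    obtain ⟨t, ht, hfin⟩ := hclf (q p)
    refine ⟨q ⁻¹' t, hqcont.continuousAt ht, ?_⟩
    have h1 : q ⁻¹' t ∩ Function.support (fun p => c (q p)) =
        q ⁻¹' (t ∩ Function.support c) := by
      ext p'
      rfl
    rw [h1]
    exact hfin.preimage hqinj.injOn
  obtain ⟨β, hβ⟩ : ∃ β : AlgebraicCycle (pullback i₁ i₂) ℤ, β =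
      ⟨fun p => c (q p), Set.subset_univ _, hβlf⟩ := ⟨_, rfl⟩
  have hβp : ∀ p, β p = c (q p) := by
    intro p
    rw [hβ]
    rfl
  -- pushforwards of `β`
  have hfstβ : ∀ z : X₁, AlgebraicCycle.map (pullback.fst i₁ i₂)
      (fun z => δ (i₁ (pullback.fst i₁ i₂ z))) (fun x => δ (i₁ x)) β z = c (i₁ z) := by
    intro z
    by_cases hz : z ∈ Set.range (pullback.fst i₁ i₂)
    · obtain ⟨p, rfl⟩ := hz
      rw [map_closedImmersion_apply (pullback.fst i₁ i₂)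
        (fun z => δ (i₁ (pullback.fst i₁ i₂ z))) (fun x => δ (i₁ x)) (fun _ => rfl) β p, hβp, hqp]
    · rw [map_closedImmersion_apply_of_notMem (pullback.fst i₁ i₂) _ _ β z hz]
      rw [Scheme.Pullback.range_fst] at hz
      exact (hc0₂ (i₁ z) hz).symm
  have hsndβ : ∀ z : X₂, AlgebraicCycle.map (pullback.snd i₁ i₂)
      (fun z => δ (i₁ (pullback.fst i₁ i₂ z))) (fun x => δ (i₂ x)) β z = c (i₂ z) := by
    intro z
    by_cases hz : z ∈ Set.range (pullback.snd i₁ i₂)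
    · obtain ⟨p, rfl⟩ := hz
      have hw : ∀ p : ↥(pullback i₁ i₂), δ (i₁ (pullback.fst i₁ i₂ p)) =
          δ (i₂ (pullback.snd i₁ i₂ p)) := fun p => by rw [← hqp, ← hqp']
      rw [map_closedImmersion_apply (pullback.snd i₁ i₂)
        (fun z => δ (i₁ (pullback.fst i₁ i₂ z))) (fun x => δ (i₂ x)) hw β p, hβp, hqp']
    · rw [map_closedImmersion_apply_of_notMem (pullback.snd i₁ i₂) _ _ β z hz]
      rw [Scheme.Pullback.range_snd] at hz
      exact (hc0₁ (i₂ z) hz).symm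
  refine ⟨β, ?_, ?_, ?_⟩
  · intro p hp
    rw [hβp]
    apply hck
    rw [hqp]
    exact hp
  · refine ⟨↥P, ζ₁, f₁, hd₁, hn₁, hl₁, ?_⟩
    intro z
    have h1 : (α₁ - AlgebraicCycle.map (pullback.fst i₁ i₂)
        (fun z => δ (i₁ (pullback.fst i₁ i₂ z))) (fun x => δ (i₁ x)) β) z =
        α₁ z - AlgebraicCycle.map (pullback.fst i₁ i₂)
        (fun z => δ (i₁ (pullback.fst i₁ i₂ z))) (fun x => δ (i₁ x)) β z := rfl
    rw [h1, hfstβ, hcx, hA₁i, hT₁x]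
    simp_rw [hdiv₁]
    ring
  · refine ⟨↥Pᶜ, ζ₂, f₂, hd₂, hn₂, hl₂, ?_⟩
    intro z
    have h1 : (α₂ - AlgebraicCycle.map (pullback.snd i₁ i₂)
        (fun z => δ (i₁ (pullback.fst i₁ i₂ z))) (fun x => δ (i₂ x)) β) z =
        α₂ z - AlgebraicCycle.map (pullback.snd i₁ i₂)
        (fun z => δ (i₁ (pullback.fst i₁ i₂ z))) (fun x => δ (i₂ x)) β z := rfl
    rw [h1, hsndβ, hcx', hA₂i, hT₂x]
    simp_rw [hdiv₂]
    have h2 : ∀ j : ↥Pᶜ, Cyc.divFun δ (ξ j.1) (f j.1)⁻¹ (i₂ z) =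
        - Cyc.divFun δ (ξ j.1) (f j.1) (i₂ z) := fun j => divFun_inv δ _ (hne j.1) _
    simp_rw [h2]
    rw [finsum_neg_distrib]
    ring

end Groth.Agent.Lib.Helper64.CycCl
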