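import Mathlib

set_option autoImplicit false
set_option linter.style.haveILetI false
universe u

namespace Groth.Agent.Lib.Helper64.OrdOpen

/-- `Ring.ord` is invariant under ring isomorphisms. -/
theorem ord_ringEquiv {R R' : Type*} [CommRing R] [CommRing R'] (e : R ≃+* R') (a : R) :
    Ring.ord R' (e a) = Ring.ord R a := by
  unfold Ring.ord
  have hI : Ideal.span {e a} = (Ideal.span {a}).map (e : R →+* R') := by
    rw [Ideal.map_span, Set.image_singleton]; rfl
  let q : (R ⧸ Ideal.span {a}) ≃+* (R' ⧸ Ideal.span {e a}) :=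
    Ideal.quotientEquiv _ _ e hI
  letI : RingHomInvPair (e : R →+* R') (e.symm : R' →+* R) := RingHomInvPair.of_ringEquiv e
  letI : RingHomInvPair (e.symm : R' →+* R) (e : R →+* R') := RingHomInvPair.of_ringEquiv e.symm
  let L : (R ⧸ Ideal.span {a}) ≃ₛₗ[(e : R →+* R')] (R' ⧸ Ideal.span {e a}) :=
    { q.toAddEquiv with
      map_smul' := by
        intro r m
        obtain ⟨m, rfl⟩ := Ideal.Quotient.mk_surjective m
        show q (r • Ideal.Quotient.mk _ m) = e r • q (Ideal.Quotient.mk _ m)
        rw [← Ideal.Quotient.mk_eq_mk, ← Submodule.Quotient.mk_smul, Ideal.Quotient.mk_eq_mk]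
        simp only [q, Ideal.quotientEquiv_mk, smul_eq_mul, map_mul]
        rfl }
  rw [← WithBot.coe_inj, Module.coe_length, Module.coe_length,
    Order.krullDim_eq_of_orderIso (Submodule.orderIsoMapComap L)]


theorem ordMonoidWithZeroHom_ringEquiv {R R' : Type*} [CommRing R] [CommRing R'] [IsDomain R]
    [IsDomain R'] (e : R ≃+* R') (a : R) :
    Ring.ordMonoidWithZeroHom R' (e a) = Ring.ordMonoidWithZeroHom R a := by
  by_cases ha : a = 0
  · rw [ha, map_zero, map_zero, map_zero]
  · have h1 : a ∈ nonZeroDivisors R := mem_nonZeroDivisors_of_ne_zero ha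
    have h2 : e a ∈ nonZeroDivisors R' :=
      mem_nonZeroDivisors_of_ne_zero (by rwa [Ne, map_eq_zero_iff e e.injective])
    rw [Ring.ordMonoidWithZeroHom_eq_ord h1, Ring.ordMonoidWithZeroHom_eq_ord h2, ord_ringEquiv]

/-- `Ring.ordFrac` is invariant under compatible isomorphisms of rings and fraction fields. -/
theorem ordFrac_ringEquiv {R R' K K' : Type*} [CommRing R] [CommRing R'] [IsDomain R]
    [IsDomain R'] [IsNoetherianRing R] [IsNoetherianRing R'] [Ring.KrullDimLE 1 R]
    [Ring.KrullDimLE 1 R'] [Field K] [Field K'] [Algebra R K] [Algebra R' K']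
    [IsFractionRing R K] [IsFractionRing R' K'] (e : R ≃+* R') (E : K ≃+* K')
    (h : ∀ r, E (algebraMap R K r) = algebraMap R' K' (e r)) (k : K) :
    Ring.ordFrac R' (E k) = Ring.ordFrac R k := by
  obtain ⟨a, b, hb, rfl⟩ := IsFractionRing.div_surjective (A := R) k
  have hb0 : b ≠ 0 := nonZeroDivisors.ne_zero hb
  have heb0 : e b ≠ 0 := by rwa [Ne, map_eq_zero_iff e e.injective]
  rw [map_div₀, h, h, map_div₀, map_div₀]
  by_cases ha : a = 0
  · simp [ha]
  have hea0 : e a ≠ 0 := by rwa [Ne, map_eq_zero_iff e e.injective]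
  rw [Ring.ordFrac_eq_ord R ha, Ring.ordFrac_eq_ord R hb0, Ring.ordFrac_eq_ord R' hea0,
    Ring.ordFrac_eq_ord R' heb0, ordMonoidWithZeroHom_ringEquiv, ordMonoidWithZeroHom_ringEquiv]

open AlgebraicGeometry CategoryTheory TopologicalSpace

variable {X Y : Scheme.{u}} (f : Y ⟶ X) [IsOpenImmersion f] [IsIntegral X] [IsIntegral Y]

/-- an open immersion of integral schemes identifies the function fields -/
noncomputable def functionFieldEquiv : X.functionField ≃+* Y.functionField :=
  ((X.presheaf.stalkCongr
      (.of_eq (genericPoint_eq_of_isOpenImmersion f).symm)) ≪≫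
    asIso (f.stalkMap (genericPoint Y))).commRingCatIsoToRingEquiv

theorem functionFieldEquiv_algebraMap (y : Y) (r : X.presheaf.stalk (f y)) :
    functionFieldEquiv f (algebraMap (X.presheaf.stalk (f y)) X.functionField r) =
      algebraMap (Y.presheaf.stalk y) Y.functionField ((f.stalkMap y).hom r) := by
  have hy : genericPoint Y ⤳ y := genericPoint_specializes y
  have h1 : X.presheaf.stalkSpecializes (genericPoint_specializes (f y)) ≫
      (X.presheaf.stalkCongr (.of_eq (genericPoint_eq_of_isOpenImmersion f).symm)).hom ≫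
        f.stalkMap (genericPoint Y) =
      f.stalkMap y ≫ Y.presheaf.stalkSpecializes hy := by
    rw [← f.stalkSpecializes_stalkMap _ _ hy]
    simp only [TopCat.Presheaf.stalkCongr_hom, ← Category.assoc]
    congr 1
    exact TopCat.Presheaf.stalkSpecializes_comp _ _ _
  exact DFunLike.congr_fun (CommRingCat.hom_ext_iff.mp h1) r


/-- orders of vanishing are invariant under open immersions -/
theorem ord_functionFieldEquiv [IsLocallyNoetherian X] [IsLocallyNoetherian Y] (y : Y)
    (k : X.functionField) :
    Scheme.ord (functionFieldEquiv f k) y = Scheme.ord k (f y) := by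
  have hco : Order.coheight (f y) = Order.coheight y := coheight_eq_of_isOpenImmersion f
  by_cases hy : Order.coheight y = 1
  · have hfy : Order.coheight (f y) = 1 := hco.trans hy
    rw [Scheme.ord_eq_ordHom_of_coheight_eq_one hy, Scheme.ord_eq_ordHom_of_coheight_eq_one hfy]
    congr 2
    haveI : Ring.KrullDimLE 1 (Y.presheaf.stalk y) := krullDimLE_of_coheight_le hy.le
    haveI : Ring.KrullDimLE 1 (X.presheaf.stalk (f y)) := krullDimLE_of_coheight_le hfy.le
    exact ordFrac_ringEquiv (asIso (f.stalkMap y)).commRingCatIsoToRingEquiv (functionFieldEquiv f)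
      (fun r => functionFieldEquiv_algebraMap f y r) k
  · have hfy : Order.coheight (f y) ≠ 1 := fun h => hy (hco.symm.trans h)
    rw [Scheme.ord_eq_zero_of_coheight_neq_one hy, Scheme.ord_eq_zero_of_coheight_neq_one hfy]

end Groth.Agent.Lib.Helper64.OrdOpen
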