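import Groth.Agent.Lib.Helper64.CycTens3
import Groth.Agent.Lib.Helper64.OrdOpen

/-!
# Orders along specializations are invariant under open immersions (helper64)

* `cycOrdFrac_ringEquiv`: `CycAlg.ordFrac` is invariant under compatible isomorphisms.
* `ordAt_openImmersion`, `divFun_openImmersion`.
-/

set_option autoImplicit false
set_option linter.style.haveILetI false
set_option linter.unusedSectionVars false
universe u v

open AlgebraicGeometry CategoryTheory TopologicalSpace IsLocalRing

namespace Groth.Agent.Lib.Helper64.CycExc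

open Groth.Agent.Lib.Helper64.CycOrd Groth.Agent.Lib.Helper64.CycLen
open Groth.Agent.Lib.Helper64.OrdOpen

section alg

variable {R R' : Type u} {K K' : Type v} [CommRing R] [CommRing R'] [Field K] [Field K']
  [Algebra R K] [Algebra R' K']

theorem isFractionRing_of_ringEquiv (e : R ≃+* R') (E : K ≃+* K')
    (h : ∀ r, E (algebraMap R K r) = algebraMap R' K' (e r)) [IsFractionRing R K] :
    IsFractionRing R' K' := by
  have h' : ∀ r', algebraMap R' K' r' = E (algebraMap R K (e.symm r')) := by
    intro r'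
    rw [h, RingEquiv.apply_symm_apply]
  haveI : FaithfulSMul R' K' := by
    rw [faithfulSMul_iff_algebraMap_injective]
    intro a b hab
    rw [h', h'] at hab
    have h1 := IsFractionRing.injective R K (E.injective hab)
    exact e.symm.injective h1
  apply IsFractionRing.of_field
  intro z
  obtain ⟨a, b, -, hz⟩ := IsFractionRing.div_surjective (A := R) (E.symm z)
  refine ⟨e a, e b, ?_⟩
  rw [← h, ← h, ← map_div₀, hz, RingEquiv.apply_symm_apply]

/-- `CycAlg.ordFrac` is invariant under compatible isomorphisms of rings and fields -/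
theorem cycOrdFrac_ringEquiv (e : R ≃+* R') (E : K ≃+* K')
    (h : ∀ r, E (algebraMap R K r) = algebraMap R' K' (e r)) (k : K) :
    CycAlg.ordFrac R' K' (E k) = CycAlg.ordFrac R K k := by
  have hsymm : ∀ r', E.symm (algebraMap R' K' r') = algebraMap R K (e.symm r') := by
    intro r'
    apply E.injective
    rw [RingEquiv.apply_symm_apply, h, RingEquiv.apply_symm_apply]
  unfold CycAlg.ordFrac
  by_cases hc : IsNoetherianRing R ∧ Ring.KrullDimLE 1 R ∧ Nontrivial R ∧ IsFractionRing R K
  · haveI := hc.1; haveI := hc.2.1; haveI := hc.2.2.1; haveI := hc.2.2.2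
    haveI hN' : IsNoetherianRing R' := isNoetherianRing_of_ringEquiv R e
    haveI hK' : Ring.KrullDimLE 1 R' := by
      rw [Ring.krullDimLE_iff, ← ringKrullDim_eq_of_ringEquiv e]
      exact Ring.krullDimLE_iff.1 inferInstance
    haveI hnt' : Nontrivial R' := e.injective.nontrivial
    haveI hF' : IsFractionRing R' K' := isFractionRing_of_ringEquiv e E h
    have hc' : IsNoetherianRing R' ∧ Ring.KrullDimLE 1 R' ∧ Nontrivial R' ∧ IsFractionRing R' K' :=
      ⟨hN', hK', hnt', hF'⟩
    rw [dif_pos hc, dif_pos hc']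
    haveI : IsDomain R := (IsFractionRing.injective R K).isDomain (algebraMap R K)
    haveI : IsDomain R' := (IsFractionRing.injective R' K').isDomain (algebraMap R' K')
    rw [ordFrac_ringEquiv e E h k]
  · have hc' : ¬ (IsNoetherianRing R' ∧ Ring.KrullDimLE 1 R' ∧ Nontrivial R' ∧
        IsFractionRing R' K') := by
      intro hc'
      apply hc
      haveI := hc'.1; haveI := hc'.2.1; haveI := hc'.2.2.1; haveI := hc'.2.2.2
      refine ⟨isNoetherianRing_of_ringEquiv R' e.symm, ?_, e.symm.injective.nontrivial,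
        isFractionRing_of_ringEquiv e.symm E.symm hsymm⟩
      rw [Ring.krullDimLE_iff, ← ringKrullDim_eq_of_ringEquiv e.symm]
      exact Ring.krullDimLE_iff.1 inferInstance
    rw [dif_neg hc, dif_neg hc']

end alg

variable {X Z : Scheme.{u}} (g : Z ⟶ X)

/-- the specialization-residue maps are compatible with a morphism -/
theorem specMap_stalkMap {z ζ : Z} (h : ζ ⤳ z) (h' : g ζ ⤳ g z) (r : X.presheaf.stalk (g z)) :
    Cyc.specMap z ζ h ((g.stalkMap z).hom r) =
      (g.residueFieldMap ζ).hom (Cyc.specMap (g z) (g ζ) h' r) := by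
  have h1 : X.presheaf.stalkSpecializes h' ≫ X.residue (g ζ) ≫ g.residueFieldMap ζ =
      g.stalkMap z ≫ Z.presheaf.stalkSpecializes h ≫ Z.residue ζ := by
    rw [Scheme.residue_residueFieldMap, ← Category.assoc, ← Category.assoc]
    congr 1
    exact Scheme.Hom.stalkSpecializes_stalkMap g ζ z h
  exact (DFunLike.congr_fun (CommRingCat.hom_ext_iff.mp h1) r).symm

variable [IsOpenImmersion g]

/-- orders along specializations are invariant under open immersions -/
theorem ordAt_openImmersion {z ζ : Z} (h : ζ ⤳ z) (h' : g ζ ⤳ g z) (k : X.residueField (g ζ)) :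
    Cyc.ordAt z ζ h ((g.residueFieldMap ζ).hom k) = Cyc.ordAt (g z) (g ζ) h' k := by
  let φ : X.presheaf.stalk (g z) ≃+* Z.presheaf.stalk z :=
    (asIso (g.stalkMap z)).commRingCatIsoToRingEquiv
  let E : X.residueField (g ζ) ≃+* Z.residueField ζ :=
    (asIso (g.residueFieldMap ζ)).commRingCatIsoToRingEquiv
  have hφ : ∀ r, φ r = (g.stalkMap z).hom r := fun r => rfl
  have hE : ∀ k, E k = (g.residueFieldMap ζ).hom k := fun k => rfl
  have hker : RingHom.ker (Cyc.specMap z ζ h) =
      (RingHom.ker (Cyc.specMap (g z) (g ζ) h')).map (φ : X.presheaf.stalk (g z) →+* _) := by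
    ext a
    obtain ⟨r, rfl⟩ := φ.surjective a
    rw [RingHom.mem_ker, hφ, specMap_stalkMap g h h']
    constructor
    · intro h0
      have h1 : Cyc.specMap (g z) (g ζ) h' r = 0 := by
        apply E.injective
        rw [map_zero, hE]
        exact h0
      exact Ideal.mem_map_of_mem _ (RingHom.mem_ker.2 h1)
    · intro hmem
      obtain ⟨r', hr', hrr'⟩ := (Ideal.mem_map_iff_of_surjective
        (φ : X.presheaf.stalk (g z) →+* Z.presheaf.stalk z) φ.surjective).1 hmem
      have h2 : r' = r := φ.injective hrr'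
      rw [← h2, RingHom.mem_ker.1 hr', map_zero]
  let e : Cyc.LocQuot (g z) (g ζ) h' ≃+* Cyc.LocQuot z ζ h :=
    Ideal.quotientEquiv _ _ φ hker
  have hcompat : ∀ r, E (algebraMap (Cyc.LocQuot (g z) (g ζ) h') (X.residueField (g ζ)) r) =
      algebraMap (Cyc.LocQuot z ζ h) (Z.residueField ζ) (e r) := by
    intro r
    obtain ⟨r, rfl⟩ := Ideal.Quotient.mk_surjective r
    have h1 : algebraMap (Cyc.LocQuot (g z) (g ζ) h') (X.residueField (g ζ))
        (Ideal.Quotient.mk _ r) = Cyc.specMap (g z) (g ζ) h' r := rfl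
    have h2 : e (Ideal.Quotient.mk _ r) = Ideal.Quotient.mk _ (φ r) := rfl
    have h3 : algebraMap (Cyc.LocQuot z ζ h) (Z.residueField ζ) (Ideal.Quotient.mk _ (φ r)) =
        Cyc.specMap z ζ h (φ r) := rfl
    rw [h1, h2, h3, hφ, specMap_stalkMap g h h', hE]
  exact cycOrdFrac_ringEquiv e E hcompat k

end Groth.Agent.Lib.Helper64.CycExc
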