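import Groth.Agent.Lib.Helper64.CycExc1
import Groth.Agent.Lib.Helper64.AssReg2

/-!
# Principal divisors: open immersions and local finiteness (helper64)

* `divFun_openImmersion`: principal divisors are compatible with restriction to an open.
* `finite_support_divFun_inter_affine`, `exists_nhd_finite_support_divFun`: on a locally Noetherian
  scheme with a dimension function, a principal divisor has locally finite support.
-/

set_option autoImplicit false
set_option linter.style.haveILetI false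
set_option linter.unusedSectionVars false
universe u v

open AlgebraicGeometry CategoryTheory TopologicalSpace IsLocalRing

namespace Groth.Agent.Lib.Helper64.CycExc

open Groth.Agent.Lib.Helper64.CycOrd Groth.Agent.Lib.Helper64.CycLen
open Groth.Agent.Lib.Helper64.CycTens
open Groth.Agent.Lib.Helper64.AssReg
open Groth.Agent.Lib.Helper29.QCohLoc

variable {X Z : Scheme.{u}}

/-- principal divisors are compatible with open immersions -/
theorem divFun_openImmersion (g : Z ⟶ X) [IsOpenImmersion g] (δ : X → ℤ) (ζ z : Z)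
    (k : X.residueField (g ζ)) :
    Cyc.divFun (fun z => δ (g z)) ζ ((g.residueFieldMap ζ).hom k) z =
      Cyc.divFun δ (g ζ) k (g z) := by
  have hsp : g ζ ⤳ g z ↔ ζ ⤳ z := g.isOpenEmbedding.toIsInducing.specializes_iff
  unfold Cyc.divFun
  beta_reduce
  by_cases hc : ζ ⤳ z ∧ δ (g z) + 1 = δ (g ζ)
  · have hc' : g ζ ⤳ g z ∧ δ (g z) + 1 = δ (g ζ) := ⟨hsp.2 hc.1, hc.2⟩
    rw [dif_pos hc, dif_pos hc']
    exact ordAt_openImmersion g hc.1 hc'.1 k
  · have hc' : ¬ (g ζ ⤳ g z ∧ δ (g z) + 1 = δ (g ζ)) := fun h => hc ⟨hsp.1 h.1, h.2⟩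
    rw [dif_neg hc, dif_neg hc']

/-- the specialization-residue map on germs -/
theorem specMap_germ {V : X.Opens} {ξ x : X} (h : ξ ⤳ x) (hx : x ∈ V) (a : Γ(X, V)) :
    Cyc.specMap x ξ h (X.presheaf.germ V x hx a) =
      (X.residue ξ).hom (X.presheaf.germ V ξ (h.mem_open V.isOpen hx) a) := by
  unfold Cyc.specMap
  rw [CommRingCat.hom_comp, RingHom.comp_apply]
  congr 1
  exact ConcreteCategory.congr_hom (X.presheaf.germ_stalkSpecializes hx h) a

/-- the order of a quotient of two functions invertible at `x` vanishes -/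
theorem ordAt_eq_zero_of_mem_basicOpen {V : X.Opens} {ξ x : X} (h : ξ ⤳ x) (hx : x ∈ V)
    (a b : Γ(X, V)) (hxa : x ∈ X.basicOpen a) (hxb : x ∈ X.basicOpen b) (f : X.residueField ξ)
    (hf : f * (X.residue ξ).hom (X.presheaf.germ V ξ (h.mem_open V.isOpen hx) b) =
      (X.residue ξ).hom (X.presheaf.germ V ξ (h.mem_open V.isOpen hx) a)) :
    Cyc.ordAt x ξ h f = 0 := by
  have hua : IsUnit (X.presheaf.germ V x hx a) := (Scheme.mem_basicOpen X a x hx).1 hxa
  have hub : IsUnit (X.presheaf.germ V x hx b) := (Scheme.mem_basicOpen X b x hx).1 hxb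
  have h1 := ordAt_specMap_unit x ξ h hua
  have h2 := ordAt_specMap_unit x ξ h hub
  have hne_a : Cyc.specMap x ξ h (X.presheaf.germ V x hx a) ≠ 0 := (hua.map _).ne_zero
  have hne_b : Cyc.specMap x ξ h (X.presheaf.germ V x hx b) ≠ 0 := (hub.map _).ne_zero
  have hfe : f = Cyc.specMap x ξ h (X.presheaf.germ V x hx a) /
      Cyc.specMap x ξ h (X.presheaf.germ V x hx b) := by
    rw [eq_div_iff hne_b, specMap_germ h hx a, specMap_germ h hx b]
    exact hf
  rw [hfe, ordAt_div x ξ h hne_a hne_b, h1, h2, sub_zero]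

/-- **local finiteness of principal divisors**: on a Noetherian affine open, a principal divisor
has finite support -/
theorem finite_support_divFun_inter_affine {δ : X → ℤ} (hδ : Cyc.IsDimFun X δ) {V : X.Opens}
    (hV : IsAffineOpen V) [IsNoetherianRing Γ(X, V)] (ξ : X) (f : X.residueField ξ)
    (hf : f ≠ 0) : ((V : Set X) ∩ Function.support (Cyc.divFun δ ξ f)).Finite := by
  classical
  by_cases hξV : ξ ∈ V
  swap
  · convert Set.finite_empty
    rw [Set.eq_empty_iff_forall_notMem]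
    rintro x ⟨hxV, hx⟩
    apply hx
    apply divFun_eq_zero_of_not_specializes
    intro hsp
    exact hξV (hsp.mem_open V.isOpen hxV)
  -- write `f` as a fraction
  obtain ⟨φ, hφ⟩ := X.residue_surjective ξ f
  letI : Algebra Γ(X, V) (X.presheaf.stalk ξ) :=
    TopCat.Presheaf.algebra_section_stalk X.presheaf ⟨ξ, hξV⟩
  haveI : IsLocalization.AtPrime (X.presheaf.stalk ξ) (hV.primeIdealOf ⟨ξ, hξV⟩).asIdeal :=
    hV.isLocalization_stalk ⟨ξ, hξV⟩
  obtain ⟨⟨a, b⟩, hab⟩ := IsLocalization.surj (hV.primeIdealOf ⟨ξ, hξV⟩).asIdeal.primeCompl φ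
  have hab' : φ * X.presheaf.germ V ξ hξV (b : Γ(X, V)) = X.presheaf.germ V ξ hξV a := hab
  have hfab : f * (X.residue ξ).hom (X.presheaf.germ V ξ hξV (b : Γ(X, V))) =
      (X.residue ξ).hom (X.presheaf.germ V ξ hξV a) := by
    rw [← hab', map_mul]
    congr 1
    exact hφ.symm
  have hbP : (b : Γ(X, V)) ∉ (hV.primeIdealOf ⟨ξ, hξV⟩).asIdeal := b.2
  have hξb : ξ ∈ X.basicOpen (b : Γ(X, V)) := by
    by_contra hc
    exact hbP ((mem_primeIdealOf_iff hV ξ hξV _).2 hc)
  have hub : IsUnit (X.presheaf.germ V ξ hξV (b : Γ(X, V))) :=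
    (Scheme.mem_basicOpen X _ ξ hξV).1 hξb
  have hφu : IsUnit φ := by
    by_contra hc
    apply hf
    rw [← hφ]
    have : φ ∈ maximalIdeal (X.presheaf.stalk ξ) := hc
    exact (Ideal.Quotient.eq_zero_iff_mem).2 this
  have hua : IsUnit (X.presheaf.germ V ξ hξV a) := by
    rw [← hab']
    exact hφu.mul hub
  have hξa : ξ ∈ X.basicOpen a := (Scheme.mem_basicOpen X _ ξ hξV).2 hua
  have haP : a ∉ (hV.primeIdealOf ⟨ξ, hξV⟩).asIdeal := fun hc =>
    (mem_primeIdealOf_iff hV ξ hξV _).1 hc hξa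
  have habP : a * (b : Γ(X, V)) ∉ (hV.primeIdealOf ⟨ξ, hξV⟩).asIdeal := fun hc =>
    ((hV.primeIdealOf ⟨ξ, hξV⟩).isPrime.mem_or_mem hc).elim haP hbP
  -- the map to primes
  let F : X → Ideal Γ(X, V) := fun y =>
    if hy : y ∈ V then (hV.primeIdealOf ⟨y, hy⟩).asIdeal else ⊤
  apply Set.Finite.of_finite_image (f := F)
  · apply (Ideal.finite_minimalPrimes_of_isNoetherianRing Γ(X, V)
      ((hV.primeIdealOf ⟨ξ, hξV⟩).asIdeal ⊔ Ideal.span {a * (b : Γ(X, V))})).subset
    rintro _ ⟨x, ⟨hxV, hx⟩, rfl⟩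
    replace hxV : x ∈ V := hxV
    simp only [F, dif_pos hxV]
    have hx' : Cyc.divFun δ ξ f x ≠ 0 := hx
    have hc : ξ ⤳ x ∧ δ x + 1 = δ ξ := by
      by_contra hc
      apply hx'
      unfold Cyc.divFun
      rw [dif_neg hc]
    have hord : Cyc.ordAt x ξ hc.1 f ≠ 0 := by
      intro h0
      apply hx'
      unfold Cyc.divFun
      rw [dif_pos hc]
      exact h0
    have hmem : a * (b : Γ(X, V)) ∈ (hV.primeIdealOf ⟨x, hxV⟩).asIdeal := by
      by_contra hnot
      have hxab : x ∈ X.basicOpen (a * (b : Γ(X, V))) := by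
        by_contra hc'
        exact hnot ((mem_primeIdealOf_iff hV x hxV _).2 hc')
      rw [Scheme.basicOpen_mul] at hxab
      exact hord (ordAt_eq_zero_of_mem_basicOpen hc.1 hxV a b hxab.1 hxab.2 f hfab)
    have hle : (hV.primeIdealOf ⟨ξ, hξV⟩).asIdeal ≤ (hV.primeIdealOf ⟨x, hxV⟩).asIdeal :=
      primeIdealOf_le_of_specializes hV hxV hξV hc.1
    refine ⟨⟨(hV.primeIdealOf ⟨x, hxV⟩).isPrime, sup_le hle ?_⟩, ?_⟩
    · rw [Ideal.span_le]
      intro t ht
      rw [Set.mem_singleton_iff.1 ht]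
      exact hmem
    · rintro q ⟨hqp, hqle⟩ hqx
      haveI := hqp
      obtain ⟨y, hyV, hy⟩ := exists_point_of_prime hV q
      have hξy : ξ ⤳ y := by
        apply specializes_of_primeIdealOf_le hV hyV hξV
        rw [hy]
        exact le_trans le_sup_left hqle
      have hyx : y ⤳ x := by
        apply specializes_of_primeIdealOf_le hV hxV hyV
        rw [hy]
        exact hqx
      have hyξ : ξ ≠ y := by
        intro he
        apply habP
        have : a * (b : Γ(X, V)) ∈ q :=
          hqle (Ideal.mem_sup_right (Ideal.subset_span (Set.mem_singleton _)))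
        rw [← hy] at this
        subst he
        exact this
      have hyx' : y = x := by
        by_contra hne
        have h1 := (hδ ξ y hξy hyξ).1
        have h2 := (hδ y x hyx hne).1
        have h3 := hc.2
        omega
      subst hyx'
      rw [hy]
  · rintro y ⟨hy, -⟩ y' ⟨hy', -⟩ h
    replace hy : y ∈ V := hy
    replace hy' : y' ∈ V := hy'
    simp only [F, dif_pos hy, dif_pos hy'] at h
    exact primeIdealOf_inj hV hy hy' h

/-- a principal divisor has locally finite support -/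
theorem exists_nhd_finite_support_divFun [IsLocallyNoetherian X] {δ : X → ℤ}
    (hδ : Cyc.IsDimFun X δ) (ξ : X) (f : X.residueField ξ) (hf : f ≠ 0) (x₀ : X) :
    ∃ V : Set X, IsOpen V ∧ x₀ ∈ V ∧ (V ∩ Function.support (Cyc.divFun δ ξ f)).Finite := by
  obtain ⟨_, ⟨V, hV : IsAffineOpen V, rfl⟩, hxV, -⟩ :=
    X.isBasis_affineOpens.exists_subset_of_mem_open (Set.mem_univ x₀) isOpen_univ
  haveI : IsNoetherianRing Γ(X, V) := IsLocallyNoetherian.component_noetherian ⟨V, hV⟩
  exact ⟨V, V.isOpen, hxV, finite_support_divFun_inter_affine hδ hV ξ f hf⟩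

end Groth.Agent.Lib.Helper64.CycExc
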