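import Groth.Agent.Lib.Helper64.CycExc2

/-!
# Excision for rational equivalence (helper64)

If two `k`-cycles on `X` restrict to rationally equivalent cycles on an open `U`, they differ, up to
rational equivalence on `X`, by a `k`-cycle vanishing on `U`.
-/

set_option autoImplicit false
set_option linter.style.haveILetI false
set_option linter.unusedSectionVars false
universe u v

open AlgebraicGeometry CategoryTheory TopologicalSpace IsLocalRing

namespace Groth.Agent.Lib.Helper64.CycExc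

open Groth.Agent.Lib.Helper64.CycOrd Groth.Agent.Lib.Helper64.CycLen
open Groth.Agent.Lib.Helper64.CycTens
open Groth.Agent.Lib.Helper64.AssReg

variable {X : Scheme.{u}}

/-- a family of points of an open `U`, locally finite in `U`, is locally finite in `X` when `X` is
locally Noetherian -/
theorem locallyFinite_closure_of_open [IsLocallyNoetherian X] (U : X.Opens) {ι : Type*}
    (ξ : ι → ↥U)
    (hlf : ∀ u : ↥U, ∃ W : Set ↥U, IsOpen W ∧ u ∈ W ∧
      {i | (closure {ξ i} ∩ W).Nonempty}.Finite) (x : X) :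
    ∃ V : Set X, IsOpen V ∧ x ∈ V ∧ {i | (closure {(U.ι (ξ i) : X)} ∩ V).Nonempty}.Finite := by
  obtain ⟨_, ⟨V, hV : IsAffineOpen V, rfl⟩, hxV, -⟩ :=
    X.isBasis_affineOpens.exists_subset_of_mem_open (Set.mem_univ x) isOpen_univ
  haveI : IsNoetherianRing Γ(X, V) := IsLocallyNoetherian.component_noetherian ⟨V, hV⟩
  refine ⟨V, V.isOpen, hxV, ?_⟩
  have hK : IsCompact ((V ⊓ U : X.Opens) : Set X) :=
    isCompact_of_le_of_isNoetherianRing hV inf_le_left
  have hind : Topology.IsInducing (fun u : ↥U => (U.ι u : X)) :=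
    U.ι.isOpenEmbedding.toIsInducing
  have hrange : Set.range (fun u : ↥U => (U.ι u : X)) = (U : Set X) := Scheme.Opens.range_ι U
  have hK' : IsCompact ((fun u : ↥U => (U.ι u : X)) ⁻¹' ((V ⊓ U : X.Opens) : Set X)) := by
    apply hind.isCompact_preimage' hK
    rw [hrange]
    intro y hy
    exact hy.2
  have hLF : LocallyFinite (fun i => closure ({ξ i} : Set ↥U)) := by
    intro u
    obtain ⟨W, hW, huW, hfin⟩ := hlf u
    exact ⟨W, hW.mem_nhds huW, hfin⟩
  apply (hLF.finite_nonempty_inter_compact hK').subset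
  rintro i ⟨y, hy, hyV⟩
  have hsp : (U.ι (ξ i) : X) ⤳ y := specializes_iff_mem_closure.2 hy
  have h1 : (U.ι (ξ i) : X) ∈ V := hsp.mem_open V.isOpen hyV
  have h2 : (U.ι (ξ i) : X) ∈ U := (ξ i).2
  exact ⟨ξ i, subset_closure (Set.mem_singleton _), ⟨h1, h2⟩⟩

/-- **excision for rational equivalence** -/
theorem excision (X : Scheme.{u}) (δ : X → ℤ) (hX : Cyc.IsSetup X δ) (U : X.Opens) (k : ℤ)
    (α β : AlgebraicCycle X ℤ) (hα : α ∈ Cyc.Zk X δ k) (hβ : β ∈ Cyc.Zk X δ k)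
    (αU βU : AlgebraicCycle (↑U : Scheme.{u}) ℤ) (hαU : ∀ u : ↥U, αU u = α (U.ι u))
    (hβU : ∀ u : ↥U, βU u = β (U.ι u))
    (h : Cyc.RatEquiv (fun u : ↥U => δ (U.ι u)) k αU βU) :
    ∃ γ : AlgebraicCycle X ℤ, γ ∈ Cyc.Zk X δ k ∧ (∀ x : X, x ∈ U → γ x = 0) ∧
      Cyc.RatEquiv δ k α (β + γ) := by
  classical
  haveI : IsLocallyNoetherian X := hX.1
  have hδ : Cyc.IsDimFun X δ := hX.2.2
  obtain ⟨ι, ξ, f, hdim, hne, hlf, hsum⟩ := h
  -- transport the functions
  have hsurj : ∀ i, ∃ k' : X.residueField (U.ι (ξ i)),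
      (U.ι.residueFieldMap (ξ i)).hom k' = f i := by
    intro i
    let E : X.residueField (U.ι (ξ i)) ≃+* (↑U : Scheme.{u}).residueField (ξ i) :=
      (asIso (U.ι.residueFieldMap (ξ i))).commRingCatIsoToRingEquiv
    obtain ⟨k', hk'⟩ := E.surjective (f i)
    exact ⟨k', hk'⟩
  choose f' hf' using hsurj
  have hne' : ∀ i, f' i ≠ 0 := by
    intro i h0
    apply hne i
    rw [← hf' i, h0, map_zero]
  have hdim' : ∀ i, δ (U.ι (ξ i)) = k + 1 := hdim
  have hlf' := locallyFinite_closure_of_open U ξ hlf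
  -- compatibility of divisors
  have hdiv : ∀ i (u : ↥U), Cyc.divFun δ (U.ι (ξ i)) (f' i) (U.ι u) =
      Cyc.divFun (fun u : ↥U => δ (U.ι u)) (ξ i) (f i) u := by
    intro i u
    rw [← hf' i]
    exact (divFun_openImmersion U.ι δ (ξ i) u (f' i)).symm
  -- the cycle `γ`
  obtain ⟨g, hg⟩ : ∃ g : X → ℤ, g = fun x =>
      α x - β x - ∑ᶠ i, Cyc.divFun δ (U.ι (ξ i)) (f' i) x := ⟨_, rfl⟩
  have hgx : ∀ x, g x = α x - β x - ∑ᶠ i, Cyc.divFun δ (U.ι (ξ i)) (f' i) x := by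
    intro x
    rw [hg]
  have hlocfin : ∀ z ∈ (Set.univ : Set X), ∃ t ∈ nhds z, (t ∩ Function.support g).Finite := by
    intro z _
    obtain ⟨tα, htα, hfα⟩ := α.supportLocallyFiniteWithinDomain' z (Set.mem_univ z)
    obtain ⟨tβ, htβ, hfβ⟩ := β.supportLocallyFiniteWithinDomain' z (Set.mem_univ z)
    obtain ⟨V₀, hV₀, hzV₀, hJ⟩ := hlf' z
    have hVi : ∀ i, ∃ Vi : Set X, IsOpen Vi ∧ z ∈ Vi ∧
        (Vi ∩ Function.support (Cyc.divFun δ (U.ι (ξ i)) (f' i))).Finite := fun i =>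
      exists_nhd_finite_support_divFun hδ (U.ι (ξ i)) (f' i) (hne' i) z
    choose Vi hVio hzVi hVif using hVi
    refine ⟨tα ∩ tβ ∩ V₀ ∩ ⋂ i ∈ {i | (closure {(U.ι (ξ i) : X)} ∩ V₀).Nonempty}, Vi i, ?_, ?_⟩
    · refine Filter.inter_mem (Filter.inter_mem (Filter.inter_mem htα htβ)
        (hV₀.mem_nhds hzV₀)) ?_
      exact (Filter.biInter_mem hJ).2 (fun i _ => (hVio i).mem_nhds (hzVi i))
    · apply ((hfα.union hfβ).union (hJ.biUnion (fun i _ => hVif i))).subset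
      rintro x ⟨⟨⟨⟨hxα, hxβ⟩, hxV₀⟩, hxI⟩, hx⟩
      have hx' : g x ≠ 0 := hx
      by_cases ha : α x = 0
      swap
      · exact Or.inl (Or.inl ⟨hxα, ha⟩)
      by_cases hb : β x = 0
      swap
      · exact Or.inl (Or.inr ⟨hxβ, hb⟩)
      right
      have hS : ∑ᶠ i, Cyc.divFun δ (U.ι (ξ i)) (f' i) x ≠ 0 := by
        intro h0
        apply hx'
        rw [hgx, ha, hb, h0]
        ring
      have hex : ∃ i, Cyc.divFun δ (U.ι (ξ i)) (f' i) x ≠ 0 := by
        by_contra hc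
        push_neg at hc
        exact hS (finsum_eq_zero_of_forall_eq_zero hc)
      obtain ⟨i, hi⟩ := hex
      have hsp : (U.ι (ξ i) : X) ⤳ x := by
        by_contra hc
        exact hi (divFun_eq_zero_of_not_specializes δ _ _ x hc)
      have hiJ : i ∈ {i | (closure {(U.ι (ξ i) : X)} ∩ V₀).Nonempty} :=
        ⟨x, specializes_iff_mem_closure.1 hsp, hxV₀⟩
      rw [Set.mem_iUnion₂]
      refine ⟨i, hiJ, ?_, hi⟩
      exact Set.mem_iInter₂.1 hxI i hiJ
  obtain ⟨γ, hγ⟩ : ∃ γ : AlgebraicCycle X ℤ, γ =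
      ⟨g, Set.subset_univ _, hlocfin⟩ := ⟨_, rfl⟩
  have hγx : ∀ x, γ x = g x := by
    intro x
    rw [hγ]
    rfl
  refine ⟨γ, ?_, ?_, ?_⟩
  · -- `γ` is a `k`-cycle
    intro x hxk
    rw [hγx, hgx, hα x hxk, hβ x hxk]
    have h0 : ∀ i, Cyc.divFun δ (U.ι (ξ i)) (f' i) x = 0 := by
      intro i
      unfold Cyc.divFun
      rw [dif_neg]
      rintro ⟨-, hc⟩
      apply hxk
      have := hdim' i
      omega
    rw [finsum_eq_zero_of_forall_eq_zero h0]
    ring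
  · -- `γ` vanishes on `U`
    intro x hx
    obtain ⟨u, hu⟩ : ∃ u : ↥U, (U.ι u : X) = x := ⟨⟨x, hx⟩, rfl⟩
    rw [hγx, hgx, ← hu]
    have h1 := hsum u
    have h2 : (αU - βU) u = αU u - βU u := rfl
    rw [h2, hαU, hβU] at h1
    rw [h1]
    have h3 : ∀ i, Cyc.divFun δ (U.ι (ξ i)) (f' i) (U.ι u) =
        Cyc.divFun (fun u : ↥U => δ (U.ι u)) (ξ i) (f i) u := fun i => hdiv i u
    simp_rw [h3]
    ring
  · -- the rational equivalence
    refine ⟨ι, fun i => U.ι (ξ i), f', hdim', hne', hlf', ?_⟩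
    intro x
    have h1 : (α - (β + γ)) x = α x - (β x + γ x) := rfl
    rw [h1, hγx, hgx]
    ring

end Groth.Agent.Lib.Helper64.CycExc
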