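import Groth.Agent.Lib.Helper64.Ref1Grp2
import Groth.Prelude.Def_C1

/-!
# Orders along specializations: multiplicativity and units (helper64)

* `ordFrac_mul`, `ordFrac_unit`, `ordFrac_zpow` for the prelude's `CycAlg.ordFrac`.
* `ordAt_mul`, `ordAt_specMap_unit`, `ordAt_zpow`.
* `divFun_zpow`.
* `secDivFun_structureModule`: the divisor of a rational section of `O_X` is a principal divisor.
-/

set_option autoImplicit false
set_option linter.style.haveILetI false
set_option linter.unusedSectionVars false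
universe u v

open AlgebraicGeometry CategoryTheory Opposite TopologicalSpace

namespace Groth.Agent.Lib.Helper64.CycOrd

open Groth.Agent.Lib.Helper29.QCohLoc Groth.Agent.Lib.Helper64.Ref1Grp
open Groth.Agent.Lib.Helper64.SecOrd

section alg

variable (R : Type u) [CommRing R] (K : Type v) [Field K] [Algebra R K]

theorem recZeroCoe_mul {a b : WithZero (Multiplicative ℤ)} (ha : a ≠ 0) (hb : b ≠ 0) :
    WithZero.recZeroCoe (motive := fun _ => ℤ) 0 (fun z => Multiplicative.toAdd z) (a * b) =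
      WithZero.recZeroCoe (motive := fun _ => ℤ) 0 (fun z => Multiplicative.toAdd z) a +
      WithZero.recZeroCoe (motive := fun _ => ℤ) 0 (fun z => Multiplicative.toAdd z) b := by
  obtain ⟨a, rfl⟩ := WithZero.ne_zero_iff_exists.1 ha
  obtain ⟨b, rfl⟩ := WithZero.ne_zero_iff_exists.1 hb
  have h1 : ((a : WithZero (Multiplicative ℤ)) * (b : WithZero (Multiplicative ℤ))) =
      ((a * b : Multiplicative ℤ) : WithZero (Multiplicative ℤ)) := (WithZero.coe_mul a b).symm
  rw [h1]
  simp only [WithZero.recZeroCoe_coe, toAdd_mul]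

theorem ordFrac_mul {f g : K} (hf : f ≠ 0) (hg : g ≠ 0) :
    CycAlg.ordFrac R K (f * g) = CycAlg.ordFrac R K f + CycAlg.ordFrac R K g := by
  unfold CycAlg.ordFrac
  split_ifs with h
  · haveI := h.1; haveI := h.2.1; haveI := h.2.2.1; haveI := h.2.2.2
    rw [map_mul]
    exact recZeroCoe_mul ((map_ne_zero _).2 hf) ((map_ne_zero _).2 hg)
  · simp

theorem ordFrac_one : CycAlg.ordFrac R K (1 : K) = 0 := by
  unfold CycAlg.ordFrac
  split_ifs with h
  · haveI := h.1; haveI := h.2.1; haveI := h.2.2.1; haveI := h.2.2.2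
    rw [map_one]
    rfl
  · rfl

theorem ordFrac_unit {u : R} (hu : IsUnit u) : CycAlg.ordFrac R K (algebraMap R K u) = 0 := by
  unfold CycAlg.ordFrac
  split_ifs with h
  · haveI := h.1; haveI := h.2.1; haveI := h.2.2.1; haveI := h.2.2.2
    haveI : IsDomain R := (IsFractionRing.injective R K).isDomain (algebraMap R K)
    rw [Ring.ordFrac_of_isUnit hu]
    rfl
  · rfl

theorem ordFrac_inv {f : K} (hf : f ≠ 0) :
    CycAlg.ordFrac R K f⁻¹ = - CycAlg.ordFrac R K f := by
  have h1 := ordFrac_mul R K hf (inv_ne_zero hf)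
  rw [mul_inv_cancel₀ hf, ordFrac_one] at h1
  omega

theorem ordFrac_pow {f : K} (hf : f ≠ 0) (n : ℕ) :
    CycAlg.ordFrac R K (f ^ n) = n * CycAlg.ordFrac R K f := by
  induction n with
  | zero => simp [ordFrac_one]
  | succ n ih =>
    rw [pow_succ, ordFrac_mul R K (pow_ne_zero n hf) hf, ih]
    push_cast
    ring

theorem ordFrac_zpow {f : K} (hf : f ≠ 0) (n : ℤ) :
    CycAlg.ordFrac R K (f ^ n) = n * CycAlg.ordFrac R K f := by
  obtain ⟨m, rfl | rfl⟩ := Int.eq_nat_or_neg n
  · rw [zpow_natCast, ordFrac_pow R K hf]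
  · rw [zpow_neg, zpow_natCast, ordFrac_inv R K (pow_ne_zero m hf), ordFrac_pow R K hf]
    ring

end alg

variable {X : Scheme.{u}}

theorem ordAt_mul (x ξ : X) (h : ξ ⤳ x) {f g : X.residueField ξ} (hf : f ≠ 0) (hg : g ≠ 0) :
    Cyc.ordAt x ξ h (f * g) = Cyc.ordAt x ξ h f + Cyc.ordAt x ξ h g :=
  ordFrac_mul _ _ hf hg

theorem ordAt_zpow (x ξ : X) (h : ξ ⤳ x) {f : X.residueField ξ} (hf : f ≠ 0) (n : ℤ) :
    Cyc.ordAt x ξ h (f ^ n) = n * Cyc.ordAt x ξ h f :=
  ordFrac_zpow _ _ hf n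

theorem ordAt_specMap_unit (x ξ : X) (h : ξ ⤳ x) {u : X.presheaf.stalk x} (hu : IsUnit u) :
    Cyc.ordAt x ξ h (Cyc.specMap x ξ h u) = 0 := by
  have h1 : Cyc.specMap x ξ h u = algebraMap (Cyc.LocQuot x ξ h) (X.residueField ξ)
      (Ideal.Quotient.mk _ u) := rfl
  rw [h1]
  exact ordFrac_unit _ _ (hu.map _)

theorem divFun_zpow (δ : X → ℤ) (ξ : X) {f : X.residueField ξ} (hf : f ≠ 0) (n : ℤ) (x : X) :
    Cyc.divFun δ ξ (f ^ n) x = n * Cyc.divFun δ ξ f x := by
  unfold Cyc.divFun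
  split_ifs with h
  · exact ordAt_zpow x ξ h.1 hf n
  · simp


/-- the class of the unit germ in the fibre of `O_X` -/
noncomputable def oneFib (ξ : X) : Cyc.secFibre (Coh.structureModule X) ξ :=
  Submodule.Quotient.mk (oneGerm X ξ)

theorem mem_smul_top_iff (ξ : X) (m : (Coh.structureModule X).presheaf.stalk ξ) :
    m ∈ IsLocalRing.maximalIdeal (X.presheaf.stalk ξ) •
      (⊤ : Submodule (X.presheaf.stalk ξ) ((Coh.structureModule X).presheaf.stalk ξ)) ↔
    ∃ c ∈ IsLocalRing.maximalIdeal (X.presheaf.stalk ξ), c • oneGerm X ξ = m := by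
  constructor
  · intro hm
    refine Submodule.smul_induction_on hm ?_ ?_
    · intro r hr n _
      obtain ⟨c, rfl⟩ := exists_smul_oneGerm ξ n
      exact ⟨r * c, Ideal.mul_mem_right _ _ hr, mul_smul _ _ _⟩
    · rintro m₁ m₂ ⟨c₁, hc₁, rfl⟩ ⟨c₂, hc₂, rfl⟩
      exact ⟨c₁ + c₂, Ideal.add_mem _ hc₁ hc₂, add_smul _ _ _⟩
  · rintro ⟨c, hc, rfl⟩
    exact Submodule.smul_mem_smul hc Submodule.mem_top

theorem smul_oneFib_eq_zero_iff (ξ : X) (a : X.presheaf.stalk ξ) :
    a • oneFib ξ = 0 ↔ a ∈ IsLocalRing.maximalIdeal (X.presheaf.stalk ξ) := by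
  have h1 : a • oneFib ξ = Submodule.Quotient.mk (a • oneGerm X ξ) := rfl
  rw [h1, Submodule.Quotient.mk_eq_zero, mem_smul_top_iff]
  constructor
  · rintro ⟨c, hc, h⟩
    rw [← smul_oneGerm_injective ξ h]
    exact hc
  · intro ha
    exact ⟨a, ha, rfl⟩

theorem exists_smul_oneFib (ξ : X) (s : Cyc.secFibre (Coh.structureModule X) ξ) :
    ∃ φ : X.presheaf.stalk ξ, φ • oneFib ξ = s := by
  obtain ⟨m, rfl⟩ := Submodule.Quotient.mk_surjective _ s
  obtain ⟨φ, rfl⟩ := exists_smul_oneGerm ξ m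
  exact ⟨φ, rfl⟩

/-- the order of a rational section of `O_X` is the order of the rational function -/
theorem secOrdAt_structureModule (ξ x : X) (h : ξ ⤳ x) (φ : X.presheaf.stalk ξ)
    (hφ : φ ∉ IsLocalRing.maximalIdeal (X.presheaf.stalk ξ)) :
    Cyc.secOrdAt (Coh.structureModule X) ξ x h (φ • oneFib ξ) =
      Cyc.ordAt x ξ h (X.residue ξ φ) := by
  classical
  have ht : ∃ t : (Coh.structureModule X).presheaf.stalk x,
      Submodule.span (X.presheaf.stalk x) {t} = ⊤ := by
    refine ⟨oneGerm X x, ?_⟩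
    rw [eq_top_iff]
    intro m _
    obtain ⟨a, rfl⟩ := exists_smul_oneGerm x m
    exact Submodule.smul_mem _ _ (Submodule.mem_span_singleton_self _)
  obtain ⟨u, hu⟩ := exists_smul_oneGerm x (Classical.choose ht)
  have huu : IsUnit u := by
    have h1 : oneGerm X x ∈ Submodule.span (X.presheaf.stalk x) {Classical.choose ht} := by
      rw [Classical.choose_spec ht]
      exact Submodule.mem_top
    obtain ⟨v, hv⟩ := Submodule.mem_span_singleton.1 h1
    rw [← hu, ← mul_smul] at hv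
    have h2 : v * u = 1 := smul_oneGerm_injective x (hv.trans (one_smul _ _).symm)
    exact IsUnit.of_mul_eq_one v (by rw [mul_comm]; exact h2)
  have hsp : (Submodule.Quotient.mk (((Coh.structureModule X).presheaf.stalkSpecializes h).hom
      (Classical.choose ht)) : Cyc.secFibre (Coh.structureModule X) ξ) =
      (X.presheaf.stalkSpecializes h).hom u • oneFib ξ := by
    rw [← hu, sp_smul, sp_oneGerm]
    rfl
  have huu' : IsUnit ((X.presheaf.stalkSpecializes h).hom u) := huu.map _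
  have hφ' : ∃ φ' : X.presheaf.stalk ξ, φ • oneFib ξ = φ' •
      (Submodule.Quotient.mk (((Coh.structureModule X).presheaf.stalkSpecializes h).hom
        (Classical.choose ht)) : Cyc.secFibre (Coh.structureModule X) ξ) := by
    obtain ⟨w, hw⟩ := huu'
    refine ⟨φ * ↑w⁻¹, ?_⟩
    rw [hsp, ← hw, ← mul_smul, mul_assoc, Units.inv_mul, mul_one]
  unfold Cyc.secOrdAt
  rw [dif_pos ht, dif_pos hφ']
  obtain ⟨φ₀, hφ₀⟩ : ∃ φ₀ : X.presheaf.stalk ξ, φ₀ = Classical.choose hφ' := ⟨_, rfl⟩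
  have hspec : φ • oneFib ξ = φ₀ •
      (Submodule.Quotient.mk (((Coh.structureModule X).presheaf.stalkSpecializes h).hom
        (Classical.choose ht)) : Cyc.secFibre (Coh.structureModule X) ξ) := by
    rw [hφ₀]
    exact Classical.choose_spec hφ'
  rw [← hφ₀]
  rw [hsp, ← mul_smul] at hspec
  have h3 : (φ - φ₀ * (X.presheaf.stalkSpecializes h).hom u) • oneFib ξ = 0 := by
    rw [sub_smul, sub_eq_zero]
    exact hspec
  rw [smul_oneFib_eq_zero_iff, ← IsLocalRing.residue_eq_zero_iff] at h3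
  have h4 : X.residue ξ φ = X.residue ξ φ₀ *
      Cyc.specMap x ξ h u := by
    have h5 : (X.residue ξ).hom (φ - φ₀ * (X.presheaf.stalkSpecializes h).hom u)
        = 0 := h3
    rw [map_sub, sub_eq_zero, map_mul] at h5
    exact h5
  have hne : X.residue ξ φ ≠ 0 := by
    intro h0
    apply hφ
    rw [← IsLocalRing.residue_eq_zero_iff]
    exact h0
  have hne1 : X.residue ξ φ₀ ≠ 0 := by
    intro h0
    rw [h0, zero_mul] at h4
    exact hne h4
  have hne2 : Cyc.specMap x ξ h u ≠ 0 := by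
    intro h0
    rw [h0, mul_zero] at h4
    exact hne h4
  rw [h4, ordAt_mul x ξ h hne1 hne2, ordAt_specMap_unit x ξ h huu, add_zero]

/-- the divisor of a rational section of `O_X` is the principal divisor -/
theorem secDivFun_structureModule (δ : X → ℤ) (ξ : X) (φ : X.presheaf.stalk ξ)
    (hφ : φ ∉ IsLocalRing.maximalIdeal (X.presheaf.stalk ξ)) :
    Cyc.secDivFun δ (Coh.structureModule X) ξ (φ • oneFib ξ) =
      Cyc.divFun δ ξ (X.residue ξ φ) := by
  funext x
  unfold Cyc.secDivFun Cyc.divFun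
  split_ifs with h
  · exact secOrdAt_structureModule ξ x h.1 φ hφ
  · rfl

end Groth.Agent.Lib.Helper64.CycOrd
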