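import Groth.Agent.Lib.Helper29.TameO
import Groth.Agent.Lib.Helper29.LatticeD
import Groth.Agent.Lib.Helper64.CycOrd1

/-!
# The tame symbol on the fraction field of a one-dimensional local domain (helper64)

For a one-dimensional Noetherian local domain `B` with fraction field `K`, the tame symbol
`∂_B` on nonzero elements of `B` (helper29's `tameSymbol_*` laws) extends to a bimultiplicative
symbol `TK B K : K → K → κ(B)`:
* `quad B a₁ a₂ b₁ b₂ = ∂(a₁,b₁) ∂(a₂,b₂) / (∂(a₁,b₂) ∂(a₂,b₁))`, `quad_congr_left/right`,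
* `TK_mk`: `TK (a₁/a₂) (b₁/b₂) = quad a₁ a₂ b₁ b₂`,
* `TK_mul_left`, `TK_mul_right`, `TK_antisymm`, `TK_unit_left`, `TK_unit_right`, `TK_mul_units`.
-/

set_option autoImplicit false
set_option linter.style.haveILetI false
set_option linter.unusedSectionVars false
universe u

open IsLocalRing CycAlg

namespace Groth.Agent.Lib.Helper64.CycKey

open Groth.Agent.Lib.Helper29.Tame Groth.Agent.Lib.Helper29.Lattice

section quad

variable (B : Type u) [CommRing B] [IsNoetherianRing B] [IsLocalRing B]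

/-- the biquotient of tame symbols -/
noncomputable def quad (a₁ a₂ b₁ b₂ : B) : ResidueField B :=
  tameSymbol B a₁ b₁ * tameSymbol B a₂ b₂ / (tameSymbol B a₁ b₂ * tameSymbol B a₂ b₁)

variable {B}

theorem quad_ne_zero (a₁ a₂ b₁ b₂ : B) : quad B a₁ a₂ b₁ b₂ ≠ 0 :=
  div_ne_zero (mul_ne_zero (tameSymbol_ne_zero _ _) (tameSymbol_ne_zero _ _))
    (mul_ne_zero (tameSymbol_ne_zero _ _) (tameSymbol_ne_zero _ _))

theorem quad_congr_left (hB : ringKrullDim B = 1) {a₁ a₂ a₁' a₂' b₁ b₂ : B}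
    (h₁ : a₁ ∈ nonZeroDivisors B) (h₂ : a₂ ∈ nonZeroDivisors B)
    (h₁' : a₁' ∈ nonZeroDivisors B) (h₂' : a₂' ∈ nonZeroDivisors B)
    (k₁ : b₁ ∈ nonZeroDivisors B) (k₂ : b₂ ∈ nonZeroDivisors B)
    (h : a₁ * a₂' = a₁' * a₂) :
    quad B a₁ a₂ b₁ b₂ = quad B a₁' a₂' b₁ b₂ := by
  have e₁ : tameSymbol B a₁ b₁ * tameSymbol B a₂' b₁ =
      tameSymbol B a₁' b₁ * tameSymbol B a₂ b₁ := by
    rw [← tameSymbol_mul_left hB h₁ h₂' k₁, ← tameSymbol_mul_left hB h₁' h₂ k₁, h]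
  have e₂ : tameSymbol B a₁ b₂ * tameSymbol B a₂' b₂ =
      tameSymbol B a₁' b₂ * tameSymbol B a₂ b₂ := by
    rw [← tameSymbol_mul_left hB h₁ h₂' k₂, ← tameSymbol_mul_left hB h₁' h₂ k₂, h]
  unfold quad
  rw [div_eq_div_iff (mul_ne_zero (tameSymbol_ne_zero _ _) (tameSymbol_ne_zero _ _))
    (mul_ne_zero (tameSymbol_ne_zero _ _) (tameSymbol_ne_zero _ _))]
  linear_combination (tameSymbol B a₂ b₂ * tameSymbol B a₁' b₂) * e₁ -
    (tameSymbol B a₁' b₁ * tameSymbol B a₂ b₁) * e₂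

theorem quad_congr_right (hB : ringKrullDim B = 1) {a₁ a₂ b₁ b₂ b₁' b₂' : B}
    (h₁ : a₁ ∈ nonZeroDivisors B) (h₂ : a₂ ∈ nonZeroDivisors B)
    (k₁ : b₁ ∈ nonZeroDivisors B) (k₂ : b₂ ∈ nonZeroDivisors B)
    (k₁' : b₁' ∈ nonZeroDivisors B) (k₂' : b₂' ∈ nonZeroDivisors B)
    (h : b₁ * b₂' = b₁' * b₂) :
    quad B a₁ a₂ b₁ b₂ = quad B a₁ a₂ b₁' b₂' := by
  have f₁ : tameSymbol B a₁ b₁ * tameSymbol B a₁ b₂' =
      tameSymbol B a₁ b₁' * tameSymbol B a₁ b₂ := by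
    rw [← tameSymbol_mul_right hB k₁ k₂' h₁, ← tameSymbol_mul_right hB k₁' k₂ h₁, h]
  have f₂ : tameSymbol B a₂ b₁ * tameSymbol B a₂ b₂' =
      tameSymbol B a₂ b₁' * tameSymbol B a₂ b₂ := by
    rw [← tameSymbol_mul_right hB k₁ k₂' h₂, ← tameSymbol_mul_right hB k₁' k₂ h₂, h]
  unfold quad
  rw [div_eq_div_iff (mul_ne_zero (tameSymbol_ne_zero _ _) (tameSymbol_ne_zero _ _))
    (mul_ne_zero (tameSymbol_ne_zero _ _) (tameSymbol_ne_zero _ _))]
  linear_combination (tameSymbol B a₂ b₂ * tameSymbol B a₂ b₁') * f₁ -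
    (tameSymbol B a₁ b₁' * tameSymbol B a₁ b₂) * f₂

theorem quad_mul_left (hB : ringKrullDim B = 1) {a₁ a₂ a₁' a₂' b₁ b₂ : B}
    (h₁ : a₁ ∈ nonZeroDivisors B) (h₂ : a₂ ∈ nonZeroDivisors B)
    (h₁' : a₁' ∈ nonZeroDivisors B) (h₂' : a₂' ∈ nonZeroDivisors B)
    (k₁ : b₁ ∈ nonZeroDivisors B) (k₂ : b₂ ∈ nonZeroDivisors B) :
    quad B (a₁ * a₁') (a₂ * a₂') b₁ b₂ = quad B a₁ a₂ b₁ b₂ * quad B a₁' a₂' b₁ b₂ := by
  unfold quad
  rw [tameSymbol_mul_left hB h₁ h₁' k₁, tameSymbol_mul_left hB h₂ h₂' k₂,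
    tameSymbol_mul_left hB h₁ h₁' k₂, tameSymbol_mul_left hB h₂ h₂' k₁, div_mul_div_comm]
  congr 1 <;> ring

theorem quad_mul_right (hB : ringKrullDim B = 1) {a₁ a₂ b₁ b₂ b₁' b₂' : B}
    (h₁ : a₁ ∈ nonZeroDivisors B) (h₂ : a₂ ∈ nonZeroDivisors B)
    (k₁ : b₁ ∈ nonZeroDivisors B) (k₂ : b₂ ∈ nonZeroDivisors B)
    (k₁' : b₁' ∈ nonZeroDivisors B) (k₂' : b₂' ∈ nonZeroDivisors B) :
    quad B a₁ a₂ (b₁ * b₁') (b₂ * b₂') = quad B a₁ a₂ b₁ b₂ * quad B a₁ a₂ b₁' b₂' := by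
  unfold quad
  rw [tameSymbol_mul_right hB k₁ k₁' h₁, tameSymbol_mul_right hB k₂ k₂' h₂,
    tameSymbol_mul_right hB k₂ k₂' h₁, tameSymbol_mul_right hB k₁ k₁' h₂, div_mul_div_comm]
  congr 1 <;> ring

/-- antisymmetry of the tame symbol -/
theorem tameSymbol_antisymm [IsDomain B] (hB : ringKrullDim B = 1) {a b : B}
    (ha : a ∈ nonZeroDivisors B) (hb : b ∈ nonZeroDivisors B) :
    tameSymbol B a b * tameSymbol B b a = 1 := by
  haveI := krullDimLE_one hB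
  have hab : a * b ∈ nonZeroDivisors B := mul_mem ha hb
  have h1 := tameSymbol_self hB hab
  rw [tameSymbol_mul_left hB ha hb hab, tameSymbol_mul_right hB ha hb ha,
    tameSymbol_mul_right hB ha hb hb, tameSymbol_self hB ha, tameSymbol_self hB hb] at h1
  have h2 : (Module.length B (B ⧸ Ideal.span {a * b})).toNat =
      (Module.length B (B ⧸ Ideal.span {a})).toNat +
        (Module.length B (B ⧸ Ideal.span {b})).toNat := by
    have h3 : Module.length B (B ⧸ Ideal.span {a * b}) =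
        Module.length B (B ⧸ Ideal.span {a}) + Module.length B (B ⧸ Ideal.span {b}) :=
      Ring.ord_mul B hb
    rw [h3]
    exact ENat.toNat_add (Ring.ord_ne_top ha) (Ring.ord_ne_top hb)
  rw [h2, pow_add] at h1
  have hne : ((-1 : ResidueField B) ^ (Module.length B (B ⧸ Ideal.span {a})).toNat) *
      ((-1 : ResidueField B) ^ (Module.length B (B ⧸ Ideal.span {b})).toNat) ≠ 0 :=
    mul_ne_zero (pow_ne_zero _ (neg_ne_zero.2 one_ne_zero))
      (pow_ne_zero _ (neg_ne_zero.2 one_ne_zero))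
  apply mul_left_cancel₀ hne
  linear_combination h1

theorem quad_antisymm [IsDomain B] (hB : ringKrullDim B = 1) {a₁ a₂ b₁ b₂ : B}
    (h₁ : a₁ ∈ nonZeroDivisors B) (h₂ : a₂ ∈ nonZeroDivisors B)
    (k₁ : b₁ ∈ nonZeroDivisors B) (k₂ : b₂ ∈ nonZeroDivisors B) :
    quad B a₁ a₂ b₁ b₂ * quad B b₁ b₂ a₁ a₂ = 1 := by
  unfold quad
  rw [div_mul_div_comm, div_eq_one_iff_eq (mul_ne_zero
    (mul_ne_zero (tameSymbol_ne_zero _ _) (tameSymbol_ne_zero _ _))
    (mul_ne_zero (tameSymbol_ne_zero _ _) (tameSymbol_ne_zero _ _)))]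
  have e11 := tameSymbol_antisymm hB h₁ k₁
  have e22 := tameSymbol_antisymm hB h₂ k₂
  have e12 := tameSymbol_antisymm hB h₁ k₂
  have e21 := tameSymbol_antisymm hB h₂ k₁
  calc tameSymbol B a₁ b₁ * tameSymbol B a₂ b₂ * (tameSymbol B b₁ a₁ * tameSymbol B b₂ a₂)
      = (tameSymbol B a₁ b₁ * tameSymbol B b₁ a₁) * (tameSymbol B a₂ b₂ * tameSymbol B b₂ a₂) := by
        ring
    _ = (tameSymbol B a₁ b₂ * tameSymbol B b₂ a₁) * (tameSymbol B a₂ b₁ * tameSymbol B b₁ a₂) := by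
        rw [e11, e22, e12, e21]
    _ = _ := by ring

theorem tameSymbol_one_left (hB : ringKrullDim B = 1) {b : B} (hb : b ∈ nonZeroDivisors B) :
    tameSymbol B 1 b = 1 := by
  have h := tameSymbol_unit_left hB (1 : Bˣ) hb
  rw [Units.val_one, map_one, one_pow] at h
  exact h

theorem quad_unit_left (hB : ringKrullDim B = 1) (c : Bˣ) {b₁ b₂ : B}
    (k₁ : b₁ ∈ nonZeroDivisors B) (k₂ : b₂ ∈ nonZeroDivisors B) :
    quad B (c : B) 1 b₁ b₂ = residue B (c : B) ^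
      (((Ring.ord B b₁).toNat : ℤ) - ((Ring.ord B b₂).toNat : ℤ)) := by
  have hc : residue B (c : B) ≠ 0 := by
    have : IsUnit (residue B (c : B)) := c.isUnit.map _
    exact this.ne_zero
  unfold quad
  rw [tameSymbol_unit_left hB c k₁, tameSymbol_unit_left hB c k₂, tameSymbol_one_left hB k₁,
    tameSymbol_one_left hB k₂, mul_one, mul_one, zpow_sub₀ hc, zpow_natCast, zpow_natCast]
  rfl

end quad

section TK

variable (B : Type u) [CommRing B] [IsDomain B] [IsNoetherianRing B] [IsLocalRing B]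
  (K : Type u) [Field K] [Algebra B K] [IsFractionRing B K]

/-- the tame symbol on the fraction field -/
noncomputable def TK (f g : K) : ResidueField B :=
  quad B (IsLocalization.sec (nonZeroDivisors B) f).1 (IsLocalization.sec (nonZeroDivisors B) f).2
    (IsLocalization.sec (nonZeroDivisors B) g).1 (IsLocalization.sec (nonZeroDivisors B) g).2

variable {B K}

theorem TK_ne_zero (f g : K) : TK B K f g ≠ 0 := quad_ne_zero _ _ _ _

theorem sec_fst_ne_zero {f : K} (hf : f ≠ 0) :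
    (IsLocalization.sec (nonZeroDivisors B) f).1 ≠ 0 := by
  intro h0
  have h := IsLocalization.sec_spec (nonZeroDivisors B) f
  rw [h0, map_zero] at h
  rcases mul_eq_zero.1 h with h | h
  · exact hf h
  · have h2 : ((IsLocalization.sec (nonZeroDivisors B) f).2 : B) = 0 :=
      (IsFractionRing.injective B K) (h.trans (map_zero _).symm)
    exact nonZeroDivisors.coe_ne_zero _ h2

theorem sec_rel {f : K} {a₁ a₂ : B} (ha₂ : a₂ ≠ 0)
    (hf : f = algebraMap B K a₁ / algebraMap B K a₂) :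
    (IsLocalization.sec (nonZeroDivisors B) f).1 * a₂ =
      a₁ * ((IsLocalization.sec (nonZeroDivisors B) f).2 : B) := by
  apply IsFractionRing.injective B K
  have h := IsLocalization.sec_spec (nonZeroDivisors B) f
  have ha₂' : algebraMap B K a₂ ≠ 0 := fun h0 =>
    ha₂ ((IsFractionRing.injective B K) (h0.trans (map_zero _).symm))
  rw [map_mul, map_mul, ← h, hf]
  field_simp

theorem TK_mk (hB : ringKrullDim B = 1) {a₁ a₂ b₁ b₂ : B} (ha₁ : a₁ ≠ 0) (ha₂ : a₂ ≠ 0)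
    (hb₁ : b₁ ≠ 0) (hb₂ : b₂ ≠ 0) :
    TK B K (algebraMap B K a₁ / algebraMap B K a₂) (algebraMap B K b₁ / algebraMap B K b₂) =
      quad B a₁ a₂ b₁ b₂ := by
  have inj := IsFractionRing.injective B K
  have nz : ∀ {a : B}, a ≠ 0 → algebraMap B K a ≠ 0 := fun {a} ha h0 =>
    ha (inj (h0.trans (map_zero _).symm))
  have hf : algebraMap B K a₁ / algebraMap B K a₂ ≠ 0 := div_ne_zero (nz ha₁) (nz ha₂)
  have hg : algebraMap B K b₁ / algebraMap B K b₂ ≠ 0 := div_ne_zero (nz hb₁) (nz hb₂)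
  unfold TK
  rw [quad_congr_left hB (mem_nonZeroDivisors_of_ne_zero (sec_fst_ne_zero hf))
    (IsLocalization.sec (nonZeroDivisors B) _).2.2 (mem_nonZeroDivisors_of_ne_zero ha₁)
    (mem_nonZeroDivisors_of_ne_zero ha₂) (mem_nonZeroDivisors_of_ne_zero (sec_fst_ne_zero hg))
    (IsLocalization.sec (nonZeroDivisors B) _).2.2 (sec_rel ha₂ rfl)]
  exact quad_congr_right hB (mem_nonZeroDivisors_of_ne_zero ha₁)
    (mem_nonZeroDivisors_of_ne_zero ha₂) (mem_nonZeroDivisors_of_ne_zero (sec_fst_ne_zero hg))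
    (IsLocalization.sec (nonZeroDivisors B) _).2.2 (mem_nonZeroDivisors_of_ne_zero hb₁)
    (mem_nonZeroDivisors_of_ne_zero hb₂) (sec_rel hb₂ rfl)

theorem exists_frac {f : K} (hf : f ≠ 0) :
    ∃ a₁ a₂ : B, a₁ ≠ 0 ∧ a₂ ≠ 0 ∧ f = algebraMap B K a₁ / algebraMap B K a₂ := by
  obtain ⟨a₁, a₂, ha₂, rfl⟩ := IsFractionRing.div_surjective (A := B) f
  refine ⟨a₁, a₂, ?_, nonZeroDivisors.ne_zero ha₂, rfl⟩
  rintro rfl
  rw [map_zero, zero_div] at hf
  exact hf rfl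

theorem TK_mul_left (hB : ringKrullDim B = 1) {f f' g : K} (hf : f ≠ 0) (hf' : f' ≠ 0)
    (hg : g ≠ 0) : TK B K (f * f') g = TK B K f g * TK B K f' g := by
  obtain ⟨a₁, a₂, ha₁, ha₂, rfl⟩ := exists_frac (B := B) hf
  obtain ⟨a₁', a₂', ha₁', ha₂', rfl⟩ := exists_frac (B := B) hf'
  obtain ⟨b₁, b₂, hb₁, hb₂, rfl⟩ := exists_frac (B := B) hg
  rw [div_mul_div_comm, ← map_mul, ← map_mul, TK_mk hB (mul_ne_zero ha₁ ha₁')
    (mul_ne_zero ha₂ ha₂') hb₁ hb₂, TK_mk hB ha₁ ha₂ hb₁ hb₂, TK_mk hB ha₁' ha₂' hb₁ hb₂]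
  exact quad_mul_left hB (mem_nonZeroDivisors_of_ne_zero ha₁) (mem_nonZeroDivisors_of_ne_zero ha₂)
    (mem_nonZeroDivisors_of_ne_zero ha₁') (mem_nonZeroDivisors_of_ne_zero ha₂')
    (mem_nonZeroDivisors_of_ne_zero hb₁) (mem_nonZeroDivisors_of_ne_zero hb₂)

theorem TK_mul_right (hB : ringKrullDim B = 1) {f g g' : K} (hf : f ≠ 0) (hg : g ≠ 0)
    (hg' : g' ≠ 0) : TK B K f (g * g') = TK B K f g * TK B K f g' := by
  obtain ⟨a₁, a₂, ha₁, ha₂, rfl⟩ := exists_frac (B := B) hf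
  obtain ⟨b₁, b₂, hb₁, hb₂, rfl⟩ := exists_frac (B := B) hg
  obtain ⟨b₁', b₂', hb₁', hb₂', rfl⟩ := exists_frac (B := B) hg'
  rw [div_mul_div_comm, ← map_mul, ← map_mul, TK_mk hB ha₁ ha₂ (mul_ne_zero hb₁ hb₁')
    (mul_ne_zero hb₂ hb₂'), TK_mk hB ha₁ ha₂ hb₁ hb₂, TK_mk hB ha₁ ha₂ hb₁' hb₂']
  exact quad_mul_right hB (mem_nonZeroDivisors_of_ne_zero ha₁) (mem_nonZeroDivisors_of_ne_zero ha₂)
    (mem_nonZeroDivisors_of_ne_zero hb₁) (mem_nonZeroDivisors_of_ne_zero hb₂)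
    (mem_nonZeroDivisors_of_ne_zero hb₁') (mem_nonZeroDivisors_of_ne_zero hb₂')

theorem TK_antisymm (hB : ringKrullDim B = 1) {f g : K} (hf : f ≠ 0) (hg : g ≠ 0) :
    TK B K f g * TK B K g f = 1 := by
  obtain ⟨a₁, a₂, ha₁, ha₂, rfl⟩ := exists_frac (B := B) hf
  obtain ⟨b₁, b₂, hb₁, hb₂, rfl⟩ := exists_frac (B := B) hg
  rw [TK_mk hB ha₁ ha₂ hb₁ hb₂, TK_mk hB hb₁ hb₂ ha₁ ha₂]
  exact quad_antisymm hB (mem_nonZeroDivisors_of_ne_zero ha₁) (mem_nonZeroDivisors_of_ne_zero ha₂)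
    (mem_nonZeroDivisors_of_ne_zero hb₁) (mem_nonZeroDivisors_of_ne_zero hb₂)

theorem TK_unit_left (hB : ringKrullDim B = 1) (c : Bˣ) {g : K} (hg : g ≠ 0) :
    TK B K (algebraMap B K (c : B)) g = residue B (c : B) ^ (CycAlg.ordFrac B K g) := by
  haveI := krullDimLE_one hB
  obtain ⟨b₁, b₂, hb₁, hb₂, rfl⟩ := exists_frac (B := B) hg
  have inj := IsFractionRing.injective B K
  have nz : ∀ {a : B}, a ≠ 0 → algebraMap B K a ≠ 0 := fun {a} ha h0 =>
    ha (inj (h0.trans (map_zero _).symm))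
  have h1 : algebraMap B K (c : B) = algebraMap B K (c : B) / algebraMap B K 1 := by
    rw [map_one, div_one]
  rw [h1, TK_mk hB c.ne_zero one_ne_zero hb₁ hb₂,
    quad_unit_left hB c (mem_nonZeroDivisors_of_ne_zero hb₁) (mem_nonZeroDivisors_of_ne_zero hb₂),
    cyc_ordFrac_div (nz hb₁) (nz hb₂), cyc_ordFrac_algebraMap hb₁, cyc_ordFrac_algebraMap hb₂]

theorem TK_unit_right (hB : ringKrullDim B = 1) (d : Bˣ) {f : K} (hf : f ≠ 0) :
    TK B K f (algebraMap B K (d : B)) = (residue B (d : B) ^ (CycAlg.ordFrac B K f))⁻¹ := by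
  have inj := IsFractionRing.injective B K
  have hd : algebraMap B K (d : B) ≠ 0 := fun h0 =>
    d.ne_zero (inj (h0.trans (map_zero _).symm))
  have h := TK_antisymm hB hf hd
  rw [TK_unit_left hB d hf] at h
  exact eq_inv_of_mul_eq_one_left h

/-- change of both arguments by units -/
theorem TK_mul_units (hB : ringKrullDim B = 1) (c d : Bˣ) {f g : K} (hf : f ≠ 0) (hg : g ≠ 0) :
    TK B K (f * algebraMap B K (c : B)) (g * algebraMap B K (d : B)) =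
      TK B K f g * (residue B (d : B) ^ (CycAlg.ordFrac B K f))⁻¹ *
        residue B (c : B) ^ (CycAlg.ordFrac B K g) := by
  haveI := krullDimLE_one hB
  have inj := IsFractionRing.injective B K
  have hc : algebraMap B K (c : B) ≠ 0 := fun h0 =>
    c.ne_zero (inj (h0.trans (map_zero _).symm))
  have hd : algebraMap B K (d : B) ≠ 0 := fun h0 =>
    d.ne_zero (inj (h0.trans (map_zero _).symm))
  rw [TK_mul_left hB hf hc (mul_ne_zero hg hd), TK_mul_right hB hf hg hd,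
    TK_mul_right hB hc hg hd, TK_unit_right hB d hf, TK_unit_left hB c hg,
    TK_unit_left hB c hd, Groth.Agent.Lib.Helper64.CycOrd.ordFrac_unit B K d.isUnit, zpow_zero,
    mul_one]

end TK

end Groth.Agent.Lib.Helper64.CycKey
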