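import Groth.Agent.Lib.Helper64.CycKey1
import Groth.Agent.Lib.Helper64.CycExc3
import Groth.Agent.Lib.Helper64.CycCl3

/-!
# Codimension two points of an integral scheme with a dimension function (helper64)

* `primeOf_generic`: the prime of the generic point in any local ring is zero.
* `height_primeOf_eq_one`, `ringKrullDim_stalk_eq_two`.
* `bijective_qOfH1`: codimension one generizations of a codimension two point correspond to the
  height one primes of its local ring.
-/

set_option autoImplicit false
set_option linter.style.haveILetI false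
set_option linter.unusedSectionVars false
universe u

open AlgebraicGeometry CategoryTheory TopologicalSpace IsLocalRing

namespace Groth.Agent.Lib.Helper64.CycKey

open Groth.Agent.Lib.Helper64.CycOrd Groth.Agent.Lib.Helper64.CycLen
open Groth.Agent.Lib.Helper64.StalkSpec Groth.Agent.Lib.Helper64.StalkIdeal

variable {X : Scheme.{u}} [IsIntegral X]

theorem generic_specializes (x : X) : genericPoint X ⤳ x :=
  (genericPoint_spec X).specializes trivial

theorem injective_residue_generic :
    Function.Injective (X.residue (genericPoint X)).hom := by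
  letI : Field (X.presheaf.stalk (genericPoint X)) := inferInstanceAs (Field X.functionField)
  exact RingHom.injective _

theorem injective_specMap_generic (x : X) (h : genericPoint X ⤳ x) :
    Function.Injective (Cyc.specMap x (genericPoint X) h) := by
  intro a b hab
  have h1 : (X.residue (genericPoint X)).hom ((X.presheaf.stalkSpecializes h).hom a) =
      (X.residue (genericPoint X)).hom ((X.presheaf.stalkSpecializes h).hom b) := hab
  have h2 := injective_residue_generic h1
  have h3 : algebraMap (X.presheaf.stalk x) X.functionField a =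
      algebraMap (X.presheaf.stalk x) X.functionField b := h2
  exact IsFractionRing.injective (X.presheaf.stalk x) X.functionField h3

theorem primeOf_generic (x : X) (h : genericPoint X ⤳ x) : primeOf h = ⊥ := by
  rw [← ker_specMap h]
  exact (RingHom.injective_iff_ker_eq_bot _).1 (injective_specMap_generic x h)

variable {δ : X → ℤ}

theorem delta_le_generic (hδ : Cyc.IsDimFun X δ) (z : X) : δ z ≤ δ (genericPoint X) := by
  by_cases hz : genericPoint X = z
  · rw [hz]
  · exact (hδ _ _ (generic_specializes z) hz).1.le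

theorem eq_generic_of_delta (hδ : Cyc.IsDimFun X δ) (z : X) (hz : δ z = δ (genericPoint X)) :
    z = genericPoint X := by
  by_contra hne
  have := (hδ _ _ (generic_specializes z) (fun h => hne h.symm)).1
  omega

theorem primeOf_ne_bot (hδ : Cyc.IsDimFun X δ) {x ξ : X} (h : ξ ⤳ x)
    (hξ : δ ξ ≠ δ (genericPoint X)) : primeOf h ≠ ⊥ := by
  intro h0
  have h1 : primeOf h = primeOf (generic_specializes x) := by
    rw [h0, primeOf_generic]
  have h2 := eq_of_primeOf_eq (generic_specializes x) h h1
  exact hξ (by rw [h2])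

theorem primeOf_ne_maximalIdeal {x ξ : X} (h : ξ ⤳ x) (hξ : ξ ≠ x) :
    primeOf h ≠ maximalIdeal (X.presheaf.stalk x) := by
  intro h0
  have h1 : primeOf h = primeOf (specializes_rfl : x ⤳ x) := by
    rw [h0, primeOf_self]
  exact hξ (eq_of_primeOf_eq (specializes_rfl : x ⤳ x) h h1)

theorem krullDimLE_one_stalk_of (hδ : Cyc.IsDimFun X δ) (ξ : X)
    (hξ : δ (genericPoint X) ≤ δ ξ + 1) : Ring.KrullDimLE 1 (X.presheaf.stalk ξ) :=
  krullDimLE_one_stalk hδ (k := δ ξ) (fun z => (delta_le_generic hδ z).trans hξ) ξ rfl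

theorem height_primeOf_le_one (hδ : Cyc.IsDimFun X δ) {x ξ : X} (h : ξ ⤳ x)
    (hξ : δ (genericPoint X) ≤ δ ξ + 1) : (primeOf h).height ≤ 1 := by
  haveI := krullDimLE_one_stalk_of hδ ξ hξ
  have h1 : ringKrullDim (X.presheaf.stalk ξ) ≤ 1 := by
    have := (Ring.krullDimLE_iff (n := 1) (R := X.presheaf.stalk ξ)).1 inferInstance
    exact_mod_cast this
  rw [ringKrullDim_stalk_eq_height_primeOf h] at h1
  exact_mod_cast h1

theorem height_primeOf_eq_one (hδ : Cyc.IsDimFun X δ) {x ξ : X} (h : ξ ⤳ x)
    (hξ : δ ξ + 1 = δ (genericPoint X)) : (primeOf h).height = 1 := by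
  apply le_antisymm (height_primeOf_le_one hδ h hξ.ge)
  rw [Order.one_le_iff_pos, pos_iff_ne_zero, Ne, Ideal.height_eq_zero_iff_eq_bot]
  exact primeOf_ne_bot hδ h (by omega)

theorem ringKrullDim_stalk_eq_one_of (hδ : Cyc.IsDimFun X δ) (ξ : X)
    (hξ : δ ξ + 1 = δ (genericPoint X)) : ringKrullDim (X.presheaf.stalk ξ) = 1 := by
  rw [ringKrullDim_stalk_eq_height_primeOf (specializes_rfl : ξ ⤳ ξ),
    height_primeOf_eq_one hδ _ hξ]
  rfl

theorem exists_between (hδ : Cyc.IsDimFun X δ) (x : X) (hx : δ x + 2 = δ (genericPoint X)) :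
    ∃ z : X, genericPoint X ⤳ z ∧ z ⤳ x ∧ δ z + 1 = δ (genericPoint X) := by
  have hne : genericPoint X ≠ x := by
    intro h
    rw [← h] at hx
    omega
  have h1 := (hδ _ _ (generic_specializes x) hne).2
  by_contra hcon
  push Not at hcon
  have h2 : δ (genericPoint X) = δ x + 1 := by
    apply h1
    intro z hz1 hz2
    by_contra hz
    push Not at hz
    have h3 := (hδ _ _ hz1 (fun h => hz.1 h.symm)).1
    have h4 := (hδ _ _ hz2 hz.2).1
    exact hcon z hz1 hz2 (by omega)
  omega

theorem ringKrullDim_stalk_eq_two [IsLocallyNoetherian X] (hδ : Cyc.IsDimFun X δ) (x : X)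
    (hx : δ x + 2 = δ (genericPoint X)) : ringKrullDim (X.presheaf.stalk x) = 2 := by
  rw [← IsLocalRing.maximalIdeal_height_eq_ringKrullDim]
  have hle : (maximalIdeal (X.presheaf.stalk x)).height ≤ 2 := by
    have : (maximalIdeal (X.presheaf.stalk x)).height ≤ ((2 : ℕ) : ℕ∞) := by
      rw [Ideal.height_le_iff]
      intro q hq hlt
      haveI := hq
      obtain ⟨ξ, h, rfl⟩ := exists_specializes_primeOf_eq x q
      have hne : ξ ≠ x := by
        rintro rfl
        rw [primeOf_self] at hlt
        exact lt_irrefl _ hlt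
      have h1 := (hδ _ _ h hne).1
      have h2 := height_primeOf_le_one hδ h (by omega)
      exact lt_of_le_of_lt h2 (by norm_num)
    exact this
  have hge : 2 ≤ (maximalIdeal (X.presheaf.stalk x)).height := by
    obtain ⟨z, hz1, hz2, hz3⟩ := exists_between hδ x hx
    have h1 := height_primeOf_eq_one hδ hz2 hz3
    have hzx : z ≠ x := by
      rintro rfl
      omega
    have hlt : primeOf hz2 < maximalIdeal (X.presheaf.stalk x) :=
      lt_of_le_of_ne (IsLocalRing.le_maximalIdeal (Ideal.IsPrime.ne_top inferInstance))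
        (primeOf_ne_maximalIdeal hz2 hzx)
    have h2 := Ideal.height_strict_mono_of_isPrime_of_isPrime hlt
    rw [h1] at h2
    exact Order.add_one_le_of_lt h2
  have := le_antisymm hle hge
  rw [this]
  rfl

/-- the codimension one generizations of `x` -/
abbrev Gen1 (δ : X → ℤ) (x : X) : Type u := {ξ : X // ξ ⤳ x ∧ δ x + 1 = δ ξ}

/-- the map from codimension one generizations to height one primes -/
noncomputable def qOfH1 (hδ : Cyc.IsDimFun X δ) (x : X) (hx : δ x + 2 = δ (genericPoint X))
    (ξ : Gen1 δ x) :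
    {q : PrimeSpectrum (X.presheaf.stalk x) // q.asIdeal.height = 1} :=
  ⟨qOf ξ.2.1, by
    rw [qOf_asIdeal]
    exact height_primeOf_eq_one hδ ξ.2.1 (by have := ξ.2.2; omega)⟩

theorem bijective_qOfH1 [IsLocallyNoetherian X] (hδ : Cyc.IsDimFun X δ) (x : X)
    (hx : δ x + 2 = δ (genericPoint X)) : Function.Bijective (qOfH1 hδ x hx) := by
  constructor
  · intro ξ ξ' h
    have h1 : (qOf ξ.2.1).asIdeal = (qOf ξ'.2.1).asIdeal := by
      have := congrArg (fun q => q.1.asIdeal) h
      exact this
    rw [qOf_asIdeal, qOf_asIdeal] at h1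
    exact Subtype.ext (eq_of_primeOf_eq ξ'.2.1 ξ.2.1 h1)
  · rintro ⟨q, hq⟩
    obtain ⟨ξ, h, hξ⟩ := exists_specializes_primeOf_eq x q.asIdeal
    have hdim := ringKrullDim_stalk_eq_two hδ x hx
    have hne : ξ ≠ x := by
      rintro rfl
      rw [primeOf_self] at hξ
      have h2 : ((maximalIdeal (X.presheaf.stalk ξ)).height : WithBot ℕ∞) = 2 := by
        rw [IsLocalRing.maximalIdeal_height_eq_ringKrullDim]
        exact hdim
      rw [hξ, hq] at h2
      have h3 : ((1 : ℕ) : WithBot ℕ∞) ≠ ((2 : ℕ) : WithBot ℕ∞) := by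
        intro h4
        have : (1 : ℕ) = 2 := by exact_mod_cast h4
        omega
      exact h3 h2
    have hne' : δ ξ ≠ δ (genericPoint X) := by
      intro h0
      have h1 := eq_generic_of_delta hδ ξ h0
      subst h1
      rw [primeOf_generic] at hξ
      rw [← hξ] at hq
      simp at hq
    have h1 := (hδ _ _ h hne).1
    have h2 := delta_le_generic hδ ξ
    refine ⟨⟨ξ, h, by omega⟩, ?_⟩
    apply Subtype.ext
    apply PrimeSpectrum.ext
    change (qOf h).asIdeal = q.asIdeal
    rw [qOf_asIdeal, hξ]

end Groth.Agent.Lib.Helper64.CycKey
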