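import Groth.Agent.Lib.Helper64.CycKey2
import Groth.Agent.S1850

/-!
# Transport of tame symbols to the local rings of a scheme (helper64)

* `tameSymbol_ringEquiv`: the tame symbol commutes with ring isomorphisms (via helper29's flat base
  change S1850 with multiplicity one).
* `ordFrac_tameSymbol_transport`: the order of the tame symbol at a height one prime of `O_x`
  computed on the local ring `O_ξ` of the corresponding generization.
-/

set_option autoImplicit false
set_option linter.style.haveILetI false
set_option linter.unusedSectionVars false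
universe u

open AlgebraicGeometry CategoryTheory TopologicalSpace IsLocalRing CycAlg

namespace Groth.Agent.Lib.Helper64.CycKey

open Groth.Agent.Lib.Helper64.CycOrd Groth.Agent.Lib.Helper64.CycLen
open Groth.Agent.Lib.Helper64.StalkSpec Groth.Agent.Lib.Helper64.StalkIdeal
open Groth.Agent.Lib.Helper64.CycExc

theorem atPrime_of_eq {A B : Type*} [CommRing A] [CommRing B] [Algebra A B] {P Q : Ideal A}
    [hP : P.IsPrime] [hQ : Q.IsPrime] (h : P = Q) [hB : IsLocalization.AtPrime B Q] :
    IsLocalization.AtPrime B P := by
  subst h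
  exact hB

theorem length_quotient_maximalIdeal (A : Type u) [CommRing A] [IsLocalRing A] :
    Module.length A (A ⧸ maximalIdeal A) = 1 := by
  rw [Module.length_eq_one_iff, isSimpleModule_iff_quot_maximal]
  exact ⟨maximalIdeal A, inferInstance, ⟨LinearEquiv.refl _ _⟩⟩

/-- the tame symbol commutes with ring isomorphisms -/
theorem tameSymbol_ringEquiv {A A' : Type u} [CommRing A] [CommRing A'] [IsNoetherianRing A]
    [IsNoetherianRing A'] [IsLocalRing A] [IsLocalRing A'] (e : A ≃+* A')
    (hA : ringKrullDim A = 1) (a b : A) (ha : a ∈ nonZeroDivisors A)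
    (hb : b ∈ nonZeroDivisors A) :
    IsLocalRing.ResidueField.mapEquiv e (tameSymbol A a b) = tameSymbol A' (e a) (e b) := by
  letI : Algebra A A' := e.toRingHom.toAlgebra
  have halg : ∀ r : A, algebraMap A A' r = e r := fun r => rfl
  haveI hloc : IsLocalHom (algebraMap A A') := by
    constructor
    intro r hr
    rw [halg] at hr
    have := hr.map e.symm
    rwa [RingEquiv.symm_apply_apply] at this
  haveI : Module.Flat A A' := by
    let e' : A' ≃ₗ[A] A :=
      { e.symm.toAddEquiv with
        map_smul' := fun r y => by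
          change e.symm (r • y) = r • e.symm y
          rw [Algebra.smul_def, map_mul, halg, RingEquiv.symm_apply_apply]
          rfl }
    exact Module.Flat.of_linearEquiv e'
  have hA' : ringKrullDim A' = 1 := (ringKrullDim_eq_of_ringEquiv e).symm.trans hA
  have hmap : Ideal.map (algebraMap A A') (maximalIdeal A) = maximalIdeal A' := by
    apply le_antisymm
    · exact ((IsLocalRing.local_hom_TFAE (algebraMap A A')).out 0 2).1 hloc
    · intro y hy
      have h1 : e.symm y ∈ maximalIdeal A := by
        rw [mem_maximalIdeal, mem_nonunits_iff] at hy ⊢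
        intro hu
        apply hy
        have := hu.map e
        rwa [RingEquiv.apply_symm_apply] at this
      have h2 := Ideal.mem_map_of_mem (algebraMap A A') h1
      rwa [halg, RingEquiv.apply_symm_apply] at h2
  have key := Groth.Agent.S1850.result A A' hA hA' a b ha hb
  rw [hmap, length_quotient_maximalIdeal A', ENat.toNat_one, pow_one] at key
  exact key

variable {X : Scheme.{u}} [IsIntegral X] {δ : X → ℤ}

theorem injective_stalkSpecializes {x ξ : X} (h : ξ ⤳ x) :
    Function.Injective (X.presheaf.stalkSpecializes h).hom := by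
  intro a b hab
  apply IsFractionRing.injective (X.presheaf.stalk x) X.functionField
  have h1 : ∀ c : X.presheaf.stalk x, algebraMap (X.presheaf.stalk x) X.functionField c =
      algebraMap (X.presheaf.stalk ξ) X.functionField ((X.presheaf.stalkSpecializes h).hom c) := by
    intro c
    change (X.presheaf.stalkSpecializes _).hom c =
      (X.presheaf.stalkSpecializes _).hom ((X.presheaf.stalkSpecializes h).hom c)
    rw [← CommRingCat.comp_apply, TopCat.Presheaf.stalkSpecializes_comp]
  rw [h1, h1, hab]

/-- the scalar tower `O_x → O_ξ → K` -/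
theorem algebraMap_stalkSpecializes {x ξ : X} (h : ξ ⤳ x) (c : X.presheaf.stalk x) :
    algebraMap (X.presheaf.stalk ξ) X.functionField ((X.presheaf.stalkSpecializes h).hom c) =
      algebraMap (X.presheaf.stalk x) X.functionField c := by
  change (X.presheaf.stalkSpecializes _).hom ((X.presheaf.stalkSpecializes h).hom c) =
    (X.presheaf.stalkSpecializes _).hom c
  rw [← CommRingCat.comp_apply, TopCat.Presheaf.stalkSpecializes_comp]

theorem ordFrac_tameSymbol_transport [IsLocallyNoetherian X] (hδ : Cyc.IsDimFun X δ) {x ξ : X}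
    (h : ξ ⤳ x) (hξ : δ ξ + 1 = δ (genericPoint X)) (a b : X.presheaf.stalk x) (ha : a ≠ 0)
    (hb : b ≠ 0) :
    CycAlg.ordFrac (X.presheaf.stalk x ⧸ (qOf h).asIdeal) (qOf h).asIdeal.ResidueField
      (tameSymbol (Localization.AtPrime (qOf h).asIdeal)
        (algebraMap (X.presheaf.stalk x) (Localization.AtPrime (qOf h).asIdeal) a)
        (algebraMap (X.presheaf.stalk x) (Localization.AtPrime (qOf h).asIdeal) b)) =
    Cyc.ordAt x ξ h (tameSymbol (X.presheaf.stalk ξ) ((X.presheaf.stalkSpecializes h).hom a)
      ((X.presheaf.stalkSpecializes h).hom b)) := by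
  letI algAB : Algebra (X.presheaf.stalk x) (X.presheaf.stalk ξ) :=
    (X.presheaf.stalkSpecializes h).hom.toAlgebra
  haveI hloc0 := isLocalization_stalkSpecializes h
  haveI hloc : IsLocalization.AtPrime (X.presheaf.stalk ξ) (qOf h).asIdeal :=
    atPrime_of_eq (qOf_asIdeal h)
  obtain ⟨e, he⟩ : ∃ e : Localization.AtPrime (qOf h).asIdeal ≃ₐ[X.presheaf.stalk x]
      X.presheaf.stalk ξ, e = IsLocalization.algEquiv (qOf h).asIdeal.primeCompl _ _ := ⟨_, rfl⟩
  have hcomm : ∀ r : X.presheaf.stalk x,
      e (algebraMap _ (Localization.AtPrime (qOf h).asIdeal) r) =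
        (X.presheaf.stalkSpecializes h).hom r := fun r => e.commutes r
  have hB1 := ringKrullDim_stalk_eq_one_of hδ ξ hξ
  have hAP1 : ringKrullDim (Localization.AtPrime (qOf h).asIdeal) = 1 :=
    (ringKrullDim_eq_of_ringEquiv e.toRingEquiv).trans hB1
  haveI : IsDomain (Localization.AtPrime (qOf h).asIdeal) :=
    e.toRingEquiv.injective.isDomain e.toRingEquiv.toRingHom
  have hnz : ∀ r : X.presheaf.stalk x, r ≠ 0 →
      algebraMap _ (Localization.AtPrime (qOf h).asIdeal) r ∈
        nonZeroDivisors (Localization.AtPrime (qOf h).asIdeal) := by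
    intro r hr
    apply mem_nonZeroDivisors_of_ne_zero
    intro h0
    have h1 := hcomm r
    rw [h0, map_zero] at h1
    exact hr (injective_stalkSpecializes h (h1.symm.trans (map_zero _).symm))
  have key := tameSymbol_ringEquiv e.toRingEquiv hAP1 _ _ (hnz a ha) (hnz b hb)
  have e1 : e.toRingEquiv (algebraMap _ (Localization.AtPrime (qOf h).asIdeal) a) =
      (X.presheaf.stalkSpecializes h).hom a := hcomm a
  have e2 : e.toRingEquiv (algebraMap _ (Localization.AtPrime (qOf h).asIdeal) b) =
      (X.presheaf.stalkSpecializes h).hom b := hcomm b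
  rw [e1, e2] at key
  obtain ⟨E, hE⟩ : ∃ E : (qOf h).asIdeal.ResidueField ≃+* X.residueField ξ,
      E = IsLocalRing.ResidueField.mapEquiv e.toRingEquiv := ⟨_, rfl⟩
  obtain ⟨e', he'⟩ : ∃ e' : (X.presheaf.stalk x ⧸ (qOf h).asIdeal) ≃+* Cyc.LocQuot x ξ h,
      e' = RingEquiv.refl _ := ⟨_, rfl⟩
  have hcomp : ∀ r, E (algebraMap (X.presheaf.stalk x ⧸ (qOf h).asIdeal)
      (qOf h).asIdeal.ResidueField r) = algebraMap (Cyc.LocQuot x ξ h) (X.residueField ξ) (e' r) := by
    intro r
    obtain ⟨r₀, rfl⟩ := Ideal.Quotient.mk_surjective r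
    rw [he', hE]
    change IsLocalRing.ResidueField.map (e.toRingEquiv : _ →+* _)
      (residue _ (algebraMap _ (Localization.AtPrime (qOf h).asIdeal) r₀)) =
        (X.residue ξ).hom ((X.presheaf.stalkSpecializes h).hom r₀)
    rw [IsLocalRing.ResidueField.map_residue]
    have : (e.toRingEquiv : _ →+* _) (algebraMap _ (Localization.AtPrime (qOf h).asIdeal) r₀) =
        (X.presheaf.stalkSpecializes h).hom r₀ := hcomm r₀
    rw [this]
    rfl
  unfold Cyc.ordAt
  have h3 := cycOrdFrac_ringEquiv e' E hcomp
    (tameSymbol (Localization.AtPrime (qOf h).asIdeal)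
        (algebraMap (X.presheaf.stalk x) (Localization.AtPrime (qOf h).asIdeal) a)
        (algebraMap (X.presheaf.stalk x) (Localization.AtPrime (qOf h).asIdeal) b))
  have key' : E (tameSymbol (Localization.AtPrime (qOf h).asIdeal)
        (algebraMap (X.presheaf.stalk x) (Localization.AtPrime (qOf h).asIdeal) a)
        (algebraMap (X.presheaf.stalk x) (Localization.AtPrime (qOf h).asIdeal) b)) =
      tameSymbol (X.presheaf.stalk ξ) ((X.presheaf.stalkSpecializes h).hom a)
        ((X.presheaf.stalkSpecializes h).hom b) := by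
    subst hE
    exact key
  rw [← h3, key']

end Groth.Agent.Lib.Helper64.CycKey
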