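import Groth.Agent.Lib.Helper64.CycKey3
import Groth.Agent.S1851

/-!
# The key lemma at a codimension two point of an integral scheme (helper64)

* `finsum_divFun_eq_subtype`: the value at `x` of a sum of principal divisors as a sum over the
  codimension one generizations of `x`.
* `finite_gen1_mem`: only finitely many codimension one generizations contain a nonzero element.
* `finsum_ordAt_tameSymbol_eq_zero`: helper29's key lemma S1851 transported to the local rings of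
  the scheme.
* `finsum_divFun_TK_eq_zero`: the same for the symbol `TK` of two rational functions.
-/

set_option autoImplicit false
set_option linter.style.haveILetI false
set_option linter.unusedSectionVars false
universe u

open AlgebraicGeometry CategoryTheory TopologicalSpace IsLocalRing CycAlg

namespace Groth.Agent.Lib.Helper64.CycKey

open Groth.Agent.Lib.Helper64.CycOrd Groth.Agent.Lib.Helper64.CycLen
open Groth.Agent.Lib.Helper64.StalkSpec Groth.Agent.Lib.Helper64.StalkIdeal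
open Groth.Agent.Lib.Helper64.CycExc Groth.Agent.Lib.Helper64.CycTens
open Groth.Agent.Lib.Helper29.Tame

variable {X : Scheme.{u}} [IsIntegral X] {δ : X → ℤ}

/-- sums of divisors at a point as sums over codimension one generizations -/
theorem finsum_divFun_eq_subtype (δ : X → ℤ) (x : X) (T : ∀ ξ : X, X.residueField ξ) :
    ∑ᶠ ξ : X, Cyc.divFun δ ξ (T ξ) x = ∑ᶠ ξ : Gen1 δ x, Cyc.ordAt x ξ.1 ξ.2.1 (T ξ.1) := by
  have h1 : ∀ ξ : Gen1 δ x, Cyc.ordAt x ξ.1 ξ.2.1 (T ξ.1) = Cyc.divFun δ ξ.1 (T ξ.1) x := by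
    intro ξ
    unfold Cyc.divFun
    rw [dif_pos ξ.2]
  rw [finsum_congr h1]
  have h2 := finsum_subtype_eq_finsum_cond (f := fun ξ => Cyc.divFun δ ξ (T ξ) x)
    (fun ξ : X => ξ ⤳ x ∧ δ x + 1 = δ ξ)
  have h3 : ∑ᶠ ξ : Gen1 δ x, Cyc.divFun δ ξ.1 (T ξ.1) x =
      ∑ᶠ (ξ : X) (_ : ξ ⤳ x ∧ δ x + 1 = δ ξ), Cyc.divFun δ ξ (T ξ) x := h2
  rw [h3, ← finsum_mem_univ]
  apply finsum_mem_inter_support_eq' (fun ξ => Cyc.divFun δ ξ (T ξ) x) Set.univ
    {ξ : X | ξ ⤳ x ∧ δ x + 1 = δ ξ}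
  intro ξ hξ
  refine ⟨fun _ => ?_, fun _ => Set.mem_univ _⟩
  by_contra hcon
  apply hξ
  change Cyc.divFun δ ξ (T ξ) x = 0
  have hcon' : ¬ (ξ ⤳ x ∧ δ x + 1 = δ ξ) := hcon
  unfold Cyc.divFun
  rw [dif_neg hcon']

theorem ordAt_quad (x ξ : X) (h : ξ ⤳ x) {p q r s : X.residueField ξ} (hp : p ≠ 0) (hq : q ≠ 0)
    (hr : r ≠ 0) (hs : s ≠ 0) :
    Cyc.ordAt x ξ h (p * q / (r * s)) =
      Cyc.ordAt x ξ h p + Cyc.ordAt x ξ h q - (Cyc.ordAt x ξ h r + Cyc.ordAt x ξ h s) := by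
  rw [ordAt_div x ξ h (mul_ne_zero hp hq) (mul_ne_zero hr hs), ordAt_mul x ξ h hp hq,
    ordAt_mul x ξ h hr hs]

theorem finite_gen1_mem [IsLocallyNoetherian X] (hδ : Cyc.IsDimFun X δ) (x : X)
    (hx : δ x + 2 = δ (genericPoint X)) (c : X.presheaf.stalk x) (hc : c ≠ 0) :
    {ξ : Gen1 δ x | c ∈ primeOf ξ.2.1}.Finite := by
  have hfin := Ideal.finite_minimalPrimes_of_isNoetherianRing (X.presheaf.stalk x)
    (Ideal.span {c})
  have hsub : {ξ : Gen1 δ x | c ∈ primeOf ξ.2.1} ⊆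
      (fun ξ : Gen1 δ x => primeOf ξ.2.1) ⁻¹' (Ideal.span {c}).minimalPrimes := by
    intro ξ hξ
    have hh := height_primeOf_eq_one hδ ξ.2.1 (by have := ξ.2.2; omega)
    apply Ideal.mem_minimalPrimes_of_height_le
    · rw [Ideal.span_singleton_le_iff_mem]
      exact hξ
    · rw [hh, Order.one_le_iff_pos, pos_iff_ne_zero, Ne, Ideal.height_eq_zero_iff_eq_bot,
        Ideal.span_singleton_eq_bot]
      exact hc
  apply (Set.Finite.preimage ?_ hfin).subset hsub
  intro ξ _ ξ' _ h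
  exact Subtype.ext (eq_of_primeOf_eq ξ'.2.1 ξ.2.1 h)

theorem isUnit_stalkSpecializes_of_notMem {x ξ : X} (h : ξ ⤳ x) (a : X.presheaf.stalk x)
    (ha : a ∉ primeOf h) : IsUnit ((X.presheaf.stalkSpecializes h).hom a) := by
  by_contra hu
  apply ha
  unfold primeOf
  rw [Ideal.mem_comap, mem_maximalIdeal, mem_nonunits_iff]
  exact hu

theorem ordAt_one (x ξ : X) (h : ξ ⤳ x) : Cyc.ordAt x ξ h 1 = 0 :=
  ordFrac_one _ _

/-- the term of the key lemma for a pair of elements of the local ring at `x` -/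
noncomputable def keyTerm (x : X) (a b : X.presheaf.stalk x) (ξ : Gen1 δ x) : ℤ :=
  Cyc.ordAt x ξ.1 ξ.2.1 (tameSymbol (X.presheaf.stalk ξ.1)
    ((X.presheaf.stalkSpecializes ξ.2.1).hom a) ((X.presheaf.stalkSpecializes ξ.2.1).hom b))

theorem finite_support_keyTerm [IsLocallyNoetherian X] (hδ : Cyc.IsDimFun X δ) (x : X)
    (hx : δ x + 2 = δ (genericPoint X)) (a b : X.presheaf.stalk x) (ha : a ≠ 0) (hb : b ≠ 0) :
    (Function.support (keyTerm (δ := δ) x a b)).Finite := by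
  apply (finite_gen1_mem hδ x hx (a * b) (mul_ne_zero ha hb)).subset
  intro ξ hξ
  by_contra hcon
  apply hξ
  have hcon' : a * b ∉ primeOf ξ.2.1 := hcon
  have h1 : a ∉ primeOf ξ.2.1 := fun h => hcon' (Ideal.mul_mem_right _ _ h)
  have h2 : b ∉ primeOf ξ.2.1 := fun h => hcon' (Ideal.mul_mem_left _ _ h)
  unfold keyTerm
  rw [tameSymbol_eq_one_of_isUnit (isUnit_stalkSpecializes_of_notMem _ a h1)
    (isUnit_stalkSpecializes_of_notMem _ b h2)]
  exact ordAt_one _ _ _

theorem finsum_keyTerm_eq_zero [IsLocallyNoetherian X] (hδ : Cyc.IsDimFun X δ) (x : X)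
    (hx : δ x + 2 = δ (genericPoint X)) (a b : X.presheaf.stalk x) (ha : a ≠ 0) (hb : b ≠ 0) :
    ∑ᶠ ξ : Gen1 δ x, keyTerm x a b ξ = 0 := by
  have hdim := ringKrullDim_stalk_eq_two hδ x hx
  have key := Groth.Agent.S1851.result (X.presheaf.stalk x) hdim a b
    (mem_nonZeroDivisors_of_ne_zero ha) (mem_nonZeroDivisors_of_ne_zero hb)
  rw [← finsum_subtype_eq_finsum_cond (f := fun q : PrimeSpectrum (X.presheaf.stalk x) =>
    CycAlg.ordFrac (X.presheaf.stalk x ⧸ q.asIdeal) q.asIdeal.ResidueField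
      (tameSymbol (Localization.AtPrime q.asIdeal)
        (algebraMap (X.presheaf.stalk x) (Localization.AtPrime q.asIdeal) a)
        (algebraMap (X.presheaf.stalk x) (Localization.AtPrime q.asIdeal) b)))
    (fun q : PrimeSpectrum (X.presheaf.stalk x) => q.asIdeal.height = 1)] at key
  rw [← key]
  apply finsum_eq_of_bijective (qOfH1 hδ x hx) (bijective_qOfH1 hδ x hx)
  intro ξ
  unfold keyTerm
  exact (ordFrac_tameSymbol_transport hδ ξ.2.1 (by have := ξ.2.2; omega) a b ha hb).symm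

/-- **the key lemma on an integral scheme**: for nonzero rational functions `F`, `G` and a point
`x` of codimension two, the divisors of the tame symbols of `F`, `G` along the codimension one
points through `x` add up to zero at `x` -/
theorem finsum_divFun_TK_eq_zero [IsLocallyNoetherian X] (hδ : Cyc.IsDimFun X δ) (x : X)
    (hx : δ x + 2 = δ (genericPoint X)) (F G : X.functionField) (hF : F ≠ 0) (hG : G ≠ 0) :
    ∑ᶠ ξ : X, Cyc.divFun δ ξ (TK (X.presheaf.stalk ξ) X.functionField F G) x = 0 := by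
  rw [finsum_divFun_eq_subtype δ x
    (fun ξ => (TK (X.presheaf.stalk ξ) X.functionField F G : X.residueField ξ))]
  obtain ⟨a₁, a₂, ha₁, ha₂, rfl⟩ := exists_frac (B := X.presheaf.stalk x) hF
  obtain ⟨b₁, b₂, hb₁, hb₂, rfl⟩ := exists_frac (B := X.presheaf.stalk x) hG
  have hterm : ∀ ξ : Gen1 δ x, Cyc.ordAt x ξ.1 ξ.2.1
      (TK (X.presheaf.stalk ξ.1) X.functionField
        (algebraMap (X.presheaf.stalk x) X.functionField a₁ /
          algebraMap (X.presheaf.stalk x) X.functionField a₂)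
        (algebraMap (X.presheaf.stalk x) X.functionField b₁ /
          algebraMap (X.presheaf.stalk x) X.functionField b₂)) =
      keyTerm x a₁ b₁ ξ + keyTerm x a₂ b₂ ξ - (keyTerm x a₁ b₂ ξ + keyTerm x a₂ b₁ ξ) := by
    intro ξ
    have hB := ringKrullDim_stalk_eq_one_of hδ ξ.1 (by have := ξ.2.2; omega)
    have hinj := injective_stalkSpecializes ξ.2.1
    have nz : ∀ {r : X.presheaf.stalk x}, r ≠ 0 → (X.presheaf.stalkSpecializes ξ.2.1).hom r ≠ 0 :=
      fun {r} hr h0 => hr (hinj (h0.trans (map_zero _).symm))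
    rw [← algebraMap_stalkSpecializes ξ.2.1 a₁, ← algebraMap_stalkSpecializes ξ.2.1 a₂,
      ← algebraMap_stalkSpecializes ξ.2.1 b₁, ← algebraMap_stalkSpecializes ξ.2.1 b₂,
      TK_mk hB (nz ha₁) (nz ha₂) (nz hb₁) (nz hb₂)]
    exact ordAt_quad x ξ.1 ξ.2.1 (tameSymbol_ne_zero _ _) (tameSymbol_ne_zero _ _)
      (tameSymbol_ne_zero _ _) (tameSymbol_ne_zero _ _)
  rw [finsum_congr hterm]
  have f11 := finite_support_keyTerm hδ x hx a₁ b₁ ha₁ hb₁
  have f22 := finite_support_keyTerm hδ x hx a₂ b₂ ha₂ hb₂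
  have f12 := finite_support_keyTerm hδ x hx a₁ b₂ ha₁ hb₂
  have f21 := finite_support_keyTerm hδ x hx a₂ b₁ ha₂ hb₁
  have fA : (Function.support fun ξ : Gen1 δ x => keyTerm x a₁ b₁ ξ + keyTerm x a₂ b₂ ξ).Finite :=
    (f11.union f22).subset (Function.support_add _ _)
  have fB : (Function.support fun ξ : Gen1 δ x => keyTerm x a₁ b₂ ξ + keyTerm x a₂ b₁ ξ).Finite :=
    (f12.union f21).subset (Function.support_add _ _)
  rw [finsum_sub_distrib fA fB, finsum_add_distrib f11 f22, finsum_add_distrib f12 f21,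
    finsum_keyTerm_eq_zero hδ x hx a₁ b₁ ha₁ hb₁, finsum_keyTerm_eq_zero hδ x hx a₂ b₂ ha₂ hb₂,
    finsum_keyTerm_eq_zero hδ x hx a₁ b₂ ha₁ hb₂, finsum_keyTerm_eq_zero hδ x hx a₂ b₁ ha₂ hb₁]
  rfl

end Groth.Agent.Lib.Helper64.CycKey
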