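import Groth.Agent.Lib.Helper64.CycKey4

/-!
# Rational sections of invertible modules on an integral scheme (helper64)

* `ordAt_generic_eq`, `secOrdAt_generic_eq`: the order of a rational section along a codimension
  one point is the order of its coefficient in the function field.
* `coeff_generic_comparison`: change of the coefficient under a change of the local generator.
* `UnitAt`, `finite_not_unitAt_inter_affine`: a nonzero rational function is a unit at all but
  finitely many codimension one points of a Noetherian affine open.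
-/

set_option autoImplicit false
set_option linter.style.haveILetI false
set_option linter.unusedSectionVars false
universe u

open AlgebraicGeometry CategoryTheory TopologicalSpace IsLocalRing CycAlg

namespace Groth.Agent.Lib.Helper64.CycKey

open Groth.Agent.Lib.Helper64.CycOrd Groth.Agent.Lib.Helper64.CycLen
open Groth.Agent.Lib.Helper64.StalkSpec Groth.Agent.Lib.Helper64.StalkIdeal
open Groth.Agent.Lib.Helper64.CycExc Groth.Agent.Lib.Helper64.CycTens
open Groth.Agent.Lib.Helper64.SecOrd
open Groth.Agent.Lib.Helper64.RefExt Groth.Agent.Lib.Helper64.RefS2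
open Groth.Agent.Lib.Helper64.AssReg
open Groth.Agent.Lib.Helper29.QCohLoc
open Groth.Agent.Lib.Lead.Inv
open Groth.Agent.Lib.Helper29.Tame

variable {X : Scheme.{u}} [IsIntegral X] {δ : X → ℤ}

theorem eq_zero_of_mem_maximalIdeal_generic (f : X.presheaf.stalk (genericPoint X))
    (hf : f ∈ maximalIdeal (X.presheaf.stalk (genericPoint X))) : f = 0 := by
  apply injective_residue_generic
  rw [map_zero]
  exact (IsLocalRing.residue_eq_zero_iff _).2 hf

theorem notMem_maximalIdeal_generic {f : X.functionField} (hf : f ≠ 0) :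
    (f : X.presheaf.stalk (genericPoint X)) ∉ maximalIdeal (X.presheaf.stalk (genericPoint X)) :=
  fun h => hf (eq_zero_of_mem_maximalIdeal_generic f h)

/-- the order along `η ⤳ ξ` is the order in the fraction field of `O_ξ` -/
theorem ordAt_generic_eq {ξ : X} (h : genericPoint X ⤳ ξ) (f : X.functionField) :
    Cyc.ordAt ξ (genericPoint X) h ((X.residue (genericPoint X)).hom f) =
      CycAlg.ordFrac (X.presheaf.stalk ξ) X.functionField f := by
  have hker : RingHom.ker (Cyc.specMap ξ (genericPoint X) h) = ⊥ :=
    (RingHom.injective_iff_ker_eq_bot _).1 (injective_specMap_generic ξ h)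
  obtain ⟨e, he⟩ : ∃ e : X.presheaf.stalk ξ ≃+* Cyc.LocQuot ξ (genericPoint X) h,
      ∀ r, e r = Ideal.Quotient.mk _ r := by
    refine ⟨RingEquiv.ofBijective (Ideal.Quotient.mk _) ⟨?_, Ideal.Quotient.mk_surjective⟩,
      fun r => rfl⟩
    rw [RingHom.injective_iff_ker_eq_bot, Ideal.mk_ker]
    exact hker
  obtain ⟨E, hE⟩ : ∃ E : X.functionField ≃+* X.residueField (genericPoint X),
      ∀ r, E r = (X.residue (genericPoint X)).hom r :=
    ⟨RingEquiv.ofBijective (X.residue (genericPoint X)).hom
      ⟨injective_residue_generic, X.residue_surjective _⟩, fun r => rfl⟩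
  have hcomp : ∀ r, E (algebraMap (X.presheaf.stalk ξ) X.functionField r) =
      algebraMap (Cyc.LocQuot ξ (genericPoint X) h) (X.residueField (genericPoint X)) (e r) := by
    intro r
    rw [hE, he]
    rfl
  have := cycOrdFrac_ringEquiv e E hcomp f
  rw [hE] at this
  exact this

/-- the order of a rational section along a codimension one point, through a local generator -/
theorem secOrdAt_generic_eq (M : X.Modules) {V : X.Opens} {g : Γ(M, V)} (hg : IsGen M V g)
    {ξ : X} (hξV : ξ ∈ V) (h : genericPoint X ⤳ ξ) (f : X.functionField) (hf : f ≠ 0) :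
    Cyc.secOrdAt M (genericPoint X) ξ h ((f : X.presheaf.stalk (genericPoint X)) •
      (Submodule.Quotient.mk (M.presheaf.germ V (genericPoint X) (h.mem_open V.isOpen hξV) g) :
        Cyc.secFibre M (genericPoint X))) =
      CycAlg.ordFrac (X.presheaf.stalk ξ) X.functionField f := by
  rw [secOrdAt_eq_of_isGen M hg h hξV _ (notMem_maximalIdeal_generic hf)]
  exact ordAt_generic_eq h f

/-- change of the coefficient of a rational section under a change of the local generator -/
theorem coeff_generic_comparison (M : X.Modules) {V U : X.Opens} {g : Γ(M, V)} {g' : Γ(M, U)}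
    (hg' : IsGen M U g') {ξ : X} (hξV : ξ ∈ V) (hξU : ξ ∈ U) (h : genericPoint X ⤳ ξ)
    (c : X.presheaf.stalk ξ)
    (hc : M.presheaf.germ V ξ hξV g = c • M.presheaf.germ U ξ hξU g')
    (f f' : X.functionField)
    (hff' : (f : X.presheaf.stalk (genericPoint X)) •
      (Submodule.Quotient.mk (M.presheaf.germ V (genericPoint X) (h.mem_open V.isOpen hξV) g) :
        Cyc.secFibre M (genericPoint X)) =
      (f' : X.presheaf.stalk (genericPoint X)) •
      (Submodule.Quotient.mk (M.presheaf.germ U (genericPoint X) (h.mem_open U.isOpen hξU) g') :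
        Cyc.secFibre M (genericPoint X))) :
    f' = f * algebraMap (X.presheaf.stalk ξ) X.functionField c := by
  have h1 : M.presheaf.germ V (genericPoint X) (h.mem_open V.isOpen hξV) g =
      (X.presheaf.stalkSpecializes h).hom c •
        M.presheaf.germ U (genericPoint X) (h.mem_open U.isOpen hξU) g' := by
    have := congrArg (M.presheaf.stalkSpecializes h).hom hc
    rw [sp_germ, sp_smul, sp_germ] at this
    exact this
  have hbij := bijective_stalk_of_isGen hg' (genericPoint X) (h.mem_open U.isOpen hξU)
  have h2 : ((f : X.presheaf.stalk (genericPoint X)) * (X.presheaf.stalkSpecializes h).hom c -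
      (f' : X.presheaf.stalk (genericPoint X))) •
      (Submodule.Quotient.mk (M.presheaf.germ U (genericPoint X) (h.mem_open U.isOpen hξU) g') :
        Cyc.secFibre M (genericPoint X)) = 0 := by
    rw [sub_smul, sub_eq_zero, ← hff', h1, mul_smul]
    rfl
  rw [smul_mk_eq_zero_iff M (genericPoint X) _ hbij] at h2
  have h3 := eq_zero_of_mem_maximalIdeal_generic _ h2
  rw [sub_eq_zero] at h3
  exact h3.symm

/-- a rational function is a unit of the local ring at `ξ` -/
def UnitAt (ξ : X) (f : X.functionField) : Prop :=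
  ∃ c : (X.presheaf.stalk ξ)ˣ, algebraMap (X.presheaf.stalk ξ) X.functionField (c : _) = f

theorem UnitAt.mul_unit {ξ : X} {f : X.functionField} (hf : UnitAt ξ f)
    {c : X.presheaf.stalk ξ} (hc : IsUnit c) :
    UnitAt ξ (f * algebraMap (X.presheaf.stalk ξ) X.functionField c) := by
  obtain ⟨w, rfl⟩ := hf
  obtain ⟨c, rfl⟩ := hc
  exact ⟨w * c, by rw [Units.val_mul, map_mul]⟩

theorem unitAt_of_mul_unit {ξ : X} {f : X.functionField}
    {c : X.presheaf.stalk ξ} (hc : IsUnit c)
    (hf : UnitAt ξ (f * algebraMap (X.presheaf.stalk ξ) X.functionField c)) : UnitAt ξ f := by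
  obtain ⟨w, hw⟩ := hf
  obtain ⟨c, rfl⟩ := hc
  refine ⟨w * c⁻¹, ?_⟩
  rw [Units.val_mul, map_mul, hw, mul_assoc, ← map_mul, Units.mul_inv, map_one, mul_one]

theorem ordFrac_of_unitAt {ξ : X} {f : X.functionField} (hf : UnitAt ξ f) :
    CycAlg.ordFrac (X.presheaf.stalk ξ) X.functionField f = 0 := by
  obtain ⟨w, rfl⟩ := hf
  exact ordFrac_unit _ _ w.isUnit

theorem TK_of_unitAt [IsLocallyNoetherian X] {ξ : X} (hB : ringKrullDim (X.presheaf.stalk ξ) = 1)
    {f g : X.functionField} (hf : UnitAt ξ f) (hg : UnitAt ξ g) :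
    TK (X.presheaf.stalk ξ) X.functionField f g = 1 := by
  obtain ⟨w, rfl⟩ := hf
  have hg0 : g ≠ 0 := by
    obtain ⟨w', rfl⟩ := hg
    intro h0
    exact w'.ne_zero (IsFractionRing.injective (X.presheaf.stalk ξ) X.functionField
      (h0.trans (map_zero _).symm))
  rw [TK_unit_left hB w hg0, ordFrac_of_unitAt hg, zpow_zero]

/-- a nonzero rational function is a unit at all but finitely many codimension one points of a
Noetherian affine open -/
theorem finite_not_unitAt_inter_affine (hδ : Cyc.IsDimFun X δ) {V : X.Opens}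
    (hV : IsAffineOpen V) [IsNoetherianRing Γ(X, V)] (F : X.functionField) (hF : F ≠ 0) :
    {ξ : X | ξ ∈ V ∧ δ ξ + 1 = δ (genericPoint X) ∧ ¬ UnitAt ξ F}.Finite := by
  classical
  by_cases hne : Nonempty V
  swap
  · convert Set.finite_empty
    rw [Set.eq_empty_iff_forall_notMem]
    rintro ξ ⟨hξV, -⟩
    exact hne ⟨⟨ξ, hξV⟩⟩
  haveI := hne
  haveI := functionField_isFractionRing_of_isAffineOpen X V hV
  obtain ⟨a, b, hb, rfl⟩ := IsFractionRing.div_surjective (A := Γ(X, V)) F
  have hb0 : b ≠ 0 := nonZeroDivisors.ne_zero hb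
  have ha0 : a ≠ 0 := by
    rintro rfl
    rw [map_zero, zero_div] at hF
    exact hF rfl
  haveI : IsDomain Γ(X, V) := (IsFractionRing.injective Γ(X, V) X.functionField).isDomain _
  have hab0 : a * b ≠ 0 := mul_ne_zero ha0 hb0
  have hηV : genericPoint X ∈ V := by
    obtain ⟨⟨y, hy⟩⟩ := hne
    exact (generic_specializes y).mem_open V.isOpen hy
  have hηab : genericPoint X ∈ X.basicOpen (a * b) := by
    rw [Scheme.mem_basicOpen X _ _ hηV]
    have h1 : X.presheaf.germ V (genericPoint X) hηV (a * b) ≠ 0 := by
      intro h0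
      apply hab0
      apply IsFractionRing.injective Γ(X, V) X.functionField
      rw [map_zero]
      exact h0
    letI : Field (X.presheaf.stalk (genericPoint X)) := inferInstanceAs (Field X.functionField)
    exact isUnit_iff_ne_zero.2 h1
  let Φ : X → Ideal Γ(X, V) := fun y =>
    if hy : y ∈ V then (hV.primeIdealOf ⟨y, hy⟩).asIdeal else ⊤
  apply Set.Finite.of_finite_image (f := Φ)
  · apply (Ideal.finite_minimalPrimes_of_isNoetherianRing Γ(X, V) (Ideal.span {a * b})).subset
    rintro _ ⟨ξ, ⟨hξV, hξδ, hξu⟩, rfl⟩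
    simp only [Φ, dif_pos hξV]
    have hmem : a * b ∈ (hV.primeIdealOf ⟨ξ, hξV⟩).asIdeal := by
      by_contra hnot
      apply hξu
      have hξab : ξ ∈ X.basicOpen (a * b) := by
        by_contra hc'
        exact hnot ((mem_primeIdealOf_iff hV ξ hξV _).2 hc')
      rw [Scheme.basicOpen_mul] at hξab
      have hua : IsUnit (X.presheaf.germ V ξ hξV a) := (Scheme.mem_basicOpen X a ξ hξV).1 hξab.1
      have hub : IsUnit (X.presheaf.germ V ξ hξV b) := (Scheme.mem_basicOpen X b ξ hξV).1 hξab.2
      obtain ⟨ua, hua'⟩ := hua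
      obtain ⟨ub, hub'⟩ := hub
      refine ⟨ua * ub⁻¹, ?_⟩
      have e1 : algebraMap Γ(X, V) X.functionField a =
          algebraMap (X.presheaf.stalk ξ) X.functionField (ua : X.presheaf.stalk ξ) := by
        rw [hua', Scheme.algebraMap_germ_eq_germToFunctionField]
        rfl
      have e2 : algebraMap Γ(X, V) X.functionField b =
          algebraMap (X.presheaf.stalk ξ) X.functionField (ub : X.presheaf.stalk ξ) := by
        rw [hub', Scheme.algebraMap_germ_eq_germToFunctionField]
        rfl
      have hub0 : algebraMap (X.presheaf.stalk ξ) X.functionField (ub : X.presheaf.stalk ξ) ≠ 0 := by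
        intro h0
        exact ub.ne_zero (IsFractionRing.injective (X.presheaf.stalk ξ) X.functionField
          (h0.trans (map_zero _).symm))
      rw [e1, e2, Units.val_mul, map_mul, eq_div_iff hub0, mul_assoc, ← map_mul, Units.inv_mul,
        map_one, mul_one]
    refine ⟨⟨(hV.primeIdealOf ⟨ξ, hξV⟩).isPrime, ?_⟩, ?_⟩
    · rw [Ideal.span_le]
      intro t ht
      rw [Set.mem_singleton_iff.1 ht]
      exact hmem
    · rintro q ⟨hqp, hqle⟩ hqξ
      haveI := hqp
      obtain ⟨y, hyV, hy⟩ := exists_point_of_prime hV q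
      have hyξ : y ⤳ ξ := by
        apply specializes_of_primeIdealOf_le hV hξV hyV
        rw [hy]
        exact hqξ
      have hyeq : y = ξ := by
        by_contra hne'
        have h1 := (hδ y ξ hyξ hne').1
        have h2 := delta_le_generic hδ y
        have h3 : y = genericPoint X := eq_generic_of_delta hδ y (by omega)
        subst h3
        have h4 : a * b ∈ q := hqle (Ideal.subset_span (Set.mem_singleton _))
        rw [← hy, mem_primeIdealOf_iff hV] at h4
        exact h4 hηab
      subst hyeq
      rw [hy]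
  · rintro y ⟨hy, -⟩ y' ⟨hy', -⟩ h
    simp only [Φ, dif_pos hy, dif_pos hy'] at h
    exact primeIdealOf_inj hV hy hy' h

end Groth.Agent.Lib.Helper64.CycKey
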