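import Groth.Agent.Lib.Helper64.CycKey5

/-!
# Commutativity of the first Chern class on an integral scheme: the key formula (helper64)

`c1Cap_divSec_comm`: for invertible modules `L`, `N` on an integral scheme `X` with nonzero rational
sections `s`, `t`, the cycles `c₁(N) ∩ div_L(s)` and `c₁(L) ∩ div_N(t)` are rationally equivalent.
The rational equivalence is given by the tame symbols of `s`, `t` at the codimension one points
where `s` or `t` is not a generator, and the verification at a codimension two point is the key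
lemma `finsum_divFun_TK_eq_zero`.
-/

set_option autoImplicit false
set_option linter.style.haveILetI false
set_option linter.unusedSectionVars false
set_option linter.unusedVariables false
universe u

open AlgebraicGeometry CategoryTheory TopologicalSpace IsLocalRing CycAlg

namespace Groth.Agent.Lib.Helper64.CycKey

open Groth.Agent.Lib.Helper64.CycOrd Groth.Agent.Lib.Helper64.CycLen
open Groth.Agent.Lib.Helper64.StalkSpec Groth.Agent.Lib.Helper64.StalkIdeal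
open Groth.Agent.Lib.Helper64.CycExc Groth.Agent.Lib.Helper64.CycTens
open Groth.Agent.Lib.Helper64.SecOrd
open Groth.Agent.Lib.Helper64.RefExt Groth.Agent.Lib.Helper64.RefS2
open Groth.Agent.Lib.Lead.Inv
open Groth.Agent.Lib.Helper29.Tame

variable {X : Scheme.{u}} [IsIntegral X]

theorem ordAt_combo (x ξ : X) (h : ξ ⤳ x) {P₁ P₂ T Rc Rd : X.residueField ξ} (hP₁ : P₁ ≠ 0)
    (hP₂ : P₂ ≠ 0) (hT : T ≠ 0) (hRc : Rc ≠ 0) (hRd : Rd ≠ 0) (m k : ℤ) :
    Cyc.ordAt x ξ h (P₁ ^ m * (P₂ ^ k)⁻¹ * T) - Cyc.ordAt x ξ h (T * (Rd ^ m)⁻¹ * Rc ^ k) =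
      m * (Cyc.ordAt x ξ h P₁ + Cyc.ordAt x ξ h Rd) -
        k * (Cyc.ordAt x ξ h P₂ + Cyc.ordAt x ξ h Rc) := by
  have h1 : P₁ ^ m ≠ 0 := zpow_ne_zero _ hP₁
  have h2 : (P₂ ^ k)⁻¹ ≠ 0 := inv_ne_zero (zpow_ne_zero _ hP₂)
  have h3 : (Rd ^ m)⁻¹ ≠ 0 := inv_ne_zero (zpow_ne_zero _ hRd)
  have h4 : Rc ^ k ≠ 0 := zpow_ne_zero _ hRc
  rw [ordAt_mul x ξ h (mul_ne_zero h1 h2) hT, ordAt_mul x ξ h h1 h2,
    ordAt_mul x ξ h (mul_ne_zero hT h3) h4, ordAt_mul x ξ h hT h3,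
    ordAt_inv x ξ h (zpow_ne_zero _ hP₂), ordAt_inv x ξ h (zpow_ne_zero _ hRd),
    ordAt_zpow x ξ h hP₁, ordAt_zpow x ξ h hP₂, ordAt_zpow x ξ h hRd, ordAt_zpow x ξ h hRc]
  ring

/-- the order of a rational section with coefficient `φ` with respect to a generator at `ξ`, computed
with a generator at `x` -/
theorem secOrdAt_change (M : X.Modules) {x ξ : X} (h : ξ ⤳ x) {V U : X.Opens} {g : Γ(M, V)}
    {g' : Γ(M, U)} (hg' : IsGen M U g') (hξV : ξ ∈ V) (hxU : x ∈ U)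
    (φ d : X.presheaf.stalk ξ) (hφ : φ ∉ maximalIdeal (X.presheaf.stalk ξ)) (hd : IsUnit d)
    (hdg : M.presheaf.germ V ξ hξV g = d • M.presheaf.germ U ξ (h.mem_open U.isOpen hxU) g') :
    Cyc.secOrdAt M ξ x h (φ • (Submodule.Quotient.mk (M.presheaf.germ V ξ hξV g) :
      Cyc.secFibre M ξ)) =
      Cyc.ordAt x ξ h (X.residue ξ φ) + Cyc.ordAt x ξ h (X.residue ξ d) := by
  have hd' := not_mem_maximalIdeal_of_isUnit hd
  have e1 : φ • (Submodule.Quotient.mk (M.presheaf.germ V ξ hξV g) : Cyc.secFibre M ξ) =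
      (φ * d) • (Submodule.Quotient.mk (M.presheaf.germ U ξ (h.mem_open U.isOpen hxU) g') :
        Cyc.secFibre M ξ) := by
    rw [hdg, mul_smul]
    rfl
  rw [e1, secOrdAt_eq_of_isGen M hg' h hxU _ (mul_not_mem hφ hd'), residue_mul,
    ordAt_mul x ξ h (residue_ne_zero hφ) (residue_ne_zero hd')]

/-- the tame symbol of two rational functions at `ξ`, with values in the residue field of `X` -/
noncomputable def TKX [IsLocallyNoetherian X] (ξ : X) (F G : X.functionField) : X.residueField ξ :=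
  TK (X.presheaf.stalk ξ) X.functionField F G

theorem c1Cap_divSec_comm (δ : X → ℤ) (hX : Cyc.IsSetup X δ) (n : ℤ)
    (hn : δ (genericPoint X) = n) (L N : X.Modules) (hL : PicF.IsInvertible L)
    (hN : PicF.IsInvertible N) (s : Cyc.secFibre L (genericPoint X)) (hs : s ≠ 0)
    (t : Cyc.secFibre N (genericPoint X)) (ht : t ≠ 0) (u : (ξ : X) → Cyc.secFibre N ξ)
    (hu : ∀ ξ, u ξ ≠ 0) (v : (ξ : X) → Cyc.secFibre L ξ) (hv : ∀ ξ, v ξ ≠ 0)
    (γ₁ γ₂ : AlgebraicCycle X ℤ)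
    (h₁ : ⇑γ₁ = Cyc.c1CapFun δ N (Cyc.secDivFun δ L (genericPoint X) s) u)
    (h₂ : ⇑γ₂ = Cyc.c1CapFun δ L (Cyc.secDivFun δ N (genericPoint X) t) v) :
    Cyc.RatEquiv δ (n - 2) γ₁ γ₂ := by
  classical
  haveI : IsLocallyNoetherian X := hX.1
  have hδ : Cyc.IsDimFun X δ := hX.2.2
  -- local generators
  have hgenL : ∀ ξ : X, ∃ (V : X.Opens) (_ : ξ ∈ V) (g : Γ(L, V)), IsGen L V g := by
    intro ξ
    obtain ⟨U, hU, e, he⟩ := (isInvertible_iff_exists_isGen.1 hL) ξ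
    exact ⟨U, hU, e, he⟩
  have hgenN : ∀ ξ : X, ∃ (V : X.Opens) (_ : ξ ∈ V) (g : Γ(N, V)), IsGen N V g := by
    intro ξ
    obtain ⟨U, hU, e, he⟩ := (isInvertible_iff_exists_isGen.1 hN) ξ
    exact ⟨U, hU, e, he⟩
  choose VL hξVL gL hgL using hgenL
  choose VN hξVN gN hgN using hgenN
  have hηVL : ∀ ξ, genericPoint X ∈ VL ξ := fun ξ =>
    (generic_specializes ξ).mem_open (VL ξ).isOpen (hξVL ξ)
  have hηVN : ∀ ξ, genericPoint X ∈ VN ξ := fun ξ =>
    (generic_specializes ξ).mem_open (VN ξ).isOpen (hξVN ξ)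
  choose φ hφ1 hφ2 using fun ξ => exists_coeff_fibre N ξ (hξVN ξ) (hgN ξ) (u ξ) (hu ξ)
  choose ψ hψ1 hψ2 using fun ξ => exists_coeff_fibre L ξ (hξVL ξ) (hgL ξ) (v ξ) (hv ξ)
  choose fK hfK1 hfK2 using fun ξ =>
    exists_coeff_fibre L (genericPoint X) (hηVL ξ) (hgL ξ) s hs
  choose gK hgK1 hgK2 using fun ξ =>
    exists_coeff_fibre N (genericPoint X) (hηVN ξ) (hgN ξ) t ht
  have hfK0 : ∀ ξ, (fK ξ : X.functionField) ≠ 0 := by
    intro ξ h0
    apply hfK1 ξ
    rw [h0]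
    exact Ideal.zero_mem _
  have hgK0 : ∀ ξ, (gK ξ : X.functionField) ≠ 0 := by
    intro ξ h0
    apply hgK1 ξ
    rw [h0]
    exact Ideal.zero_mem _
  obtain ⟨a, ha⟩ : ∃ a : X → ℤ, a = Cyc.secDivFun δ L (genericPoint X) s := ⟨_, rfl⟩
  obtain ⟨b, hb⟩ : ∃ b : X → ℤ, b = Cyc.secDivFun δ N (genericPoint X) t := ⟨_, rfl⟩
  rw [← ha] at h₁
  rw [← hb] at h₂
  -- values of `a`, `b`
  have haval : ∀ ξ, δ ξ + 1 = δ (genericPoint X) →
      a ξ = CycAlg.ordFrac (X.presheaf.stalk ξ) X.functionField (fK ξ) := by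
    intro ξ hc
    rw [ha]
    unfold Cyc.secDivFun
    rw [dif_pos ⟨generic_specializes ξ, hc⟩]
    have := secOrdAt_generic_eq L (hgL ξ) (hξVL ξ) (generic_specializes ξ) (fK ξ) (hfK0 ξ)
    rw [← this]
    congr 1
    exact (hfK2 ξ).symm
  have hbval : ∀ ξ, δ ξ + 1 = δ (genericPoint X) →
      b ξ = CycAlg.ordFrac (X.presheaf.stalk ξ) X.functionField (gK ξ) := by
    intro ξ hc
    rw [hb]
    unfold Cyc.secDivFun
    rw [dif_pos ⟨generic_specializes ξ, hc⟩]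
    have := secOrdAt_generic_eq N (hgN ξ) (hξVN ξ) (generic_specializes ξ) (gK ξ) (hgK0 ξ)
    rw [← this]
    congr 1
    exact (hgK2 ξ).symm
  have hazero : ∀ ξ, ¬ δ ξ + 1 = δ (genericPoint X) → a ξ = 0 := by
    intro ξ hc
    rw [ha]
    unfold Cyc.secDivFun
    rw [dif_neg (fun h => hc h.2)]
  have hbzero : ∀ ξ, ¬ δ ξ + 1 = δ (genericPoint X) → b ξ = 0 := by
    intro ξ hc
    rw [hb]
    unfold Cyc.secDivFun
    rw [dif_neg (fun h => hc h.2)]
  -- the index set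
  obtain ⟨P, hP⟩ : ∃ P : X → Prop, ∀ ξ, P ξ ↔ (δ ξ + 1 = δ (genericPoint X) ∧
      ¬ (UnitAt ξ (fK ξ) ∧ UnitAt ξ (gK ξ))) := ⟨_, fun ξ => Iff.rfl⟩
  have haP : ∀ ξ, a ξ ≠ 0 → P ξ := by
    intro ξ hne
    rw [hP]
    have hc : δ ξ + 1 = δ (genericPoint X) := by
      by_contra hc
      exact hne (hazero ξ hc)
    refine ⟨hc, fun hU => hne ?_⟩
    rw [haval ξ hc]
    exact ordFrac_of_unitAt hU.1
  have hbP : ∀ ξ, b ξ ≠ 0 → P ξ := by
    intro ξ hne
    rw [hP]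
    have hc : δ ξ + 1 = δ (genericPoint X) := by
      by_contra hc
      exact hne (hbzero ξ hc)
    refine ⟨hc, fun hU => hne ?_⟩
    rw [hbval ξ hc]
    exact ordFrac_of_unitAt hU.2
  -- comparison of the generators at `ξ` and at `x`
  have hcompL : ∀ (x ξ : X) (hξ : ξ ∈ VL x), ∃ c : X.presheaf.stalk ξ, IsUnit c ∧
      L.presheaf.germ (VL ξ) ξ (hξVL ξ) (gL ξ) = c • L.presheaf.germ (VL x) ξ hξ (gL x) ∧
      (fK x : X.functionField) = fK ξ * algebraMap (X.presheaf.stalk ξ) X.functionField c := by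
    intro x ξ hξ
    obtain ⟨c, hcu, hcg⟩ := exists_unit_germ_eq L (hgL ξ) (hgL x) ξ (hξVL ξ) hξ
    refine ⟨c, hcu, hcg, ?_⟩
    exact coeff_generic_comparison L (hgL x) (hξVL ξ) hξ (generic_specializes ξ) c hcg
      (fK ξ) (fK x) ((hfK2 ξ).trans (hfK2 x).symm)
  have hcompN : ∀ (x ξ : X) (hξ : ξ ∈ VN x), ∃ d : X.presheaf.stalk ξ, IsUnit d ∧
      N.presheaf.germ (VN ξ) ξ (hξVN ξ) (gN ξ) = d • N.presheaf.germ (VN x) ξ hξ (gN x) ∧
      (gK x : X.functionField) = gK ξ * algebraMap (X.presheaf.stalk ξ) X.functionField d := by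
    intro x ξ hξ
    obtain ⟨d, hdu, hdg⟩ := exists_unit_germ_eq N (hgN ξ) (hgN x) ξ (hξVN ξ) hξ
    refine ⟨d, hdu, hdg, ?_⟩
    exact coeff_generic_comparison N (hgN x) (hξVN ξ) hξ (generic_specializes ξ) d hdg
      (gK ξ) (gK x) ((hgK2 ξ).trans (hgK2 x).symm)
  -- local finiteness of the index set
  have hLF : ∀ x : X, ∃ V : Set X, IsOpen V ∧ x ∈ V ∧ {ξ : X | ξ ∈ V ∧ P ξ}.Finite := by
    intro x
    obtain ⟨_, ⟨W, hW : IsAffineOpen W, rfl⟩, hxW, hWsub⟩ :=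
      X.isBasis_affineOpens.exists_subset_of_mem_open
        (show x ∈ ((VL x ⊓ VN x : X.Opens) : Set X) from ⟨hξVL x, hξVN x⟩) (VL x ⊓ VN x).isOpen
    haveI : IsNoetherianRing Γ(X, W) := IsLocallyNoetherian.component_noetherian ⟨W, hW⟩
    refine ⟨W, W.isOpen, hxW, ?_⟩
    have f1 := finite_not_unitAt_inter_affine hδ hW (fK x) (hfK0 x)
    have f2 := finite_not_unitAt_inter_affine hδ hW (gK x) (hgK0 x)
    apply (f1.union f2).subset
    rintro ξ ⟨hξW, hξP⟩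
    rw [hP] at hξP
    have hξVLx : ξ ∈ VL x := (hWsub hξW).1
    have hξVNx : ξ ∈ VN x := (hWsub hξW).2
    obtain ⟨c, hcu, -, hcF⟩ := hcompL x ξ hξVLx
    obtain ⟨d, hdu, -, hdG⟩ := hcompN x ξ hξVNx
    by_cases hUf : UnitAt ξ (fK x)
    · right
      refine ⟨hξW, hξP.1, fun hUg => hξP.2 ⟨?_, ?_⟩⟩
      · rw [hcF] at hUf
        exact unitAt_of_mul_unit hcu hUf
      · rw [hdG] at hUg
        exact unitAt_of_mul_unit hdu hUg
    · left
      exact ⟨hξW, hξP.1, hUf⟩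
  -- the rational functions
  obtain ⟨hh, hhdef⟩ : ∃ hh : ∀ ξ : X, X.residueField ξ, ∀ ξ, hh ξ =
      (X.residue ξ (φ ξ) : X.residueField ξ) ^ (a ξ) *
        ((X.residue ξ (ψ ξ) : X.residueField ξ) ^ (b ξ))⁻¹ *
        TKX ξ (fK ξ) (gK ξ) :=
    ⟨_, fun ξ => rfl⟩
  have hTne : ∀ (ξ : X) (F G : X.functionField), TKX ξ F G ≠ 0 :=
    fun ξ F G => TK_ne_zero F G
  have hhne : ∀ ξ, hh ξ ≠ 0 := by
    intro ξ
    rw [hhdef]
    exact mul_ne_zero (mul_ne_zero (zpow_ne_zero _ (residue_ne_zero (hφ1 ξ)))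
      (inv_ne_zero (zpow_ne_zero _ (residue_ne_zero (hψ1 ξ))))) (hTne ξ _ _)
  have hhone : ∀ ξ, δ ξ + 1 = δ (genericPoint X) → ¬ P ξ → hh ξ = 1 := by
    intro ξ hc hnP
    rw [hP] at hnP
    push Not at hnP
    have hU := hnP hc
    have hB := ringKrullDim_stalk_eq_one_of hδ ξ hc
    have e1 : TKX ξ (fK ξ) (gK ξ) = 1 :=
      TK_of_unitAt hB hU.1 hU.2
    rw [hhdef, haval ξ hc, hbval ξ hc, ordFrac_of_unitAt hU.1, ordFrac_of_unitAt hU.2, e1,
      zpow_zero, zpow_zero, inv_one, mul_one, mul_one]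
  unfold Cyc.RatEquiv
  refine ⟨{ξ : X // P ξ}, fun i => i.1, fun i => hh i.1, ?_, ?_, ?_, ?_⟩
  · intro i
    show δ i.1 = n - 2 + 1
    have := ((hP i.1).1 i.2).1
    omega
  · intro i
    exact hhne i.1
  · intro x
    obtain ⟨V, hVo, hxV, hfin⟩ := hLF x
    refine ⟨V, hVo, hxV, ?_⟩
    apply (Set.Finite.preimage (Subtype.val_injective.injOn) hfin).subset
    rintro i ⟨y, hy1, hy2⟩
    have hsp : i.1 ⤳ y := specializes_iff_mem_closure.2 hy1
    exact ⟨hsp.mem_open hVo hy2, i.2⟩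
  · intro x
    have e0 : (γ₁ - γ₂) x = γ₁ x - γ₂ x := rfl
    rw [e0, congrFun h₁ x, congrFun h₂ x]
    unfold Cyc.c1CapFun
    -- finiteness at `x`
    have hSx : {ξ : X | ξ ⤳ x ∧ P ξ}.Finite := by
      obtain ⟨V, hVo, hxV, hfin⟩ := hLF x
      apply hfin.subset
      rintro ξ ⟨hsp, hξP⟩
      exact ⟨hsp.mem_open hVo hxV, hξP⟩
    have fA₁ : (Function.support fun ξ => a ξ * Cyc.secDivFun δ N ξ (u ξ) x).Finite := by
      apply hSx.subset
      intro ξ hξ
      rw [Function.mem_support] at hξ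
      refine ⟨?_, haP ξ (left_ne_zero_of_mul hξ)⟩
      by_contra hns
      exact right_ne_zero_of_mul hξ (secDivFun_eq_zero_of_not_specializes δ N ξ (u ξ) x hns)
    have fA₂ : (Function.support fun ξ => b ξ * Cyc.secDivFun δ L ξ (v ξ) x).Finite := by
      apply hSx.subset
      intro ξ hξ
      rw [Function.mem_support] at hξ
      refine ⟨?_, hbP ξ (left_ne_zero_of_mul hξ)⟩
      by_contra hns
      exact right_ne_zero_of_mul hξ (secDivFun_eq_zero_of_not_specializes δ L ξ (v ξ) x hns)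
    by_cases hx : δ x + 2 = δ (genericPoint X)
    swap
    · -- both sides vanish
      have z1 : ∀ ξ, a ξ * Cyc.secDivFun δ N ξ (u ξ) x = 0 := by
        intro ξ
        by_cases hc : δ ξ + 1 = δ (genericPoint X)
        · have : Cyc.secDivFun δ N ξ (u ξ) x = 0 := by
            unfold Cyc.secDivFun
            rw [dif_neg]
            intro h
            apply hx
            have := h.2
            omega
          rw [this, mul_zero]
        · rw [hazero ξ hc, zero_mul]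
      have z2 : ∀ ξ, b ξ * Cyc.secDivFun δ L ξ (v ξ) x = 0 := by
        intro ξ
        by_cases hc : δ ξ + 1 = δ (genericPoint X)
        · have : Cyc.secDivFun δ L ξ (v ξ) x = 0 := by
            unfold Cyc.secDivFun
            rw [dif_neg]
            intro h
            apply hx
            have := h.2
            omega
          rw [this, mul_zero]
        · rw [hbzero ξ hc, zero_mul]
      have z3 : ∀ i : {ξ : X // P ξ}, Cyc.divFun δ i.1 (hh i.1) x = 0 := by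
        intro i
        unfold Cyc.divFun
        rw [dif_neg]
        intro h
        apply hx
        have h1 := ((hP i.1).1 i.2).1
        have h2 := h.2
        omega
      rw [finsum_congr z1, finsum_congr z2, finsum_congr z3]
      simp
    -- the main case: `x` has codimension two
    obtain ⟨D₁, hD₁⟩ : ∃ D₁ : X → ℤ, ∀ ξ, D₁ ξ = Cyc.divFun δ ξ (hh ξ) x := ⟨_, fun ξ => rfl⟩
    obtain ⟨D₂, hD₂⟩ : ∃ D₂ : X → ℤ, ∀ ξ, D₂ ξ = Cyc.divFun δ ξ (TKX ξ (fK x) (gK x)) x :=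
      ⟨_, fun ξ => rfl⟩
    have hstar : ∀ ξ : X, a ξ * Cyc.secDivFun δ N ξ (u ξ) x -
        b ξ * Cyc.secDivFun δ L ξ (v ξ) x = D₁ ξ - D₂ ξ := by
      intro ξ
      rw [hD₁, hD₂]
      by_cases hG : ξ ⤳ x ∧ δ x + 1 = δ ξ
      swap
      · unfold Cyc.secDivFun Cyc.divFun
        rw [dif_neg hG, dif_neg hG, dif_neg hG, dif_neg hG]
        simp
      have hc : δ ξ + 1 = δ (genericPoint X) := by
        have := hG.2
        omega
      have hB := ringKrullDim_stalk_eq_one_of hδ ξ hc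
      have hξVLx : ξ ∈ VL x := hG.1.mem_open (VL x).isOpen (hξVL x)
      have hξVNx : ξ ∈ VN x := hG.1.mem_open (VN x).isOpen (hξVN x)
      obtain ⟨c, hcu, hcg, hcF⟩ := hcompL x ξ hξVLx
      obtain ⟨d, hdu, hdg, hdG⟩ := hcompN x ξ hξVNx
      have e1 : Cyc.secDivFun δ N ξ (u ξ) x =
          Cyc.ordAt x ξ hG.1 (X.residue ξ (φ ξ)) + Cyc.ordAt x ξ hG.1 (X.residue ξ d) := by
        unfold Cyc.secDivFun
        rw [dif_pos hG, ← hφ2 ξ]
        exact secOrdAt_change N hG.1 (hgN x) (hξVN ξ) (hξVN x) (φ ξ) d (hφ1 ξ) hdu hdg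
      have e2 : Cyc.secDivFun δ L ξ (v ξ) x =
          Cyc.ordAt x ξ hG.1 (X.residue ξ (ψ ξ)) + Cyc.ordAt x ξ hG.1 (X.residue ξ c) := by
        unfold Cyc.secDivFun
        rw [dif_pos hG, ← hψ2 ξ]
        exact secOrdAt_change L hG.1 (hgL x) (hξVL ξ) (hξVL x) (ψ ξ) c (hψ1 ξ) hcu hcg
      have e3 : TKX ξ (fK x) (gK x) = TKX ξ (fK ξ) (gK ξ) *
            ((X.residue ξ d : X.residueField ξ) ^ (a ξ))⁻¹ *
            (X.residue ξ c : X.residueField ξ) ^ (b ξ) := by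
        rw [hcF, hdG, haval ξ hc, hbval ξ hc]
        obtain ⟨cu, rfl⟩ := hcu
        obtain ⟨du, rfl⟩ := hdu
        exact TK_mul_units hB cu du (hfK0 ξ) (hgK0 ξ)
      unfold Cyc.divFun
      rw [dif_pos hG, dif_pos hG, e1, e2, e3, hhdef ξ]
      exact (ordAt_combo x ξ hG.1 (residue_ne_zero (hφ1 ξ)) (residue_ne_zero (hψ1 ξ))
        (hTne ξ _ _) (residue_ne_zero (not_mem_maximalIdeal_of_isUnit hcu))
        (residue_ne_zero (not_mem_maximalIdeal_of_isUnit hdu)) (a ξ) (b ξ)).symm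
    -- supports
    have sD₁ : Function.support D₁ ⊆ {ξ : X | ξ ⤳ x ∧ P ξ} := by
      intro ξ hξ
      rw [Function.mem_support, hD₁] at hξ
      have hG : ξ ⤳ x ∧ δ x + 1 = δ ξ := by
        by_contra hG
        apply hξ
        unfold Cyc.divFun
        rw [dif_neg hG]
      have hc : δ ξ + 1 = δ (genericPoint X) := by
        have := hG.2
        omega
      refine ⟨hG.1, ?_⟩
      by_contra hnP
      apply hξ
      rw [hhone ξ hc hnP]
      unfold Cyc.divFun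
      rw [dif_pos hG]
      exact ordAt_one _ _ _
    have fD₁ : (Function.support D₁).Finite := hSx.subset sD₁
    have fD₂ : (Function.support D₂).Finite := by
      apply ((fD₁.union fA₁).union fA₂).subset
      intro ξ hξ
      rw [Function.mem_support] at hξ
      by_contra hcon
      simp only [Set.mem_union, Function.mem_support, not_or, not_not] at hcon
      apply hξ
      have := hstar ξ
      rw [hcon.1.1, hcon.1.2, hcon.2] at this
      omega
    have key := finsum_divFun_TK_eq_zero hδ x hx (fK x) (gK x) (hfK0 x) (hgK0 x)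
    have sumD₂ : ∑ᶠ ξ, D₂ ξ = 0 := by
      rw [finsum_congr hD₂]
      exact key
    have hsub : ∑ᶠ i : {ξ : X // P ξ}, Cyc.divFun δ i.1 (hh i.1) x = ∑ᶠ ξ, D₁ ξ := by
      have h2 := finsum_subtype_eq_finsum_cond (f := D₁) P
      have h3 : ∑ᶠ i : {ξ : X // P ξ}, Cyc.divFun δ i.1 (hh i.1) x =
          ∑ᶠ i : {ξ : X // P ξ}, D₁ i.1 := finsum_congr fun i => (hD₁ i.1).symm
      rw [h3, h2]
      have h4 : ∑ᶠ ξ, D₁ ξ = ∑ᶠ ξ ∈ (Set.univ : Set X), D₁ ξ := (finsum_mem_univ D₁).symm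
      rw [h4]
      symm
      exact finsum_mem_inter_support_eq' D₁ Set.univ {ξ : X | P ξ}
        (fun ξ hξ => ⟨fun _ => (sD₁ hξ).2, fun _ => Set.mem_univ _⟩)
    rw [hsub, ← finsum_sub_distrib fA₁ fA₂, finsum_congr hstar, finsum_sub_distrib fD₁ fD₂,
      sumD₂, sub_zero]

end Groth.Agent.Lib.Helper64.CycKey
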