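import Groth.Agent.Lib.Helper64.CycOrd1

/-!
# `c_1(O_X) ∩ α` is rationally equivalent to zero (helper64)
-/

set_option autoImplicit false
set_option linter.style.haveILetI false
set_option linter.unusedSectionVars false
universe u

open AlgebraicGeometry CategoryTheory Opposite TopologicalSpace

namespace Groth.Agent.Lib.Helper64.CycOrd

open Groth.Agent.Lib.Helper29.QCohLoc Groth.Agent.Lib.Helper64.Ref1Grp
open Groth.Agent.Lib.Helper64.SecOrd

variable {X : Scheme.{u}}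

/-- a finite sum over the support of one factor -/
theorem finsum_subtype_ne_zero (a D : X → ℤ) :
    ∑ᶠ i : {ξ : X // a ξ ≠ 0}, a i.1 * D i.1 = ∑ᶠ ξ : X, a ξ * D ξ := by
  classical
  rw [finsum_subtype_eq_finsum_cond (f := fun ξ => a ξ * D ξ) (fun ξ => a ξ ≠ 0)]
  apply finsum_congr
  intro ξ
  rw [finsum_eq_if]
  split_ifs with h
  · rfl
  · rw [not_not.1 h, zero_mul]

/-- the family of closures of the points of the support of a cycle is locally finite -/
theorem locallyFinite_support_closure (α : AlgebraicCycle X ℤ) (x : X) :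
    ∃ U : Set X, IsOpen U ∧ x ∈ U ∧
      {i : {ξ : X // α ξ ≠ 0} | (closure {i.1} ∩ U).Nonempty}.Finite := by
  obtain ⟨t, ht, hfin⟩ := α.supportLocallyFiniteWithinDomain' x (Set.mem_univ x)
  refine ⟨interior t, isOpen_interior, mem_interior_iff_mem_nhds.2 ht, ?_⟩
  have h1 : {i : {ξ : X // α ξ ≠ 0} | (closure {i.1} ∩ interior t).Nonempty} ⊆
      Subtype.val ⁻¹' (t ∩ Function.support α.toFun) := by
    rintro i ⟨y, hy1, hy2⟩
    have hsp : i.1 ⤳ y := specializes_iff_mem_closure.2 hy1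
    exact ⟨interior_subset (hsp.mem_open isOpen_interior hy2), i.2⟩
  exact (hfin.preimage Subtype.val_injective.injOn).subset h1

/-- **`c_1(O_X) ∩ α ∼ 0`** -/
theorem ratEquivZero_c1Cap_structureModule (δ : X → ℤ) (k : ℤ) (α : AlgebraicCycle X ℤ)
    (hα : α ∈ Cyc.Zk X δ (k + 1)) (s : (ξ : X) → Cyc.secFibre (Coh.structureModule X) ξ)
    (hs : ∀ ξ, s ξ ≠ 0) (γ : AlgebraicCycle X ℤ)
    (hγ : ⇑γ = Cyc.c1CapFun δ (Coh.structureModule X) ⇑α s) : Cyc.RatEquivZero δ k γ := by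
  have hex : ∀ ξ : X, ∃ φ : X.presheaf.stalk ξ, φ • oneFib ξ = s ξ :=
    fun ξ => exists_smul_oneFib ξ (s ξ)
  choose φ hφ using hex
  have hφm : ∀ ξ : X, φ ξ ∉ IsLocalRing.maximalIdeal (X.presheaf.stalk ξ) := by
    intro ξ hmem
    apply hs ξ
    rw [← hφ ξ]
    exact (smul_oneFib_eq_zero_iff ξ (φ ξ)).2 hmem
  have hres : ∀ ξ : X, (X.residue ξ (φ ξ) : X.residueField ξ) ≠ 0 := by
    intro ξ h0
    apply hφm ξ
    rw [← IsLocalRing.residue_eq_zero_iff]
    exact h0
  refine ⟨{ξ : X // α ξ ≠ 0}, fun i => i.1,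
    fun i => (X.residue i.1 (φ i.1) : X.residueField i.1) ^ (α i.1), ?_, ?_, ?_, ?_⟩
  · intro i
    by_contra hne
    exact i.2 (hα i.1 hne)
  · intro i
    exact zpow_ne_zero _ (hres i.1)
  · intro x
    exact locallyFinite_support_closure α x
  · intro x
    have h1 : γ x = Cyc.c1CapFun δ (Coh.structureModule X) ⇑α s x := congrFun hγ x
    rw [h1]
    unfold Cyc.c1CapFun
    have h2 : ∀ i : {ξ : X // α ξ ≠ 0},
        Cyc.divFun δ i.1 ((X.residue i.1 (φ i.1) : X.residueField i.1) ^ (α i.1)) x =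
          α i.1 * Cyc.divFun δ i.1 (X.residue i.1 (φ i.1)) x :=
      fun i => divFun_zpow δ i.1 (hres i.1) (α i.1) x
    rw [finsum_congr h2,
      finsum_subtype_ne_zero (fun ξ => α ξ) (fun ξ => Cyc.divFun δ ξ (X.residue ξ (φ ξ)) x)]
    apply finsum_congr
    intro ξ
    rw [← hφ ξ, secDivFun_structureModule δ ξ (φ ξ) (hφm ξ)]

end Groth.Agent.Lib.Helper64.CycOrd
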