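import Groth.Agent.S6480
import Groth.Agent.Lib.Helper64.CycOrd2
import Groth.Agent.Lib.Helper99.LenPowA

/-!
# The length of `A/(f)` through the minimal primes (helper64)

For a one-dimensional Noetherian local ring `A` and a nonunit nonzerodivisor `f`,
`length (A/(f)) = Σ_q length (A_q) · ord_{A/q} (f)` over the minimal primes `q`, derived from the
landed statement `S6480`.
-/

set_option autoImplicit false
set_option linter.style.haveILetI false
set_option linter.unusedSectionVars false
universe u v

namespace Groth.Agent.Lib.Helper64.CycLen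

open Groth.Agent.Lib.Helper64.CycOrd

section indep

variable (R : Type u) [CommRing R] (K : Type v) [Field K] [Algebra R K]

/-- on elements of the ring the order does not depend on the chosen fraction field -/
theorem ordFrac_algebraMap_indep (K' : Type v) [Field K'] [Algebra R K'] [IsFractionRing R K]
    [IsFractionRing R K'] (r : R) :
    CycAlg.ordFrac R K (algebraMap R K r) = CycAlg.ordFrac R K' (algebraMap R K' r) := by
  unfold CycAlg.ordFrac
  by_cases h : IsNoetherianRing R ∧ Ring.KrullDimLE 1 R ∧ Nontrivial R
  · have h1 : IsNoetherianRing R ∧ Ring.KrullDimLE 1 R ∧ Nontrivial R ∧ IsFractionRing R K :=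
      ⟨h.1, h.2.1, h.2.2, inferInstance⟩
    have h2 : IsNoetherianRing R ∧ Ring.KrullDimLE 1 R ∧ Nontrivial R ∧ IsFractionRing R K' :=
      ⟨h.1, h.2.1, h.2.2, inferInstance⟩
    rw [dif_pos h1, dif_pos h2]
    haveI := h.1; haveI := h.2.1; haveI := h.2.2
    haveI : IsDomain R := (IsFractionRing.injective R K).isDomain (algebraMap R K)
    by_cases hr : r = 0
    · rw [hr, map_zero, map_zero, map_zero, map_zero]
    · rw [Ring.ordFrac_eq_ord R hr, Ring.ordFrac_eq_ord R hr]
  · have h1 : ¬ (IsNoetherianRing R ∧ Ring.KrullDimLE 1 R ∧ Nontrivial R ∧ IsFractionRing R K) :=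
      fun h' => h ⟨h'.1, h'.2.1, h'.2.2.1⟩
    have h2 : ¬ (IsNoetherianRing R ∧ Ring.KrullDimLE 1 R ∧ Nontrivial R ∧ IsFractionRing R K') :=
      fun h' => h ⟨h'.1, h'.2.1, h'.2.2.1⟩
    rw [dif_neg h1, dif_neg h2]

end indep

variable {A : Type u} [CommRing A] [IsNoetherianRing A] [IsLocalRing A]

/-- the localized module of the ring itself has the length of the local ring -/
theorem length_localizedModule_self (q : Ideal A) [q.IsPrime] :
    Module.length (Localization.AtPrime q) (LocalizedModule q.primeCompl A) =
      Module.length (Localization.AtPrime q) (Localization.AtPrime q) := by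
  let e₀ : LocalizedModule q.primeCompl A ≃ₗ[A] Localization.AtPrime q :=
    IsLocalizedModule.iso q.primeCompl (Algebra.linearMap A (Localization.AtPrime q))
  let e : LocalizedModule q.primeCompl A ≃ₗ[Localization.AtPrime q] Localization.AtPrime q :=
    e₀.extendScalarsOfIsLocalization q.primeCompl (Localization.AtPrime q)
  exact e.length_eq

/-- **the length formula for `A/(f)`** -/
theorem length_quotient_span_eq_finsum (hA : ringKrullDim A = 1) (f : A)
    (hf : f ∈ nonZeroDivisors A) (hfu : ¬ IsUnit f) :
    ((Module.length A (A ⧸ Ideal.span {f})).toNat : ℤ) =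
      ∑ᶠ (q : PrimeSpectrum A) (_ : q.asIdeal ∈ minimalPrimes A),
        ((Module.length (Localization.AtPrime q.asIdeal)
          (Localization.AtPrime q.asIdeal)).toNat : ℤ) *
          CycAlg.ordFrac (A ⧸ q.asIdeal) q.asIdeal.ResidueField
            (algebraMap A q.asIdeal.ResidueField f) := by
  haveI hdim1 : Ring.KrullDimLE 1 A := by
    rw [Ring.KrullDimLE, Order.krullDimLE_iff]
    exact hA.le
  have hfm : f ∈ IsLocalRing.maximalIdeal A := (IsLocalRing.mem_maximalIdeal f).2 hfu
  -- no embedded primes
  have hemb : ∀ p ∈ associatedPrimes A A, p ∈ minimalPrimes A := by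
    intro p hp
    have hpp : p.IsPrime := hp.isPrime
    rcases Ring.krullDimLE_one_iff.1 hdim1 p hpp with h | h
    · exact h
    · exfalso
      have hpm : p = IsLocalRing.maximalIdeal A := IsLocalRing.eq_maximalIdeal h
      obtain ⟨x, hx⟩ := hp.2
      have hfp : f ∈ p := hpm ▸ hfm
      rw [hx] at hfp
      obtain ⟨n, hn⟩ := hfp
      rw [Submodule.mem_colon_singleton, Submodule.mem_bot, smul_eq_mul] at hn
      have hx0 : x = 0 := (mem_nonZeroDivisors_iff.1 (pow_mem hf n)).1 x hn
      have htop : p = ⊤ := by
        rw [hx, hx0]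
        apply Ideal.radical_eq_top.2
        rw [Ideal.eq_top_iff_one, Submodule.mem_colon_singleton, smul_zero]
        exact Submodule.zero_mem _
      exact hpp.ne_top htop
  have hsupp : Module.support A A = Set.univ := by
    rw [Module.support_of_algebra]
    have : RingHom.ker (algebraMap A A) = ⊥ := by
      rw [Algebra.algebraMap_self]
      exact (RingHom.ker_eq_bot_iff_eq_zero _).2 (fun x hx => hx)
    rw [this]
    exact PrimeSpectrum.zeroLocus_bot
  obtain ⟨-, heq⟩ := Groth.Agent.S6480.result hA (M := A) f 1 hf (Submonoid.one_mem _) hemb hemb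
    hsupp _ rfl _ rfl
  have hI : (Ideal.span {(1 : A)}).colon (Ideal.span {f}) = ⊤ := by
    rw [Ideal.span_singleton_one]
    rw [Ideal.eq_top_iff_one, Submodule.mem_colon]
    intro p _
    exact Submodule.mem_top
  have hP : Submodule.comap (LinearMap.lsmul A A 1)
      ((Ideal.span {f} * (Ideal.span {(1 : A)}).colon (Ideal.span {f})) •
        (⊤ : Submodule A A)) = Ideal.span {f} := by
    rw [hI, Ideal.mul_top]
    ext x
    rw [Submodule.mem_comap]
    have h1 : LinearMap.lsmul A A 1 x = x := by simp
    rw [h1]
    have h2 : (Ideal.span {f} • (⊤ : Submodule A A)) = Ideal.span {f} := by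
      change Ideal.span {f} * ⊤ = _
      exact Ideal.mul_top _
    rw [h2]
  have hzero : Module.length A (A ⧸ ((Ideal.span {(1 : A)}).colon (Ideal.span {f})) •
      (⊤ : Submodule A A)) = 0 := by
    rw [hI]
    have h2 : ((⊤ : Ideal A) • (⊤ : Submodule A A)) = ⊤ := by
      change (⊤ : Ideal A) * ⊤ = _
      exact Ideal.mul_top _
    rw [h2]
    rw [Module.length_eq_zero_iff]
    exact Submodule.Quotient.subsingleton_iff.2 rfl
  rw [hzero, hP] at heq
  simp only [ENat.toNat_zero, Nat.cast_zero, sub_zero, map_one, div_one] at heq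
  rw [heq]

end Groth.Agent.Lib.Helper64.CycLen
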