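import Groth.Agent.Lib.Helper64.CycLen2
import Groth.Agent.Lib.Helper64.AssReg2

/-!
# `[Z(s)]_k = c_1(L) ∩ [Y]_{k+1}` for a regular section (helper64)
-/

set_option autoImplicit false
set_option linter.style.haveILetI false
set_option linter.unusedSectionVars false
universe u

open AlgebraicGeometry CategoryTheory TopologicalSpace IsLocalRing

namespace Groth.Agent.Lib.Helper64.CycLen

open Groth.Agent.Lib.Helper64.StalkFrac Groth.Agent.Lib.Helper64.StalkSpec
open Groth.Agent.Lib.Helper64.StalkIdeal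
open Groth.Agent.Lib.Helper64.CycOrd Groth.Agent.Lib.Helper64.SecOrd
open Groth.Agent.Lib.Helper64.RefExt Groth.Agent.Lib.Helper64.RefS2
open Groth.Agent.Lib.Lead.Inv

variable {Y : Scheme.{u}}

theorem bijective_smul_unit_smul {R M : Type*} [CommRing R] [AddCommGroup M] [Module R M]
    {e : M} (he : Function.Bijective fun a : R => a • e) {w : R} (hw : IsUnit w) :
    Function.Bijective fun a : R => a • (w • e) := by
  constructor
  · intro a a' h
    have h1 : (a * w) • e = (a' * w) • e := by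
      rw [mul_smul, mul_smul]
      exact h
    exact hw.mul_left_inj.1 (he.1 h1)
  · intro v
    obtain ⟨d, hd⟩ := he.2 v
    obtain ⟨u, rfl⟩ := hw
    refine ⟨d * ↑u⁻¹, ?_⟩
    change (d * ↑u⁻¹) • ((u : R) • e) = v
    rw [← mul_smul, mul_assoc, Units.inv_mul, mul_one]
    exact hd

theorem mem_smul_top_iff_of_bijective (F : Y.Modules) (ξ : Y) (e : F.presheaf.stalk ξ)
    (he : Function.Bijective fun a : Y.presheaf.stalk ξ => a • e) (m : F.presheaf.stalk ξ) :
    m ∈ maximalIdeal (Y.presheaf.stalk ξ) •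
      (⊤ : Submodule (Y.presheaf.stalk ξ) (F.presheaf.stalk ξ)) ↔
    ∃ c ∈ maximalIdeal (Y.presheaf.stalk ξ), c • e = m := by
  constructor
  · intro hm
    refine Submodule.smul_induction_on hm ?_ ?_
    · intro r hr n _
      obtain ⟨c, rfl⟩ := he.2 n
      exact ⟨r * c, Ideal.mul_mem_right _ _ hr, mul_smul _ _ _⟩
    · rintro m₁ m₂ ⟨c₁, hc₁, rfl⟩ ⟨c₂, hc₂, rfl⟩
      exact ⟨c₁ + c₂, Ideal.add_mem _ hc₁ hc₂, add_smul _ _ _⟩
  · rintro ⟨c, hc, rfl⟩
    exact Submodule.smul_mem_smul hc Submodule.mem_top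

theorem smul_mk_eq_zero_iff (F : Y.Modules) (ξ : Y) (e : F.presheaf.stalk ξ)
    (he : Function.Bijective fun a : Y.presheaf.stalk ξ => a • e) (a : Y.presheaf.stalk ξ) :
    a • (Submodule.Quotient.mk e : Cyc.secFibre F ξ) = 0 ↔
      a ∈ maximalIdeal (Y.presheaf.stalk ξ) := by
  have h1 : a • (Submodule.Quotient.mk e : Cyc.secFibre F ξ) = Submodule.Quotient.mk (a • e) := rfl
  rw [h1, Submodule.Quotient.mk_eq_zero, mem_smul_top_iff_of_bijective F ξ e he]
  constructor
  · rintro ⟨c, hc, h⟩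
    rw [← he.1 h]
    exact hc
  · intro ha
    exact ⟨a, ha, rfl⟩

/-- the order of the rational section induced by a germ, through the chosen generator -/
theorem secOrdAt_of_generator (L : Y.Modules) {y ξ : Y} (h : ξ ⤳ y)
    (ht : ∃ t : L.presheaf.stalk y, Submodule.span (Y.presheaf.stalk y) {t} = ⊤)
    (hfree : Function.Bijective fun a : Y.presheaf.stalk ξ =>
      a • (L.presheaf.stalkSpecializes h).hom (Classical.choose ht))
    (m : L.presheaf.stalk y) (f : Y.presheaf.stalk y) (hm : m = f • Classical.choose ht) :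
    Cyc.secOrdAt L ξ y h (Submodule.Quotient.mk ((L.presheaf.stalkSpecializes h).hom m)) =
      Cyc.ordAt y ξ h (Cyc.specMap y ξ h f) := by
  classical
  have hmk : (Submodule.Quotient.mk ((L.presheaf.stalkSpecializes h).hom m) : Cyc.secFibre L ξ) =
      (Y.presheaf.stalkSpecializes h).hom f •
        (Submodule.Quotient.mk ((L.presheaf.stalkSpecializes h).hom (Classical.choose ht)) :
          Cyc.secFibre L ξ) := by
    rw [hm, sp_smul]
    rfl
  have hφ : ∃ φ : Y.presheaf.stalk ξ,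
      (Submodule.Quotient.mk ((L.presheaf.stalkSpecializes h).hom m) : Cyc.secFibre L ξ) =
        φ • (Submodule.Quotient.mk ((L.presheaf.stalkSpecializes h).hom (Classical.choose ht)) :
          Cyc.secFibre L ξ) := ⟨_, hmk⟩
  unfold Cyc.secOrdAt
  rw [dif_pos ht, dif_pos hφ]
  obtain ⟨φ₀, hφ₀⟩ : ∃ φ₀ : Y.presheaf.stalk ξ, φ₀ = Classical.choose hφ := ⟨_, rfl⟩
  have hspec : (Submodule.Quotient.mk ((L.presheaf.stalkSpecializes h).hom m) :
      Cyc.secFibre L ξ) = φ₀ •
        (Submodule.Quotient.mk ((L.presheaf.stalkSpecializes h).hom (Classical.choose ht)) :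
          Cyc.secFibre L ξ) := by
    rw [hφ₀]
    exact Classical.choose_spec hφ
  rw [← hφ₀]
  have h3 : (φ₀ - (Y.presheaf.stalkSpecializes h).hom f) •
      (Submodule.Quotient.mk ((L.presheaf.stalkSpecializes h).hom (Classical.choose ht)) :
        Cyc.secFibre L ξ) = 0 := by
    rw [sub_smul, sub_eq_zero, ← hspec, hmk]
  rw [smul_mk_eq_zero_iff L ξ _ hfree, ← IsLocalRing.residue_eq_zero_iff] at h3
  have h5 : (Y.residue ξ).hom (φ₀ - (Y.presheaf.stalkSpecializes h).hom f) = 0 := h3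
  rw [map_sub, sub_eq_zero] at h5
  have h6 : (Y.residue ξ) φ₀ = Cyc.specMap y ξ h f := h5
  rw [h6]

/-- **`[Z(s)]_k = c_1(L) ∩ [Y]_{k+1}`** -/
theorem zeroSectionFun_eq_c1CapFun (δ : Y → ℤ) (hY : Cyc.IsSetup Y δ) (L : Y.Modules)
    (hL : PicF.IsInvertible L) (k : ℤ) (hdim : ∀ y : Y, δ y ≤ k + 1)
    (s : L.presheaf.obj (Opposite.op ⊤))
    (hreg : ∀ y : Y, δ y = k → Function.Injective
      (fun a : Y.presheaf.stalk y => a • (L.presheaf.germ ⊤ y trivial) s)) :
    Cyc.zeroSectionFun δ k L s = Cyc.c1CapFun δ L (Cyc.subschemeFun δ (k + 1) (𝟙 Y))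
      (fun ξ => Submodule.Quotient.mk ((L.presheaf.germ ⊤ ξ trivial) s)) := by
  classical
  haveI := hY.1
  have hδ := hY.2.2
  funext y
  by_cases hyk : δ y = k
  swap
  · have hL0 : Cyc.zeroSectionFun δ k L s y = 0 := by
      unfold Cyc.zeroSectionFun
      rw [if_neg hyk]
    rw [hL0]
    symm
    unfold Cyc.c1CapFun
    apply finsum_eq_zero_of_forall_eq_zero
    intro ξ
    by_cases hξ : δ ξ = k + 1
    · have h1 : Cyc.secDivFun δ L ξ
          (Submodule.Quotient.mk ((L.presheaf.germ ⊤ ξ trivial) s)) y = 0 := by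
        unfold Cyc.secDivFun
        rw [dif_neg]
        rintro ⟨-, h2⟩
        exact hyk (by omega)
      rw [h1, mul_zero]
    · have h1 : Cyc.subschemeFun δ (k + 1) (𝟙 Y) ξ = 0 := by
        unfold Cyc.subschemeFun
        rw [if_neg hξ]
      rw [h1, zero_mul]
  -- the main case
  obtain ⟨U, hyU, ε, hε⟩ := (isInvertible_iff_exists_isGen.1 hL) y
  have hg := bijective_stalk_of_isGen hε y hyU
  have ht : ∃ t : L.presheaf.stalk y, Submodule.span (Y.presheaf.stalk y) {t} = ⊤ := by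
    refine ⟨L.presheaf.germ U y hyU ε, ?_⟩
    rw [eq_top_iff]
    intro m _
    obtain ⟨a, rfl⟩ := hg.2 m
    exact Submodule.smul_mem _ _ (Submodule.mem_span_singleton_self _)
  obtain ⟨t₀, ht₀⟩ : ∃ t₀ : L.presheaf.stalk y, t₀ = Classical.choose ht := ⟨_, rfl⟩
  have hspan : Submodule.span (Y.presheaf.stalk y) {t₀} = ⊤ := by
    rw [ht₀]
    exact Classical.choose_spec ht
  obtain ⟨u, hu⟩ := hg.2 t₀
  have hu' : u • L.presheaf.germ U y hyU ε = t₀ := hu
  have huu : IsUnit u := by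
    have h1 : L.presheaf.germ U y hyU ε ∈ Submodule.span (Y.presheaf.stalk y) {t₀} := by
      rw [hspan]
      exact Submodule.mem_top
    obtain ⟨v, hv⟩ := Submodule.mem_span_singleton.1 h1
    rw [← hu', ← mul_smul] at hv
    have h2 : v * u = 1 := hg.1 (hv.trans (one_smul _ _).symm)
    exact IsUnit.of_mul_eq_one v (by rw [mul_comm]; exact h2)
  have hf : ∃ f : Y.presheaf.stalk y,
      (L.presheaf.germ ⊤ y trivial) s = f • Classical.choose ht := by
    have h1 : (L.presheaf.germ ⊤ y trivial) s ∈ Submodule.span (Y.presheaf.stalk y) {t₀} := by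
      rw [hspan]
      exact Submodule.mem_top
    obtain ⟨f, hf⟩ := Submodule.mem_span_singleton.1 h1
    exact ⟨f, by rw [← ht₀]; exact hf.symm⟩
  obtain ⟨f₀, hf₀def⟩ : ∃ f₀ : Y.presheaf.stalk y, f₀ = Classical.choose hf := ⟨_, rfl⟩
  have hf₀ : (L.presheaf.germ ⊤ y trivial) s = f₀ • Classical.choose ht := by
    rw [hf₀def]
    exact Classical.choose_spec hf
  have hLHS : Cyc.zeroSectionFun δ k L s y =
      ((Module.length (Y.presheaf.stalk y)
        (Y.presheaf.stalk y ⧸ Ideal.span {f₀})).toNat : ℤ) := by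
    unfold Cyc.zeroSectionFun
    rw [if_pos hyk, dif_pos ht, dif_pos hf, ← hf₀def]
  have hf₀reg : f₀ ∈ nonZeroDivisors (Y.presheaf.stalk y) := by
    rw [mem_nonZeroDivisors_iff_right]
    intro a ha
    have h1 : a • (L.presheaf.germ ⊤ y trivial) s =
        (0 : Y.presheaf.stalk y) • (L.presheaf.germ ⊤ y trivial) s := by
      rw [hf₀, ← mul_smul, ha, zero_smul, zero_smul]
    exact hreg y hyk h1
  -- the terms of the right hand side
  have hT : ∀ ξ : Y, Cyc.subschemeFun δ (k + 1) (𝟙 Y) ξ * Cyc.secDivFun δ L ξ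
      (Submodule.Quotient.mk ((L.presheaf.germ ⊤ ξ trivial) s)) y =
      if hξ : ξ ⤳ y ∧ δ ξ = k + 1 then
        ((Module.length (Y.presheaf.stalk ξ) (Y.presheaf.stalk ξ)).toNat : ℤ) *
          Cyc.ordAt y ξ hξ.1 (Cyc.specMap y ξ hξ.1 f₀)
      else 0 := by
    intro ξ
    by_cases hξ : ξ ⤳ y ∧ δ ξ = k + 1
    · rw [dif_pos hξ]
      have h1 : Cyc.subschemeFun δ (k + 1) (𝟙 Y) ξ =
          ((Module.length (Y.presheaf.stalk ξ) (Y.presheaf.stalk ξ)).toNat : ℤ) := by
        unfold Cyc.subschemeFun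
        rw [if_pos hξ.2]
        have h2 : {z : Y | (𝟙 Y : Y ⟶ Y) z = ξ} = {ξ} := by
          ext z
          exact Iff.rfl
        rw [h2, finsum_mem_singleton]
      have hξU : ξ ∈ U := hξ.1.mem_open U.isOpen hyU
      have hfree : Function.Bijective fun a : Y.presheaf.stalk ξ =>
          a • (L.presheaf.stalkSpecializes hξ.1).hom (Classical.choose ht) := by
        rw [← ht₀, ← hu', sp_smul, sp_germ]
        exact bijective_smul_unit_smul (bijective_stalk_of_isGen hε ξ hξU) (huu.map _)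
      have h2 : Cyc.secDivFun δ L ξ
          (Submodule.Quotient.mk ((L.presheaf.germ ⊤ ξ trivial) s)) y =
          Cyc.ordAt y ξ hξ.1 (Cyc.specMap y ξ hξ.1 f₀) := by
        unfold Cyc.secDivFun
        rw [dif_pos ⟨hξ.1, by omega⟩]
        have h3 : (L.presheaf.germ ⊤ ξ trivial) s =
            (L.presheaf.stalkSpecializes hξ.1).hom ((L.presheaf.germ ⊤ y trivial) s) :=
          (sp_germ L (U := ⊤) hξ.1 trivial s).symm
        rw [h3]
        exact secOrdAt_of_generator L hξ.1 ht hfree _ f₀ hf₀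
      rw [h1, h2]
    · rw [dif_neg hξ]
      by_cases h2 : δ ξ = k + 1
      · have h3 : ¬ (ξ ⤳ y ∧ δ y + 1 = δ ξ) := fun h => hξ ⟨h.1, h2⟩
        unfold Cyc.secDivFun
        rw [dif_neg h3, mul_zero]
      · unfold Cyc.subschemeFun
        rw [if_neg h2, zero_mul]
  rw [hLHS]
  unfold Cyc.c1CapFun
  rw [finsum_congr hT]
  by_cases hfu : IsUnit f₀
  · -- both sides vanish
    have h1 : Module.length (Y.presheaf.stalk y) (Y.presheaf.stalk y ⧸ Ideal.span {f₀}) = 0 := by
      rw [Module.length_eq_zero_iff]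
      exact Submodule.Quotient.subsingleton_iff.2 (Ideal.span_singleton_eq_top.2 hfu)
    rw [h1]
    symm
    apply finsum_eq_zero_of_forall_eq_zero
    intro ξ
    split_ifs with hξ
    · rw [ordAt_specMap_unit y ξ hξ.1 hfu, mul_zero]
    · rfl
  · have hA := ringKrullDim_stalk_eq_one hδ hdim y hyk f₀ hf₀reg hfu
    haveI := krullDimLE_one_stalk hδ hdim y hyk
    rw [length_quotient_span_eq_finsum hA f₀ hf₀reg hfu]
    -- reindex
    have hmin : ∀ i : {ξ : Y // ξ ⤳ y ∧ δ ξ = k + 1},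
        (qOf i.2.1).asIdeal ∈ minimalPrimes (Y.presheaf.stalk y) := by
      intro i
      rcases Ring.krullDimLE_one_iff.1 inferInstance (qOf i.2.1).asIdeal (qOf i.2.1).isPrime
        with h | h
      · exact h
      · exfalso
        have h1 : (qOf i.2.1).asIdeal = maximalIdeal (Y.presheaf.stalk y) :=
          IsLocalRing.eq_maximalIdeal h
        rw [qOf_asIdeal, ← primeOf_self (specializes_refl y)] at h1
        have h2 : i.1 = y := eq_of_primeOf_eq (specializes_refl y) i.2.1 h1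
        have h3 := i.2.2
        rw [h2] at h3
        omega
    let Φ : {ξ : Y // ξ ⤳ y ∧ δ ξ = k + 1} →
        {q : PrimeSpectrum (Y.presheaf.stalk y) // q.asIdeal ∈ minimalPrimes (Y.presheaf.stalk y)} :=
      fun i => ⟨qOf i.2.1, hmin i⟩
    have hΦ : Function.Bijective Φ := by
      constructor
      · intro i j hij
        have h1 : (qOf i.2.1).asIdeal = (qOf j.2.1).asIdeal :=
          congrArg (fun q => q.1.asIdeal) hij
        rw [qOf_asIdeal, qOf_asIdeal] at h1
        exact Subtype.ext (eq_of_primeOf_eq j.2.1 i.2.1 h1)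
      · rintro ⟨q, hq⟩
        haveI := q.isPrime
        obtain ⟨ξ, h, hξq⟩ := exists_specializes_primeOf_eq y q.asIdeal
        have hne : ξ ≠ y := by
          intro hξy
          have hmax : primeOf h = maximalIdeal (Y.presheaf.stalk y) := by
            subst hξy
            exact primeOf_self h
          rw [hmax] at hξq
          have hfm : f₀ ∈ maximalIdeal (Y.presheaf.stalk y) := (mem_maximalIdeal f₀).2 hfu
          rw [hξq] at hfm
          exact notMem_nonZeroDivisors_of_mem_mem_minimalPrimes hfm hq hf₀reg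
        have hδξ : δ ξ = k + 1 := by
          have h1 := (hδ ξ y h hne).1
          have h2 := hdim ξ
          omega
        refine ⟨⟨ξ, h, hδξ⟩, ?_⟩
        apply Subtype.ext
        apply PrimeSpectrum.ext
        change (qOf h).asIdeal = q.asIdeal
        rw [qOf_asIdeal, hξq]
    have hterm : ∀ i : {ξ : Y // ξ ⤳ y ∧ δ ξ = k + 1},
        ((Module.length (Y.presheaf.stalk i.1) (Y.presheaf.stalk i.1)).toNat : ℤ) *
          Cyc.ordAt y i.1 i.2.1 (Cyc.specMap y i.1 i.2.1 f₀) =
        ((Module.length (Localization.AtPrime (Φ i).1.asIdeal)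
          (Localization.AtPrime (Φ i).1.asIdeal)).toNat : ℤ) *
          CycAlg.ordFrac (Y.presheaf.stalk y ⧸ (Φ i).1.asIdeal) (Φ i).1.asIdeal.ResidueField
            (algebraMap (Y.presheaf.stalk y) (Φ i).1.asIdeal.ResidueField f₀) := by
      intro i
      change _ = ((Module.length (Localization.AtPrime (qOf i.2.1).asIdeal)
          (Localization.AtPrime (qOf i.2.1).asIdeal)).toNat : ℤ) *
          CycAlg.ordFrac (Y.presheaf.stalk y ⧸ (qOf i.2.1).asIdeal)
            (qOf i.2.1).asIdeal.ResidueField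
            (algebraMap (Y.presheaf.stalk y) (qOf i.2.1).asIdeal.ResidueField f₀)
      rw [length_localization_qOf, ordFrac_qOf]
    rw [← finsum_subtype_eq_finsum_cond
      (f := fun q : PrimeSpectrum (Y.presheaf.stalk y) =>
        ((Module.length (Localization.AtPrime q.asIdeal)
          (Localization.AtPrime q.asIdeal)).toNat : ℤ) *
          CycAlg.ordFrac (Y.presheaf.stalk y ⧸ q.asIdeal) q.asIdeal.ResidueField
            (algebraMap (Y.presheaf.stalk y) q.asIdeal.ResidueField f₀))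
      (fun q => q.asIdeal ∈ minimalPrimes (Y.presheaf.stalk y))]
    rw [← finsum_eq_of_bijective Φ hΦ hterm]
    obtain ⟨g, hg⟩ : ∃ g : Y → ℤ, g = fun ξ : Y => if hξ : ξ ⤳ y ∧ δ ξ = k + 1 then
        ((Module.length (Y.presheaf.stalk ξ) (Y.presheaf.stalk ξ)).toNat : ℤ) *
          Cyc.ordAt y ξ hξ.1 (Cyc.specMap y ξ hξ.1 f₀) else 0 := ⟨_, rfl⟩
    have e1 : ∑ᶠ i : {ξ : Y // ξ ⤳ y ∧ δ ξ = k + 1}, g i.1 =
        ∑ᶠ (ξ : Y) (_ : ξ ⤳ y ∧ δ ξ = k + 1), g ξ :=
      finsum_subtype_eq_finsum_cond (f := g) (fun ξ => ξ ⤳ y ∧ δ ξ = k + 1)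
    have e2 : ∀ ξ : Y, (∑ᶠ (_ : ξ ⤳ y ∧ δ ξ = k + 1), g ξ) = g ξ := by
      intro ξ
      rw [finsum_eq_if]
      split_ifs with h
      · rfl
      · rw [hg]
        change (0 : ℤ) = dite _ _ _
        rw [dif_neg h]
    have e3 : ∀ i : {ξ : Y // ξ ⤳ y ∧ δ ξ = k + 1}, g i.1 =
        ((Module.length (Y.presheaf.stalk i.1) (Y.presheaf.stalk i.1)).toNat : ℤ) *
          Cyc.ordAt y i.1 i.2.1 (Cyc.specMap y i.1 i.2.1 f₀) := by
      intro i
      rw [hg]
      change dite _ _ _ = _
      rw [dif_pos i.2]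
    rw [← finsum_congr e3, e1, finsum_congr e2, hg]

end Groth.Agent.Lib.Helper64.CycLen
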