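import Groth.Agent.Lib.Helper64.SecOrd2
import Groth.Agent.Lib.Helper35.Gen2

/-!
# Orders of rational sections of tensor products (helper64)

* `exists_rs_eq_smul`: a stalk-level relation `germ m = a • germ m'` spreads out to a neighbourhood.
* `germ_tm_eq`: bilinearity of `Helper35.Gen.tm` on germs.
* `exists_coeff`: coefficients of elements of the generic stalk with respect to a local generator.
-/

set_option autoImplicit false
set_option linter.style.haveILetI false
set_option linter.unusedSectionVars false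
universe u

open AlgebraicGeometry CategoryTheory Opposite TopologicalSpace

namespace Groth.Agent.Lib.Helper64.SecOrd

open Groth.Agent.Lib.Lead.QCohAff
open Groth.Agent.Lib.Helper64.RefExt Groth.Agent.Lib.Helper64.RefS2
open Groth.Agent.Lib.Helper35.Gen

variable {X : Scheme.{u}}

/-- a stalk-level relation `germ m = a • germ m'` spreads out to a neighbourhood -/
theorem exists_rs_eq_smul (M : X.Modules) {U V : X.Opens} (y : X) (hyU : y ∈ U) (hyV : y ∈ V)
    (m : Γ(M, U)) (m' : Γ(M, V)) (a : X.presheaf.stalk y)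
    (hm : M.presheaf.germ U y hyU m = a • M.presheaf.germ V y hyV m') :
    ∃ (W : X.Opens) (hWU : W ≤ U) (hWV : W ≤ V) (hyW : y ∈ W) (a₀ : Γ(X, W)),
      X.presheaf.germ W y hyW a₀ = a ∧ rs M hWU m = a₀ • rs M hWV m' := by
  obtain ⟨A, hyA, a₁, rfl⟩ := TopCat.Presheaf.exists_germ_eq X.presheaf a
  let W₀ : X.Opens := U ⊓ V ⊓ A
  have hW₀U : W₀ ≤ U := inf_le_left.trans inf_le_left
  have hW₀V : W₀ ≤ V := inf_le_left.trans inf_le_right
  have hW₀A : W₀ ≤ A := inf_le_right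
  have hyW₀ : y ∈ W₀ := ⟨⟨hyU, hyV⟩, hyA⟩
  have h1 : M.presheaf.germ W₀ y hyW₀ (rs M hW₀U m) =
      M.presheaf.germ W₀ y hyW₀ (rr X hW₀A a₁ • rs M hW₀V m') := by
    rw [germ_smul]
    erw [germ_res M hW₀U y hyW₀ m, germ_res M hW₀V y hyW₀ m', germX_res hW₀A y hyW₀ a₁]
    exact hm
  obtain ⟨W, hyW, iU, iV, h2⟩ := TopCat.Presheaf.germ_eq M.presheaf y hyW₀ hyW₀ _ _ h1
  have hWW₀ : W ≤ W₀ := iU.le
  refine ⟨W, hWW₀.trans hW₀U, hWW₀.trans hW₀V, hyW, rr X (hWW₀.trans hW₀A) a₁, ?_, ?_⟩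
  · exact germX_res (hWW₀.trans hW₀A) y hyW a₁
  · have h3 : rs M hWW₀ (rs M hW₀U m) = rs M hWW₀ (rr X hW₀A a₁ • rs M hW₀V m') := h2
    rw [rs_rs, rs_smul, rs_rs, rr_rr] at h3
    exact h3

/-- bilinearity of `tm` on germs -/
theorem germ_tm_eq (M N : X.Modules) {U V : X.Opens} (y : X) (hyU : y ∈ U) (hyV : y ∈ V)
    (m : Γ(M, U)) (n : Γ(N, U)) (m' : Γ(M, V)) (n' : Γ(N, V)) (a b : X.presheaf.stalk y)
    (hm : M.presheaf.germ U y hyU m = a • M.presheaf.germ V y hyV m')
    (hn : N.presheaf.germ U y hyU n = b • N.presheaf.germ V y hyV n') :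
    (CohB1.tensorMod M N).presheaf.germ U y hyU (tm M N m n) =
      (a * b) • (CohB1.tensorMod M N).presheaf.germ V y hyV (tm M N m' n') := by
  obtain ⟨W₁, h1U, h1V, hy1, a₀, ha₀, hma⟩ := exists_rs_eq_smul M y hyU hyV m m' a hm
  obtain ⟨W₂, h2U, h2V, hy2, b₀, hb₀, hnb⟩ := exists_rs_eq_smul N y hyU hyV n n' b hn
  let W : X.Opens := W₁ ⊓ W₂
  have hW1 : W ≤ W₁ := inf_le_left
  have hW2 : W ≤ W₂ := inf_le_right
  have hyW : y ∈ W := ⟨hy1, hy2⟩
  have hWU : W ≤ U := hW1.trans h1U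
  have hWV : W ≤ V := hW1.trans h1V
  have e1 : rs M hWU m = rr X hW1 a₀ • rs M hWV m' := by
    have := congrArg (rs M hW1) hma
    rw [rs_rs, rs_smul, rs_rs] at this
    exact this
  have e2 : rs N hWU n = rr X hW2 b₀ • rs N hWV n' := by
    have := congrArg (rs N hW2) hnb
    rw [rs_rs, rs_smul, rs_rs] at this
    exact this
  have e3 : rs _ hWU (tm M N m n) =
      (rr X hW1 a₀ * rr X hW2 b₀) • rs _ hWV (tm M N m' n') := by
    rw [rs_tm, rs_tm, e1, e2, tm_smul_left, tm_smul_right, mul_smul]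
  have e4 := congrArg ((CohB1.tensorMod M N).presheaf.germ W y hyW) e3
  rw [germ_smul] at e4
  erw [germ_res (CohB1.tensorMod M N) hWU y hyW, germ_res (CohB1.tensorMod M N) hWV y hyW] at e4
  rw [e4, map_mul]
  congr 2
  · exact (germX_res hW1 y hyW a₀).trans ha₀
  · exact (germX_res hW2 y hyW b₀).trans hb₀

variable [IsIntegral X]

/-- coefficients with respect to a local generator -/
theorem exists_coeff (L : X.Modules) {V : X.Opens} {g : Γ(L, V)}
    (hg : Groth.Agent.Lib.Lead.Inv.IsGen L V g) (hη : genericPoint X ∈ V)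
    (v : L.presheaf.stalk (genericPoint X)) :
    ∃ c : X.functionField, v = c • L.presheaf.germ V (genericPoint X) hη g := by
  obtain ⟨c, hc⟩ := (bijective_stalk_of_isGen hg (genericPoint X) hη).2 v
  exact ⟨c, hc.symm⟩

theorem germ_ne_zero_of_isGen (L : X.Modules) {V : X.Opens} {g : Γ(L, V)}
    (hg : Groth.Agent.Lib.Lead.Inv.IsGen L V g) (y : X) (hy : y ∈ V) :
    L.presheaf.germ V y hy g ≠ 0 := by
  intro h0
  have := (bijective_stalk_of_isGen hg y hy).1 (a₁ := 1) (a₂ := 0) (by simp only [h0, smul_zero])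
  exact one_ne_zero this

end Groth.Agent.Lib.Helper64.SecOrd
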