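import Groth.Agent.Lib.Helper64.CycLen3
import Groth.Agent.Lib.Helper64.SecOrd3
import Groth.Agent.Lib.Lead.Inv3

/-!
# Orders of rational sections of invertible modules: generators and tensor products (helper64)

* `ordAt_inv`, `ordAt_div`.
* `secOrdAt_eq_of_isGen`: the order of a rational section computed with any local generator.
* `secOrdAt_tensor`: additivity of the order under tensor products.
-/

set_option autoImplicit false
set_option linter.style.haveILetI false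
set_option linter.unusedSectionVars false
universe u

open AlgebraicGeometry CategoryTheory TopologicalSpace IsLocalRing

namespace Groth.Agent.Lib.Helper64.CycTens

open Groth.Agent.Lib.Helper64.CycOrd Groth.Agent.Lib.Helper64.CycLen
open Groth.Agent.Lib.Helper64.SecOrd
open Groth.Agent.Lib.Helper64.RefExt Groth.Agent.Lib.Helper64.RefS2
open Groth.Agent.Lib.Lead.Inv

variable {X : Scheme.{u}}

theorem ordAt_inv (x ξ : X) (h : ξ ⤳ x) {f : X.residueField ξ} (hf : f ≠ 0) :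
    Cyc.ordAt x ξ h f⁻¹ = - Cyc.ordAt x ξ h f :=
  ordFrac_inv _ _ hf

theorem ordAt_div (x ξ : X) (h : ξ ⤳ x) {f g : X.residueField ξ} (hf : f ≠ 0) (hg : g ≠ 0) :
    Cyc.ordAt x ξ h (f / g) = Cyc.ordAt x ξ h f - Cyc.ordAt x ξ h g := by
  rw [div_eq_mul_inv, ordAt_mul x ξ h hf (inv_ne_zero hg), ordAt_inv x ξ h hg]
  ring

theorem residue_ne_zero {ξ : X} {φ : X.presheaf.stalk ξ}
    (hφ : φ ∉ maximalIdeal (X.presheaf.stalk ξ)) : (X.residue ξ φ : X.residueField ξ) ≠ 0 := by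
  intro h0
  apply hφ
  rw [← IsLocalRing.residue_eq_zero_iff]
  exact h0

theorem residue_mul {ξ : X} (a b : X.presheaf.stalk ξ) :
    (X.residue ξ (a * b) : X.residueField ξ) = X.residue ξ a * X.residue ξ b :=
  map_mul (X.residue ξ).hom a b

/-- the order of a rational section computed with a local generator -/
theorem secOrdAt_eq_of_isGen (M : X.Modules) {U : X.Opens} {ε : Γ(M, U)} (hε : IsGen M U ε)
    {x ξ : X} (h : ξ ⤳ x) (hx : x ∈ U) (φ : X.presheaf.stalk ξ)
    (hφ : φ ∉ maximalIdeal (X.presheaf.stalk ξ)) :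
    Cyc.secOrdAt M ξ x h (φ • (Submodule.Quotient.mk
      (M.presheaf.germ U ξ (h.mem_open U.isOpen hx) ε) : Cyc.secFibre M ξ)) =
      Cyc.ordAt x ξ h (X.residue ξ φ) := by
  classical
  have hξU : ξ ∈ U := h.mem_open U.isOpen hx
  have hg := bijective_stalk_of_isGen hε x hx
  have hgξ := bijective_stalk_of_isGen hε ξ hξU
  have ht : ∃ t : M.presheaf.stalk x, Submodule.span (X.presheaf.stalk x) {t} = ⊤ := by
    refine ⟨M.presheaf.germ U x hx ε, ?_⟩
    rw [eq_top_iff]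
    intro m _
    obtain ⟨a, rfl⟩ := hg.2 m
    exact Submodule.smul_mem _ _ (Submodule.mem_span_singleton_self _)
  obtain ⟨u, hu⟩ := hg.2 (Classical.choose ht)
  have hu' : u • M.presheaf.germ U x hx ε = Classical.choose ht := hu
  have huu : IsUnit u := by
    have h1 : M.presheaf.germ U x hx ε ∈
        Submodule.span (X.presheaf.stalk x) {Classical.choose ht} := by
      rw [Classical.choose_spec ht]
      exact Submodule.mem_top
    obtain ⟨v, hv⟩ := Submodule.mem_span_singleton.1 h1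
    rw [← hu', ← mul_smul] at hv
    have h2 : v * u = 1 := hg.1 (hv.trans (one_smul _ _).symm)
    exact IsUnit.of_mul_eq_one v (by rw [mul_comm]; exact h2)
  have hsp : (Submodule.Quotient.mk ((M.presheaf.stalkSpecializes h).hom
      (Classical.choose ht)) : Cyc.secFibre M ξ) =
      (X.presheaf.stalkSpecializes h).hom u •
        (Submodule.Quotient.mk (M.presheaf.germ U ξ hξU ε) : Cyc.secFibre M ξ) := by
    rw [← hu', sp_smul, sp_germ]
    rfl
  have huu' : IsUnit ((X.presheaf.stalkSpecializes h).hom u) := huu.map _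
  have hφ' : ∃ φ' : X.presheaf.stalk ξ,
      φ • (Submodule.Quotient.mk (M.presheaf.germ U ξ hξU ε) : Cyc.secFibre M ξ) = φ' •
      (Submodule.Quotient.mk ((M.presheaf.stalkSpecializes h).hom
        (Classical.choose ht)) : Cyc.secFibre M ξ) := by
    obtain ⟨w, hw⟩ := huu'
    refine ⟨φ * ↑w⁻¹, ?_⟩
    rw [hsp, ← hw, ← mul_smul, mul_assoc, Units.inv_mul, mul_one]
  unfold Cyc.secOrdAt
  rw [dif_pos ht, dif_pos hφ']
  obtain ⟨φ₀, hφ₀⟩ : ∃ φ₀ : X.presheaf.stalk ξ, φ₀ = Classical.choose hφ' := ⟨_, rfl⟩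
  have hspec : φ • (Submodule.Quotient.mk (M.presheaf.germ U ξ hξU ε) : Cyc.secFibre M ξ) = φ₀ •
      (Submodule.Quotient.mk ((M.presheaf.stalkSpecializes h).hom
        (Classical.choose ht)) : Cyc.secFibre M ξ) := by
    rw [hφ₀]
    exact Classical.choose_spec hφ'
  rw [← hφ₀]
  rw [hsp, ← mul_smul] at hspec
  have h3 : (φ - φ₀ * (X.presheaf.stalkSpecializes h).hom u) •
      (Submodule.Quotient.mk (M.presheaf.germ U ξ hξU ε) : Cyc.secFibre M ξ) = 0 := by
    rw [sub_smul, sub_eq_zero]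
    exact hspec
  rw [smul_mk_eq_zero_iff M ξ _ hgξ, ← IsLocalRing.residue_eq_zero_iff] at h3
  have h4 : X.residue ξ φ = X.residue ξ φ₀ * Cyc.specMap x ξ h u := by
    have h5 : (X.residue ξ).hom (φ - φ₀ * (X.presheaf.stalkSpecializes h).hom u) = 0 := h3
    rw [map_sub, sub_eq_zero, map_mul] at h5
    exact h5
  have hne : X.residue ξ φ ≠ 0 := residue_ne_zero hφ
  have hne1 : X.residue ξ φ₀ ≠ 0 := by
    intro h0
    rw [h0, zero_mul] at h4
    exact hne h4
  have hne2 : Cyc.specMap x ξ h u ≠ 0 := by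
    intro h0
    rw [h0, mul_zero] at h4
    exact hne h4
  rw [h4, ordAt_mul x ξ h hne1 hne2, ordAt_specMap_unit x ξ h huu, add_zero]

/-- comparison of two generators at a point: the ratio is a unit -/
theorem exists_unit_germ_eq (M : X.Modules) {V U : X.Opens} {g : Γ(M, V)} {g' : Γ(M, U)}
    (hg : IsGen M V g) (hg' : IsGen M U g') (ξ : X) (hξV : ξ ∈ V) (hξU : ξ ∈ U) :
    ∃ w : X.presheaf.stalk ξ, IsUnit w ∧
      M.presheaf.germ V ξ hξV g = w • M.presheaf.germ U ξ hξU g' := by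
  have h1 := bijective_stalk_of_isGen hg ξ hξV
  have h2 := bijective_stalk_of_isGen hg' ξ hξU
  obtain ⟨w, hw⟩ := h2.2 (M.presheaf.germ V ξ hξV g)
  obtain ⟨v, hv⟩ := h1.2 (M.presheaf.germ U ξ hξU g')
  have hw' : w • M.presheaf.germ U ξ hξU g' = M.presheaf.germ V ξ hξV g := hw
  have hv' : v • M.presheaf.germ V ξ hξV g = M.presheaf.germ U ξ hξU g' := hv
  refine ⟨w, ?_, hw'.symm⟩
  rw [← hw', ← mul_smul] at hv'
  have h3 : v * w = 1 := h2.1 (hv'.trans (one_smul _ _).symm)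
  exact IsUnit.of_mul_eq_one v (by rw [mul_comm]; exact h3)

theorem not_mem_maximalIdeal_of_isUnit {ξ : X} {w : X.presheaf.stalk ξ} (hw : IsUnit w) :
    w ∉ maximalIdeal (X.presheaf.stalk ξ) := by
  rw [mem_maximalIdeal, mem_nonunits_iff, not_not]
  exact hw

theorem mul_not_mem {ξ : X} {a b : X.presheaf.stalk ξ}
    (ha : a ∉ maximalIdeal (X.presheaf.stalk ξ)) (hb : b ∉ maximalIdeal (X.presheaf.stalk ξ)) :
    a * b ∉ maximalIdeal (X.presheaf.stalk ξ) := by
  intro h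
  rcases (Ideal.IsPrime.mem_or_mem (maximalIdeal.isMaximal _).isPrime h) with h | h
  · exact ha h
  · exact hb h

/-- **additivity of the order under tensor products** -/
theorem secOrdAt_tensor (L N : X.Modules) (hL : PicF.IsInvertible L) (hN : PicF.IsInvertible N)
    {x ξ : X} (h : ξ ⤳ x) {V : X.Opens} (hξV : ξ ∈ V) {gL : Γ(L, V)} {gN : Γ(N, V)}
    (hgL : IsGen L V gL) (hgN : IsGen N V gN) (a b c : X.presheaf.stalk ξ)
    (ha : a ∉ maximalIdeal (X.presheaf.stalk ξ)) (hb : b ∉ maximalIdeal (X.presheaf.stalk ξ))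
    (hc : c ∉ maximalIdeal (X.presheaf.stalk ξ)) :
    Cyc.secOrdAt (CohB1.tensorMod L N) ξ x h (c • (Submodule.Quotient.mk
      ((CohB1.tensorMod L N).presheaf.germ V ξ hξV (tmul L N gL gN)) :
        Cyc.secFibre (CohB1.tensorMod L N) ξ)) =
      Cyc.secOrdAt L ξ x h (a • (Submodule.Quotient.mk (L.presheaf.germ V ξ hξV gL) :
        Cyc.secFibre L ξ)) +
      Cyc.secOrdAt N ξ x h (b • (Submodule.Quotient.mk (N.presheaf.germ V ξ hξV gN) :
        Cyc.secFibre N ξ)) +
      Cyc.ordAt x ξ h ((X.residue ξ c : X.residueField ξ) /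
        ((X.residue ξ a : X.residueField ξ) * (X.residue ξ b : X.residueField ξ))) := by
  obtain ⟨U₁, hxU₁, e₁, he₁⟩ := (isInvertible_iff_exists_isGen.1 hL) x
  obtain ⟨U₂, hxU₂, e₂, he₂⟩ := (isInvertible_iff_exists_isGen.1 hN) x
  obtain ⟨U, hU⟩ : ∃ U : X.Opens, U = U₁ ⊓ U₂ := ⟨_, rfl⟩
  have hUU₁ : U ≤ U₁ := hU ▸ inf_le_left
  have hUU₂ : U ≤ U₂ := hU ▸ inf_le_right
  have hxU : x ∈ U := hU ▸ ⟨hxU₁, hxU₂⟩
  have hξU : ξ ∈ U := h.mem_open U.isOpen hxU
  have hgL' := he₁.res hUU₁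
  have hgN' := he₂.res hUU₂
  obtain ⟨gL', hgL'def⟩ : ∃ gL' : Γ(L, U), gL' = L.presheaf.map (homOfLE hUU₁).op e₁ := ⟨_, rfl⟩
  obtain ⟨gN', hgN'def⟩ : ∃ gN' : Γ(N, U), gN' = N.presheaf.map (homOfLE hUU₂).op e₂ := ⟨_, rfl⟩
  rw [← hgL'def] at hgL'
  rw [← hgN'def] at hgN'
  have hgT' : IsGen (CohB1.tensorMod L N) U (tmul L N gL' gN') := isGen_tmul hgL' hgN'
  obtain ⟨uL, huL, hgLu⟩ := exists_unit_germ_eq L hgL hgL' ξ hξV hξU
  obtain ⟨uN, huN, hgNu⟩ := exists_unit_germ_eq N hgN hgN' ξ hξV hξU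
  have hgTu : (CohB1.tensorMod L N).presheaf.germ V ξ hξV (tmul L N gL gN) =
      (uL * uN) • (CohB1.tensorMod L N).presheaf.germ U ξ hξU (tmul L N gL' gN') :=
    germ_tm_eq L N ξ hξV hξU gL gN gL' gN' uL uN hgLu hgNu
  have huL' := not_mem_maximalIdeal_of_isUnit huL
  have huN' := not_mem_maximalIdeal_of_isUnit huN
  have e1 : a • (Submodule.Quotient.mk (L.presheaf.germ V ξ hξV gL) : Cyc.secFibre L ξ) =
      (a * uL) • (Submodule.Quotient.mk (L.presheaf.germ U ξ hξU gL') : Cyc.secFibre L ξ) := by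
    rw [hgLu, mul_smul]
    rfl
  have e2 : b • (Submodule.Quotient.mk (N.presheaf.germ V ξ hξV gN) : Cyc.secFibre N ξ) =
      (b * uN) • (Submodule.Quotient.mk (N.presheaf.germ U ξ hξU gN') : Cyc.secFibre N ξ) := by
    rw [hgNu, mul_smul]
    rfl
  have e3 : c • (Submodule.Quotient.mk
      ((CohB1.tensorMod L N).presheaf.germ V ξ hξV (tmul L N gL gN)) :
        Cyc.secFibre (CohB1.tensorMod L N) ξ) =
      (c * (uL * uN)) • (Submodule.Quotient.mk
        ((CohB1.tensorMod L N).presheaf.germ U ξ hξU (tmul L N gL' gN')) :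
          Cyc.secFibre (CohB1.tensorMod L N) ξ) := by
    rw [hgTu]
    change c • ((uL * uN) • (Submodule.Quotient.mk
        ((CohB1.tensorMod L N).presheaf.germ U ξ hξU (tmul L N gL' gN')) :
          Cyc.secFibre (CohB1.tensorMod L N) ξ)) = _
    rw [← mul_smul]
  rw [e1, e2, e3, secOrdAt_eq_of_isGen L hgL' h hxU _ (mul_not_mem ha huL'),
    secOrdAt_eq_of_isGen N hgN' h hxU _ (mul_not_mem hb huN'),
    secOrdAt_eq_of_isGen (CohB1.tensorMod L N) hgT' h hxU _
      (mul_not_mem hc (mul_not_mem huL' huN'))]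
  have ra := residue_ne_zero ha
  have rb := residue_ne_zero hb
  have rc := residue_ne_zero hc
  have ruL := residue_ne_zero huL'
  have ruN := residue_ne_zero huN'
  rw [residue_mul, residue_mul, residue_mul, residue_mul,
    ordAt_mul x ξ h rc (mul_ne_zero ruL ruN), ordAt_mul x ξ h ruL ruN, ordAt_mul x ξ h ra ruL,
    ordAt_mul x ξ h rb ruN, ordAt_div x ξ h rc (mul_ne_zero ra rb), ordAt_mul x ξ h ra rb]
  ring

end Groth.Agent.Lib.Helper64.CycTens
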