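import Groth.Agent.Lib.Helper64.CycTens1

/-!
# `c_1(L) ∩ α + c_1(N) ∩ α ∼ c_1(L ⊗ N) ∩ α` (helper64)
-/

set_option autoImplicit false
set_option linter.style.haveILetI false
set_option linter.unusedSectionVars false
universe u

open AlgebraicGeometry CategoryTheory TopologicalSpace IsLocalRing

namespace Groth.Agent.Lib.Helper64.CycTens

open Groth.Agent.Lib.Helper64.CycOrd Groth.Agent.Lib.Helper64.CycLen
open Groth.Agent.Lib.Helper64.SecOrd
open Groth.Agent.Lib.Helper64.RefExt Groth.Agent.Lib.Helper64.RefS2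
open Groth.Agent.Lib.Lead.Inv

variable {X : Scheme.{u}}

/-- finiteness of the support of the terms of a cap product at a point -/
theorem finite_support_mul (α : AlgebraicCycle X ℤ) (x : X) (D : X → ℤ)
    (hD : ∀ ξ : X, ¬ ξ ⤳ x → D ξ = 0) :
    (Function.support fun ξ => α ξ * D ξ).Finite := by
  obtain ⟨t, ht, hfin⟩ := α.supportLocallyFiniteWithinDomain' x (Set.mem_univ x)
  apply hfin.subset
  intro ξ hξ
  rw [Function.mem_support] at hξ
  have h1 : α ξ ≠ 0 := left_ne_zero_of_mul hξ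
  have h2 : D ξ ≠ 0 := right_ne_zero_of_mul hξ
  have h3 : ξ ⤳ x := by
    by_contra h
    exact h2 (hD ξ h)
  exact ⟨interior_subset (h3.mem_open isOpen_interior (mem_interior_iff_mem_nhds.2 ht)), h1⟩

theorem secDivFun_eq_zero_of_not_specializes (δ : X → ℤ) (M : X.Modules) (ξ : X)
    (s : Cyc.secFibre M ξ) (x : X) (h : ¬ ξ ⤳ x) : Cyc.secDivFun δ M ξ s x = 0 := by
  unfold Cyc.secDivFun
  rw [dif_neg (fun h' => h h'.1)]

theorem divFun_eq_zero_of_not_specializes (δ : X → ℤ) (ξ : X) (f : X.residueField ξ) (x : X)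
    (h : ¬ ξ ⤳ x) : Cyc.divFun δ ξ f x = 0 := by
  unfold Cyc.divFun
  rw [dif_neg (fun h' => h h'.1)]

/-- coefficients of a nonzero rational section with respect to a local generator -/
theorem exists_coeff_fibre (M : X.Modules) (ξ : X) {W : X.Opens} (hξW : ξ ∈ W) {g : Γ(M, W)}
    (hg : IsGen M W g) (s : Cyc.secFibre M ξ) (hs : s ≠ 0) :
    ∃ a : X.presheaf.stalk ξ, a ∉ maximalIdeal (X.presheaf.stalk ξ) ∧
      a • (Submodule.Quotient.mk (M.presheaf.germ W ξ hξW g) : Cyc.secFibre M ξ) = s := by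
  obtain ⟨m, rfl⟩ := Submodule.Quotient.mk_surjective _ s
  have hbij := bijective_stalk_of_isGen hg ξ hξW
  obtain ⟨a, ha⟩ := hbij.2 m
  have ha' : a • M.presheaf.germ W ξ hξW g = m := ha
  have h1 : a • (Submodule.Quotient.mk (M.presheaf.germ W ξ hξW g) : Cyc.secFibre M ξ) =
      Submodule.Quotient.mk m := by
    rw [← ha']
    rfl
  refine ⟨a, ?_, h1⟩
  intro hmem
  apply hs
  rw [← h1]
  exact (smul_mk_eq_zero_iff M ξ _ hbij a).2 hmem

/-- **additivity of the first Chern class** -/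
theorem ratEquiv_c1Cap_tensor (δ : X → ℤ) (L N : X.Modules) (hL : PicF.IsInvertible L)
    (hN : PicF.IsInvertible N) (k : ℤ) (α : AlgebraicCycle X ℤ) (hα : α ∈ Cyc.Zk X δ (k + 1))
    (sL : (ξ : X) → Cyc.secFibre L ξ) (hsL : ∀ ξ, sL ξ ≠ 0)
    (sN : (ξ : X) → Cyc.secFibre N ξ) (hsN : ∀ ξ, sN ξ ≠ 0)
    (sT : (ξ : X) → Cyc.secFibre (CohB1.tensorMod L N) ξ) (hsT : ∀ ξ, sT ξ ≠ 0)
    (γL γN γT : AlgebraicCycle X ℤ) (hγL : ⇑γL = Cyc.c1CapFun δ L ⇑α sL)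
    (hγN : ⇑γN = Cyc.c1CapFun δ N ⇑α sN)
    (hγT : ⇑γT = Cyc.c1CapFun δ (CohB1.tensorMod L N) ⇑α sT) :
    Cyc.RatEquiv δ k (γL + γN) γT := by
  classical
  have hgen : ∀ ξ : X, ∃ (V : X.Opens) (_ : ξ ∈ V) (gL : Γ(L, V)) (gN : Γ(N, V)),
      IsGen L V gL ∧ IsGen N V gN := by
    intro ξ
    obtain ⟨U₁, h1, e₁, he₁⟩ := (isInvertible_iff_exists_isGen.1 hL) ξ
    obtain ⟨U₂, h2, e₂, he₂⟩ := (isInvertible_iff_exists_isGen.1 hN) ξ
    exact ⟨U₁ ⊓ U₂, ⟨h1, h2⟩, _, _, he₁.res inf_le_left, he₂.res inf_le_right⟩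
  choose V hξV gL gN hgL hgN using hgen
  have hgT : ∀ ξ, IsGen (CohB1.tensorMod L N) (V ξ) (tmul L N (gL ξ) (gN ξ)) :=
    fun ξ => isGen_tmul (hgL ξ) (hgN ξ)
  choose a ha1 ha2 using fun ξ => exists_coeff_fibre L ξ (hξV ξ) (hgL ξ) (sL ξ) (hsL ξ)
  choose b hb1 hb2 using fun ξ => exists_coeff_fibre N ξ (hξV ξ) (hgN ξ) (sN ξ) (hsN ξ)
  choose c hc1 hc2 using fun ξ =>
    exists_coeff_fibre (CohB1.tensorMod L N) ξ (hξV ξ) (hgT ξ) (sT ξ) (hsT ξ)
  obtain ⟨F, hFdef⟩ : ∃ F : ∀ ξ : X, X.residueField ξ, F = fun ξ =>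
    (X.residue ξ (c ξ) : X.residueField ξ) /
      ((X.residue ξ (a ξ) : X.residueField ξ) * (X.residue ξ (b ξ) : X.residueField ξ)) :=
    ⟨_, rfl⟩
  have hF : ∀ ξ, F ξ ≠ 0 := by
    intro ξ
    rw [hFdef]
    exact div_ne_zero (residue_ne_zero (hc1 ξ))
      (mul_ne_zero (residue_ne_zero (ha1 ξ)) (residue_ne_zero (hb1 ξ)))
  have hpt : ∀ ξ x : X, Cyc.secDivFun δ (CohB1.tensorMod L N) ξ (sT ξ) x =
      Cyc.secDivFun δ L ξ (sL ξ) x + Cyc.secDivFun δ N ξ (sN ξ) x + Cyc.divFun δ ξ (F ξ) x := by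
    intro ξ x
    unfold Cyc.secDivFun Cyc.divFun
    split_ifs with h
    · rw [← ha2 ξ, ← hb2 ξ, ← hc2 ξ, hFdef]
      exact secOrdAt_tensor L N hL hN h.1 (hξV ξ) (hgL ξ) (hgN ξ) _ _ _ (ha1 ξ) (hb1 ξ) (hc1 ξ)
    · simp
  unfold Cyc.RatEquiv
  refine ⟨{ξ : X // α ξ ≠ 0}, fun i => i.1, fun i => (F i.1) ^ (-(α i.1)), ?_, ?_, ?_, ?_⟩
  · intro i
    by_contra hne
    exact i.2 (hα i.1 hne)
  · intro i
    exact zpow_ne_zero _ (hF i.1)
  · intro x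
    exact locallyFinite_support_closure α x
  · intro x
    have e0 : (γL + γN - γT) x = γL x + γN x - γT x := rfl
    rw [e0, congrFun hγL x, congrFun hγN x, congrFun hγT x]
    unfold Cyc.c1CapFun
    have hfinL := finite_support_mul α x (fun ξ => Cyc.secDivFun δ L ξ (sL ξ) x)
      (fun ξ h => secDivFun_eq_zero_of_not_specializes δ L ξ (sL ξ) x h)
    have hfinN := finite_support_mul α x (fun ξ => Cyc.secDivFun δ N ξ (sN ξ) x)
      (fun ξ h => secDivFun_eq_zero_of_not_specializes δ N ξ (sN ξ) x h)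
    have hfinF := finite_support_mul α x (fun ξ => Cyc.divFun δ ξ (F ξ) x)
      (fun ξ h => divFun_eq_zero_of_not_specializes δ ξ (F ξ) x h)
    have hfinLN : (Function.support fun ξ => α ξ * Cyc.secDivFun δ L ξ (sL ξ) x +
        α ξ * Cyc.secDivFun δ N ξ (sN ξ) x).Finite :=
      (hfinL.union hfinN).subset (Function.support_add _ _)
    have hT : ∑ᶠ ξ, α ξ * Cyc.secDivFun δ (CohB1.tensorMod L N) ξ (sT ξ) x =
        ∑ᶠ ξ, α ξ * Cyc.secDivFun δ L ξ (sL ξ) x + ∑ᶠ ξ, α ξ * Cyc.secDivFun δ N ξ (sN ξ) x +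
          ∑ᶠ ξ, α ξ * Cyc.divFun δ ξ (F ξ) x := by
      rw [← finsum_add_distrib hfinL hfinN, ← finsum_add_distrib hfinLN hfinF]
      apply finsum_congr
      intro ξ
      rw [hpt]
      ring
    rw [hT]
    have h2 : ∀ i : {ξ : X // α ξ ≠ 0},
        Cyc.divFun δ i.1 ((F i.1) ^ (-(α i.1))) x =
          α i.1 * (- Cyc.divFun δ i.1 (F i.1) x) := by
      intro i
      rw [divFun_zpow δ i.1 (hF i.1) (-(α i.1)) x]
      ring
    rw [finsum_congr h2,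
      finsum_subtype_ne_zero (fun ξ => α ξ) (fun ξ => - Cyc.divFun δ ξ (F ξ) x)]
    have h3 : ∑ᶠ ξ, α ξ * (- Cyc.divFun δ ξ (F ξ) x) =
        - ∑ᶠ ξ, α ξ * Cyc.divFun δ ξ (F ξ) x := by
      rw [← finsum_neg_distrib]
      apply finsum_congr
      intro ξ
      ring
    rw [h3]
    ring

end Groth.Agent.Lib.Helper64.CycTens
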