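import Groth.Agent.Lib.Helper64.CycTens2

/-!
# `c_1(L) ∩ α` does not depend on the chosen rational sections (helper64)
-/

set_option autoImplicit false
set_option linter.style.haveILetI false
set_option linter.unusedSectionVars false
universe u

open AlgebraicGeometry CategoryTheory TopologicalSpace IsLocalRing

namespace Groth.Agent.Lib.Helper64.CycTens

open Groth.Agent.Lib.Helper64.CycOrd Groth.Agent.Lib.Helper64.CycLen
open Groth.Agent.Lib.Helper64.SecOrd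
open Groth.Agent.Lib.Helper64.RefExt Groth.Agent.Lib.Helper64.RefS2
open Groth.Agent.Lib.Lead.Inv

variable {X : Scheme.{u}}

/-- the orders of two rational sections differ by the order of their ratio -/
theorem secOrdAt_sub (L : X.Modules) (hL : PicF.IsInvertible L)
    {x ξ : X} (h : ξ ⤳ x) {V : X.Opens} (hξV : ξ ∈ V) {gL : Γ(L, V)}
    (hgL : IsGen L V gL) (a b : X.presheaf.stalk ξ)
    (ha : a ∉ maximalIdeal (X.presheaf.stalk ξ)) (hb : b ∉ maximalIdeal (X.presheaf.stalk ξ)) :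
    Cyc.secOrdAt L ξ x h (a • (Submodule.Quotient.mk (L.presheaf.germ V ξ hξV gL) :
        Cyc.secFibre L ξ)) =
      Cyc.secOrdAt L ξ x h (b • (Submodule.Quotient.mk (L.presheaf.germ V ξ hξV gL) :
        Cyc.secFibre L ξ)) +
      Cyc.ordAt x ξ h ((X.residue ξ a : X.residueField ξ) / (X.residue ξ b : X.residueField ξ)) := by
  obtain ⟨U, hxU, gL', hgL'⟩ := (isInvertible_iff_exists_isGen.1 hL) x
  have hξU : ξ ∈ U := h.mem_open U.isOpen hxU
  obtain ⟨uL, huL, hgLu⟩ := exists_unit_germ_eq L hgL hgL' ξ hξV hξU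
  have huL' := not_mem_maximalIdeal_of_isUnit huL
  have e1 : a • (Submodule.Quotient.mk (L.presheaf.germ V ξ hξV gL) : Cyc.secFibre L ξ) =
      (a * uL) • (Submodule.Quotient.mk (L.presheaf.germ U ξ hξU gL') : Cyc.secFibre L ξ) := by
    rw [hgLu, mul_smul]
    rfl
  have e2 : b • (Submodule.Quotient.mk (L.presheaf.germ V ξ hξV gL) : Cyc.secFibre L ξ) =
      (b * uL) • (Submodule.Quotient.mk (L.presheaf.germ U ξ hξU gL') : Cyc.secFibre L ξ) := by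
    rw [hgLu, mul_smul]
    rfl
  rw [e1, e2, secOrdAt_eq_of_isGen L hgL' h hxU _ (mul_not_mem ha huL'),
    secOrdAt_eq_of_isGen L hgL' h hxU _ (mul_not_mem hb huL')]
  have ra := residue_ne_zero ha
  have rb := residue_ne_zero hb
  have ruL := residue_ne_zero huL'
  rw [residue_mul, residue_mul, ordAt_mul x ξ h ra ruL, ordAt_mul x ξ h rb ruL,
    ordAt_div x ξ h ra rb]
  ring

/-- **independence of the rational sections** -/
theorem ratEquiv_c1Cap_of_sections (δ : X → ℤ) (L : X.Modules) (hL : PicF.IsInvertible L)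
    (k : ℤ) (α : AlgebraicCycle X ℤ) (hα : α ∈ Cyc.Zk X δ (k + 1))
    (s₁ : (ξ : X) → Cyc.secFibre L ξ) (hs₁ : ∀ ξ, s₁ ξ ≠ 0)
    (s₂ : (ξ : X) → Cyc.secFibre L ξ) (hs₂ : ∀ ξ, s₂ ξ ≠ 0)
    (γ₁ γ₂ : AlgebraicCycle X ℤ) (h₁ : ⇑γ₁ = Cyc.c1CapFun δ L ⇑α s₁)
    (h₂ : ⇑γ₂ = Cyc.c1CapFun δ L ⇑α s₂) :
    Cyc.RatEquiv δ k γ₁ γ₂ := by
  classical
  have hgen : ∀ ξ : X, ∃ (V : X.Opens) (_ : ξ ∈ V) (gL : Γ(L, V)), IsGen L V gL := by
    intro ξ
    obtain ⟨U, hU, e, he⟩ := (isInvertible_iff_exists_isGen.1 hL) ξ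
    exact ⟨U, hU, e, he⟩
  choose V hξV gL hgL using hgen
  choose a ha1 ha2 using fun ξ => exists_coeff_fibre L ξ (hξV ξ) (hgL ξ) (s₁ ξ) (hs₁ ξ)
  choose b hb1 hb2 using fun ξ => exists_coeff_fibre L ξ (hξV ξ) (hgL ξ) (s₂ ξ) (hs₂ ξ)
  obtain ⟨F, hFdef⟩ : ∃ F : ∀ ξ : X, X.residueField ξ, F = fun ξ =>
    (X.residue ξ (a ξ) : X.residueField ξ) / (X.residue ξ (b ξ) : X.residueField ξ) := ⟨_, rfl⟩
  have hF : ∀ ξ, F ξ ≠ 0 := by
    intro ξ
    rw [hFdef]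
    exact div_ne_zero (residue_ne_zero (ha1 ξ)) (residue_ne_zero (hb1 ξ))
  have hpt : ∀ ξ x : X, Cyc.secDivFun δ L ξ (s₁ ξ) x =
      Cyc.secDivFun δ L ξ (s₂ ξ) x + Cyc.divFun δ ξ (F ξ) x := by
    intro ξ x
    unfold Cyc.secDivFun Cyc.divFun
    split_ifs with h
    · rw [← ha2 ξ, ← hb2 ξ, hFdef]
      exact secOrdAt_sub L hL h.1 (hξV ξ) (hgL ξ) _ _ (ha1 ξ) (hb1 ξ)
    · simp
  unfold Cyc.RatEquiv
  refine ⟨{ξ : X // α ξ ≠ 0}, fun i => i.1, fun i => (F i.1) ^ (α i.1), ?_, ?_, ?_, ?_⟩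
  · intro i
    by_contra hne
    exact i.2 (hα i.1 hne)
  · intro i
    exact zpow_ne_zero _ (hF i.1)
  · intro x
    exact locallyFinite_support_closure α x
  · intro x
    have e0 : (γ₁ - γ₂) x = γ₁ x - γ₂ x := rfl
    rw [e0, congrFun h₁ x, congrFun h₂ x]
    unfold Cyc.c1CapFun
    have hfin2 := finite_support_mul α x (fun ξ => Cyc.secDivFun δ L ξ (s₂ ξ) x)
      (fun ξ h => secDivFun_eq_zero_of_not_specializes δ L ξ (s₂ ξ) x h)
    have hfinF := finite_support_mul α x (fun ξ => Cyc.divFun δ ξ (F ξ) x)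
      (fun ξ h => divFun_eq_zero_of_not_specializes δ ξ (F ξ) x h)
    have hT : ∑ᶠ ξ, α ξ * Cyc.secDivFun δ L ξ (s₁ ξ) x =
        ∑ᶠ ξ, α ξ * Cyc.secDivFun δ L ξ (s₂ ξ) x + ∑ᶠ ξ, α ξ * Cyc.divFun δ ξ (F ξ) x := by
      rw [← finsum_add_distrib hfin2 hfinF]
      apply finsum_congr
      intro ξ
      rw [hpt]
      ring
    rw [hT]
    have h2 : ∀ i : {ξ : X // α ξ ≠ 0},
        Cyc.divFun δ i.1 ((F i.1) ^ (α i.1)) x = α i.1 * Cyc.divFun δ i.1 (F i.1) x :=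
      fun i => divFun_zpow δ i.1 (hF i.1) (α i.1) x
    rw [finsum_congr h2,
      finsum_subtype_ne_zero (fun ξ => α ξ) (fun ξ => Cyc.divFun δ ξ (F ξ) x)]
    ring

theorem gysinChoice_ne_zero (L : X.Modules) (s : L.presheaf.obj (Opposite.op ⊤))
    (w : (ξ : X) → Cyc.secFibre L ξ) (hw : ∀ ξ, w ξ ≠ 0) (ξ : X) :
    Cyc.gysinChoice L s w ξ ≠ 0 := by
  unfold Cyc.gysinChoice
  split_ifs with h
  · exact h
  · exact hw ξ

end Groth.Agent.Lib.Helper64.CycTens
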