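import Groth.Agent.Lib.Lead.Inv5
import Groth.Agent.Lib.Helper2.FinTypeAff
import Groth.Agent.Lib.Helper29.QCohLoc
import Groth.Prelude.Def_PicF2
import Groth.Prelude.Def_SecTwist

/-!
# The zero scheme of a section of an invertible module (helper64)

* `zI L s U`: the ideal `(O(U) s : L(U))` of `Γ(X, U)` (the prelude's `PicF2.zeroIdealOn`).
* `finite_sections_of_isInvertible`.
* `map_zI_basicOpen`: for `L` invertible these ideals are compatible with localisation.
* `zeroScheme_ideal`: the ideal of `PicF2.zeroScheme L s` on an affine open `U` is `zI L s U`.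
* `zI_eq_span`: where `L` has a generator `ε` and `s = r ε`, `zI L s U = (r)`.
-/

set_option autoImplicit false
set_option linter.style.haveILetI false
set_option linter.unusedSectionVars false
universe u

open AlgebraicGeometry CategoryTheory Opposite TopologicalSpace

namespace Groth.Agent.Lib.Helper64.ZeroSch

open Groth.Agent.Lib.Lead.Inv Groth.Agent.Lib.Lead.QCohAff

variable {X : Scheme.{u}} {L : X.Modules}

/-- the zero ideal over an open, as an ideal of `Γ(X, U)` -/
def zI (L : X.Modules) (s : Coh.structureModule X ⟶ L) (U : X.Opens) : Ideal Γ(X, U) :=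
  PicF2.zeroIdealOn L s U

theorem secVal_eq (s : Coh.structureModule X ⟶ L) (U : X.Opens) :
    PicF2.secVal L s U = val s U := rfl

theorem mem_zI (s : Coh.structureModule X ⟶ L) (U : X.Opens) (a : Γ(X, U)) :
    a ∈ zI L s U ↔ ∀ m : Γ(L, U), ∃ b : Γ(X, U), a • m = b • val s U := Iff.rfl

/-- sections of an invertible module over an affine open form a finite module -/
theorem finite_sections_of_isInvertible (hL : PicF.IsInvertible L) {U : X.Opens}
    (hU : IsAffineOpen U) : Module.Finite Γ(X, U) Γ(L, U) := by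
  haveI := isQuasicoherent_of_isInvertible hL
  refine Groth.Agent.Lib.Helper2.FinTypeAff.finite_of_cover L
    {V | IsAffineOpen V ∧ ∃ ε : Γ(L, V), IsGen L V ε} ?_ (fun V hV => hV.1) ?_ hU
  · intro x
    obtain ⟨U₁, hxU₁, ε, hε⟩ := (isInvertible_iff_exists_isGen.1 hL) x
    obtain ⟨V, hVaff, hxV, hVle⟩ := (Opens.isBasis_iff_nbhd.1 X.isBasis_affineOpens) hxU₁
    exact ⟨V, ⟨hVaff, _, hε.res hVle⟩, hxV⟩
  · rintro V ⟨-, ε, hε⟩
    refine ⟨⟨{ε}, ?_⟩⟩
    rw [Finset.coe_singleton, eq_top_iff]
    intro m _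
    refine Submodule.mem_span_singleton.2 ⟨hε.coeff le_rfl m, ?_⟩
    have := hε.coeff_smul le_rfl m
    rwa [res_self] at this

/-- where `L` has a generator `ε` and `s = r ε`, the zero ideal is `(r)` -/
theorem zI_eq_span (s : Coh.structureModule X ⟶ L) {U : X.Opens} {ε : Γ(L, U)}
    (hε : IsGen L U ε) (r : Γ(X, U)) (hr : val s U = r • ε) : zI L s U = Ideal.span {r} := by
  ext a
  rw [mem_zI, Ideal.mem_span_singleton']
  constructor
  · intro h
    obtain ⟨b, hb⟩ := h ε
    rw [hr, ← mul_smul] at hb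
    refine ⟨b, ?_⟩
    apply (hε U le_rfl).1
    change (b * r) • L.presheaf.map (homOfLE le_rfl).op ε = a • L.presheaf.map (homOfLE le_rfl).op ε
    rw [res_self]
    exact hb.symm
  · rintro ⟨b, rfl⟩ m
    refine ⟨b * hε.coeff le_rfl m, ?_⟩
    have hm := hε.coeff_smul le_rfl m
    rw [res_self] at hm
    rw [hr, ← mul_smul]
    conv_lhs => rw [← hm]
    rw [← mul_smul]
    congr 1
    ring

/-- pointwise: a multiple by a power of `f` of `a` carries `m` into `O(U) s` -/
theorem exists_pow_smul_mem (s : Coh.structureModule X ⟶ L) {U : X.Opens} (hloc : Groth.Agent.Lib.Helper29.QCohLoc.LocAt L U)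
    (hU : IsAffineOpen U) (f a : Γ(X, U))
    (ha : X.presheaf.map (homOfLE (X.basicOpen_le f)).op a ∈ zI L s (X.basicOpen f))
    (m : Γ(L, U)) : ∃ (N : ℕ) (b : Γ(X, U)), (f ^ N * a) • m = b • val s U := by
  haveI := hU.isLocalization_basicOpen f
  obtain ⟨b', hb'⟩ := (mem_zI s _ _).1 ha (L.presheaf.map (homOfLE (X.basicOpen_le f)).op m)
  obtain ⟨⟨b₀, ⟨_, k, rfl⟩⟩, hb₀⟩ := IsLocalization.surj (Submonoid.powers f) b'
  have hb₀' : b' * X.presheaf.map (homOfLE (X.basicOpen_le f)).op (f ^ k) =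
      X.presheaf.map (homOfLE (X.basicOpen_le f)).op b₀ := hb₀
  have hres : L.presheaf.map (homOfLE (X.basicOpen_le f)).op
      ((f ^ k * a) • m - b₀ • val s U) = 0 := by
    rw [map_sub, res_smul, res_smul, val_res, map_mul, mul_smul, hb', ← mul_smul, mul_comm,
      hb₀', sub_self]
  obtain ⟨j, hj⟩ := hloc.kill f _ hres
  refine ⟨j + k, f ^ j * b₀, ?_⟩
  rw [smul_sub, sub_eq_zero, ← mul_smul, ← mul_smul] at hj
  rw [pow_add, mul_assoc]
  exact hj

/-- uniformly on a finite set of sections -/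
theorem exists_pow_smul_mem_finset (s : Coh.structureModule X ⟶ L) {U : X.Opens} (hloc : Groth.Agent.Lib.Helper29.QCohLoc.LocAt L U)
    (hU : IsAffineOpen U) (f a : Γ(X, U))
    (ha : X.presheaf.map (homOfLE (X.basicOpen_le f)).op a ∈ zI L s (X.basicOpen f))
    (S : Finset Γ(L, U)) : ∃ N : ℕ, ∀ m ∈ S, ∃ b : Γ(X, U), (f ^ N * a) • m = b • val s U := by
  classical
  induction S using Finset.induction_on with
  | empty => exact ⟨0, fun m hm => absurd hm (Finset.notMem_empty m)⟩
  | insert m₀ S _ ih =>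
    obtain ⟨N, hN⟩ := ih
    obtain ⟨N₀, b₀, hb₀⟩ := exists_pow_smul_mem s hloc hU f a ha m₀
    refine ⟨N + N₀, fun m hm => ?_⟩
    rcases Finset.mem_insert.1 hm with rfl | hm
    · refine ⟨f ^ N * b₀, ?_⟩
      rw [pow_add, mul_assoc, mul_smul, hb₀, ← mul_smul]
    · obtain ⟨b, hb⟩ := hN m hm
      refine ⟨f ^ N₀ * b, ?_⟩
      rw [pow_add, mul_comm (f ^ N) (f ^ N₀), mul_assoc, mul_smul, hb, ← mul_smul]

/-- **the zero ideals of a section of an invertible module are compatible with localisation** -/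
theorem map_zI_basicOpen (hL : PicF.IsInvertible L) (s : Coh.structureModule X ⟶ L)
    {U : X.Opens} (hU : IsAffineOpen U) (f : Γ(X, U)) :
    (zI L s U).map (X.presheaf.map (homOfLE (X.basicOpen_le f)).op).hom =
      zI L s (X.basicOpen f) := by
  haveI := isQuasicoherent_of_isInvertible hL
  have hloc : Groth.Agent.Lib.Helper29.QCohLoc.LocAt L U :=
    Groth.Agent.Lib.Helper29.QCohLoc.LocAt.of_isQuasicoherent L hU
  have hfin := finite_sections_of_isInvertible hL hU
  haveI := hU.isLocalization_basicOpen f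
  have hunit : IsUnit (X.presheaf.map (homOfLE (X.basicOpen_le f)).op f) :=
    IsLocalization.map_units (M := Submonoid.powers f) Γ(X, X.basicOpen f)
      ⟨f, Submonoid.mem_powers f⟩
  obtain ⟨u, hu⟩ := hunit
  apply le_antisymm
  · rw [Ideal.map_le_iff_le_comap]
    intro a ha
    rw [Ideal.mem_comap]
    change X.presheaf.map (homOfLE (X.basicOpen_le f)).op a ∈ _
    rw [mem_zI]
    intro m'
    obtain ⟨n, m, hm⟩ := hloc.ext f m'
    obtain ⟨b, hb⟩ := (mem_zI s U a).1 ha m
    have h1 := congrArg (L.presheaf.map (homOfLE (X.basicOpen_le f)).op) hb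
    rw [res_smul, res_smul, hm, val_res, ← hu] at h1
    refine ⟨((u⁻¹ ^ n : (Γ(X, X.basicOpen f))ˣ) : Γ(X, X.basicOpen f)) *
      X.presheaf.map (homOfLE (X.basicOpen_le f)).op b, ?_⟩
    rw [mul_smul, ← h1, smul_comm (X.presheaf.map (homOfLE (X.basicOpen_le f)).op a), ← mul_smul,
      ← Units.val_pow_eq_pow_val, ← Units.val_mul, ← mul_pow, inv_mul_cancel, one_pow,
      Units.val_one, one_smul]
  · intro a' ha'
    obtain ⟨⟨a, ⟨_, n, rfl⟩⟩, ha⟩ := IsLocalization.surj (Submonoid.powers f) a'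
    have ha₁ : a' * X.presheaf.map (homOfLE (X.basicOpen_le f)).op (f ^ n) =
        X.presheaf.map (homOfLE (X.basicOpen_le f)).op a := ha
    have hamem : X.presheaf.map (homOfLE (X.basicOpen_le f)).op a ∈ zI L s (X.basicOpen f) := by
      rw [← ha₁]
      exact Ideal.mul_mem_right _ _ ha'
    obtain ⟨S, hS⟩ := hfin.fg_top
    obtain ⟨N, hN⟩ := exists_pow_smul_mem_finset s hloc hU f a hamem S
    have hmem : f ^ N * a ∈ zI L s U := by
      rw [mem_zI]
      intro m
      have hm : m ∈ Submodule.span Γ(X, U) (S : Set Γ(L, U)) := hS ▸ Submodule.mem_top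
      induction hm using Submodule.span_induction with
      | mem m hm => exact hN m hm
      | zero => exact ⟨0, by rw [smul_zero, zero_smul]⟩
      | add m m' _ _ h h' =>
        obtain ⟨b, hb⟩ := h
        obtain ⟨b', hb'⟩ := h'
        exact ⟨b + b', by rw [smul_add, hb, hb', add_smul]⟩
      | smul c m _ h =>
        obtain ⟨b, hb⟩ := h
        exact ⟨c * b, by rw [smul_comm, hb, mul_smul]⟩
    have h2 : a' = X.presheaf.map (homOfLE (X.basicOpen_le f)).op (f ^ N * a) *
        ((u⁻¹ ^ (N + n) : (Γ(X, X.basicOpen f))ˣ) : Γ(X, X.basicOpen f)) := by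
      rw [map_mul, ← ha₁, map_pow, map_pow, ← hu, ← Units.val_pow_eq_pow_val,
        ← Units.val_pow_eq_pow_val, mul_comm _ (a' * _), mul_assoc, mul_assoc, ← Units.val_mul,
        ← Units.val_mul]
      have h3 : u ^ n * (u ^ N * u⁻¹ ^ (N + n)) = 1 := by
        rw [← mul_assoc, ← pow_add, add_comm n N, ← mul_pow, mul_inv_cancel, one_pow]
      rw [h3, Units.val_one, mul_one]
    rw [h2]
    exact Ideal.mul_mem_right _ _ (Ideal.mem_map_of_mem _ hmem)

/-- the ideal sheaf with ideals `zI L s U` -/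
noncomputable def zeroSheaf (hL : PicF.IsInvertible L) (s : Coh.structureModule X ⟶ L) :
    X.IdealSheafData :=
  ⟨fun U => zI L s U.1, fun U f => map_zI_basicOpen hL s U.2 f, _, rfl⟩

/-- **the ideals of the zero scheme of a section of an invertible module** -/
theorem zeroScheme_ideal (hL : PicF.IsInvertible L) (s : Coh.structureModule X ⟶ L)
    (U : X.affineOpens) : (PicF2.zeroScheme L s).ideal U = zI L s U.1 :=
  congr($(Scheme.IdealSheafData.ofIdeals_ideal (zeroSheaf hL s)).ideal U)

end Groth.Agent.Lib.Helper64.ZeroSch
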