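import Groth.Agent.Lib.Helper64.MeroDiv4
import Groth.Agent.Lib.Helper64.ZeroSch1
import Groth.Agent.Lib.Helper64.HomSh1

/-!
# The ideal of denominators of a meromorphic section of an invertible module (helper64)

* `lmkM_eq_zero_iff_of_isInvertible`: `L_x → S_x⁻¹ L_x` is injective for `L` invertible.
* `exists_pow_smul_eq_zero`: a meromorphic section over an affine open `U` vanishing on `D(g)` is
  killed by a power of `g`.
* `map_denomIdeal_basicOpen`: the ideals of denominators are compatible with localisation.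
* `denomSheaf`, `interior_support_denomSheaf`.
-/

set_option autoImplicit false
set_option linter.style.haveILetI false
set_option linter.unusedSectionVars false
universe u

open AlgebraicGeometry CategoryTheory Opposite TopologicalSpace

namespace Groth.Agent.Lib.Helper64.DenomQC

open Mero Groth.Agent.Lib.Helper65.CurveDiv
open Groth.Agent.Lib.Helper64.MeroInv Groth.Agent.Lib.Lead.Inv
open Groth.Agent.Lib.Helper64.RefS2 Groth.Agent.Lib.Helper64.MeroReg
open Groth.Agent.Lib.Helper64.MeroDiv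

variable {X : Scheme.{u}} {L : X.Modules}

/-- `L_x → S_x⁻¹ L_x` is injective for `L` invertible -/
theorem lmkM_eq_zero_iff_of_isInvertible (hL : PicF.IsInvertible L) {x : X}
    (m : L.presheaf.stalk x) (b : regStalk X x) :
    (LocalizedModule.mk m b : MStalk L x) = 0 ↔ m = 0 := by
  constructor
  · intro h
    obtain ⟨c, hc⟩ := (lmkM_eq_zero_iff m b).1 h
    obtain ⟨U, hxU, ε, hε⟩ := (isInvertible_iff_exists_isGen.1 hL) x
    have hbij := bijective_stalk_of_isGen hε x hxU
    obtain ⟨a, ha⟩ := hbij.2 m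
    have ha' : a • L.presheaf.germ U x hxU ε = m := ha
    have h1 : (c : X.presheaf.stalk x) * a = 0 := by
      apply hbij.1
      change ((c : X.presheaf.stalk x) * a) • L.presheaf.germ U x hxU ε =
        (0 : X.presheaf.stalk x) • L.presheaf.germ U x hxU ε
      rw [mul_smul, ha', zero_smul]
      exact hc
    have h2 : a = 0 := (mem_nonZeroDivisors_iff.1 (regStalk_le_nonZeroDivisors x c.2)).1 a h1
    rw [← ha', h2, zero_smul]
  · rintro rfl
    exact LocalizedModule.zero_mk b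

theorem merMod_smul_apply {W : X.Opens} (r : Γ(X, W)) (t : Γ(merMod L, W)) (z : W) :
    (r • t).1 z = X.presheaf.germ W z.1 z.2 r • t.1 z := rfl

/-- a meromorphic section of an invertible module over an affine open `U` which vanishes on `D(g)`
is killed by a power of `g` -/
theorem exists_pow_smul_eq_zero (hL : PicF.IsInvertible L) {U : X.Opens} (hU : IsAffineOpen U)
    (g : Γ(X, U)) (t : Γ(merMod L, U)) (ht : ∀ x : U, x.1 ∈ X.basicOpen g → t.1 x = 0) :
    ∃ j : ℕ, ∀ x : U, (X.presheaf.germ U x.1 x.2 g) ^ j • t.1 x = 0 := by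
  haveI := isQuasicoherent_of_isInvertible hL
  have hloc : ∀ x : U, ∃ (h : Γ(X, U)) (j : ℕ), x.1 ∈ X.basicOpen h ∧
      ∀ y : U, y.1 ∈ X.basicOpen h → (X.presheaf.germ U y.1 y.2 g) ^ j • t.1 y = 0 := by
    intro x
    obtain ⟨V, hxV, i, μ, b, hfrac⟩ := t.2 x
    obtain ⟨h, hhV, hxh⟩ := hU.exists_basicOpen_le ⟨x.1, hxV⟩ x.2
    have hDh : IsAffineOpen (X.basicOpen h) := hU.basicOpen h
    have hlocD := Groth.Agent.Lib.Helper29.QCohLoc.LocAt.of_isQuasicoherent L hDh
    obtain ⟨g', hg'⟩ : ∃ g' : Γ(X, X.basicOpen h),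
        g' = X.presheaf.map (homOfLE (X.basicOpen_le h)).op g := ⟨_, rfl⟩
    obtain ⟨μ', hμ'⟩ : ∃ μ' : Γ(L, X.basicOpen h), μ' = L.presheaf.map (homOfLE hhV).op μ :=
      ⟨_, rfl⟩
    have hres : L.presheaf.map (homOfLE (X.basicOpen_le g')).op μ' = 0 := by
      apply Groth.Agent.Lib.Helper64.HomSh.sec_ext
      intro y hy
      rw [map_zero, Groth.Agent.Lib.Helper29.QCohLoc.germ_res, hμ',
        Groth.Agent.Lib.Helper29.QCohLoc.germ_res]
      have hy' : y ∈ X.basicOpen h ⊓ X.basicOpen g := by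
        rw [← Scheme.basicOpen_res, ← hg']
        exact hy
      have hyV : y ∈ V := hhV hy'.1
      have h0 := ht ⟨y, i.le hyV⟩ hy'.2
      have h1 := hfrac ⟨y, hyV⟩
      exact (lmkM_eq_zero_iff_of_isInvertible hL _ _).1 (h1.symm.trans h0)
    obtain ⟨j, hj⟩ := hlocD.kill g' μ' hres
    refine ⟨h, j, hxh, fun y hy => ?_⟩
    have hyV : y.1 ∈ V := hhV hy
    have h1 : t.1 y = LocalizedModule.mk (L.presheaf.germ V y.1 hyV μ) (regGerm ⟨y.1, hyV⟩ b) :=
      hfrac ⟨y.1, hyV⟩
    have h2 : X.presheaf.germ U y.1 y.2 g ^ j • L.presheaf.germ V y.1 hyV μ = 0 := by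
      rw [← Groth.Agent.Lib.Helper29.QCohLoc.germ_res L V (X.basicOpen h) hhV y.1 hy μ, ← hμ',
        ← TopCat.Presheaf.germ_res_apply X.presheaf (homOfLE (X.basicOpen_le h)) y.1 hy g, ← hg',
        ← map_pow, ← Groth.Agent.Lib.Helper29.QCohLoc.germ_smul, hj, map_zero]
    rw [h1, LocalizedModule.smul'_mk, h2, LocalizedModule.zero_mk]
  choose h j hxh hj using hloc
  obtain ⟨T, hT⟩ := hU.isCompact.elim_finite_subcover
    (fun x : U => (X.basicOpen (h x) : Set X)) (fun x => (X.basicOpen (h x)).isOpen)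
    (fun y hy => Set.mem_iUnion.2 ⟨⟨y, hy⟩, hxh ⟨y, hy⟩⟩)
  refine ⟨T.sup j, fun y => ?_⟩
  obtain ⟨x, hxT, hyx⟩ : ∃ x ∈ T, y.1 ∈ X.basicOpen (h x) := by
    have := hT y.2
    simpa only [Set.mem_iUnion, exists_prop, SetLike.mem_coe] using this
  have hle : j x ≤ T.sup j := Finset.le_sup hxT
  rw [← Nat.sub_add_cancel hle, pow_add, mul_smul, hj x y hyx, smul_zero]

theorem mem_denomIdeal (s : Γ(merMod L, ⊤)) (U : X.Opens) (f : Γ(X, U)) :
    f ∈ denomIdeal L s U ↔ ∃ m : Γ(L, U), ∀ x : U,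
      X.presheaf.germ U x.1 x.2 f • s.1 ⟨x.1, Opens.mem_top x.1⟩ =
        LocalizedModule.mk (L.presheaf.germ U x.1 x.2 m) 1 := Iff.rfl

/-- **the ideals of denominators are compatible with localisation** -/
theorem map_denomIdeal_basicOpen (hL : PicF.IsInvertible L) (s : Γ(merMod L, ⊤))
    {U : X.Opens} (hU : IsAffineOpen U) (g : Γ(X, U)) :
    (denomIdeal L s U).map (X.presheaf.map (homOfLE (X.basicOpen_le g)).op).hom =
      denomIdeal L s (X.basicOpen g) := by
  haveI := isQuasicoherent_of_isInvertible hL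
  have hloc := Groth.Agent.Lib.Helper29.QCohLoc.LocAt.of_isQuasicoherent L hU
  haveI := hU.isLocalization_basicOpen g
  have hunit : IsUnit (X.presheaf.map (homOfLE (X.basicOpen_le g)).op g) :=
    IsLocalization.map_units (M := Submonoid.powers g) Γ(X, X.basicOpen g)
      ⟨g, Submonoid.mem_powers g⟩
  obtain ⟨u, hu⟩ := hunit
  apply le_antisymm
  · rw [Ideal.map_le_iff_le_comap]
    intro f hf
    rw [Ideal.mem_comap]
    change X.presheaf.map (homOfLE (X.basicOpen_le g)).op f ∈ _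
    obtain ⟨m, hm⟩ := (mem_denomIdeal s U f).1 hf
    refine (mem_denomIdeal s _ _).2 ⟨L.presheaf.map (homOfLE (X.basicOpen_le g)).op m, fun x => ?_⟩
    rw [TopCat.Presheaf.germ_res_apply, Groth.Agent.Lib.Helper29.QCohLoc.germ_res]
    exact hm ⟨x.1, X.basicOpen_le g x.2⟩
  · intro f' hf'
    obtain ⟨m', hm'⟩ := (mem_denomIdeal s _ f').1 hf'
    obtain ⟨⟨f, ⟨_, n, rfl⟩⟩, hf⟩ := IsLocalization.surj (Submonoid.powers g) f'
    have hf₁ : f' * X.presheaf.map (homOfLE (X.basicOpen_le g)).op (g ^ n) =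
        X.presheaf.map (homOfLE (X.basicOpen_le g)).op f := hf
    obtain ⟨k, m, hm⟩ := hloc.ext g m'
    -- the meromorphic section `g^k f s - g^n m` vanishes on `D(g)`
    obtain ⟨t, ht⟩ : ∃ t : Γ(merMod L, U), t =
        (g ^ k * f) • (merMod L).presheaf.map (homOfLE (le_top : U ≤ ⊤)).op s -
          Mero.toMerFun L U (g ^ n • m) := ⟨_, rfl⟩
    have htval : ∀ x : U, t.1 x =
        X.presheaf.germ U x.1 x.2 (g ^ k * f) • s.1 ⟨x.1, Opens.mem_top x.1⟩ -
          LocalizedModule.mk (L.presheaf.germ U x.1 x.2 (g ^ n • m)) 1 := by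
      intro x
      rw [ht]
      rfl
    have hvan : ∀ x : U, x.1 ∈ X.basicOpen g → t.1 x = 0 := by
      intro x hx
      rw [htval, sub_eq_zero]
      have h1 := hm' ⟨x.1, hx⟩
      have h2 := congrArg (L.presheaf.germ (X.basicOpen g) x.1 hx) hm
      rw [Groth.Agent.Lib.Helper29.QCohLoc.germ_res,
        Groth.Agent.Lib.Helper29.QCohLoc.germ_smul] at h2
      have h3 := congrArg (X.presheaf.germ (X.basicOpen g) x.1 hx) hf₁
      rw [map_mul, TopCat.Presheaf.germ_res_apply, TopCat.Presheaf.germ_res_apply] at h3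
      obtain ⟨G, hG⟩ : ∃ G, G = X.presheaf.germ U x.1 x.2 g := ⟨_, rfl⟩
      obtain ⟨F', hF'⟩ : ∃ F', F' = X.presheaf.germ (X.basicOpen g) x.1 hx f' := ⟨_, rfl⟩
      have e1 : X.presheaf.germ U x.1 x.2 (g ^ k * f) = G ^ k * (F' * G ^ n) := by
        rw [map_mul, map_pow, ← hG, ← h3, map_pow, ← hG, ← hF']
      have e2 : L.presheaf.germ U x.1 x.2 (g ^ n • m) =
          G ^ n • (G ^ k • L.presheaf.germ (X.basicOpen g) x.1 hx m') := by
        rw [Groth.Agent.Lib.Helper29.QCohLoc.germ_smul, map_pow, ← hG, h2, map_pow,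
          TopCat.Presheaf.germ_res_apply, ← hG]
      rw [← hF'] at h1
      rw [e1, e2, show G ^ k * (F' * G ^ n) = (G ^ n * G ^ k) * F' by ring, mul_smul, h1,
        LocalizedModule.smul'_mk, mul_smul]
    obtain ⟨j, hj⟩ := exists_pow_smul_eq_zero hL hU g t hvan
    have hmem : g ^ (j + k) * f ∈ denomIdeal L s U := by
      refine (mem_denomIdeal s U _).2 ⟨g ^ (j + n) • m, fun x => ?_⟩
      have h1 := hj x
      rw [htval, smul_sub, sub_eq_zero] at h1
      have e3 : X.presheaf.germ U x.1 x.2 (g ^ (j + k) * f) =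
          X.presheaf.germ U x.1 x.2 g ^ j * X.presheaf.germ U x.1 x.2 (g ^ k * f) := by
        rw [pow_add, mul_assoc, map_mul, map_pow]
      have e4 : L.presheaf.germ U x.1 x.2 (g ^ (j + n) • m) =
          X.presheaf.germ U x.1 x.2 g ^ j • L.presheaf.germ U x.1 x.2 (g ^ n • m) := by
        rw [pow_add, mul_smul, Groth.Agent.Lib.Helper29.QCohLoc.germ_smul, map_pow]
      rw [e3, e4, mul_smul, ← LocalizedModule.smul'_mk]
      exact h1
    have h2 : f' = X.presheaf.map (homOfLE (X.basicOpen_le g)).op (g ^ (j + k) * f) *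
        ((u⁻¹ ^ (j + k + n) : (Γ(X, X.basicOpen g))ˣ) : Γ(X, X.basicOpen g)) := by
      rw [map_mul, ← hf₁, map_pow, map_pow, ← hu, ← Units.val_pow_eq_pow_val,
        ← Units.val_pow_eq_pow_val, mul_comm _ (f' * _), mul_assoc, mul_assoc, ← Units.val_mul,
        ← Units.val_mul]
      have h3 : u ^ n * (u ^ (j + k) * u⁻¹ ^ (j + k + n)) = 1 := by
        rw [← mul_assoc, ← pow_add, add_comm n (j + k), ← mul_pow, mul_inv_cancel, one_pow]
      rw [h3, Units.val_one, mul_one]
    rw [h2]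
    exact Ideal.mul_mem_right _ _ (Ideal.mem_map_of_mem _ hmem)

/-- the ideal sheaf of denominators -/
noncomputable def denomSheaf (hL : PicF.IsInvertible L) (s : Γ(merMod L, ⊤)) :
    X.IdealSheafData :=
  ⟨fun U => denomIdeal L s U.1, fun U f => map_denomIdeal_basicOpen hL s U.2 f, _, rfl⟩

theorem denomSheaf_ideal (hL : PicF.IsInvertible L) (s : Γ(merMod L, ⊤)) (U : X.affineOpens) :
    (denomSheaf hL s).ideal U = denomIdeal L s U.1 := rfl

/-- **the support of the ideal of denominators of a regular meromorphic section is nowhere dense** -/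
theorem interior_support_denomSheaf (hL : PicF.IsInvertible L) (s : Γ(merMod L, ⊤))
    (hs : IsRegularMero L s) : interior ((denomSheaf hL s).support : Set X) = ∅ := by
  rw [Set.eq_empty_iff_forall_notMem]
  intro x hx
  obtain ⟨V, ε, r, b, hxV, hε, hr, hb, hval⟩ := exists_chart hL s hs x
  obtain ⟨V', hV'aff, hxV', hV'le⟩ := (Opens.isBasis_iff_nbhd.1 X.isBasis_affineOpens)
    (show x ∈ V ⊓ ⟨interior ((denomSheaf hL s).support : Set X), isOpen_interior⟩ from ⟨hxV, hx⟩)
  have hV'aff' : IsAffineOpen V' := hV'aff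
  have hV'V : V' ≤ V := hV'le.trans inf_le_left
  obtain ⟨b', hb'⟩ : ∃ b' : Γ(X, V'), b' = X.presheaf.map (homOfLE hV'V).op b := ⟨_, rfl⟩
  have hb'mem : b' ∈ denomIdeal L s V' := by
    refine (mem_denomIdeal s V' b').2 ⟨L.presheaf.map (homOfLE hV'V).op (r • ε), fun y => ?_⟩
    rw [hb', TopCat.Presheaf.germ_res_apply, Groth.Agent.Lib.Helper29.QCohLoc.germ_res,
      hval ⟨y.1, hV'V y.2⟩, LocalizedModule.smul'_mk, LocalizedModule.mk_eq]
    refine ⟨1, ?_⟩
    simp only [one_smul]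
    rfl
  have hbot : X.basicOpen b' = ⊥ := by
    rw [eq_bot_iff]
    intro y hy
    have hyV' : y ∈ V' := X.basicOpen_le b' hy
    have hysupp : y ∈ (denomSheaf hL s).support := interior_subset (hV'le hyV').2
    have h1 := (Scheme.IdealSheafData.mem_support_iff_of_mem (I := denomSheaf hL s)
      (U := ⟨V', hV'aff⟩) hyV').1 hysupp
    rw [Scheme.mem_zeroLocus_iff] at h1
    exact h1 b' hb'mem hy
  obtain ⟨n, hn⟩ := (Scheme.isNilpotent_iff_basicOpen_eq_bot_of_isCompact hV'aff'.isCompact b').2 hbot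
  have hreg : X.presheaf.germ V' x hxV' b' ∈ nonZeroDivisors (X.presheaf.stalk x) := by
    rw [hb']
    exact (regSub_res (homOfLE hV'V) hb) ⟨x, hxV'⟩
  have h0 : (X.presheaf.germ V' x hxV' b') ^ n = 0 := by rw [← map_pow, hn, map_zero]
  have h1 := pow_mem hreg n
  rw [h0] at h1
  exact zero_notMem_nonZeroDivisors h1

/-- **quasi-coherence of the ideal of denominators** -/
theorem exists_denomSheaf (hL : PicF.IsInvertible L) (s : Γ(merMod L, ⊤))
    (hs : IsRegularMero L s) :
    ∃ I : X.IdealSheafData, (∀ U : X.affineOpens, I.ideal U = Mero.denomIdeal L s U.1) ∧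
      interior (I.support : Set ↥X) = ∅ :=
  ⟨denomSheaf hL s, fun _ => rfl, interior_support_denomSheaf hL s hs⟩

end Groth.Agent.Lib.Helper64.DenomQC
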