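import Mathlib
import Groth.Prelude.Def_Smoothing

set_option autoImplicit false

universe u

open Polynomial MvPolynomial Smoothing Algebra

namespace Groth.Agent.Lib.Helper64.ElemStd

/-- Cayley–Hamilton trick: if `t • J ⊆ J * J` for a finitely generated ideal `J`, then some
`r ≡ t ^ k` modulo `J` kills `J`. -/
theorem exists_kill {T : Type u} [CommRing T] (J : Ideal T) (hfg : J.FG) (t : T)
    (ht : ∀ x ∈ J, t * x ∈ J * J) :
    ∃ (r : T) (k : ℕ), r - t ^ k ∈ J ∧ ∀ x ∈ J, r * x = 0 := by
  have : Module.Finite T J := Module.Finite.iff_fg.mpr hfg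
  let f : Module.End T J := LinearMap.lsmul T J t
  have hrange : LinearMap.range f ≤ J • (⊤ : Submodule T J) := by
    rintro _ ⟨x, rfl⟩
    rw [Submodule.mem_smul_top_iff]
    have := ht x x.2
    simpa [f] using this
  obtain ⟨p, hpm, -, hpc, hp0⟩ :=
    LinearMap.exists_monic_and_natDegree_eq_and_coeff_mem_pow_and_aeval_eq_zero T f J hrange
  refine ⟨p.eval t, p.natDegree, ?_, ?_⟩
  · rw [Polynomial.eval_eq_sum_range, Finset.sum_range_succ, hpm.coeff_natDegree, one_mul,
      add_sub_cancel_right]
    refine Ideal.sum_mem _ fun i hi => ?_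
    have hi' : i < p.natDegree := Finset.mem_range.mp hi
    have h1 : p.coeff i ∈ J ^ (p.natDegree - i) := hpc i
    have h2 : J ^ (p.natDegree - i) ≤ J := Ideal.pow_le_self (by omega)
    exact J.mul_mem_right _ (h2 h1)
  · intro x hx
    have hf : f = algebraMap T (Module.End T J) t := by
      ext y; simp [f]
    have h3 : Polynomial.aeval f p = algebraMap T (Module.End T J) (p.eval t) := by
      rw [hf, Polynomial.aeval_algebraMap_apply, Polynomial.aeval_def, Polynomial.eval₂_eq_eval_map]
      simp
    have h4 := LinearMap.congr_fun hp0 ⟨x, hx⟩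
    rw [h3] at h4
    have h5 := congrArg Subtype.val h4
    simpa using h5


/-- If `T → A` is surjective with kernel killed by `r ≡ t ^ k` (`k > 0`), then the localization of
`A` away from the image of `t` is the localization of `T` away from `r`. -/
theorem isLocalization_away_of_kill {T A Aa : Type u} [CommRing T] [CommRing A] [CommRing Aa]
    [Algebra T A] [Algebra A Aa] [Algebra T Aa] [IsScalarTower T A Aa]
    (hsurj : Function.Surjective (algebraMap T A)) (t : T)
    [IsLocalization.Away (algebraMap T A t) Aa]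
    (r : T) (k : ℕ) (hk : 0 < k) (hr : r - t ^ k ∈ RingHom.ker (algebraMap T A))
    (hkill : ∀ x ∈ RingHom.ker (algebraMap T A), r * x = 0) :
    IsLocalization.Away r Aa := by
  set a : A := algebraMap T A t with ha
  have hra : algebraMap T A r = a ^ k := by
    have := (RingHom.mem_ker).mp hr
    rw [map_sub, sub_eq_zero, map_pow] at this
    exact this
  have hraa : algebraMap T Aa r = algebraMap A Aa a ^ k := by
    rw [IsScalarTower.algebraMap_apply T A Aa, hra, map_pow]
  have hunit : IsUnit (algebraMap A Aa a) := IsLocalization.Away.algebraMap_isUnit a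
  refine IsLocalization.Away.mk r ?_ ?_ ?_
  · rw [hraa]; exact hunit.pow k
  · intro s
    obtain ⟨n, x, hx⟩ := IsLocalization.Away.surj a s
    obtain ⟨y, rfl⟩ := hsurj x
    obtain ⟨m, hm⟩ : ∃ m, k * n = n + m := by
      have : n ≤ k * n := Nat.le_mul_of_pos_left n hk
      exact ⟨k * n - n, by omega⟩
    refine ⟨n, y * t ^ m, ?_⟩
    rw [hraa, ← pow_mul, hm, pow_add, ← mul_assoc, hx, map_mul, map_pow,
      IsScalarTower.algebraMap_apply T A Aa, IsScalarTower.algebraMap_apply T A Aa t]
  · intro x y hxy
    rw [IsScalarTower.algebraMap_apply T A Aa, IsScalarTower.algebraMap_apply T A Aa y] at hxy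
    obtain ⟨⟨_, n, rfl⟩, hn⟩ := (IsLocalization.eq_iff_exists (Submonoid.powers a) Aa).mp hxy
    refine ⟨n + 1, ?_⟩
    have hmem : r ^ n * (x - y) ∈ RingHom.ker (algebraMap T A) := by
      rw [RingHom.mem_ker, map_mul, map_pow, hra, map_sub, ← pow_mul]
      have hkn : k * n = (k * n - n) + n := by
        have : n ≤ k * n := Nat.le_mul_of_pos_left n hk
        omega
      rw [hkn, pow_add, mul_assoc, mul_sub]
      simp only at hn
      rw [hn, sub_self, mul_zero]
    have := hkill _ hmem
    rw [← sub_eq_zero, ← mul_sub, pow_succ', mul_assoc]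
    exact this

/-- A localization, away from one element, of the quotient of a polynomial ring by `c` relations is
standard smooth as soon as the leading `c × c` Jacobian minor becomes a unit. -/
theorem isStandardSmooth_of_away_quotient {R : Type u} [CommRing R] {n c : ℕ} (hcn : c ≤ n)
    (v : Fin c → MvPolynomial (Fin n) R)
    {S : Type u} [CommRing S] [Algebra R S]
    [Algebra (MvPolynomial (Fin n) R ⧸ Ideal.span (Set.range v)) S]
    [IsScalarTower R (MvPolynomial (Fin n) R ⧸ Ideal.span (Set.range v)) S]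
    (r : MvPolynomial (Fin n) R ⧸ Ideal.span (Set.range v)) [IsLocalization.Away r S]
    (hunit : IsUnit (algebraMap (MvPolynomial (Fin n) R ⧸ Ideal.span (Set.range v)) S
      (Ideal.Quotient.mk _
        (Matrix.det (Matrix.of fun j k : Fin c => pderiv (Fin.castLE hcn k) (v j)))))) :
    Algebra.IsStandardSmooth R S := by
  let P₀ : PreSubmersivePresentation R (MvPolynomial (Fin n) R ⧸ Ideal.span (Set.range v))
      (Fin n) (Fin c) :=
    PreSubmersivePresentation.naive (v := v) (Fin.castLE hcn) (Fin.castLE_injective hcn)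
  let Q := PreSubmersivePresentation.localizationAway S r
  have hP₀ : P₀.jacobian = Ideal.Quotient.mk _
        (Matrix.det (Matrix.of fun j k : Fin c => pderiv (Fin.castLE hcn k) (v j))) := by
    rw [PreSubmersivePresentation.jacobian_eq_jacobiMatrix_det, ← Matrix.det_transpose]
    congr 2
    ext i j
    simp [P₀]
  let P : SubmersivePresentation R S (Unit ⊕ Fin n) (Unit ⊕ Fin c) :=
    { toPreSubmersivePresentation := Q.comp P₀
      jacobian_isUnit := by
        rw [PreSubmersivePresentation.comp_jacobian_eq_jacobian_smul_jacobian,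
          PreSubmersivePresentation.localizationAway_jacobian, Algebra.smul_def, hP₀]
        exact hunit.mul (IsLocalization.Away.algebraMap_isUnit r) }
  exact P.isStandardSmooth

/-- If `a` is elementary standard in `A` over `R`, then any localization of `A` away from `a` is
standard smooth over `R`. -/
theorem isStandardSmooth_of_isElementaryStandard {R A Aa : Type u} [CommRing R] [CommRing A] [CommRing Aa]
    [Algebra R A] [Algebra A Aa] [Algebra R Aa] [IsScalarTower R A Aa] (a : A)
    [IsLocalization.Away a Aa]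
    (ha : Smoothing.IsElementaryStandard R A a) :
    Algebra.IsStandardSmooth R Aa := by
  obtain ⟨P, ⟨a', ha'⟩, hkt⟩ := ha
  set v : Fin P.c → MvPolynomial (Fin P.n) R := fun j => P.rel (Fin.castLE P.hcm j) with hv
  set I₀ : Ideal (MvPolynomial (Fin P.n) R) := Ideal.span (Set.range v) with hI₀def
  have hker : ∀ y, y ∈ Ideal.span (Set.range P.rel) ↔ P.hom y = 0 := by
    intro y
    rw [← P.ker_eq]
    exact RingHom.mem_ker
  have hI₀le : I₀ ≤ Ideal.span (Set.range P.rel) := by
    refine Ideal.span_mono ?_
    rintro _ ⟨j, rfl⟩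
    exact ⟨_, rfl⟩
  have hI₀ : ∀ y ∈ I₀, P.hom y = 0 := fun y hy => (hker y).mp (hI₀le hy)
  let ψ : (MvPolynomial (Fin P.n) R ⧸ I₀) →ₐ[R] A := Ideal.Quotient.liftₐ I₀ P.hom hI₀
  have hψ : ∀ y, ψ (Ideal.Quotient.mk I₀ y) = P.hom y := fun y => rfl
  let _ : Algebra (MvPolynomial (Fin P.n) R ⧸ I₀) A := ψ.toRingHom.toAlgebra
  have halg : ∀ x, algebraMap (MvPolynomial (Fin P.n) R ⧸ I₀) A x = ψ x := fun x => rfl
  have : IsScalarTower R (MvPolynomial (Fin P.n) R ⧸ I₀) A := IsScalarTower.of_algHom ψ
  have hsurj : Function.Surjective (algebraMap (MvPolynomial (Fin P.n) R ⧸ I₀) A) := by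
    intro x
    obtain ⟨y, rfl⟩ := P.surj x
    exact ⟨Ideal.Quotient.mk I₀ y, hψ y⟩
  -- the kernel
  set J : Ideal (MvPolynomial (Fin P.n) R ⧸ I₀) :=
    RingHom.ker (algebraMap (MvPolynomial (Fin P.n) R ⧸ I₀) A) with hJ
  have hJmap : J = Ideal.map (Ideal.Quotient.mk I₀) (Ideal.span (Set.range P.rel)) := by
    apply le_antisymm
    · intro x hx
      obtain ⟨y, rfl⟩ := Ideal.Quotient.mk_surjective x
      have : P.hom y = 0 := by
        have := RingHom.mem_ker.mp hx
        rwa [halg, hψ] at this
      exact Ideal.mem_map_of_mem _ ((hker y).mpr this)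
    · rw [Ideal.map_le_iff_le_comap]
      intro y hy
      rw [Ideal.mem_comap, hJ, RingHom.mem_ker, halg, hψ]
      exact (hker y).mp hy
  have hfg : J.FG := by
    rw [hJmap]
    refine Ideal.FG.map ?_ _
    exact Submodule.fg_span (Set.finite_range P.rel)
  obtain ⟨ta, hta⟩ := P.surj a
  set t : MvPolynomial (Fin P.n) R ⧸ I₀ := Ideal.Quotient.mk I₀ ta with ht
  have hta' : algebraMap (MvPolynomial (Fin P.n) R ⧸ I₀) A t = a := by
    rw [halg, ht, hψ, hta]
  have hmul : ∀ x ∈ J, t * x ∈ J * J := by
    have key : ∀ y ∈ Ideal.span (Set.range P.rel), Ideal.Quotient.mk I₀ (ta * y) ∈ J * J := by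
      intro y hy
      induction hy using Submodule.span_induction with
      | mem y hy =>
        obtain ⟨j, rfl⟩ := hy
        by_cases hj : (j : ℕ) < P.c
        · have : P.rel j ∈ I₀ := by
            refine Ideal.subset_span ⟨⟨j, hj⟩, ?_⟩
            simp [hv]
          have h0 : Ideal.Quotient.mk I₀ (ta * P.rel j) = 0 :=
            Ideal.Quotient.eq_zero_iff_mem.mpr (I₀.mul_mem_left _ this)
          rw [h0]
          exact Ideal.zero_mem _
        · have h1 := hkt ta hta j (not_lt.mp hj)
          have h2 : Ideal.span (P.rel '' {j' : Fin P.m | (j' : ℕ) < P.c}) ⊔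
              Ideal.span (Set.range P.rel) ^ 2 ≤ Ideal.comap (Ideal.Quotient.mk I₀) (J * J) := by
            refine sup_le ?_ ?_
            · rw [Ideal.span_le]
              rintro _ ⟨j', hj', rfl⟩
              have : P.rel j' ∈ I₀ := by
                refine Ideal.subset_span ⟨⟨j', hj'⟩, ?_⟩
                simp [hv]
              change Ideal.Quotient.mk I₀ (P.rel j') ∈ J * J
              rw [Ideal.Quotient.eq_zero_iff_mem.mpr this]
              exact Ideal.zero_mem _
            · rw [← Ideal.map_le_iff_le_comap, Ideal.map_pow, ← hJmap, pow_two]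
          exact h2 h1
      | zero => simp
      | add y z _ _ hy hz =>
        rw [mul_add, map_add]
        exact Ideal.add_mem _ hy hz
      | smul s y _ hy =>
        rw [smul_eq_mul, mul_left_comm, map_mul]
        exact Ideal.mul_mem_left _ _ hy
    intro x hx
    obtain ⟨y, rfl⟩ := Ideal.Quotient.mk_surjective x
    have : P.hom y = 0 := by
      have := RingHom.mem_ker.mp hx
      rwa [halg, hψ] at this
    rw [ht, ← map_mul]
    exact key y ((hker y).mpr this)
  obtain ⟨r, k, hrk, hkill⟩ := exists_kill J hfg t hmul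
  -- the localization
  let _ : Algebra (MvPolynomial (Fin P.n) R ⧸ I₀) Aa :=
    ((algebraMap A Aa).comp
      (algebraMap (MvPolynomial (Fin P.n) R ⧸ I₀) A)).toAlgebra
  have : IsScalarTower (MvPolynomial (Fin P.n) R ⧸ I₀) A Aa :=
    IsScalarTower.of_algebraMap_eq' rfl
  have : IsScalarTower R (MvPolynomial (Fin P.n) R ⧸ I₀) Aa := by
    refine IsScalarTower.of_algebraMap_eq' (R := R) (S := MvPolynomial (Fin P.n) R ⧸ I₀)
      (A := Aa) ?_
    rw [IsScalarTower.algebraMap_eq R A Aa,
      IsScalarTower.algebraMap_eq (MvPolynomial (Fin P.n) R ⧸ I₀) A Aa,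
      RingHom.comp_assoc, ← IsScalarTower.algebraMap_eq R (MvPolynomial (Fin P.n) R ⧸ I₀) A]
  have : IsLocalization.Away (algebraMap (MvPolynomial (Fin P.n) R ⧸ I₀) A t)
      Aa := by
    rw [hta']; infer_instance
  have : IsLocalization.Away (r * t) Aa := by
    refine isLocalization_away_of_kill (A := A) hsurj t (r * t) (k + 1) (Nat.succ_pos k) ?_ ?_
    · have : r * t - t ^ (k + 1) = (r - t ^ k) * t := by ring
      rw [this]
      exact Ideal.mul_mem_right _ _ hrk
    · intro x hx
      rw [mul_right_comm, hkill x hx, zero_mul]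
  refine isStandardSmooth_of_away_quotient P.hcn v (r * t) ?_
  have hΔ : algebraMap (MvPolynomial (Fin P.n) R ⧸ I₀) Aa
      (Ideal.Quotient.mk _ (Matrix.det (Matrix.of fun j k : Fin P.c =>
        pderiv (Fin.castLE P.hcn k) (v j)))) =
      algebraMap A Aa
        (P.hom (jacobianMinor P.rel (Fin.castLE P.hcm) (Fin.castLE P.hcn))) := by
    rw [IsScalarTower.algebraMap_apply (MvPolynomial (Fin P.n) R ⧸ I₀) A Aa,
      halg, hψ]
    rfl
  rw [hΔ]
  have hu : IsUnit (algebraMap A Aa a) :=
    IsLocalization.Away.algebraMap_isUnit a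
  rw [ha', map_mul] at hu
  exact isUnit_of_mul_isUnit_right hu

end Groth.Agent.Lib.Helper64.ElemStd
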