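import Mathlib

/-!
# Cocycle trivialisation in a factorial local ring, and spreading out (helper64)

Pure algebra for `S0234` (extension of invertible modules across factorial points).
`InAw R g z` : the element `z` of the field `K` lies in `R[1/g]`; `UnitAw R g z` : it is a unit
there.  Main results:

* `exists_common` : in a UFD `B` with fraction field `K`, a family `h i ∈ Kˣ` with
  `h i / h j ∈ B[1/(g i g j)]ˣ` admits `t ∈ Kˣ` with `t / h i ∈ B[1/g i]ˣ`.
* `exists_common_spread` : the same over a domain `A` one of whose localisations `A_𝔭` is a UFD,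
  after inverting some `f ∉ 𝔭`.
-/

set_option autoImplicit false
set_option linter.style.haveILetI false

namespace Groth.Agent.Lib.Helper64.ExtAlg

section InAw

variable (R : Type*) [CommRing R] {K : Type*} [Field K] [Algebra R K]

/-- `z ∈ R[1/g]` inside `K`. -/
def InAw (g : R) (z : K) : Prop :=
  ∃ (a : R) (n : ℕ), z * algebraMap R K g ^ n = algebraMap R K a

/-- `z` is a unit of `R[1/g]` inside `K`. -/
def UnitAw (g : R) (z : K) : Prop := z ≠ 0 ∧ InAw R g z ∧ InAw R g z⁻¹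

variable {R}

theorem InAw.of_algebraMap (g a : R) : InAw R g (algebraMap R K a) := ⟨a, 0, by simp⟩

theorem InAw.one (g : R) : InAw R g (1 : K) := ⟨1, 0, by simp⟩

theorem InAw.mul {g : R} {z w : K} (hz : InAw R g z) (hw : InAw R g w) : InAw R g (z * w) := by
  obtain ⟨a, n, ha⟩ := hz
  obtain ⟨b, m, hb⟩ := hw
  refine ⟨a * b, n + m, ?_⟩
  rw [map_mul, ← ha, ← hb, pow_add]; ring

theorem InAw.mono {g g' : R} (h : g ∣ g') {z : K} (hz : InAw R g z) : InAw R g' z := by
  obtain ⟨d, rfl⟩ := h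
  obtain ⟨a, n, ha⟩ := hz
  refine ⟨a * d ^ n, n, ?_⟩
  rw [map_mul, map_mul, map_pow, mul_pow, ← mul_assoc, ha]

theorem UnitAw.one (g : R) : UnitAw R g (1 : K) :=
  ⟨one_ne_zero, InAw.one g, by rw [inv_one]; exact InAw.one g⟩

theorem UnitAw.mul {g : R} {z w : K} (hz : UnitAw R g z) (hw : UnitAw R g w) :
    UnitAw R g (z * w) :=
  ⟨mul_ne_zero hz.1 hw.1, hz.2.1.mul hw.2.1, by rw [mul_inv]; exact hz.2.2.mul hw.2.2⟩

theorem UnitAw.inv {g : R} {z : K} (hz : UnitAw R g z) : UnitAw R g z⁻¹ :=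
  ⟨inv_ne_zero hz.1, hz.2.2, by rw [inv_inv]; exact hz.2.1⟩

theorem UnitAw.div {g : R} {z w : K} (hz : UnitAw R g z) (hw : UnitAw R g w) :
    UnitAw R g (z / w) := by
  rw [div_eq_mul_inv]; exact hz.mul hw.inv

theorem UnitAw.mono {g g' : R} (h : g ∣ g') {z : K} (hz : UnitAw R g z) : UnitAw R g' z :=
  ⟨hz.1, hz.2.1.mono h, hz.2.2.mono h⟩

theorem UnitAw.ne_zero {g : R} {z : K} (hz : UnitAw R g z) : z ≠ 0 := hz.1

end InAw

section UFD

variable {B : Type*} [CommRing B] [IsDomain B] [UniqueFactorizationMonoid B]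

/-- Split `a = a₁ a₂` with `a₁ ∣ g ^ N` and `a₂` prime to `g`. -/
theorem exists_split (g : B) : ∀ a : B, a ≠ 0 →
    ∃ (a₁ a₂ : B) (N : ℕ), a = a₁ * a₂ ∧ a₁ ∣ g ^ N ∧ IsRelPrime a₂ g := by
  intro a
  refine UniqueFactorizationMonoid.induction_on_prime a ?_ ?_ ?_
  · intro h; exact absurd rfl h
  · intro x hx _
    exact ⟨1, x, 0, (one_mul x).symm, by simp, hx.isRelPrime_left⟩
  · intro a p ha0 hp ih _
    obtain ⟨a₁, a₂, N, h0, h1, h2⟩ := ih ha0
    by_cases hpg : p ∣ g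
    · refine ⟨p * a₁, a₂, N + 1, by rw [h0]; ring, ?_, h2⟩
      rw [pow_succ']
      exact mul_dvd_mul hpg h1
    · refine ⟨a₁, p * a₂, N, by rw [h0]; ring, h1, ?_⟩
      exact (hp.irreducible.isRelPrime_iff_not_dvd.2 hpg).mul_left h2

variable {K : Type*} [Field K] [Algebra B K] [IsFractionRing B K]

theorem algebraMap_ne_zero' {b : B} (hb : b ≠ 0) : algebraMap B K b ≠ 0 := by
  intro h
  exact hb (IsFractionRing.injective B K (h.trans (map_zero _).symm))

/-- `a / b ∈ B[1/g]` when `b ∣ g ^ n`. -/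
theorem inAw_div_of_dvd {g a b : B} {n : ℕ} (hb : b ≠ 0) (h : b ∣ g ^ n) :
    InAw B g (algebraMap B K a / algebraMap B K b) := by
  obtain ⟨d, hd⟩ := h
  refine ⟨a * d, n, ?_⟩
  have hb' : algebraMap B K b ≠ 0 := algebraMap_ne_zero' hb
  rw [← map_pow, hd, map_mul, map_mul]
  field_simp

/-- A fraction `z = p / q` with `q` prime to `p` and to `k` which lies in `B[1/(g k)]` lies in
`B[1/g]`. -/
theorem inAw_of_relPrime {g k p q : B} (hq0 : q ≠ 0) (hqp : IsRelPrime q p) (hqk : IsRelPrime q k)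
    {z : K} (hz : z * algebraMap B K q = algebraMap B K p) (h : InAw B (g * k) z) :
    InAw B g z := by
  obtain ⟨c, n, hc⟩ := h
  have hq' : algebraMap B K q ≠ 0 := algebraMap_ne_zero' hq0
  have h1 : p * (g * k) ^ n = c * q := by
    apply IsFractionRing.injective B K
    rw [map_mul, map_mul, ← hz, ← hc, map_pow]; ring
  have h2 : q ∣ p * (g ^ n * k ^ n) := by
    rw [← mul_pow]; exact ⟨c, by rw [h1]; ring⟩
  have h3 : q ∣ g ^ n * k ^ n := hqp.dvd_of_dvd_mul_left h2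
  have h4 : q ∣ g ^ n := (hqk.pow_right (n := n)).dvd_of_dvd_mul_right h3
  have hzq : z = algebraMap B K p / algebraMap B K q := by
    rw [eq_div_iff hq']; exact hz
  rw [hzq]
  exact inAw_div_of_dvd hq0 h4

/-- Decomposition of `z ∈ Kˣ` relative to `g`: a unit of `B[1/g]` times a fraction prime to `g`. -/
theorem exists_decomp (g : B) (z : K) (hz : z ≠ 0) :
    ∃ z' z'' : K, z = z' * z'' ∧ UnitAw B g z' ∧ z'' ≠ 0 ∧
      ∃ p q : B, p ≠ 0 ∧ q ≠ 0 ∧ IsRelPrime p q ∧ IsRelPrime p g ∧ IsRelPrime q g ∧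
        z'' * algebraMap B K q = algebraMap B K p := by
  obtain ⟨p, q, hpq, hmk⟩ := IsFractionRing.exists_reduced_fraction (A := B) z
  have hq0 : (q : B) ≠ 0 := nonZeroDivisors.ne_zero q.2
  have hzq : z * algebraMap B K q = algebraMap B K p := by
    rw [← hmk]; exact IsLocalization.mk'_spec K p q
  have hq' : algebraMap B K (q : B) ≠ 0 := algebraMap_ne_zero' hq0
  have hp0 : p ≠ 0 := by
    rintro rfl
    rw [map_zero] at hzq
    rcases mul_eq_zero.1 hzq with h | h
    · exact hz h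
    · exact hq' h
  obtain ⟨p₁, p₂, N, hp, hp1, hp2⟩ := exists_split g p hp0
  obtain ⟨q₁, q₂, M, hq, hq1, hq2⟩ := exists_split g (q : B) hq0
  have hp₁0 : p₁ ≠ 0 := fun h => hp0 (by rw [hp, h, zero_mul])
  have hp₂0 : p₂ ≠ 0 := fun h => hp0 (by rw [hp, h, mul_zero])
  have hq₁0 : q₁ ≠ 0 := fun h => hq0 (by rw [hq, h, zero_mul])
  have hq₂0 : q₂ ≠ 0 := fun h => hq0 (by rw [hq, h, mul_zero])
  have e1 : algebraMap B K p₁ ≠ 0 := algebraMap_ne_zero' hp₁0
  have e2 : algebraMap B K p₂ ≠ 0 := algebraMap_ne_zero' hp₂0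
  have e3 : algebraMap B K q₁ ≠ 0 := algebraMap_ne_zero' hq₁0
  have e4 : algebraMap B K q₂ ≠ 0 := algebraMap_ne_zero' hq₂0
  refine ⟨algebraMap B K p₁ / algebraMap B K q₁, algebraMap B K p₂ / algebraMap B K q₂, ?_,
    ⟨div_ne_zero e1 e3, inAw_div_of_dvd hq₁0 hq1, ?_⟩, div_ne_zero e2 e4,
    p₂, q₂, hp₂0, hq₂0, ?_, hp2, hq2, ?_⟩
  · have : z = algebraMap B K p / algebraMap B K (q : B) := by
      rw [eq_div_iff hq']; exact hzq
    rw [this, hp, hq, map_mul, map_mul]
    field_simp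
  · rw [inv_div]; exact inAw_div_of_dvd hp₁0 hp1
  · exact (hpq.of_dvd_left ⟨p₁, by rw [hp]; ring⟩).of_dvd_right ⟨q₁, by rw [hq]; ring⟩
  · field_simp

/-- `z'' = p / q` prime to `k`, unit of `B[1/(g k)]` ⟹ unit of `B[1/g]`. -/
theorem unitAw_of_relPrime {g k p q : B} (hp0 : p ≠ 0) (hq0 : q ≠ 0) (hpq : IsRelPrime p q)
    (hpk : IsRelPrime p k) (hqk : IsRelPrime q k) {z : K}
    (hz : z * algebraMap B K q = algebraMap B K p) (h : UnitAw B (g * k) z) : UnitAw B g z := by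
  refine ⟨h.1, inAw_of_relPrime hq0 hpq.symm hqk hz h.2.1, ?_⟩
  have hp' : algebraMap B K p ≠ 0 := algebraMap_ne_zero' hp0
  have hq' : algebraMap B K q ≠ 0 := algebraMap_ne_zero' hq0
  have hz' : z⁻¹ * algebraMap B K p = algebraMap B K q := by
    rw [← hz]
    field_simp [h.1]
  exact inAw_of_relPrime hp0 hpq hpk hz' h.2.2

/-- **Cocycle trivialisation in a UFD.** -/
theorem exists_common {ι : Type*} [DecidableEq ι] (s : Finset ι) (g : ι → B) (h : ι → K) :
    (∀ i ∈ s, h i ≠ 0) → (∀ i ∈ s, ∀ j ∈ s, UnitAw B (g i * g j) (h i / h j)) →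
    ∃ t : K, t ≠ 0 ∧ ∀ i ∈ s, UnitAw B (g i) (t / h i) := by
  refine Finset.induction_on s ?_ ?_
  · intro _ _
    exact ⟨1, one_ne_zero, fun i hi => absurd hi (Finset.notMem_empty i)⟩
  · intro k s' hk ih hh hc
    obtain ⟨t', ht'0, ht'⟩ := ih (fun i hi => hh i (Finset.mem_insert_of_mem hi))
      (fun i hi j hj => hc i (Finset.mem_insert_of_mem hi) j (Finset.mem_insert_of_mem hj))
    have hk0 : h k ≠ 0 := hh k (Finset.mem_insert_self k s')
    obtain ⟨τ', τ'', hτ, hτ', hτ''0, p, q, hp0, hq0, hpq, hpg, hqg, hτ''⟩ :=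
      exists_decomp (g k) (t' / h k) (div_ne_zero ht'0 hk0)
    refine ⟨t' / τ'', div_ne_zero ht'0 hτ''0, ?_⟩
    intro i hi
    rcases Finset.mem_insert.1 hi with rfl | hi'
    · have : t' / τ'' / h i = τ' := by
        have h1 : t' = τ' * τ'' * h i := by
          rw [← hτ]; field_simp
        rw [h1]; field_simp
      rw [this]; exact hτ'
    · have hi0 : h i ≠ 0 := hh i hi
      have h1 : UnitAw B (g i) (t' / h i) := ht' i hi'
      have h2 : UnitAw B (g i * g k) (h i / h k) :=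
        hc i hi k (Finset.mem_insert_self k s')
      have h3 : UnitAw B (g i * g k) (t' / h k) := by
        have : t' / h k = (t' / h i) * (h i / h k) := by field_simp
        rw [this]
        exact (h1.mono (Dvd.intro _ rfl)).mul h2
      have h4 : UnitAw B (g i * g k) τ'' := by
        have : τ'' = (t' / h k) / τ' := by
          rw [hτ]; field_simp [hτ'.1]
        rw [this]
        exact h3.div (hτ'.mono (Dvd.intro_left _ rfl))
      have h5 : UnitAw B (g i) τ'' := unitAw_of_relPrime hp0 hq0 hpq hpg hqg hτ'' h4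
      have : t' / τ'' / h i = (t' / h i) / τ'' := by field_simp
      rw [this]
      exact h1.div h5

end UFD

section Spread

variable {A : Type*} [CommRing A] (𝔭 : Ideal A) [𝔭.IsPrime]
  {B : Type*} [CommRing B] [Algebra A B] [IsLocalization.AtPrime B 𝔭]
  {K : Type*} [Field K] [Algebra A K] [Algebra B K] [IsScalarTower A B K]

include 𝔭 in
theorem InAw.to_localization {g : A} {z : K} (h : InAw A g z) :
    InAw B (algebraMap A B g) z := by
  obtain ⟨a, n, ha⟩ := h
  refine ⟨algebraMap A B a, n, ?_⟩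
  rw [← IsScalarTower.algebraMap_apply, ← IsScalarTower.algebraMap_apply]
  exact ha

include 𝔭 in
theorem UnitAw.to_localization {g : A} {z : K} (h : UnitAw A g z) :
    UnitAw B (algebraMap A B g) z :=
  ⟨h.1, InAw.to_localization 𝔭 h.2.1, InAw.to_localization 𝔭 h.2.2⟩

theorem InAw.spread {g : A} {z : K} (h : InAw B (algebraMap A B g) z) :
    ∃ f : A, f ∉ 𝔭 ∧ InAw A (f * g) z := by
  obtain ⟨b, n, hb⟩ := h
  obtain ⟨⟨a, s⟩, has⟩ := IsLocalization.surj 𝔭.primeCompl b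
  refine ⟨s, s.2, a * s ^ n * g, n + 1, ?_⟩
  have h1 : z * algebraMap A K g ^ n * algebraMap A K s = algebraMap A K a := by
    have := congrArg (algebraMap B K) has
    simp only [map_mul] at this
    rw [← IsScalarTower.algebraMap_apply, ← IsScalarTower.algebraMap_apply, ← hb,
      ← IsScalarTower.algebraMap_apply] at this
    exact this
  rw [map_mul, map_mul, map_mul, map_pow, ← h1, mul_pow, pow_succ]
  ring

theorem UnitAw.spread {g : A} {z : K} (h : UnitAw B (algebraMap A B g) z) :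
    ∃ f : A, f ∉ 𝔭 ∧ UnitAw A (f * g) z := by
  obtain ⟨f₁, hf₁, h1⟩ := InAw.spread 𝔭 h.2.1
  obtain ⟨f₂, hf₂, h2⟩ := InAw.spread 𝔭 h.2.2
  refine ⟨f₁ * f₂, fun hmem => ?_, h.1, h1.mono ⟨f₂, by ring⟩, h2.mono ⟨f₁, by ring⟩⟩
  rcases Ideal.IsPrime.mem_or_mem inferInstance hmem with h | h
  · exact hf₁ h
  · exact hf₂ h

theorem UnitAw.spread_finset {ι : Type*} [DecidableEq ι] (s : Finset ι) (g : ι → A) (z : ι → K) :
    (∀ i ∈ s, UnitAw B (algebraMap A B (g i)) (z i)) →
    ∃ f : A, f ∉ 𝔭 ∧ ∀ i ∈ s, UnitAw A (f * g i) (z i) := by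
  refine Finset.induction_on s ?_ ?_
  · intro _
    exact ⟨1, fun h => (Ideal.IsPrime.ne_top inferInstance) ((Ideal.eq_top_iff_one 𝔭).2 h),
      fun i hi => absurd hi (Finset.notMem_empty i)⟩
  · intro k s' _ ih h
    obtain ⟨f', hf', h'⟩ := ih (fun i hi => h i (Finset.mem_insert_of_mem hi))
    obtain ⟨f₁, hf₁, h1⟩ := UnitAw.spread 𝔭 (h k (Finset.mem_insert_self k s'))
    refine ⟨f₁ * f', fun hmem => ?_, fun i hi => ?_⟩
    · rcases Ideal.IsPrime.mem_or_mem inferInstance hmem with h | h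
      · exact hf₁ h
      · exact hf' h
    · rcases Finset.mem_insert.1 hi with rfl | hi'
      · exact h1.mono ⟨f', by ring⟩
      · exact (h' i hi').mono ⟨f₁, by ring⟩

/-- **Cocycle trivialisation near a factorial point.** -/
theorem exists_common_spread {A : Type*} [CommRing A] (𝔭 : Ideal A) [𝔭.IsPrime]
    (B : Type*) [CommRing B] [Algebra A B] [IsLocalization.AtPrime B 𝔭]
    {K : Type*} [Field K] [Algebra A K] [Algebra B K] [IsScalarTower A B K]
    [IsDomain B] [UniqueFactorizationMonoid B] [IsFractionRing B K]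
    {ι : Type*} [DecidableEq ι] (s : Finset ι) (g : ι → A) (h : ι → K)
    (hh : ∀ i ∈ s, h i ≠ 0)
    (hc : ∀ i ∈ s, ∀ j ∈ s, UnitAw A (g i * g j) (h i / h j)) :
    ∃ f : A, f ∉ 𝔭 ∧ ∃ t : K, t ≠ 0 ∧ ∀ i ∈ s, UnitAw A (f * g i) (t / h i) := by
  obtain ⟨t, ht0, ht⟩ := exists_common (B := B) s (fun i => algebraMap A B (g i)) h hh
    (fun i hi j hj => by
      have := UnitAw.to_localization (B := B) 𝔭 (hc i hi j hj)
      rwa [map_mul] at this)
  obtain ⟨f, hf, hf'⟩ := UnitAw.spread_finset (B := B) 𝔭 s g (fun i => t / h i) ht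
  exact ⟨f, hf, t, ht0, hf'⟩

end Spread

end Groth.Agent.Lib.Helper64.ExtAlg
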