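import Mathlib
import Groth.Agent.Lib.Helper40.SubSh1
import Groth.Agent.Lib.Helper64.UfdPicGen
import Groth.Agent.Lib.Helper64.StalkSpec

/-!
# Frames and compatible families (helper64)

Abstract machinery for extending an invertible module across a closed subset.  `M` is an
`O_X`-module (think `j_* L`), `U` an open on which `M` is locally free of rank one.  A *frame* is a
pair `(W, e)` with `e ∈ Γ(M, W)` generating `M` on `W ⊓ U`; two frames are *compatible* if they
differ by a unit on `W ⊓ W'`.  A covering family of pairwise compatible frames defines an invertible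
submodule of `M` (`famSub`).
-/

set_option autoImplicit false
set_option linter.style.haveILetI false
universe u

open AlgebraicGeometry CategoryTheory TopologicalSpace Opposite

namespace Groth.Agent.Lib.Helper64.ExtFrames

open Groth.Agent.Lib.Lead.Inv Groth.Agent.Lib.Lead.QCohAff Groth.Agent.Lib.Lead.SheafGlue
open Groth.Agent.Lib.Helper64.UfdPic Groth.Agent.Lib.Helper64.UfdPicGen
open Groth.Agent.Lib.Helper40.SSh

variable {X : Scheme.{u}}

/-- Every point outside `U` has an integral local ring and a generization in `U`. -/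
def DenseDom (U : X.Opens) : Prop :=
  ∀ x : X, x ∉ U → IsDomain (X.presheaf.stalk x) ∧ ∃ y ∈ U, y ⤳ x

theorem stalkSpecializes_injective {x y : X} (h : y ⤳ x) [IsDomain (X.presheaf.stalk x)] :
    Function.Injective (X.presheaf.stalkSpecializes h).hom := by
  letI : Algebra (X.presheaf.stalk x) (X.presheaf.stalk y) :=
    (X.presheaf.stalkSpecializes h).hom.toAlgebra
  haveI := StalkSpec.isLocalization_stalkSpecializes h
  exact IsLocalization.injective (X.presheaf.stalk y)
    (StalkSpec.primeOf h).primeCompl_le_nonZeroDivisors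

/-- **Density lemma**: a function vanishing on `T ⊓ U` vanishes. -/
theorem eq_zero_of_res_eq_zero {U : X.Opens} (hD : DenseDom U) {T : X.Opens} (a : Γ(X, T))
    (h : X.presheaf.map (homOfLE (inf_le_left : T ⊓ U ≤ T)).op a = 0) : a = 0 := by
  have key : ∀ y (hyT : y ∈ T), y ∈ U → X.presheaf.germ T y hyT a = 0 := by
    intro y hyT hyU
    have := X.presheaf.germ_res_apply (homOfLE (inf_le_left : T ⊓ U ≤ T)) y ⟨hyT, hyU⟩ a
    rw [← this, h, map_zero]
  apply TopCat.Presheaf.section_ext X.sheaf T a 0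
  intro x hx
  change X.presheaf.germ T x hx a = X.presheaf.germ T x hx 0
  rw [map_zero]
  by_cases hxU : x ∈ U
  · exact key x hx hxU
  · obtain ⟨hdom, y, hyU, hyx⟩ := hD x hxU
    have hyT : y ∈ T := hyx.mem_open T.isOpen hx
    have h1 : (X.presheaf.stalkSpecializes hyx).hom (X.presheaf.germ T x hx a) =
        X.presheaf.germ T y hyT a := by
      have := X.presheaf.germ_stalkSpecializes (U := T) hx hyx
      rw [← this]; rfl
    apply stalkSpecializes_injective hyx
    rw [h1, key y hyT hyU, map_zero]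

theorem eq_of_res_eq {U : X.Opens} (hD : DenseDom U) {T : X.Opens} (a b : Γ(X, T))
    (h : X.presheaf.map (homOfLE (inf_le_left : T ⊓ U ≤ T)).op a =
      X.presheaf.map (homOfLE (inf_le_left : T ⊓ U ≤ T)).op b) : a = b := by
  apply sub_eq_zero.mp
  apply eq_zero_of_res_eq_zero hD
  rw [map_sub, h, sub_self]

variable (U : X.Opens) (M : X.Modules)

/-- A frame: a section over `W` generating `M` over `W ⊓ U`. -/
def IsFrame (W : X.Opens) (e : Γ(M, W)) : Prop :=
  IsGen M (W ⊓ U) (M.presheaf.map (homOfLE (inf_le_left : W ⊓ U ≤ W)).op e)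

/-- Two sections differing by a unit on the intersection. -/
def Compat {W W' : X.Opens} (e : Γ(M, W)) (e' : Γ(M, W')) : Prop :=
  ∃ u : Γ(X, W ⊓ W'), IsUnit u ∧
    M.presheaf.map (homOfLE (inf_le_right : W ⊓ W' ≤ W')).op e' =
      u • M.presheaf.map (homOfLE (inf_le_left : W ⊓ W' ≤ W)).op e

variable {U M}

theorem IsFrame.res {W W' : X.Opens} {e : Γ(M, W)} (he : IsFrame U M W e) (h : W' ≤ W) :
    IsFrame U M W' (M.presheaf.map (homOfLE h).op e) := by
  unfold IsFrame at he ⊢
  have := he.res (inf_le_inf_right U h : W' ⊓ U ≤ W ⊓ U)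
  rw [res_res] at this
  rw [res_res]
  exact this

theorem IsFrame.isGen_of_le {W T : X.Opens} {e : Γ(M, W)} (he : IsFrame U M W e) (hTW : T ≤ W)
    (hTU : T ≤ U) : IsGen M T (M.presheaf.map (homOfLE hTW).op e) := by
  have := IsGen.res he (le_inf hTW hTU : T ≤ W ⊓ U)
  rw [res_res] at this
  exact this

theorem isFrame_of_isGen {W : X.Opens} {e : Γ(M, W)} (he : IsGen M W e) : IsFrame U M W e :=
  he.res inf_le_left

/-- Uniqueness of coefficients with respect to a frame. -/
theorem IsFrame.eq_zero_of_smul_eq_zero (hD : DenseDom U) {W T : X.Opens} {e : Γ(M, W)}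
    (he : IsFrame U M W e) (hT : T ≤ W) (r : Γ(X, T))
    (hr : r • M.presheaf.map (homOfLE hT).op e = 0) : r = 0 := by
  apply eq_zero_of_res_eq_zero hD
  have hgen := he.isGen_of_le (inf_le_left.trans hT : T ⊓ U ≤ W) inf_le_right
  apply (hgen (T ⊓ U) le_rfl).1
  simp only
  rw [zero_smul, res_self]
  have := congrArg (M.presheaf.map (homOfLE (inf_le_left : T ⊓ U ≤ T)).op) hr
  rw [res_smul, res_res, map_zero] at this
  exact this

theorem IsFrame.eq_of_smul_eq (hD : DenseDom U) {W T : X.Opens} {e : Γ(M, W)}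
    (he : IsFrame U M W e) (hT : T ≤ W) (r r' : Γ(X, T))
    (hr : r • M.presheaf.map (homOfLE hT).op e = r' • M.presheaf.map (homOfLE hT).op e) :
    r = r' := by
  apply sub_eq_zero.mp
  apply he.eq_zero_of_smul_eq_zero hD hT
  rw [sub_smul, hr, sub_self]

/-- Local compatibility implies compatibility. -/
theorem compat_of_local (hD : DenseDom U) {W W' : X.Opens} {e : Γ(M, W)} {e' : Γ(M, W')}
    (he : IsFrame U M W e)
    (h : ∀ x ∈ W ⊓ W', ∃ (T : X.Opens) (hT : T ≤ W ⊓ W'), x ∈ T ∧ ∃ u : Γ(X, T), IsUnit u ∧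
      M.presheaf.map (homOfLE (hT.trans inf_le_right)).op e' =
        u • M.presheaf.map (homOfLE (hT.trans inf_le_left)).op e) : Compat M e e' := by
  choose T hT hxT u hu hue using fun x : (W ⊓ W' : X.Opens) => h x.1 x.2
  have hcompat : ∀ x y, X.presheaf.map (homOfLE (inf_le_left : T x ⊓ T y ≤ T x)).op (u x) =
      X.presheaf.map (homOfLE (inf_le_right : T x ⊓ T y ≤ T y)).op (u y) := by
    intro x y
    have hle : T x ⊓ T y ≤ W := (inf_le_left.trans (hT x)).trans inf_le_left
    apply he.eq_of_smul_eq hD hle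
    have h1 := congrArg (M.presheaf.map (homOfLE (inf_le_left : T x ⊓ T y ≤ T x)).op) (hue x)
    have h2 := congrArg (M.presheaf.map (homOfLE (inf_le_right : T x ⊓ T y ≤ T y)).op) (hue y)
    rw [res_smul, res_res, res_res] at h1 h2
    exact h1.symm.trans h2
  obtain ⟨r, hr⟩ := exists_glue_ptsX T hT hxT u hcompat
  refine ⟨r, ?_, ?_⟩
  · apply X.toRingedSpace.isUnit_of_isUnit_germ
    intro x hx
    have h1 := X.presheaf.germ_res_apply (homOfLE (hT ⟨x, hx⟩)) x (hxT ⟨x, hx⟩) r
    have h2 : IsUnit (X.presheaf.germ (T ⟨x, hx⟩) x (hxT ⟨x, hx⟩) (u ⟨x, hx⟩)) :=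
      (hu ⟨x, hx⟩).map _
    rw [← hr ⟨x, hx⟩] at h2
    rw [h1] at h2
    exact h2
  · apply eq_of_locally_eq_pts M
    intro x hx
    refine ⟨T ⟨x, hx⟩, hT ⟨x, hx⟩, hxT ⟨x, hx⟩, ?_⟩
    rw [res_smul, res_res, res_res, hr, hue]

theorem compat_self {W : X.Opens} (e : Γ(M, W)) : Compat M e e :=
  ⟨1, isUnit_one, by rw [one_smul]⟩

/-- Two frames, one of which lives inside `U`, are compatible. -/
theorem compat_of_le {W W' : X.Opens} {e : Γ(M, W)} {e' : Γ(M, W')} (he : IsFrame U M W e)
    (he' : IsFrame U M W' e') (hW' : W' ≤ U) : Compat M e e' := by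
  have g1 := he.isGen_of_le (inf_le_left : W ⊓ W' ≤ W) (inf_le_right.trans hW')
  have g2 := he'.isGen_of_le (inf_le_right : W ⊓ W' ≤ W') (inf_le_right.trans hW')
  obtain ⟨u, hu, hue⟩ := IsGen.exists_unit g1 g2
  exact ⟨u, hu, hue.symm⟩

theorem Compat.symm {W W' : X.Opens} {e : Γ(M, W)} {e' : Γ(M, W')} (h : Compat M e e') :
    Compat M e' e := by
  obtain ⟨u, hu, hue⟩ := h
  have hle : W' ⊓ W ≤ W ⊓ W' := inf_comm W' W ▸ le_rfl
  obtain ⟨v, hv⟩ := hu.exists_left_inv
  refine ⟨X.presheaf.map (homOfLE hle).op v, (IsUnit.of_mul_eq_one u hv).map _, ?_⟩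
  have h1 := congrArg (M.presheaf.map (homOfLE hle).op) hue
  rw [res_res, res_smul, res_res] at h1
  rw [h1, ← mul_smul, ← map_mul, hv, map_one, one_smul]

end Groth.Agent.Lib.Helper64.ExtFrames
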