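import Mathlib
import Groth.Agent.Lib.Helper64.ExtFrames

/-!
# The invertible submodule defined by a compatible family of frames (helper64)
-/

set_option autoImplicit false
set_option linter.style.haveILetI false
universe u

open AlgebraicGeometry CategoryTheory TopologicalSpace Opposite

namespace Groth.Agent.Lib.Helper64.ExtFam

open Groth.Agent.Lib.Lead.Inv Groth.Agent.Lib.Lead.QCohAff Groth.Agent.Lib.Lead.SheafGlue
open Groth.Agent.Lib.Helper64.UfdPic Groth.Agent.Lib.Helper64.UfdPicGen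
open Groth.Agent.Lib.Helper40.SSh Groth.Agent.Lib.Helper64.ExtFrames

variable {X : Scheme.{u}}

/-- Pairs (open, section). -/
abbrev Fr (M : X.Modules) := Σ W : X.Opens, Γ(M, W)

variable (M : X.Modules)

/-- The subsheaf of `M` of sections which are locally multiples of all members of the family. -/
def famSub (𝓕 : Set (Fr M)) : SubSh M where
  obj T :=
    { carrier := {s | ∀ p ∈ 𝓕, ∀ x ∈ T ⊓ p.1, ∃ (T' : X.Opens) (hT' : T' ≤ T ⊓ p.1), x ∈ T' ∧
        ∃ a : Γ(X, T'), M.presheaf.map (homOfLE (hT'.trans inf_le_left)).op s =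
          a • M.presheaf.map (homOfLE (hT'.trans inf_le_right)).op p.2}
      add_mem' := by
        intro s s' hs hs' p hp x hx
        obtain ⟨T₁, hT₁, hx₁, a₁, h₁⟩ := hs p hp x hx
        obtain ⟨T₂, hT₂, hx₂, a₂, h₂⟩ := hs' p hp x hx
        refine ⟨T₁ ⊓ T₂, inf_le_left.trans hT₁, ⟨hx₁, hx₂⟩,
          X.presheaf.map (homOfLE inf_le_left).op a₁ +
            X.presheaf.map (homOfLE inf_le_right).op a₂, ?_⟩
        rw [map_add, add_smul]
        have e₁ := congrArg (M.presheaf.map (homOfLE (inf_le_left : T₁ ⊓ T₂ ≤ T₁)).op) h₁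
        have e₂ := congrArg (M.presheaf.map (homOfLE (inf_le_right : T₁ ⊓ T₂ ≤ T₂)).op) h₂
        rw [res_smul, res_res, res_res] at e₁ e₂
        rw [e₁, e₂]
      zero_mem' := by
        intro p hp x hx
        exact ⟨T ⊓ p.1, le_rfl, hx, 0, by rw [map_zero, zero_smul]⟩
      smul_mem' := by
        intro r s hs p hp x hx
        obtain ⟨T₁, hT₁, hx₁, a₁, h₁⟩ := hs p hp x hx
        refine ⟨T₁, hT₁, hx₁, X.presheaf.map (homOfLE (hT₁.trans inf_le_left)).op r * a₁, ?_⟩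
        rw [res_smul, h₁, mul_smul] }
  res_mem := by
    intro T T₂ h s hs p hp x hx
    obtain ⟨T₁, hT₁, hx₁, a₁, h₁⟩ := hs p hp x ⟨h hx.1, hx.2⟩
    refine ⟨T₁ ⊓ T₂, le_inf inf_le_right (inf_le_left.trans (hT₁.trans inf_le_right)),
      ⟨hx₁, hx.1⟩, X.presheaf.map (homOfLE inf_le_left).op a₁, ?_⟩
    have e₁ := congrArg (M.presheaf.map (homOfLE (inf_le_left : T₁ ⊓ T₂ ≤ T₁)).op) h₁
    rw [res_smul, res_res, res_res] at e₁
    rw [res_res]
    exact e₁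

theorem famSub_isLocal (𝓕 : Set (Fr M)) : (famSub M 𝓕).IsLocal := by
  intro T s h p hp x hx
  obtain ⟨T₁, hT₁, hx₁, hmem⟩ := h x hx.1
  obtain ⟨T', hT', hxT', a, ha⟩ := hmem p hp x ⟨hx₁, hx.2⟩
  refine ⟨T', hT'.trans (inf_le_inf_right _ hT₁), hxT', a, ?_⟩
  rw [res_res] at ha
  exact ha

variable {M}

theorem mem_famSub_iff (𝓕 : Set (Fr M)) {T : X.Opens} (s : Γ(M, T)) :
    s ∈ (famSub M 𝓕).obj T ↔ ∀ p ∈ 𝓕, ∀ x ∈ T ⊓ p.1, ∃ (T' : X.Opens) (hT' : T' ≤ T ⊓ p.1),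
      x ∈ T' ∧ ∃ a : Γ(X, T'), M.presheaf.map (homOfLE (hT'.trans inf_le_left)).op s =
          a • M.presheaf.map (homOfLE (hT'.trans inf_le_right)).op p.2 := Iff.rfl

/-- A family of pairwise compatible frames. -/
structure IsGoodFam (U : X.Opens) (𝓕 : Set (Fr M)) : Prop where
  frame : ∀ p ∈ 𝓕, IsFrame U M p.1 p.2
  compat : ∀ p ∈ 𝓕, ∀ q ∈ 𝓕, Compat M p.2 q.2

variable {U : X.Opens} {𝓕 : Set (Fr M)}

theorem self_mem_famSub (hF : IsGoodFam U 𝓕) {p : Fr M} (hp : p ∈ 𝓕) :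
    p.2 ∈ (famSub M 𝓕).obj p.1 := by
  intro q hq x hx
  obtain ⟨u, -, hue⟩ := hF.compat q hq p hp
  have hle : q.1 ⊓ p.1 ≤ p.1 ⊓ q.1 := inf_comm q.1 p.1 ▸ le_rfl
  exact ⟨q.1 ⊓ p.1, hle, ⟨hx.2, hx.1⟩, u, hue⟩

theorem mem_famSub_of_le (hF : IsGoodFam U 𝓕) {T : X.Opens} (hT : T ≤ U) (s : Γ(M, T)) :
    s ∈ (famSub M 𝓕).obj T := by
  intro p hp x hx
  have hgen := (hF.frame p hp).isGen_of_le (inf_le_right : T ⊓ p.1 ≤ p.1) (inf_le_left.trans hT)
  obtain ⟨a, ha⟩ := (hgen (T ⊓ p.1) le_rfl).2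
    (M.presheaf.map (homOfLE (inf_le_left : T ⊓ p.1 ≤ T)).op s)
  simp only at ha
  rw [res_self] at ha
  exact ⟨T ⊓ p.1, le_rfl, hx, a, ha.symm⟩

/-- Each member of a good family gives a generator of the associated module. -/
theorem isGen_toMod (hD : DenseDom U) (hF : IsGoodFam U 𝓕) {p : Fr M} (hp : p ∈ 𝓕) :
    IsGen ((famSub M 𝓕).toMod (famSub_isLocal M 𝓕)) p.1
      ((famSub M 𝓕).sec (famSub_isLocal M 𝓕) ⟨p.2, self_mem_famSub hF hp⟩) := by
  set N := famSub M 𝓕 with hNdef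
  have hN : N.IsLocal := famSub_isLocal M 𝓕
  apply isGen_of_local
  · intro W hW r hr
    apply (hF.frame p hp).eq_zero_of_smul_eq_zero hD hW
    have := congrArg (N.val hN) hr
    rw [SubSh.val_smul, SubSh.val_res, SubSh.val_sec, SubSh.val_zero] at this
    exact this
  · intro W hW σ x hx
    obtain ⟨T', hT', hxT', a, ha⟩ := N.val_mem hN σ p hp x ⟨hx, hW hx⟩
    refine ⟨T', hT'.trans inf_le_left, hxT', a, ?_⟩
    apply N.val_injective hN
    rw [SubSh.val_smul, SubSh.val_res, SubSh.val_res, SubSh.val_sec]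
    exact ha.symm

theorem isInvertible_toMod (hD : DenseDom U) (hF : IsGoodFam U 𝓕)
    (hcov : ∀ x : X, ∃ p ∈ 𝓕, x ∈ p.1) :
    PicF.IsInvertible ((famSub M 𝓕).toMod (famSub_isLocal M 𝓕)) := by
  rw [isInvertible_iff_exists_isGen]
  intro x
  obtain ⟨p, hp, hx⟩ := hcov x
  exact ⟨p.1, hx, _, isGen_toMod hD hF hp⟩

end Groth.Agent.Lib.Helper64.ExtFam
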