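import Mathlib
import Groth.Agent.Lib.Helper64.ExtAlg
import Groth.Agent.Lib.Helper64.ExtFrames

/-!
# The generic point of an integral affine open and the embedding of sections into the fraction
field (helper64)

`W` affine open of a scheme with `Γ(X, W)` a domain; `gpt hW` is its generic point and
`phi hW T hξ : Γ(X, T) →+* FractionRing Γ(X, W)` the "germ at the generic point" map.
-/

set_option autoImplicit false
set_option linter.style.haveILetI false
universe u

open AlgebraicGeometry CategoryTheory TopologicalSpace Opposite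

namespace Groth.Agent.Lib.Helper64.ExtGeneric

open Groth.Agent.Lib.Lead.QCohAff Groth.Agent.Lib.Lead.SheafGlue
open Groth.Agent.Lib.Helper64.ExtAlg

section Alg

theorem isFractionRing_of_atPrime_eq_bot {R S : Type*} [CommRing R] [IsDomain R] [CommRing S]
    [Algebra R S] (P : Ideal R) [P.IsPrime] [IsLocalization.AtPrime S P] (hP : P = ⊥) :
    IsFractionRing R S := by
  subst hP
  have h := Ideal.primeCompl_bot (α := R)
  unfold IsFractionRing
  rw [← h]
  infer_instance

end Alg

variable {X : Scheme.{u}} {W : X.Opens} (hW : IsAffineOpen W) [IsDomain Γ(X, W)]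

/-- The generic point of an integral affine open. -/
noncomputable def gpt : X := hW.fromSpec (⟨⊥, Ideal.isPrime_bot⟩ : PrimeSpectrum Γ(X, W))

theorem gpt_mem : gpt hW ∈ W := fromSpec_mem hW _

theorem primeIdealOf_gpt : (hW.primeIdealOf ⟨gpt hW, gpt_mem hW⟩).asIdeal = ⊥ := by
  unfold gpt
  rw [primeIdealOf_fromSpec]

theorem gpt_mem_basicOpen {g : Γ(X, W)} (hg : g ≠ 0) : gpt hW ∈ X.basicOpen g := by
  rw [mem_basicOpen_iff_notMem_primeIdealOf hW _ (gpt_mem hW), primeIdealOf_gpt]
  simpa using hg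

omit [IsDomain Γ(X, W)] in
theorem ne_zero_of_mem_basicOpen {g : Γ(X, W)} {y : X} (hy : y ∈ X.basicOpen g) : g ≠ 0 := by
  rintro rfl
  rw [Scheme.basicOpen_zero] at hy
  exact hy

theorem gpt_mem_of_le {T : X.Opens} (hT : T ≤ W) {y : X} (hy : y ∈ T) : gpt hW ∈ T := by
  obtain ⟨g, hgT, hyg⟩ := hW.exists_basicOpen_le ⟨y, hy⟩ (hT hy)
  exact hgT (gpt_mem_basicOpen hW (ne_zero_of_mem_basicOpen hyg))

theorem gpt_specializes {y : X} (hy : y ∈ W) : gpt hW ⤳ y := by
  rw [specializes_iff_forall_open]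
  intro s hs hys
  have : gpt hW ∈ (⟨s, hs⟩ : X.Opens) ⊓ W :=
    gpt_mem_of_le hW (inf_le_right) (y := y) ⟨hys, hy⟩
  exact this.1

/-- The germ at the generic point, on the coordinate ring. -/
noncomputable def gam : Γ(X, W) →+* X.presheaf.stalk (gpt hW) :=
  (X.presheaf.germ W (gpt hW) (gpt_mem hW)).hom

theorem isFractionRing_stalk :
    @IsFractionRing Γ(X, W) _ (X.presheaf.stalk (gpt hW)) _ (gam hW).toAlgebra := by
  letI : Algebra Γ(X, W) (X.presheaf.stalk (gpt hW)) := (gam hW).toAlgebra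
  haveI : IsLocalization.AtPrime (X.presheaf.stalk (gpt hW))
      (hW.primeIdealOf ⟨gpt hW, gpt_mem hW⟩).asIdeal := hW.isLocalization_stalk ⟨gpt hW, gpt_mem hW⟩
  exact isFractionRing_of_atPrime_eq_bot _ (primeIdealOf_gpt hW)

/-- The identification of the stalk at the generic point with the fraction field. -/
noncomputable def psi : X.presheaf.stalk (gpt hW) →+* FractionRing Γ(X, W) :=
  letI : Algebra Γ(X, W) (X.presheaf.stalk (gpt hW)) := (gam hW).toAlgebra
  haveI := isFractionRing_stalk hW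
  (IsLocalization.algEquiv (nonZeroDivisors Γ(X, W)) (X.presheaf.stalk (gpt hW))
    (FractionRing Γ(X, W))).toAlgHom.toRingHom

theorem psi_gam (a : Γ(X, W)) : psi hW (gam hW a) = algebraMap _ (FractionRing Γ(X, W)) a := by
  letI : Algebra Γ(X, W) (X.presheaf.stalk (gpt hW)) := (gam hW).toAlgebra
  haveI := isFractionRing_stalk hW
  exact (IsLocalization.algEquiv (nonZeroDivisors Γ(X, W)) (X.presheaf.stalk (gpt hW))
    (FractionRing Γ(X, W))).commutes a

theorem psi_injective : Function.Injective (psi hW) := by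
  letI : Algebra Γ(X, W) (X.presheaf.stalk (gpt hW)) := (gam hW).toAlgebra
  haveI := isFractionRing_stalk hW
  exact (IsLocalization.algEquiv (nonZeroDivisors Γ(X, W)) (X.presheaf.stalk (gpt hW))
    (FractionRing Γ(X, W))).injective

/-- Sections over an open containing the generic point, as elements of the fraction field. -/
noncomputable def phi (T : X.Opens) (hξ : gpt hW ∈ T) : Γ(X, T) →+* FractionRing Γ(X, W) :=
  (psi hW).comp (X.presheaf.germ T (gpt hW) hξ).hom

theorem phi_res {T T' : X.Opens} (h : T' ≤ T) (hξ : gpt hW ∈ T') (s : Γ(X, T)) :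
    phi hW T' hξ (X.presheaf.map (homOfLE h).op s) = phi hW T (h hξ) s := by
  unfold phi
  simp only [RingHom.comp_apply]
  congr 1
  exact X.presheaf.germ_res_apply (homOfLE h) (gpt hW) hξ s

theorem phi_self (a : Γ(X, W)) :
    phi hW W (gpt_mem hW) a = algebraMap _ (FractionRing Γ(X, W)) a := psi_gam hW a

theorem phi_res_self {T : X.Opens} (h : T ≤ W) (hξ : gpt hW ∈ T) (a : Γ(X, W)) :
    phi hW T hξ (X.presheaf.map (homOfLE h).op a) = algebraMap _ (FractionRing Γ(X, W)) a := by
  rw [phi_res, phi_self]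

theorem algebraMap_ne_zero {g : Γ(X, W)} (hg : g ≠ 0) :
    algebraMap Γ(X, W) (FractionRing Γ(X, W)) g ≠ 0 := by
  intro h
  exact hg (IsFractionRing.injective Γ(X, W) (FractionRing Γ(X, W)) (h.trans (map_zero _).symm))

/-- Sections over a basic open are fractions with a power of `g` as denominator. -/
theorem phi_inAw (g : Γ(X, W)) (hξ : gpt hW ∈ X.basicOpen g) (s : Γ(X, X.basicOpen g)) :
    InAw Γ(X, W) g (phi hW (X.basicOpen g) hξ s) := by
  haveI := hW.isLocalization_basicOpen g
  obtain ⟨⟨a, ⟨_, n, rfl⟩⟩, h⟩ := IsLocalization.surj (Submonoid.powers g) s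
  refine ⟨a, n, ?_⟩
  have h' : s * X.presheaf.map (homOfLE (X.basicOpen_le g)).op (g ^ n) =
      X.presheaf.map (homOfLE (X.basicOpen_le g)).op a := h
  have := congrArg (phi hW (X.basicOpen g) hξ) h'
  rw [map_mul, phi_res_self, phi_res_self, map_pow] at this
  exact this

/-- `phi` is injective on opens inside `W`. -/
theorem phi_injective {T : X.Opens} (hT : T ≤ W) (hξ : gpt hW ∈ T) :
    Function.Injective (phi hW T hξ) := by
  rw [injective_iff_map_eq_zero]
  intro s hs
  apply eq_of_locally_eq_ptsX s 0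
  intro y hy
  obtain ⟨g, hgT, hyg⟩ := hW.exists_basicOpen_le ⟨y, hy⟩ (hT hy)
  refine ⟨X.basicOpen g, hgT, hyg, ?_⟩
  rw [map_zero]
  have hg0 : g ≠ 0 := ne_zero_of_mem_basicOpen hyg
  have hξg : gpt hW ∈ X.basicOpen g := gpt_mem_basicOpen hW hg0
  set s' := X.presheaf.map (homOfLE hgT).op s with hs'
  have hs'0 : phi hW (X.basicOpen g) hξg s' = 0 := by rw [hs', phi_res, hs]
  haveI := hW.isLocalization_basicOpen g
  obtain ⟨⟨a, ⟨_, n, rfl⟩⟩, h⟩ := IsLocalization.surj (Submonoid.powers g) s'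
  have h' : s' * X.presheaf.map (homOfLE (X.basicOpen_le g)).op (g ^ n) =
      X.presheaf.map (homOfLE (X.basicOpen_le g)).op a := h
  have h1 := congrArg (phi hW (X.basicOpen g) hξg) h'
  rw [map_mul, hs'0, zero_mul, phi_res_self] at h1
  have ha : a = 0 :=
    IsFractionRing.injective Γ(X, W) (FractionRing Γ(X, W)) (h1.symm.trans (map_zero _).symm)
  rw [ha, map_zero, map_pow] at h'
  have hu : IsUnit (X.presheaf.map (homOfLE (X.basicOpen_le g)).op g) :=
    RingedSpace.isUnit_res_basicOpen _ g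
  exact (hu.pow n).mul_left_eq_zero.mp h'

/-- Elements of `A[1/g]` are sections over `D(g)`. -/
theorem exists_of_inAw {g : Γ(X, W)} (hg : g ≠ 0) {z : FractionRing Γ(X, W)}
    (hz : InAw Γ(X, W) g z) :
    ∃ s : Γ(X, X.basicOpen g), phi hW (X.basicOpen g) (gpt_mem_basicOpen hW hg) s = z := by
  obtain ⟨a, n, ha⟩ := hz
  have hu : IsUnit (X.presheaf.map (homOfLE (X.basicOpen_le g)).op g) :=
    RingedSpace.isUnit_res_basicOpen _ g
  obtain ⟨v, hv⟩ := (hu.pow n).exists_left_inv
  refine ⟨X.presheaf.map (homOfLE (X.basicOpen_le g)).op a * v, ?_⟩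
  have h1 : phi hW (X.basicOpen g) (gpt_mem_basicOpen hW hg) v *
      algebraMap _ (FractionRing Γ(X, W)) g ^ n = 1 := by
    have := congrArg (phi hW (X.basicOpen g) (gpt_mem_basicOpen hW hg)) hv
    rw [map_mul, map_pow, phi_res_self, map_one] at this
    exact this
  have hgn : algebraMap Γ(X, W) (FractionRing Γ(X, W)) g ^ n ≠ 0 :=
    pow_ne_zero n (algebraMap_ne_zero hg)
  rw [map_mul, phi_res_self, ← ha]
  calc z * algebraMap Γ(X, W) (FractionRing Γ(X, W)) g ^ n *
        phi hW (X.basicOpen g) (gpt_mem_basicOpen hW hg) v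
      = z * (phi hW (X.basicOpen g) (gpt_mem_basicOpen hW hg) v *
          algebraMap Γ(X, W) (FractionRing Γ(X, W)) g ^ n) := by ring
    _ = z := by rw [h1, mul_one]

/-- Units of `A[1/g]` are unit sections over `D(g)`. -/
theorem exists_unit_of_unitAw {g : Γ(X, W)} (hg : g ≠ 0) {z : FractionRing Γ(X, W)}
    (hz : UnitAw Γ(X, W) g z) :
    ∃ s : Γ(X, X.basicOpen g), IsUnit s ∧
      phi hW (X.basicOpen g) (gpt_mem_basicOpen hW hg) s = z := by
  obtain ⟨s, hs⟩ := exists_of_inAw hW hg hz.2.1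
  obtain ⟨s', hs'⟩ := exists_of_inAw hW hg hz.2.2
  refine ⟨s, IsUnit.of_mul_eq_one s' ?_, hs⟩
  apply phi_injective hW (X.basicOpen_le g) (gpt_mem_basicOpen hW hg)
  rw [map_mul, hs, hs', map_one, mul_inv_cancel₀ hz.1]

/-- Unit sections over `D(g)` are units of `A[1/g]`. -/
theorem unitAw_of_isUnit (g : Γ(X, W)) (hξ : gpt hW ∈ X.basicOpen g)
    {s : Γ(X, X.basicOpen g)} (hs : IsUnit s) :
    UnitAw Γ(X, W) g (phi hW (X.basicOpen g) hξ s) := by
  obtain ⟨v, hv⟩ := hs.exists_right_inv
  have h1 : phi hW (X.basicOpen g) hξ s * phi hW (X.basicOpen g) hξ v = 1 := by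
    rw [← map_mul, hv, map_one]
  have hne : phi hW (X.basicOpen g) hξ s ≠ 0 := left_ne_zero_of_mul_eq_one h1
  refine ⟨hne, phi_inAw hW g hξ s, ?_⟩
  have : (phi hW (X.basicOpen g) hξ s)⁻¹ = phi hW (X.basicOpen g) hξ v :=
    inv_eq_of_mul_eq_one_right h1
  rw [this]
  exact phi_inAw hW g hξ v

section Stalk

variable {y : X} (hy : y ∈ W)

/-- The local ring at a point of `W`, inside the fraction field. -/
noncomputable def phiStalk : X.presheaf.stalk y →+* FractionRing Γ(X, W) :=
  (psi hW).comp (X.presheaf.stalkSpecializes (gpt_specializes hW hy)).hom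

theorem phiStalk_germ {T : X.Opens} (hyT : y ∈ T) (s : Γ(X, T)) :
    phiStalk hW hy (X.presheaf.germ T y hyT s) =
      phi hW T ((gpt_specializes hW hy).mem_open T.isOpen hyT) s := by
  unfold phiStalk phi
  simp only [RingHom.comp_apply]
  congr 1
  have := X.presheaf.germ_stalkSpecializes (U := T) hyT (gpt_specializes hW hy)
  rw [← this]; rfl

end Stalk

end Groth.Agent.Lib.Helper64.ExtGeneric
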