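import Mathlib
import Groth.Agent.Lib.Helper64.ExtGeneric
import Groth.Agent.Lib.Helper64.ExtFam
import Groth.Agent.Lib.Helper64.LocFact

/-!
# The local extension step (helper64)

Given a good family of frames covering `U` and a point `x ∉ U` whose local ring is factorial, there
is a frame around `x` compatible with the whole family.
-/

set_option autoImplicit false
set_option linter.style.haveILetI false
universe u

open AlgebraicGeometry CategoryTheory TopologicalSpace Opposite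

namespace Groth.Agent.Lib.Helper64.ExtLocal

open Groth.Agent.Lib.Lead.Inv Groth.Agent.Lib.Lead.QCohAff Groth.Agent.Lib.Lead.SheafGlue
open Groth.Agent.Lib.Helper64.UfdPic Groth.Agent.Lib.Helper64.UfdPicGen
open Groth.Agent.Lib.Helper40.SSh Groth.Agent.Lib.Helper64.ExtFrames
open Groth.Agent.Lib.Helper64.ExtFam Groth.Agent.Lib.Helper64.ExtGeneric
open Groth.Agent.Lib.Helper64.ExtAlg

variable {X : Scheme.{u}}

/-- A point with integral local ring on a locally Noetherian scheme has an integral affine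
neighbourhood. -/
theorem exists_integral_affine_nhd [IsLocallyNoetherian X] (x : X)
    [IsDomain (X.presheaf.stalk x)] :
    ∃ W : X.Opens, IsAffineOpen W ∧ x ∈ W ∧ IsDomain Γ(X, W) := by
  obtain ⟨_, ⟨W₀, hW₀ : IsAffineOpen W₀, rfl⟩, hxW₀, -⟩ :=
    X.isBasis_affineOpens.exists_subset_of_mem_open (Set.mem_univ x) isOpen_univ
  haveI : IsNoetherianRing Γ(X, W₀) := IsLocallyNoetherian.component_noetherian ⟨W₀, hW₀⟩
  letI : Algebra Γ(X, W₀) (X.presheaf.stalk x) :=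
    TopCat.Presheaf.algebra_section_stalk X.presheaf ⟨x, hxW₀⟩
  haveI : IsLocalization.AtPrime (X.presheaf.stalk x) (hW₀.primeIdealOf ⟨x, hxW₀⟩).asIdeal :=
    hW₀.isLocalization_stalk ⟨x, hxW₀⟩
  set 𝔭 := (hW₀.primeIdealOf ⟨x, hxW₀⟩).asIdeal with h𝔭
  set I : Ideal Γ(X, W₀) := RingHom.ker (algebraMap Γ(X, W₀) (X.presheaf.stalk x)) with hI
  have hIfg : I.FG := IsNoetherian.noetherian I
  obtain ⟨c, hc, hcI⟩ := LocFact.exists_uniform_denominator 𝔭 I hIfg 0 (by
    intro b hb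
    have hb0 : algebraMap Γ(X, W₀) (X.presheaf.stalk x) b = 0 := hb
    obtain ⟨m, hm⟩ := (IsLocalization.map_eq_zero_iff 𝔭.primeCompl (X.presheaf.stalk x) b).1 hb0
    exact ⟨m, m.2, 0, by rw [mul_comm, hm, zero_mul]⟩)
  have hxc : x ∈ X.basicOpen c :=
    (mem_basicOpen_iff_notMem_primeIdealOf hW₀ x hxW₀ c).2 hc
  refine ⟨X.basicOpen c, hW₀.basicOpen c, hxc, ?_⟩
  have hinj : Function.Injective (X.presheaf.germ (X.basicOpen c) x hxc).hom := by
    rw [injective_iff_map_eq_zero]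
    intro s hs
    haveI := hW₀.isLocalization_basicOpen c
    obtain ⟨⟨a, ⟨_, n, rfl⟩⟩, h⟩ := IsLocalization.surj (Submonoid.powers c) s
    have h' : s * X.presheaf.map (homOfLE (X.basicOpen_le c)).op (c ^ n) =
        X.presheaf.map (homOfLE (X.basicOpen_le c)).op a := h
    have h1 := congrArg (X.presheaf.germ (X.basicOpen c) x hxc).hom h'
    rw [map_mul, hs, zero_mul] at h1
    have h2 : algebraMap Γ(X, W₀) (X.presheaf.stalk x) a = 0 := by
      have := X.presheaf.germ_res_apply (homOfLE (X.basicOpen_le c)) x hxc a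
      exact this.symm.trans h1.symm
    obtain ⟨d, hd⟩ := hcI a h2
    rw [zero_mul] at hd
    have hu : IsUnit (X.presheaf.map (homOfLE (X.basicOpen_le c)).op c) :=
      RingedSpace.isUnit_res_basicOpen _ c
    have h3 : X.presheaf.map (homOfLE (X.basicOpen_le c)).op a = 0 := by
      have := congrArg (X.presheaf.map (homOfLE (X.basicOpen_le c)).op) hd
      rw [map_mul, map_zero] at this
      exact hu.mul_left_eq_zero.mp this
    rw [h3, map_pow] at h'
    exact (hu.pow n).mul_left_eq_zero.mp h'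
  exact Function.Injective.isDomain _ hinj

/-- Opens inside a Noetherian affine open are quasi-compact. -/
theorem isCompact_of_le_affine [IsLocallyNoetherian X] {W : X.Opens} (hW : IsAffineOpen W)
    (t : Set X) (ht : t ⊆ W) : IsCompact t := by
  haveI : IsNoetherianRing Γ(X, W) := IsLocallyNoetherian.component_noetherian ⟨W, hW⟩
  exact (noetherianSpace_set_iff (W : Set X)).mp (noetherianSpace_of_isAffineOpen W hW) t ht

/-- Gluing over an arbitrary index type. -/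
theorem exists_glue_idx (F : X.Modules) {ι : Type u} {T : X.Opens} (V : ι → X.Opens)
    (hV : ∀ i, V i ≤ T) (hcov : T ≤ iSup V) (c : ∀ i, Γ(F, V i))
    (hc : ∀ i j, F.presheaf.map (homOfLE (inf_le_left : V i ⊓ V j ≤ V i)).op (c i) =
      F.presheaf.map (homOfLE (inf_le_right : V i ⊓ V j ≤ V j)).op (c j)) :
    ∃ r : Γ(F, T), ∀ i, F.presheaf.map (homOfLE (hV i)).op r = c i := by
  obtain ⟨r, hr, -⟩ := (shf F).existsUnique_gluing' V T (fun i => homOfLE (hV i)) hcov c (by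
    intro i j
    exact hc i j)
  exact ⟨r, hr⟩

section Ratio

variable {U : X.Opens} {M : X.Modules} {𝓕 : Set (Fr M)} (hF : IsGoodFam U 𝓕)

/-- The chosen transition unit between two members of a good family. -/
noncomputable def trans {q q' : Fr M} (hq : q ∈ 𝓕) (hq' : q' ∈ 𝓕) : Γ(X, q.1 ⊓ q'.1) :=
  Classical.choose (hF.compat q hq q' hq')

theorem isUnit_trans {q q' : Fr M} (hq : q ∈ 𝓕) (hq' : q' ∈ 𝓕) : IsUnit (trans hF hq hq') :=
  (Classical.choose_spec (hF.compat q hq q' hq')).1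

theorem trans_spec {q q' : Fr M} (hq : q ∈ 𝓕) (hq' : q' ∈ 𝓕) :
    M.presheaf.map (homOfLE (inf_le_right : q.1 ⊓ q'.1 ≤ q'.1)).op q'.2 =
      trans hF hq hq' • M.presheaf.map (homOfLE (inf_le_left : q.1 ⊓ q'.1 ≤ q.1)).op q.2 :=
  (Classical.choose_spec (hF.compat q hq q' hq')).2

/-- Restricted form of `trans_spec`. -/
theorem trans_spec_res {q q' : Fr M} (hq : q ∈ 𝓕) (hq' : q' ∈ 𝓕) {T : X.Opens}
    (hT : T ≤ q.1 ⊓ q'.1) :
    M.presheaf.map (homOfLE (hT.trans inf_le_right)).op q'.2 =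
      X.presheaf.map (homOfLE hT).op (trans hF hq hq') •
        M.presheaf.map (homOfLE (hT.trans inf_le_left)).op q.2 := by
  have := congrArg (M.presheaf.map (homOfLE hT).op) (trans_spec hF hq hq')
  rw [res_smul, res_res, res_res] at this
  exact this

variable {W : X.Opens} (hW : IsAffineOpen W) [IsDomain Γ(X, W)]

/-- The transition unit as an element of the fraction field. -/
noncomputable def rho {q q' : Fr M} (hq : q ∈ 𝓕) (hq' : q' ∈ 𝓕) (hξ : gpt hW ∈ q.1 ⊓ q'.1) :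
    FractionRing Γ(X, W) :=
  phi hW _ hξ (trans hF hq hq')

theorem rho_res {q q' : Fr M} (hq : q ∈ 𝓕) (hq' : q' ∈ 𝓕) {T : X.Opens} (hT : T ≤ q.1 ⊓ q'.1)
    (hξ : gpt hW ∈ T) :
    phi hW T hξ (X.presheaf.map (homOfLE hT).op (trans hF hq hq')) = rho hF hW hq hq' (hT hξ) := by
  unfold rho
  rw [phi_res]

theorem rho_ne_zero {q q' : Fr M} (hq : q ∈ 𝓕) (hq' : q' ∈ 𝓕) (hξ : gpt hW ∈ q.1 ⊓ q'.1) :
    rho hF hW hq hq' hξ ≠ 0 := by
  have : IsUnit (rho hF hW hq hq' hξ) := (isUnit_trans hF hq hq').map _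
  exact this.ne_zero

theorem rho_mul (hD : DenseDom U) {q q' q'' : Fr M} (hq : q ∈ 𝓕) (hq' : q' ∈ 𝓕) (hq'' : q'' ∈ 𝓕)
    (h1 : gpt hW ∈ q.1 ⊓ q'.1) (h2 : gpt hW ∈ q'.1 ⊓ q''.1) (h3 : gpt hW ∈ q.1 ⊓ q''.1) :
    rho hF hW hq hq'' h3 = rho hF hW hq hq' h1 * rho hF hW hq' hq'' h2 := by
  set T : X.Opens := q.1 ⊓ q'.1 ⊓ q''.1 with hT
  have hξT : gpt hW ∈ T := ⟨h1, h2.2⟩
  have hT1 : T ≤ q.1 ⊓ q'.1 := inf_le_left
  have hT2 : T ≤ q'.1 ⊓ q''.1 := le_inf (inf_le_left.trans inf_le_right) inf_le_right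
  have hT3 : T ≤ q.1 ⊓ q''.1 := le_inf (inf_le_left.trans inf_le_left) inf_le_right
  have e1 := trans_spec_res hF hq hq' hT1
  have e2 := trans_spec_res hF hq' hq'' hT2
  have e3 := trans_spec_res hF hq hq'' hT3
  have key : X.presheaf.map (homOfLE hT3).op (trans hF hq hq'') =
      X.presheaf.map (homOfLE hT2).op (trans hF hq' hq'') *
        X.presheaf.map (homOfLE hT1).op (trans hF hq hq') := by
    apply (hF.frame q hq).eq_of_smul_eq hD (hT1.trans inf_le_left)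
    rw [mul_smul, ← e1, ← e3]
    exact e2
  have := congrArg (phi hW T hξT) key
  rw [map_mul, rho_res, rho_res, rho_res] at this
  rw [this, mul_comm]

theorem rho_unitAw {q q' : Fr M} (hq : q ∈ 𝓕) (hq' : q' ∈ 𝓕) (g : Γ(X, W)) (hg : g ≠ 0)
    (hle : X.basicOpen g ≤ q.1 ⊓ q'.1) :
    UnitAw Γ(X, W) g (rho hF hW hq hq' (hle (gpt_mem_basicOpen hW hg))) := by
  have := unitAw_of_isUnit hW g (gpt_mem_basicOpen hW hg)
    ((isUnit_trans hF hq hq').map (X.presheaf.map (homOfLE hle).op).hom)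
  rw [← rho_res hF hW hq hq' hle (gpt_mem_basicOpen hW hg)]
  exact this

end Ratio

/-- **Local extension step.** -/
theorem exists_compat_frame [IsLocallyNoetherian X] {U : X.Opens} {M : X.Modules}
    (hD : DenseDom U)
    (hpush : ∀ T : X.Opens,
      Function.Bijective (M.presheaf.map (homOfLE (inf_le_left : T ⊓ U ≤ T)).op))
    {𝓕 : Set (Fr M)} (hF : IsGoodFam U 𝓕) (hcovU : ∀ y ∈ U, ∃ p ∈ 𝓕, y ∈ p.1)
    (x : X) (hxU : x ∉ U) [UniqueFactorizationMonoid (X.presheaf.stalk x)] :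
    ∃ p : Fr M, x ∈ p.1 ∧ IsFrame U M p.1 p.2 ∧ ∀ q ∈ 𝓕, Compat M q.2 p.2 := by
  classical
  obtain ⟨hdom, y₀, hy₀U, hy₀x⟩ := hD x hxU
  haveI := hdom
  obtain ⟨W, hW, hxW, hWdom⟩ := exists_integral_affine_nhd x
  haveI := hWdom
  -- the index type
  let J := {i : Fr M × Γ(X, W) // i.1 ∈ 𝓕 ∧ X.basicOpen i.2 ≤ i.1.1 ∧ i.2 ≠ 0}
  let qq : J → Fr M := fun j => j.1.1
  let gg : J → Γ(X, W) := fun j => j.1.2
  have hqq : ∀ j : J, qq j ∈ 𝓕 := fun j => j.2.1
  have hgq : ∀ j : J, X.basicOpen (gg j) ≤ (qq j).1 := fun j => j.2.2.1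
  have hg0 : ∀ j : J, gg j ≠ 0 := fun j => j.2.2.2
  have hcov : ∀ y ∈ W, (∃ p ∈ 𝓕, y ∈ p.1) → ∃ j : J, y ∈ X.basicOpen (gg j) := by
    rintro y hyW ⟨p, hp, hyp⟩
    obtain ⟨g, hgp, hyg⟩ := hW.exists_basicOpen_le ⟨y, hyp⟩ hyW
    exact ⟨⟨(p, g), hp, hgp, ne_zero_of_mem_basicOpen hyg⟩, hyg⟩
  -- finite subcover
  set S : Set X := {y | y ∈ W ∧ ∃ p ∈ 𝓕, y ∈ p.1} with hS
  have hScomp : IsCompact S := isCompact_of_le_affine hW S (fun y hy => hy.1)
  obtain ⟨t, ht⟩ := hScomp.elim_finite_subcover (fun j : J => (X.basicOpen (gg j) : Set X))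
    (fun j => (X.basicOpen (gg j)).isOpen) (by
      intro y hy
      obtain ⟨j, hj⟩ := hcov y hy.1 hy.2
      exact Set.mem_iUnion.2 ⟨j, hj⟩)
  have ht' : ∀ y ∈ W, (∃ p ∈ 𝓕, y ∈ p.1) → ∃ j ∈ t, y ∈ X.basicOpen (gg j) := by
    intro y hyW hy
    have := ht ⟨hyW, hy⟩
    simp only [Set.mem_iUnion] at this
    obtain ⟨j, hjt, hyj⟩ := this
    exact ⟨j, hjt, hyj⟩
  -- base index
  have hy₀W : y₀ ∈ W := hy₀x.mem_open W.isOpen hxW
  obtain ⟨j₀, hj₀t, -⟩ := ht' y₀ hy₀W (hcovU y₀ hy₀U)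
  have hξg : ∀ j : J, gpt hW ∈ X.basicOpen (gg j) := fun j => gpt_mem_basicOpen hW (hg0 j)
  have hξq : ∀ j : J, gpt hW ∈ (qq j).1 := fun j => hgq j (hξg j)
  -- the ratios
  let h : J → FractionRing Γ(X, W) :=
    fun j => rho hF hW (hqq j₀) (hqq j) ⟨hξq j₀, hξq j⟩
  have hh : ∀ j ∈ t, h j ≠ 0 := fun j _ => rho_ne_zero hF hW _ _ _
  have hratio : ∀ i j : J, h i / h j = rho hF hW (hqq j) (hqq i) ⟨hξq j, hξq i⟩ := by
    intro i j
    have := rho_mul hF hW hD (hqq j₀) (hqq j) (hqq i) ⟨hξq j₀, hξq j⟩ ⟨hξq j, hξq i⟩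
      ⟨hξq j₀, hξq i⟩
    change h i = h j * _ at this
    rw [this, mul_div_assoc, mul_comm, div_mul_cancel₀]
    exact rho_ne_zero hF hW _ _ _
  have hc : ∀ i ∈ t, ∀ j ∈ t, UnitAw Γ(X, W) (gg i * gg j) (h i / h j) := by
    intro i _ j _
    rw [hratio]
    have hle : X.basicOpen (gg i * gg j) ≤ (qq j).1 ⊓ (qq i).1 := by
      rw [Scheme.basicOpen_mul]
      exact le_inf (inf_le_right.trans (hgq j)) (inf_le_left.trans (hgq i))
    exact rho_unitAw hF hW (hqq j) (hqq i) (gg i * gg j) (mul_ne_zero (hg0 i) (hg0 j)) hle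
  -- the factorial local ring
  letI algAB : Algebra Γ(X, W) (X.presheaf.stalk x) :=
    TopCat.Presheaf.algebra_section_stalk X.presheaf ⟨x, hxW⟩
  haveI locB : IsLocalization.AtPrime (X.presheaf.stalk x) (hW.primeIdealOf ⟨x, hxW⟩).asIdeal :=
    hW.isLocalization_stalk ⟨x, hxW⟩
  letI algBK : Algebra (X.presheaf.stalk x) (FractionRing Γ(X, W)) := (phiStalk hW hxW).toAlgebra
  haveI : IsScalarTower Γ(X, W) (X.presheaf.stalk x) (FractionRing Γ(X, W)) :=
    IsScalarTower.of_algebraMap_eq (fun a => by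
      change algebraMap Γ(X, W) (FractionRing Γ(X, W)) a =
        phiStalk hW hxW (X.presheaf.germ W x hxW a)
      rw [phiStalk_germ, phi_self])
  haveI : IsFractionRing (X.presheaf.stalk x) (FractionRing Γ(X, W)) :=
    IsFractionRing.isFractionRing_of_isDomain_of_isLocalization
      (hW.primeIdealOf ⟨x, hxW⟩).asIdeal.primeCompl (X.presheaf.stalk x) (FractionRing Γ(X, W))
  obtain ⟨f, hf𝔭, τ, hτ0, hτ⟩ := exists_common_spread (hW.primeIdealOf ⟨x, hxW⟩).asIdeal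
    (X.presheaf.stalk x) t gg h hh hc
  have hxf : x ∈ X.basicOpen f := (mem_basicOpen_iff_notMem_primeIdealOf hW x hxW f).2 hf𝔭
  have hf0 : f ≠ 0 := ne_zero_of_mem_basicOpen hxf
  have hfg0 : ∀ j : J, f * gg j ≠ 0 := fun j => mul_ne_zero hf0 (hg0 j)
  have hξD : ∀ j : J, gpt hW ∈ X.basicOpen (f * gg j) := fun j => gpt_mem_basicOpen hW (hfg0 j)
  -- the unit sections
  have hc_ex : ∀ j : J, j ∈ t → ∃ c : Γ(X, X.basicOpen (f * gg j)), IsUnit c ∧
      phi hW (X.basicOpen (f * gg j)) (hξD j) c = τ / h j :=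
    fun j hj => exists_unit_of_unitAw hW (hfg0 j) (hτ j hj)
  choose c hcu hcphi using hc_ex
  have hDf : ∀ j : J, X.basicOpen (f * gg j) ≤ X.basicOpen f := by
    intro j; rw [Scheme.basicOpen_mul]; exact inf_le_left
  have hDg : ∀ j : J, X.basicOpen (f * gg j) ≤ X.basicOpen (gg j) := by
    intro j; rw [Scheme.basicOpen_mul]; exact inf_le_right
  have hDq : ∀ j : J, X.basicOpen (f * gg j) ≤ (qq j).1 := fun j => (hDg j).trans (hgq j)
  have hDW : ∀ j : J, X.basicOpen (f * gg j) ≤ W := fun j => X.basicOpen_le _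
  -- local generators
  let ε : ∀ j : J, j ∈ t → Γ(M, X.basicOpen (f * gg j)) :=
    fun j hj => c j hj • M.presheaf.map (homOfLE (hDq j)).op (qq j).2
  -- agreement on overlaps
  have hagree : ∀ (i j : J) (hi : i ∈ t) (hj : j ∈ t),
      M.presheaf.map (homOfLE (inf_le_left :
        X.basicOpen (f * gg i) ⊓ X.basicOpen (f * gg j) ≤ X.basicOpen (f * gg i))).op (ε i hi) =
      M.presheaf.map (homOfLE (inf_le_right :
        X.basicOpen (f * gg i) ⊓ X.basicOpen (f * gg j) ≤ X.basicOpen (f * gg j))).op (ε j hj) := by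
    intro i j hi hj
    set T : X.Opens := X.basicOpen (f * gg i) ⊓ X.basicOpen (f * gg j) with hT
    have hξT : gpt hW ∈ T := ⟨hξD i, hξD j⟩
    have hTq : T ≤ (qq j).1 ⊓ (qq i).1 := le_inf (inf_le_right.trans (hDq j)) (inf_le_left.trans (hDq i))
    have e1 := trans_spec_res hF (hqq j) (hqq i) hTq
    have key : X.presheaf.map (homOfLE (inf_le_left : T ≤ X.basicOpen (f * gg i))).op (c i hi) *
        X.presheaf.map (homOfLE hTq).op (trans hF (hqq j) (hqq i)) =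
        X.presheaf.map (homOfLE (inf_le_right : T ≤ X.basicOpen (f * gg j))).op (c j hj) := by
      apply phi_injective hW (inf_le_left.trans (hDW i)) hξT
      rw [map_mul, phi_res, rho_res, phi_res, hcphi, hcphi, ← hratio]
      have h1 : h i ≠ 0 := rho_ne_zero hF hW _ _ _
      have h2 : h j ≠ 0 := rho_ne_zero hF hW _ _ _
      field_simp
    change M.presheaf.map _ (c i hi • M.presheaf.map (homOfLE (hDq i)).op (qq i).2) =
      M.presheaf.map _ (c j hj • M.presheaf.map (homOfLE (hDq j)).op (qq j).2)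
    rw [res_smul, res_smul, res_res, res_res, e1, ← mul_smul, key]
  -- gluing over the `U`-part
  let ι' := {j : J // j ∈ t}
  let V : ι' → X.Opens := fun j => X.basicOpen (f * gg j.1) ⊓ U
  have hV : ∀ j : ι', V j ≤ X.basicOpen f ⊓ U := fun j => inf_le_inf_right U (hDf j.1)
  have hcovT : ∀ y ∈ X.basicOpen f, (∃ p ∈ 𝓕, y ∈ p.1) → ∃ j ∈ t, y ∈ X.basicOpen (f * gg j) := by
    intro y hyf hy
    obtain ⟨j, hjt, hyj⟩ := ht' y (X.basicOpen_le f hyf) hy
    refine ⟨j, hjt, ?_⟩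
    rw [Scheme.basicOpen_mul]
    exact ⟨hyf, hyj⟩
  have hcovV : X.basicOpen f ⊓ U ≤ iSup V := by
    intro y hy
    obtain ⟨j, hjt, hyj⟩ := hcovT y hy.1 (hcovU y hy.2)
    exact Opens.mem_iSup.2 ⟨⟨j, hjt⟩, hyj, hy.2⟩
  obtain ⟨e₀'', he₀''⟩ := exists_glue_idx M V hV hcovV
    (fun j => M.presheaf.map (homOfLE (inf_le_left : V j ≤ X.basicOpen (f * gg j.1))).op
      (ε j.1 j.2)) (by
      intro i j
      have := congrArg (M.presheaf.map (homOfLE (inf_le_inf inf_le_left inf_le_left :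
        V i ⊓ V j ≤ X.basicOpen (f * gg i.1) ⊓ X.basicOpen (f * gg j.1))).op)
        (hagree i.1 j.1 i.2 j.2)
      rw [res_res, res_res] at this
      rw [res_res, res_res]
      exact this)
  obtain ⟨e₀, he₀⟩ := (hpush (X.basicOpen f)).2 e₀''
  -- (★) the lifted section restricts to the local generators
  have hstar : ∀ (j : J) (hj : j ∈ t),
      M.presheaf.map (homOfLE (hDf j)).op e₀ = ε j hj := by
    intro j hj
    apply (hpush (X.basicOpen (f * gg j))).1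
    rw [res_res]
    have h1 := he₀'' ⟨j, hj⟩
    rw [← he₀, res_res] at h1
    exact h1
  refine ⟨⟨X.basicOpen f, e₀⟩, hxf, ?_, ?_⟩
  · -- frame
    change IsGen M (X.basicOpen f ⊓ U) (M.presheaf.map (homOfLE inf_le_left).op e₀)
    apply isGen_of_cover
    intro y hy
    obtain ⟨j, hjt, hyj⟩ := hcovT y hy.1 (hcovU y hy.2)
    refine ⟨V ⟨j, hjt⟩, hV ⟨j, hjt⟩, ⟨hyj, hy.2⟩, ?_⟩
    rw [he₀, he₀'' ⟨j, hjt⟩]
    change IsGen M _ (M.presheaf.map _ (c j hjt • M.presheaf.map (homOfLE (hDq j)).op (qq j).2))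
    rw [res_smul, res_res]
    apply IsGen.smul_unit
    · exact (hF.frame (qq j) (hqq j)).isGen_of_le _ inf_le_right
    · exact (hcu j hjt).map _
  · -- compatibility
    intro q hq
    apply compat_of_local hD (hF.frame q hq)
    intro y hy
    obtain ⟨j, hjt, hyj⟩ := hcovT y hy.2 ⟨q, hq, hy.1⟩
    have hTle : q.1 ⊓ X.basicOpen (f * gg j) ≤ q.1 ⊓ X.basicOpen f := inf_le_inf_left _ (hDf j)
    refine ⟨q.1 ⊓ X.basicOpen (f * gg j), hTle, ⟨hy.1, hyj⟩, ?_⟩
    have hTq : q.1 ⊓ X.basicOpen (f * gg j) ≤ q.1 ⊓ (qq j).1 := inf_le_inf_left _ (hDq j)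
    have e1 := trans_spec_res hF hq (hqq j) hTq
    refine ⟨X.presheaf.map (homOfLE (inf_le_right : q.1 ⊓ X.basicOpen (f * gg j) ≤ _)).op (c j hjt) *
      X.presheaf.map (homOfLE hTq).op (trans hF hq (hqq j)),
      ((hcu j hjt).map _).mul ((isUnit_trans hF hq (hqq j)).map _), ?_⟩
    have h2 := congrArg (M.presheaf.map (homOfLE (inf_le_right :
      q.1 ⊓ X.basicOpen (f * gg j) ≤ X.basicOpen (f * gg j))).op) (hstar j hjt)
    rw [res_res] at h2
    rw [h2]
    change M.presheaf.map _ (c j hjt • M.presheaf.map (homOfLE (hDq j)).op (qq j).2) = _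
    rw [res_smul, res_res, e1, mul_smul]

end Groth.Agent.Lib.Helper64.ExtLocal
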