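import Mathlib
import Groth.Agent.Lib.Helper64.ExtLocal

/-!
# Abstract extension theorem (helper64)

`M` an `O_X`-module on a locally Noetherian scheme, `U` an open such that `M` is locally free of
rank one on `U`, sections of `M` are determined on `U`, and the points outside `U` are factorial
and lie in the closure of `U`.  Then `M` contains an invertible submodule agreeing with `M` on `U`.
-/

set_option autoImplicit false
set_option linter.style.haveILetI false
universe u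

open AlgebraicGeometry CategoryTheory TopologicalSpace Opposite

namespace Groth.Agent.Lib.Helper64.ExtMain

open Groth.Agent.Lib.Lead.Inv Groth.Agent.Lib.Lead.QCohAff Groth.Agent.Lib.Lead.SheafGlue
open Groth.Agent.Lib.Helper64.UfdPic Groth.Agent.Lib.Helper64.UfdPicGen
open Groth.Agent.Lib.Helper40.SSh Groth.Agent.Lib.Helper64.ExtFrames
open Groth.Agent.Lib.Helper64.ExtFam Groth.Agent.Lib.Helper64.ExtLocal

variable {X : Scheme.{u}} {U : X.Opens} {M : X.Modules}

theorem isGoodFam_insert {𝓕 : Set (Fr M)} (hF : IsGoodFam U 𝓕) (p : Fr M)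
    (hp : IsFrame U M p.1 p.2) (hc : ∀ q ∈ 𝓕, Compat M q.2 p.2) :
    IsGoodFam U (insert p 𝓕) := by
  constructor
  · intro q hq
    rcases Set.mem_insert_iff.1 hq with rfl | hq
    · exact hp
    · exact hF.frame q hq
  · intro q hq q' hq'
    rcases Set.mem_insert_iff.1 hq with h1 | h1
    · rcases Set.mem_insert_iff.1 hq' with h2 | h2
      · rw [h1, h2]; exact compat_self _
      · rw [h1]; exact (hc q' h2).symm
    · rcases Set.mem_insert_iff.1 hq' with h2 | h2
      · rw [h2]; exact hc q h1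
      · exact hF.compat q h1 q' h2

/-- A maximal good family covers `X`. -/
theorem exists_good_cover [IsLocallyNoetherian X] (hD : DenseDom U)
    (hpush : ∀ T : X.Opens,
      Function.Bijective (M.presheaf.map (homOfLE (inf_le_left : T ⊓ U ≤ T)).op))
    (hloc : ∀ y ∈ U, ∃ W : X.Opens, y ∈ W ∧ W ≤ U ∧ ∃ e : Γ(M, W), IsGen M W e)
    (hufd : ∀ x : X, x ∉ U → UniqueFactorizationMonoid (X.presheaf.stalk x)) :
    ∃ 𝓕 : Set (Fr M), IsGoodFam U 𝓕 ∧ ∀ x : X, ∃ p ∈ 𝓕, x ∈ p.1 := by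
  obtain ⟨𝓕, hmax⟩ := zorn_subset {𝓕 : Set (Fr M) | IsGoodFam U 𝓕} (by
    intro c hc hchain
    refine ⟨⋃₀ c, ⟨?_, ?_⟩, fun s hs => Set.subset_sUnion_of_mem hs⟩
    · rintro p ⟨s, hs, hps⟩
      exact (hc hs).frame p hps
    · rintro p ⟨s, hs, hps⟩ q ⟨s', hs', hqs'⟩
      rcases hchain.total hs hs' with h | h
      · exact (hc hs').compat p (h hps) q hqs'
      · exact (hc hs).compat p hps q (h hqs'))
  have hF : IsGoodFam U 𝓕 := hmax.prop
  have hins : ∀ p : Fr M, IsFrame U M p.1 p.2 → (∀ q ∈ 𝓕, Compat M q.2 p.2) → p ∈ 𝓕 := by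
    intro p hp hc
    have h1 : IsGoodFam U (insert p 𝓕) := isGoodFam_insert hF p hp hc
    exact hmax.le_of_ge h1 (Set.subset_insert p 𝓕) (Set.mem_insert p 𝓕)
  have hcovU : ∀ y ∈ U, ∃ p ∈ 𝓕, y ∈ p.1 := by
    intro y hy
    obtain ⟨W, hyW, hWU, e, he⟩ := hloc y hy
    have hfr : IsFrame U M W e := isFrame_of_isGen he
    refine ⟨⟨W, e⟩, hins ⟨W, e⟩ hfr ?_, hyW⟩
    intro q hq
    exact compat_of_le (hF.frame q hq) hfr hWU
  refine ⟨𝓕, hF, ?_⟩
  intro x
  by_cases hx : x ∈ U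
  · exact hcovU x hx
  · haveI := hufd x hx
    obtain ⟨p, hxp, hp, hc⟩ := exists_compat_frame hD hpush hF hcovU x hx
    exact ⟨p, hins p hp hc, hxp⟩

/-- **Abstract extension theorem.** -/
theorem exists_invertible_subSh [IsLocallyNoetherian X] (hD : DenseDom U)
    (hpush : ∀ T : X.Opens,
      Function.Bijective (M.presheaf.map (homOfLE (inf_le_left : T ⊓ U ≤ T)).op))
    (hloc : ∀ y ∈ U, ∃ W : X.Opens, y ∈ W ∧ W ≤ U ∧ ∃ e : Γ(M, W), IsGen M W e)
    (hufd : ∀ x : X, x ∉ U → UniqueFactorizationMonoid (X.presheaf.stalk x)) :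
    ∃ (N : SubSh M) (hN : N.IsLocal), PicF.IsInvertible (N.toMod hN) ∧
      ∀ (T : X.Opens), T ≤ U → ∀ s : Γ(M, T), s ∈ N.obj T := by
  obtain ⟨𝓕, hF, hcov⟩ := exists_good_cover hD hpush hloc hufd
  exact ⟨famSub M 𝓕, famSub_isLocal M 𝓕, isInvertible_toMod hD hF hcov,
    fun T hT s => mem_famSub_of_le hF hT s⟩

end Groth.Agent.Lib.Helper64.ExtMain
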