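import Mathlib
import Groth.Agent.Lib.Helper64.ExtMain

/-!
# Extension of invertible modules across factorial points (helper64)

Application of `ExtMain.exists_invertible_subSh` to `j_* L ⊞ e_* O`, where `j : U → X` and
`e : X ∖ closure U → X`.
-/

set_option autoImplicit false
set_option linter.style.haveILetI false
universe u

open AlgebraicGeometry CategoryTheory TopologicalSpace Opposite Limits

namespace Groth.Agent.Lib.Helper64.ExtApply

open Groth.Agent.Lib.Lead.Inv Groth.Agent.Lib.Lead.QCohAff Groth.Agent.Lib.Lead.SheafGlue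
open Groth.Agent.Lib.Helper64.UfdPic Groth.Agent.Lib.Helper64.UfdPicGen
open Groth.Agent.Lib.Helper40.SSh Groth.Agent.Lib.Helper64.ExtFrames
open Groth.Agent.Lib.Helper64.ExtFam Groth.Agent.Lib.Helper64.ExtMain

variable {X : Scheme.{u}}

section Biprod

theorem app_res {A B : X.Modules} (φ : A ⟶ B) {T T' : X.Opens} (h : T' ≤ T) (s : Γ(A, T)) :
    φ.app T' (A.presheaf.map (homOfLE h).op s) = B.presheaf.map (homOfLE h).op (φ.app T s) := by
  have := φ.mapPresheaf.naturality (homOfLE h).op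
  exact congr($this s)

variable (A B : X.Modules)

theorem biprod_decomp {T : X.Opens} (s : Γ(A ⊞ B, T)) :
    s = (biprod.inl : A ⟶ A ⊞ B).app T ((biprod.fst : A ⊞ B ⟶ A).app T s) +
      (biprod.inr : B ⟶ A ⊞ B).app T ((biprod.snd : A ⊞ B ⟶ B).app T s) := by
  have h := biprod.total (X := A) (Y := B)
  have h2 := congr($(h).app T s)
  exact h2.symm

theorem fst_inl {T : X.Opens} (a : Γ(A, T)) :
    (biprod.fst : A ⊞ B ⟶ A).app T ((biprod.inl : A ⟶ A ⊞ B).app T a) = a := by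
  have h := biprod.inl_fst (X := A) (Y := B)
  exact congr($(h).app T a)

theorem snd_inl {T : X.Opens} (a : Γ(A, T)) :
    (biprod.snd : A ⊞ B ⟶ B).app T ((biprod.inl : A ⟶ A ⊞ B).app T a) = 0 := by
  have h := biprod.inl_snd (X := A) (Y := B)
  exact congr($(h).app T a)

theorem fst_inr {T : X.Opens} (b : Γ(B, T)) :
    (biprod.fst : A ⊞ B ⟶ A).app T ((biprod.inr : B ⟶ A ⊞ B).app T b) = 0 := by
  have h := biprod.inr_fst (X := A) (Y := B)
  exact congr($(h).app T b)

theorem snd_inr {T : X.Opens} (b : Γ(B, T)) :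
    (biprod.snd : A ⊞ B ⟶ B).app T ((biprod.inr : B ⟶ A ⊞ B).app T b) = b := by
  have h := biprod.inr_snd (X := A) (Y := B)
  exact congr($(h).app T b)

theorem biprod_ext {T : X.Opens} (s s' : Γ(A ⊞ B, T))
    (h1 : (biprod.fst : A ⊞ B ⟶ A).app T s = (biprod.fst : A ⊞ B ⟶ A).app T s')
    (h2 : (biprod.snd : A ⊞ B ⟶ B).app T s = (biprod.snd : A ⊞ B ⟶ B).app T s') : s = s' := by
  rw [biprod_decomp A B s, biprod_decomp A B s', h1, h2]

theorem biprod_res_bijective {T T' : X.Opens} (h : T' ≤ T)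
    (hA : Function.Bijective (A.presheaf.map (homOfLE h).op))
    (hB : Function.Bijective (B.presheaf.map (homOfLE h).op)) :
    Function.Bijective ((A ⊞ B).presheaf.map (homOfLE h).op) := by
  constructor
  · intro s s' hss'
    apply biprod_ext
    · apply hA.1
      rw [← app_res, ← app_res, hss']
    · apply hB.1
      rw [← app_res, ← app_res, hss']
  · intro s'
    obtain ⟨a, ha⟩ := hA.2 ((biprod.fst : A ⊞ B ⟶ A).app T' s')
    obtain ⟨b, hb⟩ := hB.2 ((biprod.snd : A ⊞ B ⟶ B).app T' s')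
    refine ⟨(biprod.inl : A ⟶ A ⊞ B).app T a + (biprod.inr : B ⟶ A ⊞ B).app T b, ?_⟩
    rw [map_add, ← app_res, ← app_res, ha, hb]
    exact (biprod_decomp A B s').symm

variable {A B}

theorem isGen_inl {W : X.Opens} {e : Γ(A, W)} (he : IsGen A W e)
    (hB : ∀ T : X.Opens, T ≤ W → ∀ b : Γ(B, T), b = 0) :
    IsGen (A ⊞ B) W ((biprod.inl : A ⟶ A ⊞ B).app W e) := by
  intro T hT
  have hres : (A ⊞ B).presheaf.map (homOfLE hT).op ((biprod.inl : A ⟶ A ⊞ B).app W e) =
      (biprod.inl : A ⟶ A ⊞ B).app T (A.presheaf.map (homOfLE hT).op e) :=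
    (app_res biprod.inl hT e).symm
  constructor
  · intro r r' hrr'
    simp only at hrr'
    rw [hres, ← Scheme.Modules.Hom.app_smul, ← Scheme.Modules.Hom.app_smul] at hrr'
    have := congrArg ((biprod.fst : A ⊞ B ⟶ A).app T) hrr'
    rw [fst_inl, fst_inl] at this
    exact (he T hT).1 this
  · intro s
    obtain ⟨r, hr⟩ := (he T hT).2 ((biprod.fst : A ⊞ B ⟶ A).app T s)
    refine ⟨r, ?_⟩
    simp only at hr ⊢
    rw [hres, ← Scheme.Modules.Hom.app_smul, hr]
    apply biprod_ext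
    · rw [fst_inl]
    · rw [snd_inl]; exact (hB T hT _).symm

theorem isGen_inr {W : X.Opens} {e : Γ(B, W)} (he : IsGen B W e)
    (hA : ∀ T : X.Opens, T ≤ W → ∀ a : Γ(A, T), a = 0) :
    IsGen (A ⊞ B) W ((biprod.inr : B ⟶ A ⊞ B).app W e) := by
  intro T hT
  have hres : (A ⊞ B).presheaf.map (homOfLE hT).op ((biprod.inr : B ⟶ A ⊞ B).app W e) =
      (biprod.inr : B ⟶ A ⊞ B).app T (B.presheaf.map (homOfLE hT).op e) :=
    (app_res biprod.inr hT e).symm
  constructor
  · intro r r' hrr'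
    simp only at hrr'
    rw [hres, ← Scheme.Modules.Hom.app_smul, ← Scheme.Modules.Hom.app_smul] at hrr'
    have := congrArg ((biprod.snd : A ⊞ B ⟶ B).app T) hrr'
    rw [snd_inr, snd_inr] at this
    exact (he T hT).1 this
  · intro s
    obtain ⟨r, hr⟩ := (he T hT).2 ((biprod.snd : A ⊞ B ⟶ B).app T s)
    refine ⟨r, ?_⟩
    simp only at hr ⊢
    rw [hres, ← Scheme.Modules.Hom.app_smul, hr]
    apply biprod_ext
    · rw [fst_inr]; exact (hA T hT _).symm
    · rw [snd_inr]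

end Biprod

section Push

variable {Y : Scheme.{u}} (f : Y ⟶ X) (L : Y.Modules)

theorem push_res_bijective {T T' : X.Opens} (h : T' ≤ T) (heq : f ⁻¹ᵁ T' = f ⁻¹ᵁ T) :
    Function.Bijective (((Scheme.Modules.pushforward f).obj L).presheaf.map (homOfLE h).op) :=
  res_bijective_of_eq L heq

theorem push_eq_zero {T : X.Opens} (h : f ⁻¹ᵁ T = ⊥)
    (b : Γ((Scheme.Modules.pushforward f).obj L, T)) : b = 0 :=
  eq_zero_of_bot L h b

end Push

section Closure

/-- In the spectrum of a Noetherian ring, a point of the closure of an open set has a generization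
in the open set. -/
theorem exists_le_of_mem_closure {B : Type u} [CommRing B] [IsNoetherianRing B]
    (U' : Set (PrimeSpectrum B)) (hU' : IsOpen U') (p : PrimeSpectrum B) (hp : p ∈ closure U') :
    ∃ q ∈ U', q ≤ p := by
  have hfin : (minimalPrimes B).Finite := minimalPrimes.finite_of_isNoetherianRing B
  set C : Set (PrimeSpectrum B) := ⋃ I ∈ {I ∈ minimalPrimes B | ¬ I ≤ p.asIdeal},
      PrimeSpectrum.zeroLocus (I : Set B) with hC
  have hclosed : IsClosed C :=
    (hfin.subset (fun I hI => hI.1)).isClosed_biUnion fun I _ => PrimeSpectrum.isClosed_zeroLocus _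
  have hpC : p ∈ Cᶜ := by
    intro hmem
    simp only [hC, Set.mem_iUnion, exists_prop, PrimeSpectrum.mem_zeroLocus,
      SetLike.coe_subset_coe] at hmem
    obtain ⟨I, ⟨-, hI⟩, hle⟩ := hmem
    exact hI hle
  obtain ⟨z, hzC, hzU⟩ := mem_closure_iff.1 hp Cᶜ hclosed.isOpen_compl hpC
  obtain ⟨I, hI, hIz⟩ := Ideal.exists_minimalPrimes_le (bot_le : (⊥ : Ideal B) ≤ z.asIdeal)
  have hIprime : I.IsPrime := hI.1.1
  have hIp : I ≤ p.asIdeal := by
    by_contra hcon
    apply hzC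
    simp only [hC, Set.mem_iUnion, exists_prop, PrimeSpectrum.mem_zeroLocus,
      SetLike.coe_subset_coe]
    exact ⟨I, ⟨hI, hcon⟩, hIz⟩
  refine ⟨⟨I, hIprime⟩, ?_, hIp⟩
  have hsp : (⟨I, hIprime⟩ : PrimeSpectrum B) ⤳ z :=
    (PrimeSpectrum.le_iff_specializes _ _).mp hIz
  exact hsp.mem_open hU' hzU

/-- On a locally Noetherian scheme, a point of the closure of an open set has a generization in
the open set. -/
theorem exists_specializes_of_mem_closure [IsLocallyNoetherian X] (U : X.Opens) (x : X)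
    (hx : x ∈ closure (U : Set X)) : ∃ y ∈ U, y ⤳ x := by
  obtain ⟨_, ⟨W, hW : IsAffineOpen W, rfl⟩, hxW, -⟩ :=
    X.isBasis_affineOpens.exists_subset_of_mem_open (Set.mem_univ x) isOpen_univ
  haveI : IsNoetherianRing Γ(X, W) := IsLocallyNoetherian.component_noetherian ⟨W, hW⟩
  have hx0 : hW.fromSpec (hW.primeIdealOf ⟨x, hxW⟩) = x := hW.fromSpec_primeIdealOf ⟨x, hxW⟩
  set U' : Set ↥(Spec Γ(X, W)) := hW.fromSpec ⁻¹' (U : Set X) with hU'
  have hU'open : IsOpen U' := U.isOpen.preimage hW.fromSpec.continuous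
  have hmem : (hW.primeIdealOf ⟨x, hxW⟩ : ↥(Spec Γ(X, W))) ∈ closure U' := by
    rw [hW.fromSpec.isOpenEmbedding.toIsInducing.closure_eq_preimage_closure_image]
    change hW.fromSpec (hW.primeIdealOf ⟨x, hxW⟩) ∈ closure (hW.fromSpec '' U')
    rw [hx0, hU', Set.image_preimage_eq_inter_range, hW.range_fromSpec]
    have := W.isOpen.inter_closure (t := (U : Set X)) ⟨hxW, hx⟩
    rwa [Set.inter_comm] at this
  obtain ⟨q, hqU, hqp⟩ := exists_le_of_mem_closure (B := Γ(X, W)) U' hU'open _ hmem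
  refine ⟨hW.fromSpec q, hqU, ?_⟩
  rw [← hx0]
  exact ((PrimeSpectrum.le_iff_specializes _ _).mp hqp).map hW.fromSpec.continuous

end Closure

section Final

/-- The open complement of the closure of `U`. -/
def extOpen (U : X.Opens) : X.Opens := ⟨(closure (U : Set X))ᶜ, isClosed_closure.isOpen_compl⟩

theorem not_mem_extOpen_of_mem {U : X.Opens} {y : X} (hy : y ∈ U) : y ∉ extOpen U :=
  fun h => h (subset_closure hy)

theorem preimage_ι_inf_eq (V U₁ T : X.Opens) (h : V ≤ U₁) : V.ι ⁻¹ᵁ (T ⊓ U₁) = V.ι ⁻¹ᵁ T := by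
  ext y
  constructor
  · intro hy; exact hy.1
  · intro hy; exact ⟨hy, h y.2⟩

theorem preimage_ι_eq_bot (V T : X.Opens) (h : ∀ y ∈ T, y ∉ V) : V.ι ⁻¹ᵁ T = ⊥ := by
  ext y
  constructor
  · intro hy; exact absurd y.2 (h _ hy)
  · intro hy; exact absurd hy (by simp)

/-- **Extension of invertible modules across factorial points.** -/
theorem exists_extension [IsLocallyNoetherian X] (U : X.Opens) (L : (U : Scheme.{u}).Modules)
    (hL : PicF.IsInvertible L)
    (hufd : ∀ x : X, x ∉ U → UniqueFactorizationMonoid (X.presheaf.stalk x)) :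
    ∃ L' : X.Modules, PicF.IsInvertible L' ∧ Nonempty (L'.restrict U.ι ≅ L) := by
  set X' := extOpen U with hX'
  set U₁ : X.Opens := U ⊔ X' with hU₁
  set M₁ : X.Modules := (Scheme.Modules.pushforward U.ι).obj L with hM₁
  set M₂ : X.Modules :=
    (Scheme.Modules.pushforward X'.ι).obj (Coh.structureModule (X' : Scheme.{u})) with hM₂
  have hUU₁ : U ≤ U₁ := le_sup_left
  have hX'U₁ : X' ≤ U₁ := le_sup_right
  -- density
  have hD : DenseDom U₁ := by
    intro x hx
    have hxU : x ∉ U := fun h => hx (hUU₁ h)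
    have hxX' : x ∉ X' := fun h => hx (hX'U₁ h)
    haveI := hufd x hxU
    refine ⟨{}, ?_⟩
    have hcl : x ∈ closure (U : Set X) := by
      by_contra hcon
      exact hxX' hcon
    obtain ⟨y, hyU, hyx⟩ := exists_specializes_of_mem_closure U x hcl
    exact ⟨y, hUU₁ hyU, hyx⟩
  -- sections are determined on `U₁`
  have hpush : ∀ T : X.Opens, Function.Bijective
      ((M₁ ⊞ M₂).presheaf.map (homOfLE (inf_le_left : T ⊓ U₁ ≤ T)).op) := by
    intro T
    apply biprod_res_bijective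
    · exact push_res_bijective U.ι L _ (preimage_ι_inf_eq U U₁ T hUU₁)
    · exact push_res_bijective X'.ι _ _ (preimage_ι_inf_eq X' U₁ T hX'U₁)
  -- vanishing of the other summand
  have hM₂0 : ∀ T : X.Opens, T ≤ U → ∀ b : Γ(M₂, T), b = 0 := by
    intro T hT b
    exact push_eq_zero X'.ι _ (preimage_ι_eq_bot X' T
      (fun y hy => not_mem_extOpen_of_mem (hT hy))) b
  have hM₁0 : ∀ T : X.Opens, T ≤ X' → ∀ a : Γ(M₁, T), a = 0 := by
    intro T hT a
    exact push_eq_zero U.ι L (preimage_ι_eq_bot U T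
      (fun y hy hyU => not_mem_extOpen_of_mem hyU (hT hy))) a
  -- local generators on `U₁`
  have hloc : ∀ y ∈ U₁, ∃ W : X.Opens, y ∈ W ∧ W ≤ U₁ ∧ ∃ e : Γ(M₁ ⊞ M₂, W),
      IsGen (M₁ ⊞ M₂) W e := by
    intro y hy
    rcases hy with hy | hy
    · obtain ⟨U', hyU', ⟨ε⟩⟩ := hL ⟨y, hy⟩
      obtain ⟨e, he⟩ := exists_isGen_of_iso ε
      have hle : U.ι ⁻¹ᵁ (U.ι ''ᵁ U') ≤ U' := (U.ι.preimage_image_eq U').le
      have hWU : U.ι ''ᵁ U' ≤ U := U.ι_image_le U'
      have hgen : IsGen M₁ (U.ι ''ᵁ U') _ := isGen_pushforward U.ι L (U.ι ''ᵁ U') (by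
        rw [Scheme.Opens.opensRange_ι]; exact hWU) (he.res hle)
      exact ⟨U.ι ''ᵁ U', ⟨⟨y, hy⟩, hyU', rfl⟩, hWU.trans hUU₁, _,
        isGen_inl hgen (fun T hT => hM₂0 T (hT.trans hWU))⟩
    · have hgen : IsGen M₂ X' _ := isGen_pushforward X'.ι (Coh.structureModule (X' : Scheme.{u})) X'
        (by rw [Scheme.Opens.opensRange_ι]) (isGen_one (X'.ι ⁻¹ᵁ X'))
      exact ⟨X', hy, hX'U₁, _, isGen_inr hgen (fun T hT => hM₁0 T hT)⟩
  have hufd₁ : ∀ x : X, x ∉ U₁ → UniqueFactorizationMonoid (X.presheaf.stalk x) :=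
    fun x hx => hufd x (fun h => hx (hUU₁ h))
  obtain ⟨N, hN, hinv, htop⟩ := exists_invertible_subSh hD hpush hloc hufd₁
  refine ⟨N.toMod hN, hinv, ?_⟩
  -- the restriction isomorphism
  set φ : N.toMod hN ⟶ M₁ := N.ι hN ≫ (biprod.fst : M₁ ⊞ M₂ ⟶ M₁) with hφ
  have hφiso : IsIso ((Scheme.Modules.restrictFunctor U.ι).map φ) := by
    apply Groth.Agent.Lib.Helper60.TensorLib.isIso_of_app_bijective
    intro V
    have hVU : U.ι ''ᵁ V ≤ U := U.ι_image_le V
    change Function.Bijective (φ.app (U.ι ''ᵁ V))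
    constructor
    · intro a a' haa'
      apply N.val_injective hN
      apply biprod_ext
      · exact haa'
      · exact (hM₂0 _ hVU _).trans (hM₂0 _ hVU _).symm
    · intro m
      refine ⟨N.sec hN ⟨(biprod.inl : M₁ ⟶ M₁ ⊞ M₂).app _ m, htop _ (hVU.trans hUU₁) _⟩, ?_⟩
      exact fst_inl M₁ M₂ m
  exact ⟨asIso ((Scheme.Modules.restrictFunctor U.ι).map φ) ≪≫
    asIso ((Scheme.Modules.restrictAdjunction U.ι).counit.app L)⟩

end Final

end Groth.Agent.Lib.Helper64.ExtApply
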