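import Groth.Agent.Lib.Helper64.GysPb5
import Groth.Agent.Lib.Helper90.RelOrd5

/-!
# Flat pullback of the divisor of a rational section (helper64)

* `exists_pbFibre`: the pullback of a nonzero rational section of an invertible module `L` at `f ξ`
  to a rational section of `f^* L` at `ξ`, characterised through local generators;
* `pullFun_secDivFun`: for `f` flat, `f^* div_{L|closure η}(v) = Σ_{ξ'} m_{ξ'} div_{f^*L|closure ξ'}
  (f^* v)` over the maximal points `ξ'` of the fibre over `η` (from helper90's `pullFun_divFun`).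
-/

set_option autoImplicit false
set_option linter.style.haveILetI false
set_option linter.unusedSectionVars false
set_option linter.unusedVariables false
universe u

open AlgebraicGeometry CategoryTheory TopologicalSpace IsLocalRing CycAlg

namespace Groth.Agent.Lib.Helper64.FlatC1

open Groth.Agent.Lib.Helper64.CycOrd Groth.Agent.Lib.Helper64.CycLen
open Groth.Agent.Lib.Helper64.CycExc Groth.Agent.Lib.Helper64.CycTens
open Groth.Agent.Lib.Helper64.CycCl Groth.Agent.Lib.Helper64.RelKey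
open Groth.Agent.Lib.Helper64.RefExt Groth.Agent.Lib.Helper64.RefS2
open Groth.Agent.Lib.Helper64.SecOrd Groth.Agent.Lib.Helper64.GysPb
open Groth.Agent.Lib.Lead.Inv Groth.Agent.Lib.Lead.QCohAff
open Groth.Agent.Lib.Helper35.PbInv
open Groth.Agent.Lib.Helper90.RelOrd Groth.Agent.Lib.Helper90.CycPull

variable {X Y : Scheme.{u}}

theorem stalkMap_not_mem' (f : X ⟶ Y) {ξ : X} {φ : Y.presheaf.stalk (f ξ)}
    (hφ : φ ∉ maximalIdeal (Y.presheaf.stalk (f ξ))) :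
    (f.stalkMap ξ).hom φ ∉ maximalIdeal (X.presheaf.stalk ξ) := by
  intro hmem
  apply hφ
  have hnu : ¬ IsUnit ((f.stalkMap ξ).hom φ) := (IsLocalRing.mem_maximalIdeal _).1 hmem
  rw [IsLocalRing.mem_maximalIdeal]
  intro hu
  exact hnu (hu.map _)

theorem stalkMap_mem' (f : X ⟶ Y) {ξ : X} {φ : Y.presheaf.stalk (f ξ)}
    (hφ : φ ∈ maximalIdeal (Y.presheaf.stalk (f ξ))) :
    (f.stalkMap ξ).hom φ ∈ maximalIdeal (X.presheaf.stalk ξ) := by
  rw [IsLocalRing.mem_maximalIdeal] at hφ ⊢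
  intro hu
  exact hφ ((isUnit_map_iff (f.stalkMap ξ).hom φ).1 hu)

/-- the pullback of a rational section -/
theorem exists_pbFibre (f : X ⟶ Y) (L : Y.Modules) (hL : PicF.IsInvertible L) (ξ : X)
    (v₀ : Cyc.secFibre L (f ξ)) (hv₀ : v₀ ≠ 0) :
    ∃ u₀ : Cyc.secFibre ((Scheme.Modules.pullback f).obj L) ξ, u₀ ≠ 0 ∧
      ∀ (U : Y.Opens) (e : Γ(L, U)) (he : IsGen L U e) (hU : f ξ ∈ U)
        (φ : Y.presheaf.stalk (f ξ)),
        φ • (Submodule.Quotient.mk (L.presheaf.germ U (f ξ) hU e) : Cyc.secFibre L (f ξ)) = v₀ →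
        u₀ = (f.stalkMap ξ).hom φ • (Submodule.Quotient.mk
          (((Scheme.Modules.pullback f).obj L).presheaf.germ (f ⁻¹ᵁ U) ξ hU (pbSec f L U e)) :
          Cyc.secFibre ((Scheme.Modules.pullback f).obj L) ξ) := by
  obtain ⟨U₀, hU₀, e₀, he₀⟩ := (isInvertible_iff_exists_isGen.1 hL) (f ξ)
  obtain ⟨φ₀, hφ₀m, hφ₀⟩ := exists_coeff_fibre L (f ξ) hU₀ he₀ v₀ hv₀
  have hbij₀ := bijective_stalk_of_isGen (isGen_pb f L he₀) ξ (show ξ ∈ f ⁻¹ᵁ U₀ from hU₀)
  refine ⟨(f.stalkMap ξ).hom φ₀ • (Submodule.Quotient.mk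
      (((Scheme.Modules.pullback f).obj L).presheaf.germ (f ⁻¹ᵁ U₀) ξ hU₀ (pbSec f L U₀ e₀)) :
      Cyc.secFibre ((Scheme.Modules.pullback f).obj L) ξ), ?_, ?_⟩
  · intro h0
    exact stalkMap_not_mem' f hφ₀m
      ((smul_mk_eq_zero_iff ((Scheme.Modules.pullback f).obj L) ξ _ hbij₀ _).1 h0)
  intro U e he hU φ hφ
  obtain ⟨c, hc1, hc2⟩ := germ_pbSec_change f L e₀ he ξ hU₀ hU
  have hbij := bijective_stalk_of_isGen he (f ξ) hU
  have hbij' := bijective_stalk_of_isGen (isGen_pb f L he) ξ (show ξ ∈ f ⁻¹ᵁ U from hU)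
  have h1 : (φ₀ * c - φ) • (Submodule.Quotient.mk (L.presheaf.germ U (f ξ) hU e) :
      Cyc.secFibre L (f ξ)) = 0 := by
    rw [sub_smul, hφ, ← hφ₀, hc1, mul_smul]
    exact sub_self _
  have h2 : φ₀ * c - φ ∈ maximalIdeal (Y.presheaf.stalk (f ξ)) :=
    (smul_mk_eq_zero_iff L (f ξ) _ hbij _).1 h1
  have h3 := stalkMap_mem' f h2
  have h4 : (f.stalkMap ξ).hom (φ₀ * c - φ) • (Submodule.Quotient.mk
      (((Scheme.Modules.pullback f).obj L).presheaf.germ (f ⁻¹ᵁ U) ξ hU (pbSec f L U e)) :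
      Cyc.secFibre ((Scheme.Modules.pullback f).obj L) ξ) = 0 :=
    (smul_mk_eq_zero_iff ((Scheme.Modules.pullback f).obj L) ξ _ hbij' _).2 h3
  rw [map_sub, sub_smul, sub_eq_zero, map_mul, mul_smul] at h4
  rw [← h4, hc2]
  rfl

/-- **flat pullback of the divisor of a rational section** -/
theorem pullFun_secDivFun (f : X ⟶ Y) [Flat f] (δX : X → ℤ) (δY : Y → ℤ)
    (hX : Cyc.IsSetup X δX) (hY : Cyc.IsSetup Y δY) (c : ℤ)
    (hc : ∀ x : X, (∀ y, f y = f x → y ⤳ x → y = x) → δX x = δY (f x) + c)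
    (L : Y.Modules) (hL : PicF.IsInvertible L) (v : (η : Y) → Cyc.secFibre L η)
    (hv : ∀ η, v η ≠ 0)
    (u₀ : (ξ : X) → Cyc.secFibre ((Scheme.Modules.pullback f).obj L) ξ)
    (hu₀ : ∀ (ξ : X) (U : Y.Opens) (e : Γ(L, U)) (he : IsGen L U e) (hU : f ξ ∈ U)
      (φ : Y.presheaf.stalk (f ξ)),
      φ • (Submodule.Quotient.mk (L.presheaf.germ U (f ξ) hU e) : Cyc.secFibre L (f ξ)) =
        v (f ξ) →
      u₀ ξ = (f.stalkMap ξ).hom φ • (Submodule.Quotient.mk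
        (((Scheme.Modules.pullback f).obj L).presheaf.germ (f ⁻¹ᵁ U) ξ hU (pbSec f L U e)) :
        Cyc.secFibre ((Scheme.Modules.pullback f).obj L) ξ))
    (η : Y) (x' : X) :
    Cyc.pullFun f δX δY c (Cyc.secDivFun δY L η (v η)) x' =
      ∑ᶠ ξ' : Over f η, mult f ξ'.1 *
        Cyc.secDivFun δX ((Scheme.Modules.pullback f).obj L) ξ'.1 (u₀ ξ'.1) x' := by
  classical
  by_cases hsp : η ⤳ f x'
  swap
  · have h1 : Cyc.pullFun f δX δY c (Cyc.secDivFun δY L η (v η)) x' = 0 := by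
      unfold Cyc.pullFun
      rw [secDivFun_eq_zero_of_not_specializes δY L η (v η) (f x') hsp, zero_mul, ite_self]
    rw [h1]
    symm
    apply finsum_eq_zero_of_forall_eq_zero
    intro ξ'
    have hns : ¬ ξ'.1 ⤳ x' := by
      intro h
      apply hsp
      have := h.map f.continuous
      rwa [ξ'.2.1] at this
    rw [secDivFun_eq_zero_of_not_specializes _ _ _ _ _ hns, mul_zero]
  obtain ⟨U, hU, e, he⟩ := (isInvertible_iff_exists_isGen.1 hL) (f x')
  have hηU : η ∈ U := hsp.mem_open U.isOpen hU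
  obtain ⟨φ, hφm, hφ⟩ := exists_coeff_fibre L η hηU he (v η) (hv η)
  have claim1 : Cyc.secDivFun δY L η (v η) (f x') =
      Cyc.divFun δY η (Y.residue η φ) (f x') := by
    unfold Cyc.secDivFun Cyc.divFun
    by_cases hcnd : η ⤳ f x' ∧ δY (f x') + 1 = δY η
    · rw [dif_pos hcnd, dif_pos hcnd, ← hφ]
      exact secOrdAt_eq_of_isGen L he hcnd.1 hU φ hφm
    · rw [dif_neg hcnd, dif_neg hcnd]
  have e1 : Cyc.pullFun f δX δY c (Cyc.secDivFun δY L η (v η)) x' =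
      Cyc.pullFun f δX δY c (Cyc.divFun δY η (Y.residue η φ)) x' := by
    unfold Cyc.pullFun
    rw [claim1]
  rw [e1, pullFun_divFun Y X δY δX hY hX f c hc η _ (residue_ne_zero hφm) x']
  apply finsum_congr
  intro ξ'
  congr 1
  obtain ⟨ξ', hη, hgen⟩ := ξ'
  subst hη
  show Cyc.divFun δX ξ' (pb f (Y.residue (f ξ') φ) ⟨ξ', rfl, hgen⟩) x' =
    Cyc.secDivFun δX _ ξ' (u₀ ξ') x'
  by_cases hsp' : ξ' ⤳ x'
  swap
  · rw [divFun_eq_zero_of_not_specializes _ _ _ _ hsp',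
      secDivFun_eq_zero_of_not_specializes _ _ _ _ _ hsp']
  rw [hu₀ ξ' U e he hηU φ hφ]
  have hφ'm : (f.stalkMap ξ').hom φ ∉ maximalIdeal (X.presheaf.stalk ξ') :=
    stalkMap_not_mem' f hφm
  have hpb : pb f (Y.residue (f ξ') φ) ⟨ξ', rfl, hgen⟩ =
      (X.residue ξ' ((f.stalkMap ξ').hom φ) : X.residueField ξ') := by
    unfold pb
    have h2 := Scheme.residue_residueFieldMap f ξ'
    have h3 := ConcreteCategory.congr_hom h2 φ
    simp only [Scheme.residueFieldCongr_refl, Iso.refl_hom]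
    exact h3
  unfold Cyc.secDivFun Cyc.divFun
  by_cases hcnd : ξ' ⤳ x' ∧ δX x' + 1 = δX ξ'
  · rw [dif_pos hcnd, dif_pos hcnd, hpb]
    exact (secOrdAt_eq_of_isGen _ (isGen_pb f L he) hcnd.1 (show x' ∈ f ⁻¹ᵁ U from hU) _
      hφ'm).symm
  · rw [dif_neg hcnd, dif_neg hcnd]

end Groth.Agent.Lib.Helper64.FlatC1
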