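import Groth.Agent.Lib.Helper64.FlatC1a
import Groth.Agent.Lib.Helper73.DimFormula.FiberDimAdd

/-!
# Flat pullback commutes with the first Chern class (helper64)

`flat_pullback_c1Cap`: `f^*(c₁(L) ∩ α) ∼ c₁(f^* L) ∩ f^* α` for `f` flat of relative dimension `r`.
-/

set_option autoImplicit false
set_option linter.style.haveILetI false
set_option linter.unusedSectionVars false
set_option linter.unusedVariables false
universe u

open AlgebraicGeometry CategoryTheory TopologicalSpace IsLocalRing CycAlg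

namespace Groth.Agent.Lib.Helper64.FlatC1

open Groth.Agent.Lib.Helper64.CycOrd Groth.Agent.Lib.Helper64.CycLen
open Groth.Agent.Lib.Helper64.CycExc Groth.Agent.Lib.Helper64.CycTens
open Groth.Agent.Lib.Helper64.CycCl Groth.Agent.Lib.Helper64.RelKey
open Groth.Agent.Lib.Helper64.RefExt Groth.Agent.Lib.Helper64.RefS2
open Groth.Agent.Lib.Helper64.SecOrd Groth.Agent.Lib.Helper64.GysPb
open Groth.Agent.Lib.Lead.Inv Groth.Agent.Lib.Lead.QCohAff
open Groth.Agent.Lib.Helper35.PbInv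
open Groth.Agent.Lib.Helper90.RelOrd Groth.Agent.Lib.Helper90.CycPull

variable {X Y : Scheme.{u}}

/-- flat pullback commutes with `c₁ ∩`, in the form with the shift `c` of dimension functions -/
theorem flat_pullback_c1Cap' (f : X ⟶ Y) [Flat f] (δX : X → ℤ) (δY : Y → ℤ)
    (hX : Cyc.IsSetup X δX) (hY : Cyc.IsSetup Y δY) (c : ℤ)
    (hc : ∀ x : X, (∀ y, f y = f x → y ⤳ x → y = x) → δX x = δY (f x) + c)
    (L : Y.Modules) (hL : PicF.IsInvertible L) (k : ℤ) (α : AlgebraicCycle Y ℤ)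
    (hα : α ∈ Cyc.Zk Y δY k) (v : (η : Y) → Cyc.secFibre L η) (hv : ∀ η, v η ≠ 0)
    (u : (ξ : X) → Cyc.secFibre ((Scheme.Modules.pullback f).obj L) ξ) (hu : ∀ ξ, u ξ ≠ 0)
    (γ₁ γ₂ : AlgebraicCycle X ℤ)
    (h₁ : ⇑γ₁ = Cyc.pullFun f δX δY c (Cyc.c1CapFun δY L ⇑α v))
    (h₂ : ⇑γ₂ = Cyc.c1CapFun δX ((Scheme.Modules.pullback f).obj L)
      (Cyc.pullFun f δX δY c ⇑α) u) :
    Cyc.RatEquiv δX (k + c - 1) γ₁ γ₂ := by
  classical
  haveI : IsLocallyNoetherian X := hX.1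
  haveI : IsLocallyNoetherian Y := hY.1
  have hinv : PicF.IsInvertible ((Scheme.Modules.pullback f).obj L) :=
    Groth.Agent.Lib.Helper35.PbInv.isInvertible_pullback f hL
  choose u₀ hu₀ne hu₀ using fun ξ : X => exists_pbFibre f L hL ξ (v (f ξ)) (hv (f ξ))
  obtain ⟨β, hβ⟩ : ∃ β : X → ℤ, β = Cyc.pullFun f δX δY c ⇑α := ⟨_, rfl⟩
  have hβval : ∀ ξ, IsFibMax f ξ → β ξ = α (f ξ) * mult f ξ := by
    intro ξ hξ
    rw [hβ]
    unfold Cyc.pullFun
    rw [if_pos (hc ξ hξ)]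
    rfl
  have hβzero : ∀ ξ, ¬ IsFibMax f ξ → β ξ = 0 := by
    intro ξ hξ
    rw [hβ]
    unfold Cyc.pullFun
    split_ifs
    · rw [length_fibre_eq_top f ξ hξ]
      simp
    · rfl
  have hlfα := locallyFinite_support_closure α
  have hlf' := Groth.Agent.Lib.Helper45.Cyc1940Q5.locallyFinite_pullback_family f
    (fun i : {η : Y // α η ≠ 0} => i.1) hlfα
  have hβsupp : ∀ ξ, β ξ ≠ 0 → IsFibMax f ξ ∧ α (f ξ) ≠ 0 := by
    intro ξ hξs
    have hfm : IsFibMax f ξ := by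
      by_contra h
      exact hξs (hβzero ξ h)
    refine ⟨hfm, ?_⟩
    intro h0
    apply hξs
    rw [hβval ξ hfm, h0, zero_mul]
  have hβlf : ∀ x ∈ (Set.univ : Set X), ∃ t ∈ nhds x, (t ∩ Function.support β).Finite := by
    intro x _
    obtain ⟨U, hUo, hxU, hfin⟩ := hlf' x
    refine ⟨U, hUo.mem_nhds hxU, ?_⟩
    apply (hfin.image (fun j => j.2.1)).subset
    rintro ξ ⟨hξU, hξs⟩
    obtain ⟨hfm, hαne⟩ := hβsupp ξ hξs
    exact ⟨⟨⟨f ξ, hαne⟩, ξ, rfl, hfm⟩, ⟨ξ, subset_closure rfl, hξU⟩, rfl⟩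
  obtain ⟨α', hα'⟩ : ∃ α' : AlgebraicCycle X ℤ, ⇑α' = β :=
    ⟨⟨β, Set.subset_univ _, hβlf⟩, rfl⟩
  have hα'Z : α' ∈ Cyc.Zk X δX (k + c - 1 + 1) := by
    intro ξ hne
    show α' ξ = 0
    rw [hα', hβ]
    unfold Cyc.pullFun
    split_ifs with h1
    · have : α (f ξ) = 0 := hα (f ξ) (by
        intro h2
        apply hne
        rw [h1, h2]
        ring)
      rw [this, zero_mul]
    · rfl
  have h₂' : ⇑γ₂ = Cyc.c1CapFun δX ((Scheme.Modules.pullback f).obj L) ⇑α' u := by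
    rw [h₂, hα', hβ]
  have h₁' : ⇑γ₁ = Cyc.c1CapFun δX ((Scheme.Modules.pullback f).obj L) ⇑α' u₀ := by
    funext x'
    rw [h₁, hα']
    obtain ⟨S, hS⟩ : ∃ S : X → ℤ, ∀ ξ, S ξ =
        Cyc.secDivFun δX ((Scheme.Modules.pullback f).obj L) ξ (u₀ ξ) x' := ⟨_, fun _ => rfl⟩
    have hSsp : ∀ ξ, S ξ ≠ 0 → ξ ⤳ x' := by
      intro ξ hne
      by_contra hns
      apply hne
      rw [hS]
      exact secDivFun_eq_zero_of_not_specializes _ _ _ _ _ hns
    -- step a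
    have ea : Cyc.pullFun f δX δY c (Cyc.c1CapFun δY L ⇑α v) x' =
        ∑ᶠ η, α η * Cyc.pullFun f δX δY c (Cyc.secDivFun δY L η (v η)) x' := by
      unfold Cyc.pullFun Cyc.c1CapFun
      by_cases hcnd : δX x' = δY (f x') + c
      · simp only [if_pos hcnd]
        rw [finsum_mul]
        apply finsum_congr
        intro η
        ring
      · simp only [if_neg hcnd, mul_zero]
        rw [finsum_zero]
    -- step b
    have eb : ∀ η, α η * Cyc.pullFun f δX δY c (Cyc.secDivFun δY L η (v η)) x' =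
        α η * ∑ᶠ ξ' : Over f η, mult f ξ'.1 * S ξ'.1 := by
      intro η
      rw [pullFun_secDivFun f δX δY hX hY c hc L hL v hv u₀ hu₀ η x']
      congr 1
      apply finsum_congr
      intro ξ'
      rw [hS]
    rw [ea, finsum_congr eb]
    -- step c
    rw [finsum_eq_subtype_of_support (fun η => α η * ∑ᶠ ξ' : Over f η, mult f ξ'.1 * S ξ'.1)
      (fun η => α η ≠ 0) (fun η hne => left_ne_zero_of_mul hne)]
    -- step d
    obtain ⟨F, hF⟩ : ∃ F : (Σ i : {η : Y // α η ≠ 0}, Over f i.1) → ℤ,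
        ∀ j, F j = α j.1.1 * (mult f j.2.1 * S j.2.1) := ⟨_, fun _ => rfl⟩
    have hFfin : (Function.support F).Finite := by
      obtain ⟨U, hUo, hxU, hfin⟩ := hlf' x'
      apply hfin.subset
      intro j hj
      rw [Function.mem_support, hF] at hj
      have h1 : S j.2.1 ≠ 0 := right_ne_zero_of_mul (right_ne_zero_of_mul hj)
      exact ⟨x', specializes_iff_mem_closure.1 (hSsp _ h1), hxU⟩
    have ed : ∑ᶠ i : {η : Y // α η ≠ 0}, α i.1 * ∑ᶠ ξ' : Over f i.1, mult f ξ'.1 * S ξ'.1 =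
        ∑ᶠ j, F j := by
      rw [finsum_sigma_eq F hFfin]
      apply finsum_congr
      intro i
      rw [mul_finsum]
      apply finsum_congr
      intro ξ'
      rw [hF]
    rw [ed]
    -- step e
    unfold Cyc.c1CapFun
    have ee : ∀ ξ, β ξ * Cyc.secDivFun δX ((Scheme.Modules.pullback f).obj L) ξ (u₀ ξ) x' =
        β ξ * S ξ := by
      intro ξ
      rw [hS]
    rw [finsum_congr ee, finsum_eq_subtype_of_support (fun ξ => β ξ * S ξ)
      (fun ξ => IsFibMax f ξ ∧ α (f ξ) ≠ 0) (fun ξ hne => hβsupp ξ (left_ne_zero_of_mul hne))]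
    let eqv : (Σ i : {η : Y // α η ≠ 0}, Over f i.1) ≃ {ξ : X // IsFibMax f ξ ∧ α (f ξ) ≠ 0} :=
      { toFun := fun j => ⟨j.2.1, j.2.2.2, by rw [j.2.2.1]; exact j.1.2⟩
        invFun := fun ξ => ⟨⟨f ξ.1, ξ.2.2⟩, ξ.1, rfl, ξ.2.1⟩
        left_inv := by
          rintro ⟨⟨η, hη⟩, ξ', h⟩
          have h1 := h.1
          subst h1
          rfl
        right_inv := fun ξ => rfl }
    rw [← finsum_comp_equiv eqv]
    apply finsum_congr
    intro j
    obtain ⟨⟨η, hη⟩, ξ', h⟩ := j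
    have h1 := h.1
    subst h1
    show F _ = β ξ' * S ξ'
    rw [hF, hβval ξ' h.2]
    ring
  exact ratEquiv_c1Cap_of_sections δX _ hinv (k + c - 1) α' hα'Z u₀ hu₀ne u hu γ₁ γ₂ h₁' h₂'

theorem flat_pullback_c1Cap (X Y : Scheme.{u}) (δX : X → ℤ) (δY : Y → ℤ) (hX : Cyc.IsSetup X δX)
    (hY : Cyc.IsSetup Y δY) (f : X ⟶ Y) [Flat f] [LocallyOfFiniteType f] (r : ℕ)
    (hr : Cyc.HasRelDim f r) (hδ : Cyc.DeltaCompat f δX δY) (L : Y.Modules)
    (hL : PicF.IsInvertible L) (k : ℤ) (α : AlgebraicCycle Y ℤ) (hα : α ∈ Cyc.Zk Y δY k)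
    (v : (η : Y) → Cyc.secFibre L η) (hv : ∀ η, v η ≠ 0)
    (u : (ξ : X) → Cyc.secFibre ((Scheme.Modules.pullback f).obj L) ξ) (hu : ∀ ξ, u ξ ≠ 0)
    (γ₁ γ₂ : AlgebraicCycle X ℤ)
    (h₁ : ⇑γ₁ = Cyc.pullFun f δX δY r (Cyc.c1CapFun δY L ⇑α v))
    (h₂ : ⇑γ₂ = Cyc.c1CapFun δX ((Scheme.Modules.pullback f).obj L)
      (Cyc.pullFun f δX δY r ⇑α) u) :
    Cyc.RatEquiv δX (k + r - 1) γ₁ γ₂ := by
  have hresf : ∀ y : X, δX y = δY (f y) + Groth.Agent.Lib.Helper73.resTrdegNat f y := by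
    intro x
    obtain ⟨n, hn, hx⟩ := hδ x
    have h1 : Groth.Agent.Lib.Helper73.resTrdeg f x = (n : Cardinal.{u}) := hn
    rw [Groth.Agent.Lib.Helper73.resTrdeg_eq_resTrdegNat] at h1
    have : Groth.Agent.Lib.Helper73.resTrdegNat f x = n := by exact_mod_cast h1
    rw [hx, this]
  rw [Groth.Agent.Lib.Helper73.hasRelDim_iff_forall_maximal] at hr
  have hcf : ∀ y : X, (∀ z, f z = f y → z ⤳ y → z = y) → δX y = δY (f y) + (r : ℤ) := by
    intro y hy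
    rw [hresf y, hr y (fun t ht hgt => hy t hgt ht)]
  exact flat_pullback_c1Cap' f δX δY hX hY (r : ℤ) hcf L hL k α hα v hv u hu γ₁ γ₂ h₁ h₂

end Groth.Agent.Lib.Helper64.FlatC1
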