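import Groth.Agent.Lib.Helper64.GysSq5

/-!
# Two Gysin maps commute (helper64)

`gysin_gysin_comm`: for the zero schemes `i : D → X`, `i' : D' → X` of sections of invertible
modules `L`, `L'` and `D ∩ D' = D ×_X D'`: `(j')^*(i^* α) ∼ j^*((i')^* α)` on `D ∩ D'`.
-/

set_option autoImplicit false
set_option linter.style.haveILetI false
set_option linter.unusedSectionVars false
set_option linter.unusedVariables false
universe u

open AlgebraicGeometry CategoryTheory TopologicalSpace IsLocalRing CycAlg Limits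

namespace Groth.Agent.Lib.Helper64.GysSq

open Groth.Agent.Lib.Helper64.CycOrd Groth.Agent.Lib.Helper64.CycLen
open Groth.Agent.Lib.Helper64.CycExc Groth.Agent.Lib.Helper64.CycTens
open Groth.Agent.Lib.Helper64.CycCl Groth.Agent.Lib.Helper64.RelKey
open Groth.Agent.Lib.Helper64.RefExt Groth.Agent.Lib.Helper64.RefS2
open Groth.Agent.Lib.Helper64.SecOrd Groth.Agent.Lib.Helper64.GysPb
open Groth.Agent.Lib.Lead.Inv Groth.Agent.Lib.Lead.QCohAff
open Groth.Agent.Lib.Helper35.PbInv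

/-- the rational sections on `X` attached to the Gysin choice on the zero scheme `D` of `s`, for
the section `σ'` of `L'|_D` cutting out `D ×_X D'` -/
theorem exists_sections_of_gysinChoice {X D D' P : Scheme.{u}} (p₁ : P ⟶ D) (p₂ : P ⟶ D')
    (i : D ⟶ X) (i' : D' ⟶ X) [IsClosedImmersion i] [IsClosedImmersion i'] [IsClosedImmersion p₁]
    (hsq : IsPullback p₁ p₂ i i') (δ : X → ℤ) (L' : X.Modules) (hL' : PicF.IsInvertible L')
    (s' : L'.presheaf.obj (Opposite.op ⊤)) (hD' : Cyc.IsZeroSchemeOf i' L' s')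
    (σ' : ((Scheme.Modules.pullback i).obj L').presheaf.obj (Opposite.op ⊤))
    (hσ' : Cyc.IsZeroSchemeOf p₁ ((Scheme.Modules.pullback i).obj L') σ')
    (w' : (ξ : X) → Cyc.secFibre L' ξ) (hw' : ∀ ξ, w' ξ ≠ 0)
    (w₁ : (d : D) → Cyc.secFibre ((Scheme.Modules.pullback i).obj L') d) (hw₁ : ∀ d, w₁ d ≠ 0)
    (ξ : X) :
    ∃ v' : Cyc.secFibre L' ξ, v' ≠ 0 ∧
      (ξ ∉ Set.range ⇑i' →
        v' = (Submodule.Quotient.mk (L'.presheaf.germ ⊤ ξ trivial s') : Cyc.secFibre L' ξ)) ∧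
      ∀ d : D, i d = ξ → ∀ d' : D,
        Cyc.secDivFun (fun d => δ (i d)) ((Scheme.Modules.pullback i).obj L') d
          (Cyc.gysinChoice ((Scheme.Modules.pullback i).obj L') σ' w₁ d) d' =
        Cyc.secDivFun δ L' ξ v' (i d') := by
  classical
  have hmemD' : ∀ ξ : X, ξ ∈ Set.range ⇑i' ↔
      (Submodule.Quotient.mk (L'.presheaf.germ ⊤ ξ trivial s') : Cyc.secFibre L' ξ) = 0 := by
    intro ξ
    rw [hD'.1]
    exact Iff.rfl
  have ht := gysinChoice_ne_zero ((Scheme.Modules.pullback i).obj L') σ' w₁ hw₁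
  by_cases hξ' : ξ ∈ Set.range ⇑i'
  · by_cases hξ : ξ ∈ Set.range ⇑i
    · obtain ⟨d, rfl⟩ := hξ
      obtain ⟨v', hv', hvd⟩ := exists_secDivFun_pullback_eq i δ L' hL' d
        (Cyc.gysinChoice ((Scheme.Modules.pullback i).obj L') σ' w₁ d) (ht d)
      refine ⟨v', hv', fun h => absurd hξ' h, fun d₁ hd₁ d' => ?_⟩
      have hdd : d₁ = d := i.isClosedEmbedding.injective hd₁
      subst hdd
      exact hvd d'
    · exact ⟨w' ξ, hw' ξ, fun h => absurd hξ' h, fun d hd => absurd ⟨d, hd⟩ hξ⟩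
  · refine ⟨_, (hmemD' ξ).not.1 hξ', fun _ => rfl, fun d hd d' => ?_⟩
    subst hd
    have hdP : d ∉ Set.range ⇑p₁ := by
      rintro ⟨z, hz⟩
      apply hξ'
      refine ⟨p₂ z, ?_⟩
      rw [← hz]
      exact (map_fst_mem_range p₁ p₂ i i' hsq z).symm
    have htd : Cyc.gysinChoice ((Scheme.Modules.pullback i).obj L') σ' w₁ d =
        (Submodule.Quotient.mk (((Scheme.Modules.pullback i).obj L').presheaf.germ ⊤ d trivial σ') :
          Cyc.secFibre ((Scheme.Modules.pullback i).obj L') d) := by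
      have hne : (Submodule.Quotient.mk
          (((Scheme.Modules.pullback i).obj L').presheaf.germ ⊤ d trivial σ') :
          Cyc.secFibre ((Scheme.Modules.pullback i).obj L') d) ≠ 0 := by
        intro h0
        apply hdP
        rw [hσ'.1]
        exact h0
      unfold Cyc.gysinChoice
      rw [if_pos hne]
    rw [htd]
    exact secDivFun_zeroScheme_eq p₁ p₂ i i' hsq δ L' hL' s' hD' σ' hσ' d hξ' d'

theorem gysin_gysin_comm (X D D' : Scheme.{u}) (δ : X → ℤ) (hX : Cyc.IsSetup X δ)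
    (L L' : X.Modules) (hL : PicF.IsInvertible L) (hL' : PicF.IsInvertible L')
    (s : L.presheaf.obj (Opposite.op ⊤)) (s' : L'.presheaf.obj (Opposite.op ⊤))
    (i : D ⟶ X) (i' : D' ⟶ X) [IsClosedImmersion i] [IsClosedImmersion i']
    (hD : Cyc.IsZeroSchemeOf i L s) (hD' : Cyc.IsZeroSchemeOf i' L' s')
    (σ' : ((Scheme.Modules.pullback i).obj L').presheaf.obj (Opposite.op ⊤))
    (hσ' : Cyc.IsZeroSchemeOf (pullback.fst i i') ((Scheme.Modules.pullback i).obj L') σ')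
    (σ : ((Scheme.Modules.pullback i').obj L).presheaf.obj (Opposite.op ⊤))
    (hσ : Cyc.IsZeroSchemeOf (pullback.snd i i') ((Scheme.Modules.pullback i').obj L) σ)
    (k : ℤ) (α : AlgebraicCycle X ℤ) (hα : α ∈ Cyc.Zk X δ k)
    (w : (ξ : X) → Cyc.secFibre L ξ) (hw : ∀ ξ, w ξ ≠ 0)
    (w' : (ξ : X) → Cyc.secFibre L' ξ) (hw' : ∀ ξ, w' ξ ≠ 0)
    (w₁ : (d : D) → Cyc.secFibre ((Scheme.Modules.pullback i).obj L') d) (hw₁ : ∀ d, w₁ d ≠ 0)
    (w₂ : (d : D') → Cyc.secFibre ((Scheme.Modules.pullback i').obj L) d) (hw₂ : ∀ d, w₂ d ≠ 0)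
    (γ : D → ℤ) (hγ : γ = fun d => Cyc.c1CapFun δ L ⇑α (Cyc.gysinChoice L s w) (i d))
    (γ' : D' → ℤ) (hγ' : γ' = fun d => Cyc.c1CapFun δ L' ⇑α (Cyc.gysinChoice L' s' w') (i' d))
    (ζ₁ ζ₂ : AlgebraicCycle (pullback i i') ℤ)
    (h₁ : ∀ z, ζ₁ z = Cyc.c1CapFun (fun d => δ (i d)) ((Scheme.Modules.pullback i).obj L') γ
      (Cyc.gysinChoice ((Scheme.Modules.pullback i).obj L') σ' w₁) (pullback.fst i i' z))
    (h₂ : ∀ z, ζ₂ z = Cyc.c1CapFun (fun d => δ (i' d)) ((Scheme.Modules.pullback i').obj L) γ'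
      (Cyc.gysinChoice ((Scheme.Modules.pullback i').obj L) σ w₂) (pullback.snd i i' z)) :
    Cyc.RatEquiv (fun z => δ (i (pullback.fst i i' z))) (k - 2) ζ₁ ζ₂ := by
  classical
  haveI : IsLocallyNoetherian X := hX.1
  have hsq : IsPullback (pullback.fst i i') (pullback.snd i i') i i' :=
    IsPullback.of_hasPullback i i'
  have hsq' : IsPullback (pullback.snd i i') (pullback.fst i i') i' i := hsq.flip
  haveI : IsClosedImmersion (pullback.fst i i') := inferInstance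
  haveI : IsClosedImmersion (pullback.snd i i') := inferInstance
  have hclD : IsClosed (Set.range ⇑i) := i.isClosedEmbedding.isClosed_range
  have hclD' : IsClosed (Set.range ⇑i') := i'.isClosedEmbedding.isClosed_range
  have hmemD : ∀ ξ : X, ξ ∈ Set.range ⇑i ↔
      (Submodule.Quotient.mk (L.presheaf.germ ⊤ ξ trivial s) : Cyc.secFibre L ξ) = 0 := by
    intro ξ
    rw [hD.1]
    exact Iff.rfl
  have hmemD' : ∀ ξ : X, ξ ∈ Set.range ⇑i' ↔
      (Submodule.Quotient.mk (L'.presheaf.germ ⊤ ξ trivial s') : Cyc.secFibre L' ξ) = 0 := by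
    intro ξ
    rw [hD'.1]
    exact Iff.rfl
  obtain ⟨g, hgdef⟩ : ∃ g : (ξ : X) → Cyc.secFibre L ξ, g = Cyc.gysinChoice L s w := ⟨_, rfl⟩
  obtain ⟨g', hg'def⟩ : ∃ g' : (ξ : X) → Cyc.secFibre L' ξ, g' = Cyc.gysinChoice L' s' w' :=
    ⟨_, rfl⟩
  have hg : ∀ ξ, g ξ ≠ 0 := by
    intro ξ
    rw [hgdef]
    exact gysinChoice_ne_zero L s w hw ξ
  have hg' : ∀ ξ, g' ξ ≠ 0 := by
    intro ξ
    rw [hg'def]
    exact gysinChoice_ne_zero L' s' w' hw' ξ
  have hgZ : ∀ ξ, ξ ∉ Set.range ⇑i →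
      g ξ = (Submodule.Quotient.mk (L.presheaf.germ ⊤ ξ trivial s) : Cyc.secFibre L ξ) := by
    intro ξ hξ
    rw [hmemD] at hξ
    rw [hgdef]
    unfold Cyc.gysinChoice
    rw [if_pos hξ]
  have hg'Z : ∀ ξ, ξ ∉ Set.range ⇑i' →
      g' ξ = (Submodule.Quotient.mk (L'.presheaf.germ ⊤ ξ trivial s') : Cyc.secFibre L' ξ) := by
    intro ξ hξ
    rw [hmemD'] at hξ
    rw [hg'def]
    unfold Cyc.gysinChoice
    rw [if_pos hξ]
  rw [← hgdef] at hγ
  rw [← hg'def] at hγ'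
  -- rational sections on `X` inducing the Gysin choices on `D` and `D'`
  choose v' hv' hv'Z hv'D using fun ξ : X =>
    exists_sections_of_gysinChoice (pullback.fst i i') (pullback.snd i i') i i' hsq δ L' hL' s' hD'
      σ' hσ' w' hw' w₁ hw₁ ξ
  choose u' hu' hu'Z hu'D using fun ξ : X =>
    exists_sections_of_gysinChoice (pullback.snd i i') (pullback.fst i i') i' i hsq' δ L hL s hD
      σ hσ w hw w₂ hw₂ ξ
  -- the key formula at every point
  choose P hh hhne hhone hPdim hLF haP hbP hglobN hglobL hform using fun ξ₀ : X =>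
    relKeyFormula'' δ hX ξ₀ L L' hL hL' (g ξ₀) (hg ξ₀) (g' ξ₀) (hg' ξ₀) v' hv' u' hu'
  have hrange : ∀ ξ : X, ξ ∉ Set.range ⇑(pullback.fst i i' ≫ i) →
      ξ ∉ Set.range ⇑i ∨ ξ ∉ Set.range ⇑i' := by
    intro ξ hξ
    by_contra hcon
    push Not at hcon
    obtain ⟨⟨d, hd⟩, ⟨d₂, hd₂⟩⟩ := hcon
    obtain ⟨z, hz⟩ := mem_range_fst (pullback.fst i i') (pullback.snd i i') i i' hsq d d₂
      (hd.trans hd₂.symm)
    apply hξ
    refine ⟨z, ?_⟩
    rw [Scheme.Hom.comp_apply, hz, hd]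
  have hhZ : ∀ ξ₀ ξ, ξ ∉ Set.range ⇑(pullback.fst i i' ≫ i) → hh ξ₀ ξ = 1 := by
    intro ξ₀ ξ hξ
    by_cases hP : P ξ₀ ξ
    swap
    · exact hhone ξ₀ ξ hP
    have hsp : ξ₀ ⤳ ξ := (hPdim ξ₀ ξ hP).2
    rcases hrange ξ hξ with hξD | hξD'
    · have hξ₀ : ξ₀ ∉ Set.range ⇑i := fun hmem => hξD (hsp.mem_closed hclD hmem)
      exact hglobL ξ₀ s (hgZ ξ₀ hξ₀) ξ (hu'Z ξ hξD)
    · have hξ₀ : ξ₀ ∉ Set.range ⇑i' := fun hmem => hξD' (hsp.mem_closed hclD' hmem)
      exact hglobN ξ₀ s' (hg'Z ξ₀ hξ₀) ξ (hv'Z ξ hξD')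
  have h₁' : ∀ z, ζ₁ z = Cyc.c1CapFun δ L' (Cyc.c1CapFun δ L ⇑α g) v'
      ((pullback.fst i i' ≫ i) z) := by
    intro z
    rw [h₁ z, hgdef, Scheme.Hom.comp_apply]
    exact gysin_cap_eq i δ L L' hL s hD ⇑α w _ v' (fun d d' => hv'D (i d) d rfl d') γ
      (by rw [hγ, hgdef]) (pullback.fst i i' z)
  have h₂' : ∀ z, ζ₂ z = Cyc.c1CapFun δ L (Cyc.c1CapFun δ L' ⇑α g') u'
      ((pullback.fst i i' ≫ i) z) := by
    intro z
    have hpt : i (pullback.fst i i' z) = i' (pullback.snd i i' z) :=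
      map_fst_mem_range (pullback.fst i i') (pullback.snd i i') i i' hsq z
    rw [h₂ z, hg'def, Scheme.Hom.comp_apply, hpt]
    exact gysin_cap_eq i' δ L' L hL' s' hD' ⇑α w' _ u' (fun d d' => hu'D (i' d) d rfl d') γ'
      (by rw [hγ', hg'def]) (pullback.snd i i' z)
  exact ratEquiv_of_keyFormulas (pullback.fst i i' ≫ i) δ L L' k α hα g u' v' g' P hh hhne hhone
    hPdim hLF haP hbP hform hhZ ζ₁ ζ₂ h₁' h₂'

end Groth.Agent.Lib.Helper64.GysSq
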