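import Groth.Agent.Lib.Helper64.FlatC1b
import Groth.Agent.Lib.Helper64.GysSq6

/-!
# Flat pullback and `c₁ ∩`, pointwise; independence of sections along a closed subscheme (helper64)

* `pullFun_c1CapFun_eq`: `f^*(c₁(L) ∩ α) = c₁(f^*L) ∩ f^*α` as functions, when the second cap is
  computed with the pulled back rational sections;
* `exists_pullFun_cycle`: the flat pullback of a cycle is a cycle;
* `ratEquiv_c1Cap_of_sections_on`: two families of rational sections with the same divisors at the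
  points outside a closed subscheme `Z` give rationally equivalent caps on `Z`.
-/

set_option autoImplicit false
set_option linter.style.haveILetI false
set_option linter.unusedSectionVars false
set_option linter.unusedVariables false
universe u

open AlgebraicGeometry CategoryTheory TopologicalSpace IsLocalRing CycAlg

namespace Groth.Agent.Lib.Helper64.FlatC1

open Groth.Agent.Lib.Helper64.CycOrd Groth.Agent.Lib.Helper64.CycLen
open Groth.Agent.Lib.Helper64.CycExc Groth.Agent.Lib.Helper64.CycTens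
open Groth.Agent.Lib.Helper64.CycCl Groth.Agent.Lib.Helper64.RelKey
open Groth.Agent.Lib.Helper64.RefExt Groth.Agent.Lib.Helper64.RefS2
open Groth.Agent.Lib.Helper64.SecOrd Groth.Agent.Lib.Helper64.GysPb
open Groth.Agent.Lib.Lead.Inv Groth.Agent.Lib.Lead.QCohAff
open Groth.Agent.Lib.Helper35.PbInv
open Groth.Agent.Lib.Helper90.RelOrd Groth.Agent.Lib.Helper90.CycPull

variable {X Y : Scheme.{u}}

theorem pullFun_eq_of_isFibMax (f : X ⟶ Y) (δX : X → ℤ) (δY : Y → ℤ) (c : ℤ)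
    (hc : ∀ x : X, (∀ y, f y = f x → y ⤳ x → y = x) → δX x = δY (f x) + c) (a : Y → ℤ)
    (ξ : X) (hξ : IsFibMax f ξ) : Cyc.pullFun f δX δY c a ξ = a (f ξ) * mult f ξ := by
  unfold Cyc.pullFun
  rw [if_pos (hc ξ hξ)]
  rfl

theorem pullFun_eq_zero_of_not_isFibMax [IsLocallyNoetherian X] (f : X ⟶ Y) (δX : X → ℤ)
    (δY : Y → ℤ) (c : ℤ) (a : Y → ℤ) (ξ : X) (hξ : ¬ IsFibMax f ξ) :
    Cyc.pullFun f δX δY c a ξ = 0 := by
  unfold Cyc.pullFun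
  split_ifs
  · rw [length_fibre_eq_top f ξ hξ]
    simp
  · rfl

theorem exists_pullFun_cycle (f : X ⟶ Y) [IsLocallyNoetherian X] (δX : X → ℤ) (δY : Y → ℤ)
    (c : ℤ) (hc : ∀ x : X, (∀ y, f y = f x → y ⤳ x → y = x) → δX x = δY (f x) + c) (k : ℤ)
    (α : AlgebraicCycle Y ℤ) (hα : α ∈ Cyc.Zk Y δY k) :
    ∃ α' : AlgebraicCycle X ℤ, ⇑α' = Cyc.pullFun f δX δY c ⇑α ∧ α' ∈ Cyc.Zk X δX (k + c) := by
  classical
  obtain ⟨β, hβ⟩ : ∃ β : X → ℤ, β = Cyc.pullFun f δX δY c ⇑α := ⟨_, rfl⟩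
  have hlfα := locallyFinite_support_closure α
  have hlf' := Groth.Agent.Lib.Helper45.Cyc1940Q5.locallyFinite_pullback_family f
    (fun i : {η : Y // α η ≠ 0} => i.1) hlfα
  have hβsupp : ∀ ξ, β ξ ≠ 0 → IsFibMax f ξ ∧ α (f ξ) ≠ 0 := by
    intro ξ hξs
    have hfm : IsFibMax f ξ := by
      by_contra h
      apply hξs
      rw [hβ]
      exact pullFun_eq_zero_of_not_isFibMax f δX δY c _ ξ h
    refine ⟨hfm, ?_⟩
    intro h0
    apply hξs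
    rw [hβ, pullFun_eq_of_isFibMax f δX δY c hc _ ξ hfm, h0, zero_mul]
  have hβlf : ∀ x ∈ (Set.univ : Set X), ∃ t ∈ nhds x, (t ∩ Function.support β).Finite := by
    intro x _
    obtain ⟨U, hUo, hxU, hfin⟩ := hlf' x
    refine ⟨U, hUo.mem_nhds hxU, ?_⟩
    apply (hfin.image (fun j => j.2.1)).subset
    rintro ξ ⟨hξU, hξs⟩
    obtain ⟨hfm, hαne⟩ := hβsupp ξ hξs
    exact ⟨⟨⟨f ξ, hαne⟩, ξ, rfl, hfm⟩, ⟨ξ, subset_closure rfl, hξU⟩, rfl⟩
  refine ⟨⟨β, Set.subset_univ _, hβlf⟩, hβ, ?_⟩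
  intro ξ hne
  show β ξ = 0
  rw [hβ]
  unfold Cyc.pullFun
  split_ifs with h1
  · have : α (f ξ) = 0 := hα (f ξ) (by
      intro h2
      apply hne
      rw [h1, h2])
    rw [this, zero_mul]
  · rfl

theorem pullFun_c1CapFun_eq (f : X ⟶ Y) [Flat f] (δX : X → ℤ) (δY : Y → ℤ)
    (hX : Cyc.IsSetup X δX) (hY : Cyc.IsSetup Y δY) (c : ℤ)
    (hc : ∀ x : X, (∀ y, f y = f x → y ⤳ x → y = x) → δX x = δY (f x) + c)
    (L : Y.Modules) (hL : PicF.IsInvertible L) (α : AlgebraicCycle Y ℤ)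
    (v : (η : Y) → Cyc.secFibre L η) (hv : ∀ η, v η ≠ 0)
    (u₀ : (ξ : X) → Cyc.secFibre ((Scheme.Modules.pullback f).obj L) ξ)
    (hu₀ : ∀ (ξ : X) (U : Y.Opens) (e : Γ(L, U)) (he : IsGen L U e) (hU : f ξ ∈ U)
      (φ : Y.presheaf.stalk (f ξ)),
      φ • (Submodule.Quotient.mk (L.presheaf.germ U (f ξ) hU e) : Cyc.secFibre L (f ξ)) =
        v (f ξ) →
      u₀ ξ = (f.stalkMap ξ).hom φ • (Submodule.Quotient.mk
        (((Scheme.Modules.pullback f).obj L).presheaf.germ (f ⁻¹ᵁ U) ξ hU (pbSec f L U e)) :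
        Cyc.secFibre ((Scheme.Modules.pullback f).obj L) ξ))
    (x' : X) :
    Cyc.pullFun f δX δY c (Cyc.c1CapFun δY L ⇑α v) x' =
      Cyc.c1CapFun δX ((Scheme.Modules.pullback f).obj L) (Cyc.pullFun f δX δY c ⇑α) u₀ x' := by
  classical
  haveI : IsLocallyNoetherian X := hX.1
  haveI : IsLocallyNoetherian Y := hY.1
  obtain ⟨β, hβ⟩ : ∃ β : X → ℤ, β = Cyc.pullFun f δX δY c ⇑α := ⟨_, rfl⟩
  rw [← hβ]
  have hβval : ∀ ξ, IsFibMax f ξ → β ξ = α (f ξ) * mult f ξ := by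
    intro ξ hξ
    rw [hβ]
    exact pullFun_eq_of_isFibMax f δX δY c hc _ ξ hξ
  have hβzero : ∀ ξ, ¬ IsFibMax f ξ → β ξ = 0 := by
    intro ξ hξ
    rw [hβ]
    exact pullFun_eq_zero_of_not_isFibMax f δX δY c _ ξ hξ
  have hlfα := locallyFinite_support_closure α
  have hlf' := Groth.Agent.Lib.Helper45.Cyc1940Q5.locallyFinite_pullback_family f
    (fun i : {η : Y // α η ≠ 0} => i.1) hlfα
  have hβsupp : ∀ ξ, β ξ ≠ 0 → IsFibMax f ξ ∧ α (f ξ) ≠ 0 := by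
    intro ξ hξs
    have hfm : IsFibMax f ξ := by
      by_contra h
      exact hξs (hβzero ξ h)
    refine ⟨hfm, ?_⟩
    intro h0
    apply hξs
    rw [hβval ξ hfm, h0, zero_mul]
  obtain ⟨S, hS⟩ : ∃ S : X → ℤ, ∀ ξ, S ξ =
      Cyc.secDivFun δX ((Scheme.Modules.pullback f).obj L) ξ (u₀ ξ) x' := ⟨_, fun _ => rfl⟩
  have hSsp : ∀ ξ, S ξ ≠ 0 → ξ ⤳ x' := by
    intro ξ hne
    by_contra hns
    apply hne
    rw [hS]
    exact secDivFun_eq_zero_of_not_specializes _ _ _ _ _ hns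
  have ea : Cyc.pullFun f δX δY c (Cyc.c1CapFun δY L ⇑α v) x' =
      ∑ᶠ η, α η * Cyc.pullFun f δX δY c (Cyc.secDivFun δY L η (v η)) x' := by
    unfold Cyc.pullFun Cyc.c1CapFun
    by_cases hcnd : δX x' = δY (f x') + c
    · simp only [if_pos hcnd]
      rw [finsum_mul]
      apply finsum_congr
      intro η
      ring
    · simp only [if_neg hcnd, mul_zero]
      rw [finsum_zero]
  have eb : ∀ η, α η * Cyc.pullFun f δX δY c (Cyc.secDivFun δY L η (v η)) x' =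
      α η * ∑ᶠ ξ' : Over f η, mult f ξ'.1 * S ξ'.1 := by
    intro η
    rw [pullFun_secDivFun f δX δY hX hY c hc L hL v hv u₀ hu₀ η x']
    congr 1
    apply finsum_congr
    intro ξ'
    rw [hS]
  rw [ea, finsum_congr eb]
  rw [finsum_eq_subtype_of_support (fun η => α η * ∑ᶠ ξ' : Over f η, mult f ξ'.1 * S ξ'.1)
    (fun η => α η ≠ 0) (fun η hne => left_ne_zero_of_mul hne)]
  obtain ⟨F, hF⟩ : ∃ F : (Σ i : {η : Y // α η ≠ 0}, Over f i.1) → ℤ,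
      ∀ j, F j = α j.1.1 * (mult f j.2.1 * S j.2.1) := ⟨_, fun _ => rfl⟩
  have hFfin : (Function.support F).Finite := by
    obtain ⟨U, hUo, hxU, hfin⟩ := hlf' x'
    apply hfin.subset
    intro j hj
    rw [Function.mem_support, hF] at hj
    have h1 : S j.2.1 ≠ 0 := right_ne_zero_of_mul (right_ne_zero_of_mul hj)
    exact ⟨x', specializes_iff_mem_closure.1 (hSsp _ h1), hxU⟩
  have ed : ∑ᶠ i : {η : Y // α η ≠ 0}, α i.1 * ∑ᶠ ξ' : Over f i.1, mult f ξ'.1 * S ξ'.1 =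
      ∑ᶠ j, F j := by
    rw [finsum_sigma_eq F hFfin]
    apply finsum_congr
    intro i
    rw [mul_finsum]
    apply finsum_congr
    intro ξ'
    rw [hF]
  rw [ed]
  unfold Cyc.c1CapFun
  have ee : ∀ ξ, β ξ * Cyc.secDivFun δX ((Scheme.Modules.pullback f).obj L) ξ (u₀ ξ) x' =
      β ξ * S ξ := by
    intro ξ
    rw [hS]
  rw [finsum_congr ee, finsum_eq_subtype_of_support (fun ξ => β ξ * S ξ)
    (fun ξ => IsFibMax f ξ ∧ α (f ξ) ≠ 0) (fun ξ hne => hβsupp ξ (left_ne_zero_of_mul hne))]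
  let eqv : (Σ i : {η : Y // α η ≠ 0}, Over f i.1) ≃ {ξ : X // IsFibMax f ξ ∧ α (f ξ) ≠ 0} :=
    { toFun := fun j => ⟨j.2.1, j.2.2.2, by rw [j.2.2.1]; exact j.1.2⟩
      invFun := fun ξ => ⟨⟨f ξ.1, ξ.2.2⟩, ξ.1, rfl, ξ.2.1⟩
      left_inv := by
        rintro ⟨⟨η, hη⟩, ξ', h⟩
        have h1 := h.1
        subst h1
        rfl
      right_inv := fun ξ => rfl }
  rw [← finsum_comp_equiv eqv]
  apply finsum_congr
  intro j
  obtain ⟨⟨η, hη⟩, ξ', h⟩ := j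
  have h1 := h.1
  subst h1
  show F _ = β ξ' * S ξ'
  rw [hF, hβval ξ' h.2]
  ring

/-- independence of the rational sections, relative to a closed subscheme -/
theorem ratEquiv_c1Cap_of_sections_on {Z : Scheme.{u}} (ι : Z ⟶ X) [IsClosedImmersion ι]
    (δ : X → ℤ) (L : X.Modules) (hL : PicF.IsInvertible L)
    (k : ℤ) (α : AlgebraicCycle X ℤ) (hα : α ∈ Cyc.Zk X δ (k + 1))
    (s₁ : (ξ : X) → Cyc.secFibre L ξ) (hs₁ : ∀ ξ, s₁ ξ ≠ 0)
    (s₂ : (ξ : X) → Cyc.secFibre L ξ) (hs₂ : ∀ ξ, s₂ ξ ≠ 0)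
    (hoff : ∀ ξ, ξ ∉ Set.range ⇑ι → ∀ x,
      Cyc.secDivFun δ L ξ (s₁ ξ) x = Cyc.secDivFun δ L ξ (s₂ ξ) x)
    (ζ₁ ζ₂ : AlgebraicCycle Z ℤ) (h₁ : ∀ z, ζ₁ z = Cyc.c1CapFun δ L ⇑α s₁ (ι z))
    (h₂ : ∀ z, ζ₂ z = Cyc.c1CapFun δ L ⇑α s₂ (ι z)) :
    Cyc.RatEquiv (fun z => δ (ι z)) k ζ₁ ζ₂ := by
  classical
  have hgen : ∀ ξ : X, ∃ (V : X.Opens) (_ : ξ ∈ V) (gL : Γ(L, V)), IsGen L V gL := by
    intro ξ
    obtain ⟨U, hU, e, he⟩ := (isInvertible_iff_exists_isGen.1 hL) ξ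
    exact ⟨U, hU, e, he⟩
  choose V hξV gL hgL using hgen
  choose a ha1 ha2 using fun ξ => exists_coeff_fibre L ξ (hξV ξ) (hgL ξ) (s₁ ξ) (hs₁ ξ)
  choose b hb1 hb2 using fun ξ => exists_coeff_fibre L ξ (hξV ξ) (hgL ξ) (s₂ ξ) (hs₂ ξ)
  obtain ⟨F, hFdef⟩ : ∃ F : ∀ ξ : X, X.residueField ξ, F = fun ξ =>
    (X.residue ξ (a ξ) : X.residueField ξ) / (X.residue ξ (b ξ) : X.residueField ξ) := ⟨_, rfl⟩
  have hF : ∀ ξ, F ξ ≠ 0 := by
    intro ξ
    rw [hFdef]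
    exact div_ne_zero (residue_ne_zero (ha1 ξ)) (residue_ne_zero (hb1 ξ))
  have hpt : ∀ ξ x : X, Cyc.secDivFun δ L ξ (s₁ ξ) x =
      Cyc.secDivFun δ L ξ (s₂ ξ) x + Cyc.divFun δ ξ (F ξ) x := by
    intro ξ x
    unfold Cyc.secDivFun Cyc.divFun
    split_ifs with h
    · rw [← ha2 ξ, ← hb2 ξ, hFdef]
      exact secOrdAt_sub L hL h.1 (hξV ξ) (hgL ξ) _ _ (ha1 ξ) (hb1 ξ)
    · simp
  have hFoff : ∀ ξ, ξ ∉ Set.range ⇑ι → ∀ x, Cyc.divFun δ ξ (F ξ) x = 0 := by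
    intro ξ hξ x
    have h1 := hpt ξ x
    rw [hoff ξ hξ x] at h1
    omega
  obtain ⟨ζ, f', hdim', hne', hlf', hdiv⟩ :=
    exists_family_closedImmersion ι δ k
      (fun p : {ξ : X // α ξ ≠ 0 ∧ ξ ∈ Set.range ⇑ι} => p.1)
      (fun p => (F p.1) ^ (α p.1))
      (fun p => p.2.2)
      (fun p => by
        by_contra hne
        exact p.2.1 (hα p.1 hne))
      (fun p => zpow_ne_zero _ (hF p.1))
      (fun x => by
        obtain ⟨U₀, hU₀o, hxU₀, hU₀fin⟩ := locallyFinite_support_closure α x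
        refine ⟨U₀, hU₀o, hxU₀, ?_⟩
        have hinj : Function.Injective
            (fun p : {ξ : X // α ξ ≠ 0 ∧ ξ ∈ Set.range ⇑ι} => (⟨p.1, p.2.1⟩ : {ξ : X // α ξ ≠ 0})) := by
          intro p q hpq
          apply Subtype.ext
          exact congrArg (fun r : {ξ : X // α ξ ≠ 0} => r.1) hpq
        apply (Set.Finite.preimage hinj.injOn hU₀fin).subset
        intro p hp
        exact hp)
  unfold Cyc.RatEquiv
  refine ⟨_, ζ, f', hdim', hne', hlf', fun z => ?_⟩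
  have e0 : (ζ₁ - ζ₂) z = ζ₁ z - ζ₂ z := rfl
  rw [e0, h₁ z, h₂ z]
  unfold Cyc.c1CapFun
  obtain ⟨x, hx⟩ : ∃ x : X, x = ι z := ⟨_, rfl⟩
  rw [← hx]
  have hfin2 := finite_support_mul α x (fun ξ => Cyc.secDivFun δ L ξ (s₂ ξ) x)
    (fun ξ h => secDivFun_eq_zero_of_not_specializes δ L ξ (s₂ ξ) x h)
  have hfinF := finite_support_mul α x (fun ξ => Cyc.divFun δ ξ (F ξ) x)
    (fun ξ h => divFun_eq_zero_of_not_specializes δ ξ (F ξ) x h)
  have hT : ∑ᶠ ξ, α ξ * Cyc.secDivFun δ L ξ (s₁ ξ) x =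
      ∑ᶠ ξ, α ξ * Cyc.secDivFun δ L ξ (s₂ ξ) x + ∑ᶠ ξ, α ξ * Cyc.divFun δ ξ (F ξ) x := by
    rw [← finsum_add_distrib hfin2 hfinF]
    apply finsum_congr
    intro ξ
    rw [hpt]
    ring
  rw [hT, add_sub_cancel_left,
    finsum_eq_subtype_of_support (fun ξ => α ξ * Cyc.divFun δ ξ (F ξ) x)
      (fun ξ => α ξ ≠ 0 ∧ ξ ∈ Set.range ⇑ι) (fun ξ hne => ⟨left_ne_zero_of_mul hne, by
        by_contra hξ
        exact right_ne_zero_of_mul hne (hFoff ξ hξ x)⟩)]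
  apply finsum_congr
  intro p
  rw [hdiv p z, ← hx]
  exact (divFun_zpow δ p.1 (hF p.1) (α p.1) x).symm

end Groth.Agent.Lib.Helper64.FlatC1
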