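import Groth.Agent.Lib.Helper64.FlatC1c

/-!
# Base change of a zero scheme along a morphism: fibre multiplicities (helper64)

For a cartesian square `p₁ : P → X'`, `p₂ : P → D`, `f : X' → X`, `i : D → X` with `i` the zero
scheme of a section: the multiplicity of a point `z` of `P` in its fibre over `D` equals the
multiplicity of `p₁ z` in its fibre over `X`: `mult_snd_eq`.
-/

set_option autoImplicit false
set_option linter.style.haveILetI false
set_option linter.unusedSectionVars false
set_option linter.unusedVariables false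
universe u

open AlgebraicGeometry CategoryTheory TopologicalSpace IsLocalRing CycAlg Limits

namespace Groth.Agent.Lib.Helper64.FlatGys

open Groth.Agent.Lib.Helper64.CycOrd Groth.Agent.Lib.Helper64.CycLen
open Groth.Agent.Lib.Helper64.CycExc Groth.Agent.Lib.Helper64.CycTens
open Groth.Agent.Lib.Helper64.CycCl Groth.Agent.Lib.Helper64.RelKey
open Groth.Agent.Lib.Helper64.RefExt Groth.Agent.Lib.Helper64.RefS2
open Groth.Agent.Lib.Helper64.SecOrd Groth.Agent.Lib.Helper64.GysPb
open Groth.Agent.Lib.Helper64.GysSq Groth.Agent.Lib.Helper64.FlatC1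
open Groth.Agent.Lib.Lead.Inv Groth.Agent.Lib.Lead.QCohAff
open Groth.Agent.Lib.Helper35.PbInv
open Groth.Agent.Lib.Helper90.RelOrd Groth.Agent.Lib.Helper90.CycPull

/-- the algebra behind `mult_snd_eq` -/
theorem length_quotient_map_eq {R R' A B : Type u} [CommRing R] [CommRing R'] [CommRing A]
    [CommRing B] [IsLocalRing R] [IsLocalRing R'] (ψ : R →+* R') (hψ : Function.Surjective ψ)
    (hloc : ∀ x, IsUnit (ψ x) → IsUnit x) (φf : R →+* A) (φg : R' →+* B) (π : A →+* B)
    (hπ : Function.Surjective π) (hcomm : π.comp φf = φg.comp ψ) (f₀ : R)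
    (hkerψ : RingHom.ker ψ = Ideal.span {f₀}) (hkerπ : RingHom.ker π = Ideal.span {φf f₀}) :
    Module.length B (B ⧸ Ideal.map φg (maximalIdeal R')) =
      Module.length A (A ⧸ Ideal.map φf (maximalIdeal R)) := by
  have hf₀ : f₀ ∈ maximalIdeal R := by
    rw [IsLocalRing.mem_maximalIdeal]
    intro hu
    have h0 : ψ f₀ = 0 := by
      have : f₀ ∈ RingHom.ker ψ := by
        rw [hkerψ]
        exact Ideal.mem_span_singleton_self f₀
      exact this
    have h1 : IsUnit (ψ f₀) := hu.map ψ
    rw [h0] at h1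
    exact not_isUnit_zero h1
  have hmax : maximalIdeal R' = Ideal.map ψ (maximalIdeal R) := by
    apply le_antisymm
    · intro y hy
      obtain ⟨x, rfl⟩ := hψ y
      apply Ideal.mem_map_of_mem
      rw [IsLocalRing.mem_maximalIdeal] at hy ⊢
      intro hu
      exact hy (hu.map ψ)
    · rw [Ideal.map_le_iff_le_comap]
      intro x hx
      rw [Ideal.mem_comap, IsLocalRing.mem_maximalIdeal]
      rw [IsLocalRing.mem_maximalIdeal] at hx
      intro hu
      exact hx (hloc x hu)
  have hJ : Ideal.map φg (maximalIdeal R') = Ideal.map π (Ideal.map φf (maximalIdeal R)) := by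
    rw [hmax, Ideal.map_map, Ideal.map_map, hcomm]
  have hkle : RingHom.ker π ≤ Ideal.map φf (maximalIdeal R) := by
    rw [hkerπ, Ideal.span_le]
    intro a ha
    rw [Set.mem_singleton_iff] at ha
    rw [ha]
    exact Ideal.mem_map_of_mem _ hf₀
  have hcomap : Ideal.comap π (Ideal.map φg (maximalIdeal R')) =
      Ideal.map φf (maximalIdeal R) := by
    rw [hJ, Ideal.comap_map_of_surjective π hπ]
    apply le_antisymm
    · apply sup_le le_rfl
      exact hkle
    · exact le_sup_left
  have e1 := length_quotient_eq_of_surjective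
    ((Ideal.Quotient.mk (Ideal.map φg (maximalIdeal R'))).comp π)
    (Ideal.Quotient.mk_surjective.comp hπ) (Ideal.map φf (maximalIdeal R)) (by
      rw [← hcomap]
      ext a
      rw [RingHom.mem_ker, Ideal.mem_comap, RingHom.comp_apply, Ideal.Quotient.eq_zero_iff_mem])
  have e2 := length_quotient_eq_of_surjective
    (Ideal.Quotient.mk (Ideal.map φg (maximalIdeal R')))
    Ideal.Quotient.mk_surjective (Ideal.map φg (maximalIdeal R')) Ideal.mk_ker
  rw [e1, e2]

variable {X X' D P : Scheme.{u}}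

theorem mult_snd_eq (p₁ : P ⟶ X') (p₂ : P ⟶ D) (f : X' ⟶ X) (i : D ⟶ X)
    [IsClosedImmersion i] [IsClosedImmersion p₁] (hsq : IsPullback p₁ p₂ f i)
    (L : X.Modules) (s : L.presheaf.obj (Opposite.op ⊤)) (hD : Cyc.IsZeroSchemeOf i L s) (z : P) :
    mult p₂ z = mult f (p₁ z) := by
  have hpt : f (p₁ z) = i (p₂ z) := map_fst_mem_range p₁ p₂ f i hsq z
  obtain ⟨t₂, f₂, hspan₂, hgerm₂, hker₂⟩ := zeroScheme_at i L s hD (p₂ z) (f (p₁ z)) hpt
  have hK := ker_stalkMap_fst_eq_span p₁ p₂ f i hsq p₁.isClosedEmbedding.injective z hpt f₂ hker₂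
  have hw : p₁ ≫ f = p₂ ≫ i := hsq.w
  have hcomm : f.stalkMap (p₁ z) ≫ p₁.stalkMap z =
      (X.presheaf.stalkCongr (.of_eq hpt)).hom ≫ i.stalkMap (p₂ z) ≫ p₂.stalkMap z := by
    rw [← Scheme.Hom.stalkMap_comp, ← Scheme.Hom.stalkMap_comp]
    exact Scheme.Hom.stalkMap_congr_hom (p₁ ≫ f) (p₂ ≫ i) hw z
  have hψsurj : Function.Surjective ((i.stalkMap (p₂ z)).hom.comp
      (X.presheaf.stalkCongr (.of_eq hpt)).hom.hom) := by
    have h1 : Function.Surjective (i.stalkMap (p₂ z)).hom := i.stalkMap_surjective (p₂ z)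
    have h2 : Function.Surjective (X.presheaf.stalkCongr (.of_eq hpt)).hom.hom :=
      (ConcreteCategory.bijective_of_isIso (X.presheaf.stalkCongr (.of_eq hpt)).hom).2
    exact h1.comp h2
  have hloc : ∀ x, IsUnit (((i.stalkMap (p₂ z)).hom.comp
      (X.presheaf.stalkCongr (.of_eq hpt)).hom.hom) x) → IsUnit x := by
    intro x hu
    have h1 : IsUnit ((X.presheaf.stalkCongr (.of_eq hpt)).hom.hom x) :=
      (isUnit_map_iff (i.stalkMap (p₂ z)).hom _).1 hu
    have h2 := h1.map (X.presheaf.stalkCongr (.of_eq hpt)).inv.hom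
    have h3 : (X.presheaf.stalkCongr (.of_eq hpt)).inv.hom
        ((X.presheaf.stalkCongr (.of_eq hpt)).hom.hom x) = x := by
      have := ConcreteCategory.congr_hom (X.presheaf.stalkCongr (.of_eq hpt)).hom_inv_id x
      exact this
    rw [h3] at h2
    exact h2
  have key := length_quotient_map_eq
    ((i.stalkMap (p₂ z)).hom.comp (X.presheaf.stalkCongr (.of_eq hpt)).hom.hom) hψsurj hloc
    (f.stalkMap (p₁ z)).hom (p₂.stalkMap z).hom (p₁.stalkMap z).hom
    (p₁.stalkMap_surjective z) (by
      ext a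
      exact ConcreteCategory.congr_hom hcomm a) f₂ hker₂ hK
  unfold mult
  rw [key]

end Groth.Agent.Lib.Helper64.FlatGys
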