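import Groth.Agent.Lib.Helper64.FlatGys1

/-!
# Base change of a zero scheme along a morphism: comparing the sections (helper64)

For a cartesian square `p₁ : P → X'`, `p₂ : P → D`, `f : X' → X`, `i : D → X` with `i = Z(s)` and
`p₁ = Z(s')` for a section `s'` of `f^* L`: at the points of `X'` outside `P` the rational sections
`s'` and `f^* s` have the same divisor: `secDivFun_pb_zeroScheme_eq`.
-/

set_option autoImplicit false
set_option linter.style.haveILetI false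
set_option linter.unusedSectionVars false
set_option linter.unusedVariables false
universe u

open AlgebraicGeometry CategoryTheory TopologicalSpace IsLocalRing CycAlg Limits

namespace Groth.Agent.Lib.Helper64.FlatGys

open Groth.Agent.Lib.Helper64.CycOrd Groth.Agent.Lib.Helper64.CycLen
open Groth.Agent.Lib.Helper64.CycExc Groth.Agent.Lib.Helper64.CycTens
open Groth.Agent.Lib.Helper64.CycCl Groth.Agent.Lib.Helper64.RelKey
open Groth.Agent.Lib.Helper64.RefExt Groth.Agent.Lib.Helper64.RefS2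
open Groth.Agent.Lib.Helper64.SecOrd Groth.Agent.Lib.Helper64.GysPb
open Groth.Agent.Lib.Helper64.GysSq Groth.Agent.Lib.Helper64.FlatC1
open Groth.Agent.Lib.Lead.Inv Groth.Agent.Lib.Lead.QCohAff
open Groth.Agent.Lib.Helper35.PbInv
open Groth.Agent.Lib.Helper90.RelOrd Groth.Agent.Lib.Helper90.CycPull

variable {X X' D P : Scheme.{u}}

theorem secDivFun_pb_zeroScheme_eq (p₁ : P ⟶ X') (p₂ : P ⟶ D) (f : X' ⟶ X) (i : D ⟶ X)
    [IsClosedImmersion i] [IsClosedImmersion p₁] (hsq : IsPullback p₁ p₂ f i) (δ' : X' → ℤ)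
    (L : X.Modules) (hL : PicF.IsInvertible L) (s : L.presheaf.obj (Opposite.op ⊤))
    (hD : Cyc.IsZeroSchemeOf i L s)
    (s' : ((Scheme.Modules.pullback f).obj L).presheaf.obj (Opposite.op ⊤))
    (hD' : Cyc.IsZeroSchemeOf p₁ ((Scheme.Modules.pullback f).obj L) s')
    (ξ' : X') (hξ' : ξ' ∉ Set.range ⇑p₁)
    (u₀ : Cyc.secFibre ((Scheme.Modules.pullback f).obj L) ξ')
    (hu₀ : ∀ (U : X.Opens) (e : Γ(L, U)) (he : IsGen L U e) (hU : f ξ' ∈ U)
      (φ : X.presheaf.stalk (f ξ')),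
      φ • (Submodule.Quotient.mk (L.presheaf.germ U (f ξ') hU e) : Cyc.secFibre L (f ξ')) =
        (Submodule.Quotient.mk (L.presheaf.germ ⊤ (f ξ') trivial s) : Cyc.secFibre L (f ξ')) →
      u₀ = (f.stalkMap ξ').hom φ • (Submodule.Quotient.mk
        (((Scheme.Modules.pullback f).obj L).presheaf.germ (f ⁻¹ᵁ U) ξ' hU (pbSec f L U e)) :
        Cyc.secFibre ((Scheme.Modules.pullback f).obj L) ξ'))
    (x' : X') :
    Cyc.secDivFun δ' ((Scheme.Modules.pullback f).obj L) ξ'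
      (Submodule.Quotient.mk (((Scheme.Modules.pullback f).obj L).presheaf.germ ⊤ ξ' trivial s') :
        Cyc.secFibre ((Scheme.Modules.pullback f).obj L) ξ') x' =
    Cyc.secDivFun δ' ((Scheme.Modules.pullback f).obj L) ξ' u₀ x' := by
  classical
  have hinv : PicF.IsInvertible ((Scheme.Modules.pullback f).obj L) :=
    Groth.Agent.Lib.Helper35.PbInv.isInvertible_pullback f hL
  by_cases h : ξ' ⤳ x'
  swap
  · rw [secDivFun_eq_zero_of_not_specializes _ _ _ _ _ h,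
      secDivFun_eq_zero_of_not_specializes _ _ _ _ _ h]
  have h' : f ξ' ⤳ f x' := h.map f.continuous
  obtain ⟨U, hU, e, he⟩ := (isInvertible_iff_exists_isGen.1 hL) (f x')
  have hξU : f ξ' ∈ U := h'.mem_open U.isOpen hU
  have hbijξ := bijective_stalk_of_isGen (isGen_pb f L he) ξ' (show ξ' ∈ f ⁻¹ᵁ U from hξU)
  have hs'ne : (Submodule.Quotient.mk
      (((Scheme.Modules.pullback f).obj L).presheaf.germ ⊤ ξ' trivial s') :
      Cyc.secFibre ((Scheme.Modules.pullback f).obj L) ξ') ≠ 0 := by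
    intro h0
    apply hξ'
    rw [hD'.1]
    exact h0
  by_cases hx' : x' ∈ Set.range ⇑p₁
  swap
  · -- both sections generate at `x'`
    have hfx' : f x' ∉ Set.range ⇑i := by
      rintro ⟨d, hd⟩
      exact hx' (mem_range_fst p₁ p₂ f i hsq x' d hd.symm)
    have h1 : (Submodule.Quotient.mk
        (((Scheme.Modules.pullback f).obj L).presheaf.germ ⊤ x' trivial s') :
        Cyc.secFibre ((Scheme.Modules.pullback f).obj L) x') ≠ 0 := by
      intro h0
      apply hx'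
      rw [hD'.1]
      exact h0
    have h2 : (Submodule.Quotient.mk (L.presheaf.germ ⊤ (f x') trivial s) :
        Cyc.secFibre L (f x')) ≠ 0 := by
      intro h0
      apply hfx'
      rw [hD.1]
      exact h0
    rw [secDivFun_germ_eq_zero δ' _ hinv s' ξ' x' h1]
    have hbij := bijective_stalk_of_isGen he (f x') hU
    obtain ⟨a, ha⟩ := hbij.2 (L.presheaf.germ ⊤ (f x') trivial s)
    have ha' : L.presheaf.germ ⊤ (f x') trivial s = a • L.presheaf.germ U (f x') hU e := ha.symm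
    have ham : a ∉ maximalIdeal (X.presheaf.stalk (f x')) := by
      intro hmem
      apply h2
      rw [ha']
      exact (smul_mk_eq_zero_iff L (f x') _ hbij a).2 hmem
    have hau : IsUnit a := by
      by_contra hne
      exact ham ((IsLocalRing.mem_maximalIdeal _).2 hne)
    have F₂ : L.presheaf.germ ⊤ (f ξ') trivial s =
        (X.presheaf.stalkSpecializes h').hom a • L.presheaf.germ U (f ξ') hξU e := by
      have := congrArg (L.presheaf.stalkSpecializes h').hom ha'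
      rw [sp_germ, sp_smul, sp_germ] at this
      exact this
    have hu := hu₀ U e he hξU ((X.presheaf.stalkSpecializes h').hom a) (by
      rw [F₂]
      rfl)
    have hsw : (f.stalkMap ξ').hom ((X.presheaf.stalkSpecializes h').hom a) =
        (X'.presheaf.stalkSpecializes h).hom ((f.stalkMap x').hom a) :=
      Scheme.Hom.stalkSpecializes_stalkMap_apply f ξ' x' h a
    have hau' : IsUnit ((f.stalkMap x').hom a) := hau.map _
    rw [hu, hsw]
    unfold Cyc.secDivFun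
    by_cases hc : ξ' ⤳ x' ∧ δ' x' + 1 = δ' ξ'
    swap
    · rw [dif_neg hc]
    rw [dif_pos hc, secOrdAt_eq_of_isGen _ (isGen_pb f L he) hc.1 (show x' ∈ f ⁻¹ᵁ U from hU) _
      (not_mem_maximalIdeal_of_isUnit (hau'.map _))]
    exact (ordAt_specMap_unit x' ξ' hc.1 hau').symm
  obtain ⟨z, rfl⟩ := hx'
  have hpt : f (p₁ z) = i (p₂ z) := map_fst_mem_range p₁ p₂ f i hsq z
  obtain ⟨t₁, f₁, hspan₁, hgerm₁, hker₁⟩ := hD'.2 z
  obtain ⟨t₂, f₂, hspan₂, hgerm₂, hker₂⟩ := zeroScheme_at i L s hD (p₂ z) (f (p₁ z)) hpt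
  have hK := ker_stalkMap_fst_eq_span p₁ p₂ f i hsq p₁.isClosedEmbedding.injective z hpt f₂ hker₂
  obtain ⟨a, hau, hfa⟩ := exists_unit_mul_of_span_eq (hker₁.symm.trans hK)
  obtain ⟨c₂, hc₂u, hc₂⟩ := exists_unit_smul_germ L he (f (p₁ z)) hU t₂ hspan₂
  obtain ⟨c₁, hc₁u, hc₁⟩ := exists_unit_smul_germ ((Scheme.Modules.pullback f).obj L)
    (isGen_pb f L he) (p₁ z) (show p₁ z ∈ f ⁻¹ᵁ U from hU) t₁ hspan₁
  -- the germs at the special point
  have E₁ : ((Scheme.Modules.pullback f).obj L).presheaf.germ ⊤ (p₁ z) trivial s' =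
      (a * c₁ * (f.stalkMap (p₁ z)).hom f₂) •
        ((Scheme.Modules.pullback f).obj L).presheaf.germ (f ⁻¹ᵁ U) (p₁ z) hU
          (pbSec f L U e) := by
    rw [hgerm₁, hfa, hc₁, smul_smul]
    congr 1
    ring
  have E₂ : L.presheaf.germ ⊤ (f (p₁ z)) trivial s =
      (f₂ * c₂) • L.presheaf.germ U (f (p₁ z)) hU e := by
    rw [hgerm₂, hc₂, smul_smul]
  -- the germs at the generic point
  have F₂ : L.presheaf.germ ⊤ (f ξ') trivial s =
      (X.presheaf.stalkSpecializes h').hom (f₂ * c₂) • L.presheaf.germ U (f ξ') hξU e := by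
    have := congrArg (L.presheaf.stalkSpecializes h').hom E₂
    rw [sp_germ, sp_smul, sp_germ] at this
    exact this
  have F₁ : ((Scheme.Modules.pullback f).obj L).presheaf.germ ⊤ ξ' trivial s' =
      (X'.presheaf.stalkSpecializes h).hom (a * c₁ * (f.stalkMap (p₁ z)).hom f₂) •
        ((Scheme.Modules.pullback f).obj L).presheaf.germ (f ⁻¹ᵁ U) ξ' hξU
          (pbSec f L U e) := by
    have := congrArg (((Scheme.Modules.pullback f).obj L).presheaf.stalkSpecializes h).hom E₁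
    rw [sp_germ, sp_smul, sp_germ] at this
    exact this
  have hu := hu₀ U e he hξU ((X.presheaf.stalkSpecializes h').hom (f₂ * c₂)) (by
    rw [F₂]
    rfl)
  have hsw : (f.stalkMap ξ').hom ((X.presheaf.stalkSpecializes h').hom (f₂ * c₂)) =
      (X'.presheaf.stalkSpecializes h).hom ((f.stalkMap (p₁ z)).hom (f₂ * c₂)) :=
    Scheme.Hom.stalkSpecializes_stalkMap_apply f ξ' (p₁ z) h (f₂ * c₂)
  obtain ⟨φ₁, hφ₁⟩ : ∃ φ₁ : X'.presheaf.stalk ξ',
      φ₁ = (X'.presheaf.stalkSpecializes h).hom (a * c₁ * (f.stalkMap (p₁ z)).hom f₂) :=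
    ⟨_, rfl⟩
  obtain ⟨φ₂, hφ₂⟩ : ∃ φ₂ : X'.presheaf.stalk ξ',
      φ₂ = (X'.presheaf.stalkSpecializes h).hom ((f.stalkMap (p₁ z)).hom (f₂ * c₂)) := ⟨_, rfl⟩
  rw [hsw, ← hφ₂] at hu
  rw [← hφ₁] at F₁
  have G₁ : (Submodule.Quotient.mk
      (((Scheme.Modules.pullback f).obj L).presheaf.germ ⊤ ξ' trivial s') :
      Cyc.secFibre ((Scheme.Modules.pullback f).obj L) ξ') =
      φ₁ • (Submodule.Quotient.mk
        (((Scheme.Modules.pullback f).obj L).presheaf.germ (f ⁻¹ᵁ U) ξ' hξU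
          (pbSec f L U e)) : Cyc.secFibre ((Scheme.Modules.pullback f).obj L) ξ') := by
    rw [F₁]
    rfl
  have hφ₁m : φ₁ ∉ maximalIdeal (X'.presheaf.stalk ξ') := by
    intro hmem
    apply hs'ne
    rw [G₁]
    exact (smul_mk_eq_zero_iff _ ξ' _ hbijξ φ₁).2 hmem
  have hspf : (X'.presheaf.stalkSpecializes h).hom ((f.stalkMap (p₁ z)).hom f₂) ∉
      maximalIdeal (X'.presheaf.stalk ξ') := by
    intro hmem
    apply hφ₁m
    rw [hφ₁, map_mul]
    exact Ideal.mul_mem_left _ _ hmem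
  have hac : IsUnit (a * c₁) := hau.mul hc₁u
  have hfc₂ : IsUnit ((f.stalkMap (p₁ z)).hom c₂) := hc₂u.map _
  have hspac : (X'.presheaf.stalkSpecializes h).hom (a * c₁) ∉
      maximalIdeal (X'.presheaf.stalk ξ') := not_mem_maximalIdeal_of_isUnit (hac.map _)
  have hspc : (X'.presheaf.stalkSpecializes h).hom ((f.stalkMap (p₁ z)).hom c₂) ∉
      maximalIdeal (X'.presheaf.stalk ξ') := not_mem_maximalIdeal_of_isUnit (hfc₂.map _)
  have hφ₂m : φ₂ ∉ maximalIdeal (X'.presheaf.stalk ξ') := by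
    rw [hφ₂, map_mul, map_mul]
    exact mul_not_mem hspf hspc
  rw [G₁, hu]
  unfold Cyc.secDivFun
  by_cases hc : ξ' ⤳ p₁ z ∧ δ' (p₁ z) + 1 = δ' ξ'
  swap
  · rw [dif_neg hc, dif_neg hc]
  rw [dif_pos hc, dif_pos hc,
    secOrdAt_eq_of_isGen _ (isGen_pb f L he) hc.1 (show p₁ z ∈ f ⁻¹ᵁ U from hU) φ₁ hφ₁m,
    secOrdAt_eq_of_isGen _ (isGen_pb f L he) hc.1 (show p₁ z ∈ f ⁻¹ᵁ U from hU) φ₂ hφ₂m]
  have e1 : (X'.residue ξ' φ₁ : X'.residueField ξ') =
      Cyc.specMap (p₁ z) ξ' hc.1 (a * c₁) *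
        Cyc.specMap (p₁ z) ξ' hc.1 ((f.stalkMap (p₁ z)).hom f₂) := by
    rw [hφ₁, ← map_mul]
    rfl
  have e2 : (X'.residue ξ' φ₂ : X'.residueField ξ') =
      Cyc.specMap (p₁ z) ξ' hc.1 ((f.stalkMap (p₁ z)).hom f₂) *
        Cyc.specMap (p₁ z) ξ' hc.1 ((f.stalkMap (p₁ z)).hom c₂) := by
    rw [hφ₂, ← map_mul, ← map_mul]
    rfl
  have n1 : Cyc.specMap (p₁ z) ξ' hc.1 (a * c₁) ≠ 0 := residue_ne_zero hspac
  have n2 : Cyc.specMap (p₁ z) ξ' hc.1 ((f.stalkMap (p₁ z)).hom f₂) ≠ 0 := residue_ne_zero hspf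
  have n3 : Cyc.specMap (p₁ z) ξ' hc.1 ((f.stalkMap (p₁ z)).hom c₂) ≠ 0 := residue_ne_zero hspc
  rw [e1, e2, ordAt_mul _ _ _ n1 n2, ordAt_mul _ _ _ n2 n3,
    ordAt_specMap_unit _ _ hc.1 hac, ordAt_specMap_unit _ _ hc.1 hfc₂, zero_add, add_zero]

end Groth.Agent.Lib.Helper64.FlatGys
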