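import Groth.Agent.Lib.Helper64.FlatGys2

/-!
# Gysin maps commute with flat pullback (helper64)

`gysin_flat_pullback`: for `f : X' → X` flat of relative dimension `r`, `i : D → X` the zero scheme
of a section of `L` and `D' = X' ×_X D` the zero scheme of a section of `f^* L`:
`(i')^*(f^* α) ∼ g^*(i^* α)` on `D'`.
-/

set_option autoImplicit false
set_option linter.style.haveILetI false
set_option linter.unusedSectionVars false
set_option linter.unusedVariables false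
universe u

open AlgebraicGeometry CategoryTheory TopologicalSpace IsLocalRing CycAlg Limits

namespace Groth.Agent.Lib.Helper64.FlatGys

open Groth.Agent.Lib.Helper64.CycOrd Groth.Agent.Lib.Helper64.CycLen
open Groth.Agent.Lib.Helper64.CycExc Groth.Agent.Lib.Helper64.CycTens
open Groth.Agent.Lib.Helper64.CycCl Groth.Agent.Lib.Helper64.RelKey
open Groth.Agent.Lib.Helper64.RefExt Groth.Agent.Lib.Helper64.RefS2
open Groth.Agent.Lib.Helper64.SecOrd Groth.Agent.Lib.Helper64.GysPb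
open Groth.Agent.Lib.Helper64.GysSq Groth.Agent.Lib.Helper64.FlatC1
open Groth.Agent.Lib.Lead.Inv Groth.Agent.Lib.Lead.QCohAff
open Groth.Agent.Lib.Helper35.PbInv
open Groth.Agent.Lib.Helper90.RelOrd Groth.Agent.Lib.Helper90.CycPull

/-- the shift-`c` form (no finite type hypothesis) -/
theorem gysin_flat_pullback' (X X' D : Scheme.{u}) (δ : X → ℤ) (δ' : X' → ℤ)
    (hX : Cyc.IsSetup X δ) (hX' : Cyc.IsSetup X' δ') (f : X' ⟶ X) [Flat f] (c : ℤ)
    (hc : ∀ x : X', (∀ y, f y = f x → y ⤳ x → y = x) → δ' x = δ (f x) + c)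
    (L : X.Modules) (hL : PicF.IsInvertible L) (s : L.presheaf.obj (Opposite.op ⊤))
    (i : D ⟶ X) [IsClosedImmersion i] (hD : Cyc.IsZeroSchemeOf i L s)
    (s' : ((Scheme.Modules.pullback f).obj L).presheaf.obj (Opposite.op ⊤))
    (hD' : Cyc.IsZeroSchemeOf (pullback.fst f i) ((Scheme.Modules.pullback f).obj L) s')
    (k : ℤ) (α : AlgebraicCycle X ℤ) (hα : α ∈ Cyc.Zk X δ (k + 1))
    (w : (ξ : X) → Cyc.secFibre L ξ) (hw : ∀ ξ, w ξ ≠ 0)
    (w' : (ξ : X') → Cyc.secFibre ((Scheme.Modules.pullback f).obj L) ξ) (hw' : ∀ ξ, w' ξ ≠ 0)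
    (ζ₁ ζ₂ : AlgebraicCycle (pullback f i) ℤ)
    (h₁ : ∀ z, ζ₁ z = Cyc.c1CapFun δ' ((Scheme.Modules.pullback f).obj L)
      (Cyc.pullFun f δ' δ c ⇑α) (Cyc.gysinChoice ((Scheme.Modules.pullback f).obj L) s' w')
      (pullback.fst f i z))
    (h₂ : ⇑ζ₂ = Cyc.pullFun (pullback.snd f i) (fun z => δ' (pullback.fst f i z))
      (fun d => δ (i d)) c (fun d => Cyc.c1CapFun δ L ⇑α (Cyc.gysinChoice L s w) (i d))) :
    Cyc.RatEquiv (fun z => δ' (pullback.fst f i z)) (k + c) ζ₁ ζ₂ := by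
  classical
  haveI : IsLocallyNoetherian X := hX.1
  haveI : IsLocallyNoetherian X' := hX'.1
  have hsq : IsPullback (pullback.fst f i) (pullback.snd f i) f i := IsPullback.of_hasPullback f i
  haveI : IsClosedImmersion (pullback.fst f i) := inferInstance
  have hinv : PicF.IsInvertible ((Scheme.Modules.pullback f).obj L) :=
    Groth.Agent.Lib.Helper35.PbInv.isInvertible_pullback f hL
  obtain ⟨G, hGdef⟩ : ∃ G : (ξ : X) → Cyc.secFibre L ξ, G = Cyc.gysinChoice L s w := ⟨_, rfl⟩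
  have hG : ∀ ξ, G ξ ≠ 0 := by
    intro ξ
    rw [hGdef]
    exact gysinChoice_ne_zero L s w hw ξ
  obtain ⟨G', hG'def⟩ : ∃ G' : (ξ : X') → Cyc.secFibre ((Scheme.Modules.pullback f).obj L) ξ,
      G' = Cyc.gysinChoice ((Scheme.Modules.pullback f).obj L) s' w' := ⟨_, rfl⟩
  have hG' : ∀ ξ, G' ξ ≠ 0 := by
    intro ξ
    rw [hG'def]
    exact gysinChoice_ne_zero _ s' w' hw' ξ
  rw [← hGdef] at h₂
  rw [← hG'def] at h₁
  choose u₀ hu₀ne hu₀ using fun ξ' : X' => exists_pbFibre f L hL ξ' (G (f ξ')) (hG (f ξ'))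
  obtain ⟨α', hα', hα'Z⟩ := exists_pullFun_cycle f δ' δ c hc (k + 1) α hα
  have hα'Z' : α' ∈ Cyc.Zk X' δ' (k + c + 1) := by
    have e : k + c + 1 = k + 1 + c := by ring
    rw [e]
    exact hα'Z
  have h₁' : ∀ z, ζ₁ z = Cyc.c1CapFun δ' ((Scheme.Modules.pullback f).obj L) ⇑α' G'
      (pullback.fst f i z) := by
    intro z
    rw [h₁ z, hα']
  have h₂' : ∀ z, ζ₂ z = Cyc.c1CapFun δ' ((Scheme.Modules.pullback f).obj L) ⇑α' u₀
      (pullback.fst f i z) := by
    intro z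
    rw [congrFun h₂ z, hα',
      ← pullFun_c1CapFun_eq f δ' δ hX' hX c hc L hL α G hG u₀ hu₀ (pullback.fst f i z)]
    have hpt : f (pullback.fst f i z) = i (pullback.snd f i z) :=
      map_fst_mem_range (pullback.fst f i) (pullback.snd f i) f i hsq z
    obtain ⟨A, hA⟩ : ∃ A : X → ℤ, A = Cyc.c1CapFun δ L ⇑α G := ⟨_, rfl⟩
    rw [← hA]
    show (if δ' (pullback.fst f i z) = δ (i (pullback.snd f i z)) + c then
        A (i (pullback.snd f i z)) * mult (pullback.snd f i) z else 0) =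
      (if δ' (pullback.fst f i z) = δ (f (pullback.fst f i z)) + c then
        A (f (pullback.fst f i z)) * mult f (pullback.fst f i z) else 0)
    rw [mult_snd_eq (pullback.fst f i) (pullback.snd f i) f i hsq L s hD z,
      congrArg δ hpt, congrArg A hpt]
  have hoff : ∀ ξ', ξ' ∉ Set.range ⇑(pullback.fst f i) → ∀ x',
      Cyc.secDivFun δ' ((Scheme.Modules.pullback f).obj L) ξ' (G' ξ') x' =
        Cyc.secDivFun δ' ((Scheme.Modules.pullback f).obj L) ξ' (u₀ ξ') x' := by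
    intro ξ' hξ' x'
    have hs'ne : (Submodule.Quotient.mk
        (((Scheme.Modules.pullback f).obj L).presheaf.germ ⊤ ξ' trivial s') :
        Cyc.secFibre ((Scheme.Modules.pullback f).obj L) ξ') ≠ 0 := by
      intro h0
      apply hξ'
      rw [hD'.1]
      exact h0
    have hG'eq : G' ξ' = (Submodule.Quotient.mk
        (((Scheme.Modules.pullback f).obj L).presheaf.germ ⊤ ξ' trivial s') :
        Cyc.secFibre ((Scheme.Modules.pullback f).obj L) ξ') := by
      rw [hG'def]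
      unfold Cyc.gysinChoice
      rw [if_pos hs'ne]
    have hfξ' : f ξ' ∉ Set.range ⇑i := by
      rintro ⟨d, hd⟩
      exact hξ' (mem_range_fst (pullback.fst f i) (pullback.snd f i) f i hsq ξ' d hd.symm)
    have hsne : (Submodule.Quotient.mk (L.presheaf.germ ⊤ (f ξ') trivial s) :
        Cyc.secFibre L (f ξ')) ≠ 0 := by
      intro h0
      apply hfξ'
      rw [hD.1]
      exact h0
    have hGeq : G (f ξ') = (Submodule.Quotient.mk (L.presheaf.germ ⊤ (f ξ') trivial s) :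
        Cyc.secFibre L (f ξ')) := by
      rw [hGdef]
      unfold Cyc.gysinChoice
      rw [if_pos hsne]
    rw [hG'eq]
    exact secDivFun_pb_zeroScheme_eq (pullback.fst f i) (pullback.snd f i) f i hsq δ' L hL s hD
      s' hD' ξ' hξ' (u₀ ξ') (fun U e he hU φ hφ => hu₀ ξ' U e he hU φ (hφ.trans hGeq.symm)) x'
  exact ratEquiv_c1Cap_of_sections_on (pullback.fst f i) δ' _ hinv (k + c) α' hα'Z' G' hG' u₀
    hu₀ne hoff ζ₁ ζ₂ h₁' h₂'

theorem gysin_flat_pullback (X X' D : Scheme.{u}) (δ : X → ℤ) (δ' : X' → ℤ)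
    (hX : Cyc.IsSetup X δ) (hX' : Cyc.IsSetup X' δ') (f : X' ⟶ X) [Flat f]
    [LocallyOfFiniteType f] (r : ℕ) (hr : Cyc.HasRelDim f r) (hδ : Cyc.DeltaCompat f δ' δ)
    (L : X.Modules) (hL : PicF.IsInvertible L) (s : L.presheaf.obj (Opposite.op ⊤))
    (i : D ⟶ X) [IsClosedImmersion i] (hD : Cyc.IsZeroSchemeOf i L s)
    (s' : ((Scheme.Modules.pullback f).obj L).presheaf.obj (Opposite.op ⊤))
    (hD' : Cyc.IsZeroSchemeOf (pullback.fst f i) ((Scheme.Modules.pullback f).obj L) s')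
    (k : ℤ) (α : AlgebraicCycle X ℤ) (hα : α ∈ Cyc.Zk X δ (k + 1))
    (w : (ξ : X) → Cyc.secFibre L ξ) (hw : ∀ ξ, w ξ ≠ 0)
    (w' : (ξ : X') → Cyc.secFibre ((Scheme.Modules.pullback f).obj L) ξ) (hw' : ∀ ξ, w' ξ ≠ 0)
    (ζ₁ ζ₂ : AlgebraicCycle (pullback f i) ℤ)
    (h₁ : ∀ z, ζ₁ z = Cyc.c1CapFun δ' ((Scheme.Modules.pullback f).obj L)
      (Cyc.pullFun f δ' δ r ⇑α) (Cyc.gysinChoice ((Scheme.Modules.pullback f).obj L) s' w')
      (pullback.fst f i z))
    (h₂ : ⇑ζ₂ = Cyc.pullFun (pullback.snd f i) (fun z => δ' (pullback.fst f i z))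
      (fun d => δ (i d)) r (fun d => Cyc.c1CapFun δ L ⇑α (Cyc.gysinChoice L s w) (i d))) :
    Cyc.RatEquiv (fun z => δ' (pullback.fst f i z)) (k + r) ζ₁ ζ₂ := by
  have hresf : ∀ y : X', δ' y = δ (f y) + Groth.Agent.Lib.Helper73.resTrdegNat f y := by
    intro x
    obtain ⟨n, hn, hx⟩ := hδ x
    have h1 : Groth.Agent.Lib.Helper73.resTrdeg f x = (n : Cardinal.{u}) := hn
    rw [Groth.Agent.Lib.Helper73.resTrdeg_eq_resTrdegNat] at h1
    have : Groth.Agent.Lib.Helper73.resTrdegNat f x = n := by exact_mod_cast h1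
    rw [hx, this]
  rw [Groth.Agent.Lib.Helper73.hasRelDim_iff_forall_maximal] at hr
  have hcf : ∀ y : X', (∀ z, f z = f y → z ⤳ y → z = y) → δ' y = δ (f y) + (r : ℤ) := by
    intro y hy
    rw [hresf y, hr y (fun t ht hgt => hy t hgt ht)]
  exact gysin_flat_pullback' X X' D δ δ' hX hX' f (r : ℤ) hcf L hL s i hD s' hD' k α hα w hw w' hw'
    ζ₁ ζ₂ h₁ h₂

end Groth.Agent.Lib.Helper64.FlatGys
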