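import Groth.Agent.Lib.Helper64.GysSq3

/-!
# Stalks of a fibre product along a closed immersion, general ideals (helper64)

`ker_stalkMap_fst_eq_map`: in a cartesian square of a closed immersion `i' : D' → X` along
`i : D → X` (with `p₁ : P → D` injective on points), the kernel of `O_{D, p₁ z} → O_{P, z}` is the
ideal generated by the image of the kernel of `O_{X, i (p₁ z)} → O_{D', p₂ z}`.
-/

set_option autoImplicit false
set_option linter.style.haveILetI false
set_option linter.unusedSectionVars false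
set_option linter.unusedVariables false
universe u

open AlgebraicGeometry CategoryTheory TopologicalSpace IsLocalRing Limits

namespace Groth.Agent.Lib.Helper64.GraphPb

open Groth.Agent.Lib.Helper64.GysSq

variable {X D D' P : Scheme.{u}}

theorem ker_stalkMap_fst_eq_map (p₁ : P ⟶ D) (p₂ : P ⟶ D') (i : D ⟶ X) (i' : D' ⟶ X)
    [IsClosedImmersion i'] (hsq : IsPullback p₁ p₂ i i') (hinj : Function.Injective ⇑p₁) (z : P)
    (hpt : i (p₁ z) = i' (p₂ z)) :
    RingHom.ker (p₁.stalkMap z).hom = Ideal.map (i.stalkMap (p₁ z)).hom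
      (RingHom.ker ((i'.stalkMap (p₂ z)).hom.comp
        (X.presheaf.stalkCongr (.of_eq hpt)).hom.hom)) := by
  have hw : p₁ ≫ i = p₂ ≫ i' := hsq.w
  have hcomm : i.stalkMap (p₁ z) ≫ p₁.stalkMap z =
      (X.presheaf.stalkCongr (.of_eq hpt)).hom ≫ i'.stalkMap (p₂ z) ≫ p₂.stalkMap z := by
    rw [← Scheme.Hom.stalkMap_comp, ← Scheme.Hom.stalkMap_comp]
    exact Scheme.Hom.stalkMap_congr_hom (p₁ ≫ i) (p₂ ≫ i') hw z
  have hf0 : ∀ f ∈ RingHom.ker ((i'.stalkMap (p₂ z)).hom.comp
      (X.presheaf.stalkCongr (.of_eq hpt)).hom.hom),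
      (p₁.stalkMap z).hom ((i.stalkMap (p₁ z)).hom f) = 0 := by
    intro f hf
    have hfker : ((i'.stalkMap (p₂ z)).hom.comp
        (X.presheaf.stalkCongr (.of_eq hpt)).hom.hom) f = 0 := hf
    have h1 := ConcreteCategory.congr_hom hcomm f
    have h2 : (p₁.stalkMap z).hom ((i.stalkMap (p₁ z)).hom f) =
        (p₂.stalkMap z).hom (((i'.stalkMap (p₂ z)).hom.comp
          (X.presheaf.stalkCongr (.of_eq hpt)).hom.hom) f) := h1
    rw [h2, hfker, map_zero]
  obtain ⟨J, hJ⟩ : ∃ J : Ideal (D.presheaf.stalk (p₁ z)),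
      J = Ideal.map (i.stalkMap (p₁ z)).hom
        (RingHom.ker ((i'.stalkMap (p₂ z)).hom.comp
          (X.presheaf.stalkCongr (.of_eq hpt)).hom.hom)) := ⟨_, rfl⟩
  rw [← hJ]
  have hJle : J ≤ RingHom.ker (p₁.stalkMap z).hom := by
    rw [hJ, Ideal.map_le_iff_le_comap]
    intro a ha
    exact hf0 a ha
  apply le_antisymm _ hJle
  intro b hb
  have hb0 : (p₁.stalkMap z).hom b = 0 := hb
  have hJtop : J ≠ ⊤ := by
    intro htop
    have h1 : (1 : D.presheaf.stalk (p₁ z)) ∈ RingHom.ker (p₁.stalkMap z).hom := by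
      apply hJle
      rw [htop]
      exact Submodule.mem_top
    have h2 : (p₁.stalkMap z).hom 1 = 0 := h1
    rw [map_one] at h2
    exact one_ne_zero h2
  haveI : Nontrivial (D.presheaf.stalk (p₁ z) ⧸ J) := Ideal.Quotient.nontrivial_iff.2 hJtop
  haveI : IsLocalRing (D.presheaf.stalk (p₁ z) ⧸ J) :=
    IsLocalRing.of_surjective' (Ideal.Quotient.mk J) Ideal.Quotient.mk_surjective
  let φ : D.presheaf.stalk (p₁ z) ⟶ CommRingCat.of (D.presheaf.stalk (p₁ z) ⧸ J) :=
    CommRingCat.ofHom (Ideal.Quotient.mk J)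
  haveI : IsLocalHom φ.hom :=
    IsLocalHom.of_surjective (Ideal.Quotient.mk J) Ideal.Quotient.mk_surjective
  let ψ : X.presheaf.stalk (i (p₁ z)) →+* D'.presheaf.stalk (p₂ z) :=
    (i'.stalkMap (p₂ z)).hom.comp (X.presheaf.stalkCongr (.of_eq hpt)).hom.hom
  have hψsurj : Function.Surjective ψ := by
    have h1 : Function.Surjective (i'.stalkMap (p₂ z)).hom := i'.stalkMap_surjective (p₂ z)
    have h2 : Function.Surjective (X.presheaf.stalkCongr (.of_eq hpt)).hom.hom :=
      (ConcreteCategory.bijective_of_isIso (X.presheaf.stalkCongr (.of_eq hpt)).hom).2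
    exact h1.comp h2
  have hle : RingHom.ker ψ ≤ RingHom.ker (φ.hom.comp (i.stalkMap (p₁ z)).hom) := by
    intro a ha
    show (Ideal.Quotient.mk J) ((i.stalkMap (p₁ z)).hom a) = 0
    rw [Ideal.Quotient.eq_zero_iff_mem, hJ]
    exact Ideal.mem_map_of_mem _ ha
  let φ₂ : D'.presheaf.stalk (p₂ z) ⟶ CommRingCat.of (D.presheaf.stalk (p₁ z) ⧸ J) :=
    CommRingCat.ofHom (RingHom.liftOfSurjective ψ hψsurj ⟨φ.hom.comp (i.stalkMap (p₁ z)).hom, hle⟩)
  have hφ₂ : (X.presheaf.stalkCongr (.of_eq hpt)).hom ≫ i'.stalkMap (p₂ z) ≫ φ₂ =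
      i.stalkMap (p₁ z) ≫ φ := by
    ext a
    exact RingHom.liftOfSurjective_comp_apply ψ hψsurj
      ⟨φ.hom.comp (i.stalkMap (p₁ z)).hom, hle⟩ a
  have hcompat : (Spec.map φ ≫ D.fromSpecStalk (p₁ z)) ≫ i =
      (Spec.map φ₂ ≫ D'.fromSpecStalk (p₂ z)) ≫ i' := by
    rw [Category.assoc, Category.assoc, ← Scheme.SpecMap_stalkMap_fromSpecStalk,
      ← Scheme.SpecMap_stalkMap_fromSpecStalk,
      ← Scheme.SpecMap_stalkSpecializes_fromSpecStalk (X := X)
        (specializes_of_eq hpt.symm),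
      ← Spec.map_comp_assoc, ← Spec.map_comp_assoc, ← Spec.map_comp_assoc]
    congr 1
    exact congrArg Spec.map hφ₂.symm
  let g : Spec (CommRingCat.of (D.presheaf.stalk (p₁ z) ⧸ J)) ⟶ P :=
    hsq.lift _ _ hcompat
  have hg : g ≫ p₁ = Spec.map φ ≫ D.fromSpecStalk (p₁ z) := hsq.lift_fst _ _ hcompat
  have key := eq_zero_of_lift p₁ hinj z _ g φ hg b hb0
  exact (Ideal.Quotient.eq_zero_iff_mem).1 key

/-- the kernel of a local homomorphism from a local ring to a field is the maximal ideal -/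
theorem ker_eq_maximalIdeal_of_isField {A B : Type*} [CommRing A] [CommRing B] [IsLocalRing A]
    (φ : A →+* B) [IsLocalHom φ] (hB : IsField B) : RingHom.ker φ = maximalIdeal A := by
  haveI : Nontrivial B := hB.nontrivial
  ext a
  rw [RingHom.mem_ker, IsLocalRing.mem_maximalIdeal, mem_nonunits_iff]
  constructor
  · intro h0 hu
    have := hu.map φ
    rw [h0] at this
    exact not_isUnit_zero this
  · intro hnu
    by_contra hne
    obtain ⟨c, hc⟩ := hB.mul_inv_cancel hne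
    exact hnu (isUnit_of_map_unit φ a ⟨⟨φ a, c, hc, by rw [mul_comm]; exact hc⟩, rfl⟩)

end Groth.Agent.Lib.Helper64.GraphPb
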