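import Groth.Agent.Lib.Helper64.GraphPb1
import Groth.Agent.Lib.Helper91.PicDim1Top

/-!
# The graph of an endomorphism as a pulled back diagonal (helper64)

For `f : X → S`, `ψ : X → X` over `S`, `m = ψ × id` on `X ×_S X` and `g = (id, ψ)` the graph:
the square `g, ψ, m, Δ` is cartesian (`graph_isPullback`), residue-field transcendence degrees of
sections of the first projection (`tdeg_section`), and uniqueness of the point over the generic
point for curves over a field (`eq_generic_of_map_eq`).
-/

set_option autoImplicit false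
set_option linter.style.haveILetI false
set_option linter.unusedSectionVars false
set_option linter.unusedVariables false
universe u

open AlgebraicGeometry CategoryTheory TopologicalSpace IsLocalRing Limits

namespace Groth.Agent.Lib.Helper64.GraphPb

variable {X S : Scheme.{u}}

theorem graph_w (f : X ⟶ S) (ψ : X ⟶ X) (m : pullback f f ⟶ pullback f f)
    (hm₁ : m ≫ pullback.fst f f = pullback.fst f f ≫ ψ)
    (hm₂ : m ≫ pullback.snd f f = pullback.snd f f) (g : X ⟶ pullback f f)
    (hg₁ : g ≫ pullback.fst f f = 𝟙 X) (hg₂ : g ≫ pullback.snd f f = ψ) :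
    g ≫ m = ψ ≫ pullback.diagonal f := by
  apply pullback.hom_ext
  · rw [Category.assoc, hm₁, ← Category.assoc, hg₁, Category.id_comp, Category.assoc,
      pullback.diagonal_fst, Category.comp_id]
  · rw [Category.assoc, hm₂, hg₂, Category.assoc, pullback.diagonal_snd, Category.comp_id]

theorem graph_isPullback (f : X ⟶ S) (ψ : X ⟶ X) (m : pullback f f ⟶ pullback f f)
    (hm₁ : m ≫ pullback.fst f f = pullback.fst f f ≫ ψ)
    (hm₂ : m ≫ pullback.snd f f = pullback.snd f f) (g : X ⟶ pullback f f)
    (hg₁ : g ≫ pullback.fst f f = 𝟙 X) (hg₂ : g ≫ pullback.snd f f = ψ) :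
    IsPullback g ψ m (pullback.diagonal f) := by
  have hw := graph_w f ψ m hm₁ hm₂ g hg₁ hg₂
  have hkey : ∀ s : PullbackCone m (pullback.diagonal f),
      s.fst ≫ pullback.fst f f ≫ ψ = s.snd ∧ s.fst ≫ pullback.snd f f = s.snd := by
    intro s
    constructor
    · rw [← hm₁, ← Category.assoc, s.condition, Category.assoc, pullback.diagonal_fst,
        Category.comp_id]
    · rw [← hm₂, ← Category.assoc, s.condition, Category.assoc, pullback.diagonal_snd,
        Category.comp_id]
  refine ⟨⟨hw⟩, ⟨PullbackCone.IsLimit.mk hw (fun s => s.fst ≫ pullback.fst f f) ?_ ?_ ?_⟩⟩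
  · intro s
    apply pullback.hom_ext
    · rw [Category.assoc, Category.assoc, hg₁, Category.comp_id]
    · rw [Category.assoc, Category.assoc, hg₂, (hkey s).1, (hkey s).2]
  · intro s
    rw [Category.assoc, (hkey s).1]
  · intro s l hl₁ hl₂
    rw [← hl₁, Category.assoc, hg₁, Category.comp_id]

/-- a morphism with a retraction is injective on points -/
theorem injective_of_retraction {Y : Scheme.{u}} (σ : X ⟶ Y) (r : Y ⟶ X) (hr : σ ≫ r = 𝟙 X) :
    Function.Injective ⇑σ := by
  intro a b hab
  have h1 : (σ ≫ r) a = (σ ≫ r) b := by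
    rw [Scheme.Hom.comp_apply, Scheme.Hom.comp_apply, hab]
  rw [hr] at h1
  exact h1

/-- transcendence degree of the residue field extension at `x` -/
noncomputable def tdeg {Y : Scheme.{u}} (h : Y ⟶ S) (y : Y) : Cardinal.{u} :=
  letI := (h.residueFieldMap y).hom.toAlgebra
  Algebra.trdeg (S.residueField (h y)) (Y.residueField y)

theorem tdeg_congr {Y : Scheme.{u}} (h h' : Y ⟶ S) (e : h = h') (y : Y) :
    tdeg h y = tdeg h' y := by
  subst e
  rfl

theorem surjective_residueFieldMap_of_eq_id (u : X ⟶ X) (e : u = 𝟙 X) (x : X) :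
    Function.Surjective (u.residueFieldMap x).hom := by
  subst e
  rw [Scheme.residueFieldMap_id]
  exact Function.surjective_id

theorem residueFieldMap_bijective_of_retraction {Y : Scheme.{u}} (σ : X ⟶ Y) (r : Y ⟶ X)
    (hr : σ ≫ r = 𝟙 X) (x : X) : Function.Bijective (σ.residueFieldMap x).hom := by
  constructor
  · exact (σ.residueFieldMap x).hom.injective
  · have h1 : (σ ≫ r).residueFieldMap x = r.residueFieldMap (σ x) ≫ σ.residueFieldMap x :=
      Scheme.residueFieldMap_comp _ _ _
    have h2 := surjective_residueFieldMap_of_eq_id (σ ≫ r) hr x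
    intro b
    obtain ⟨a, ha⟩ := h2 b
    have h3 := ConcreteCategory.congr_hom h1 a
    refine ⟨(r.residueFieldMap (σ x)).hom a, ?_⟩
    rw [← ha]
    exact h3.symm

theorem tdeg_comp {Y : Scheme.{u}} (σ : X ⟶ Y) (h : Y ⟶ S) (x : X)
    (hbij : Function.Bijective (σ.residueFieldMap x).hom) :
    tdeg h (σ x) = tdeg (σ ≫ h) x := by
  letI alg1 : Algebra (S.residueField (h (σ x))) (Y.residueField (σ x)) :=
    (h.residueFieldMap (σ x)).hom.toAlgebra
  letI alg2 : Algebra (S.residueField (h (σ x))) (X.residueField x) :=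
    ((σ ≫ h).residueFieldMap x).hom.toAlgebra
  let e0 : Y.residueField (σ x) →ₐ[S.residueField (h (σ x))] X.residueField x :=
    { toRingHom := (σ.residueFieldMap x).hom
      commutes' := by
        intro r
        show (σ.residueFieldMap x).hom ((h.residueFieldMap (σ x)).hom r) =
          ((σ ≫ h).residueFieldMap x).hom r
        rw [Scheme.residueFieldMap_comp]
        rfl }
  let e : Y.residueField (σ x) ≃ₐ[S.residueField (h (σ x))] X.residueField x :=
    AlgEquiv.ofBijective e0 hbij
  exact e.trdeg_eq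

/-- sections of a morphism `r : Y → X` have the transcendence degree of the base point -/
theorem tdeg_section {Y : Scheme.{u}} (f : X ⟶ S) (r : Y ⟶ X) (σ : X ⟶ Y) (hr : σ ≫ r = 𝟙 X)
    (x : X) : tdeg (r ≫ f) (σ x) = tdeg f x := by
  rw [tdeg_comp σ (r ≫ f) x (residueFieldMap_bijective_of_retraction σ r hr x)]
  apply tdeg_congr
  rw [← Category.assoc, hr, Category.id_comp]

theorem delta_eq_of_tdeg_eq {Y : Scheme.{u}} (h : Y ⟶ S) (δ : Y → ℤ)
    (hδ : Cyc.DeltaCompat h δ (fun _ => 0)) (y₁ y₂ : Y) (ht : tdeg h y₁ = tdeg h y₂) :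
    δ y₁ = δ y₂ := by
  obtain ⟨n₁, hn₁, h₁⟩ := hδ y₁
  obtain ⟨n₂, hn₂, h₂⟩ := hδ y₂
  have h3 : (n₁ : Cardinal.{u}) = n₂ := by
    rw [← hn₁, ← hn₂]
    exact ht
  have h4 : n₁ = n₂ := Nat.cast_injective h3
  rw [h₁, h₂, h4]

end Groth.Agent.Lib.Helper64.GraphPb
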