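import Groth.Agent.Lib.Helper64.GraphPb2

/-!
# Flat pull-back of the diagonal along `ψ × id` is the graph (helper64)
-/

set_option autoImplicit false
set_option linter.style.haveILetI false
set_option linter.unusedSectionVars false
set_option linter.unusedVariables false
universe u

open AlgebraicGeometry CategoryTheory TopologicalSpace IsLocalRing Limits

namespace Groth.Agent.Lib.Helper64.GraphPb

open Groth.Agent.Lib.Helper64.GysSq

variable {X : Scheme.{u}}

/-- a flat endomorphism of an integral scheme fixes the generic point -/
theorem flat_map_genericPoint [IsIntegral X] (ψ : X ⟶ X) [Flat ψ] :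
    ψ (genericPoint X) = genericPoint X := by
  have hgen : GeneralizingMap ⇑ψ := Flat.generalizingMap ψ
  obtain ⟨x', hx', hx'2⟩ := hgen (a := genericPoint X) (b := genericPoint X)
    (genericPoint_specializes _)
  have h1 : x' = genericPoint X :=
    ((genericPoint_specializes x').antisymm hx').eq.symm
  rw [h1] at hx'2
  exact hx'2

/-- on an integral curve locally of finite type over a field, only the generic point maps to the
generic point under an endomorphism over the field -/
theorem eq_generic_of_map_eq {k : Type u} [Field k] (f : X ⟶ Spec (CommRingCat.of k))
    [LocallyOfFiniteType f] [IsIntegral X] (hdim : topologicalKrullDim ↥X = 1) (ψ : X ⟶ X)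
    (hψ : ψ ≫ f = f) (z : X) (hz : ψ z = genericPoint X) : z = genericPoint X := by
  by_contra hne
  haveI : JacobsonSpace X := LocallyOfFiniteType.jacobsonSpace f
  haveI : LocallyOfFiniteType (ψ ≫ f) := by
    rw [hψ]
    infer_instance
  haveI : LocallyOfFiniteType ψ := locallyOfFiniteType_of_comp ψ f
  have hcl : IsClosed ({z} : Set X) := by
    by_contra hncl
    have hex : ∃ w, z ⤳ w ∧ z ≠ w := by
      by_contra hall
      push Not at hall
      apply hncl
      have h1 : closure ({z} : Set X) = {z} := by
        apply Set.Subset.antisymm _ subset_closure
        intro w hw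
        have h2 := hall w (specializes_iff_mem_closure.mpr hw)
        rw [Set.mem_singleton_iff]
        exact h2.symm
      rw [← h1]
      exact isClosed_closure
    obtain ⟨w, hw, hnew⟩ := hex
    have hzgen := Groth.Agent.Lib.Helper91.PicDim1Top.mem_genericPoints_of_specializes_ne
      hdim.le hw hnew
    have h3 : closure ({z} : Set X) ∈ irreducibleComponents X := hzgen
    rw [irreducibleComponents_eq_singleton, Set.mem_singleton_iff] at h3
    have h4 : genericPoint X ∈ closure ({z} : Set X) := by
      rw [h3]
      exact Set.mem_univ _
    have h5 : z ⤳ genericPoint X := specializes_iff_mem_closure.mpr h4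
    exact hne (h5.antisymm (genericPoint_specializes z)).eq
  have hzc : z ∈ closedPoints X := hcl
  have h6 : ψ z ∈ closedPoints X := ψ.closePoints_subset_preimage_closedPoints hzc
  rw [hz] at h6
  have h7 : IsClosed ({genericPoint X} : Set X) := h6
  have h8 : (Set.univ : Set X) = {genericPoint X} := by
    rw [← genericPoint_closure (α := X), h7.closure_eq]
  have h9 : z ∈ ({genericPoint X} : Set X) := by
    rw [← h8]
    exact Set.mem_univ _
  exact hne h9

theorem length_quot_maximalIdeal (R : Type*) [CommRing R] [IsLocalRing R] :
    Module.length R (R ⧸ maximalIdeal R) = 1 := by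
  rw [Module.length_eq_one_iff, isSimpleModule_iff_isCoatom]
  exact Ideal.isMaximal_def.mp inferInstance

theorem isField_stalk_of_eq_generic [IsIntegral X] (x : X) (hx : x = genericPoint X) :
    IsField (X.presheaf.stalk x) := by
  subst hx
  exact isField_stalk_of_closure_mem_irreducibleComponents X _
    (by simp [irreducibleComponents_eq_singleton])

end Groth.Agent.Lib.Helper64.GraphPb
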