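import Groth.Agent.Lib.Helper64.GraphPb3

/-!
# Flat pull-back of the diagonal along `ψ × id` is the graph: main statement (helper64)
-/

set_option autoImplicit false
set_option linter.style.haveILetI false
set_option linter.unusedSectionVars false
set_option linter.unusedVariables false
universe u

open AlgebraicGeometry CategoryTheory TopologicalSpace IsLocalRing Limits

namespace Groth.Agent.Lib.Helper64.GraphPb

open Groth.Agent.Lib.Helper64.GysSq

theorem pullFun_diagonal_eq_graph (k : Type u) [Field k] (X : Scheme.{u})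
    (f : X ⟶ Spec (CommRingCat.of k)) [LocallyOfFiniteType f] [IsSeparated f]
    [IsIntegral X] (hdim : topologicalKrullDim ↥X = 1) (ψ : X ⟶ X) (hψ : ψ ≫ f = f) [Flat ψ]
    (m : pullback f f ⟶ pullback f f) (hm₁ : m ≫ pullback.fst f f = pullback.fst f f ≫ ψ)
    (hm₂ : m ≫ pullback.snd f f = pullback.snd f f) (g : X ⟶ pullback f f)
    (hg₁ : g ≫ pullback.fst f f = 𝟙 X) (hg₂ : g ≫ pullback.snd f f = ψ)
    (δ : ↥(pullback f f) → ℤ) (hδ : Cyc.DeltaCompat (pullback.fst f f ≫ f) δ (fun _ => 0)) :
    Cyc.pullFun m δ δ 0
        (Set.indicator ({pullback.diagonal f (genericPoint ↥X)} : Set ↥(pullback f f))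
          (fun _ => (1 : ℤ))) =
      Set.indicator ({g (genericPoint ↥X)} : Set ↥(pullback f f)) (fun _ => (1 : ℤ)) := by
  obtain ⟨η, hη⟩ : ∃ η : X, η = genericPoint X := ⟨_, rfl⟩
  rw [← hη]
  have hsq := graph_isPullback f ψ m hm₁ hm₂ g hg₁ hg₂
  have hψη : ψ η = η := by
    rw [hη]
    exact flat_map_genericPoint ψ
  have hginj : Function.Injective ⇑g := injective_of_retraction g (pullback.fst f f) hg₁
  have hdinj : Function.Injective ⇑(pullback.diagonal f) :=
    injective_of_retraction _ (pullback.fst f f) (pullback.diagonal_fst f)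
  have hpt : m (g η) = pullback.diagonal f (ψ η) :=
    map_fst_mem_range g ψ m (pullback.diagonal f) hsq η
  have hmg : m (g η) = pullback.diagonal f η := by
    rw [hpt, hψη]
  have hδeq : δ (g η) = δ (pullback.diagonal f η) := by
    apply delta_eq_of_tdeg_eq _ δ hδ
    rw [tdeg_section f (pullback.fst f f) g hg₁ η,
      tdeg_section f (pullback.fst f f) (pullback.diagonal f) (pullback.diagonal_fst f) η]
  funext y
  unfold Cyc.pullFun
  by_cases hy : y = g η
  · subst hy
    rw [Set.indicator_of_mem (Set.mem_singleton _)]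
    rw [if_pos (by rw [add_zero, hmg]; exact hδeq)]
    rw [Set.indicator_of_mem (show m (g η) ∈ ({pullback.diagonal f η} : Set _) from hmg), one_mul]
    have hker := ker_stalkMap_fst_eq_map g ψ m (pullback.diagonal f) hsq hginj η hpt
    have hF1 : IsField (X.presheaf.stalk η) := isField_stalk_of_eq_generic η hη
    have hF2 : IsField (X.presheaf.stalk (ψ η)) := isField_stalk_of_eq_generic (ψ η) (hψη.trans hη)
    have hk1 : RingHom.ker (g.stalkMap η).hom = maximalIdeal _ :=
      ker_eq_maximalIdeal_of_isField _ hF1
    haveI : IsLocalHom ((pullback f f).presheaf.stalkCongr (.of_eq hpt)).hom.hom :=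
      isLocalHom_of_iso _
    have hk2 : RingHom.ker (((pullback.diagonal f).stalkMap (ψ η)).hom.comp
        ((pullback f f).presheaf.stalkCongr (.of_eq hpt)).hom.hom) = maximalIdeal _ :=
      ker_eq_maximalIdeal_of_isField _ hF2
    rw [hk1, hk2] at hker
    rw [← hker, length_quot_maximalIdeal]
    rfl
  · rw [Set.indicator_of_notMem (show y ∉ ({g η} : Set _) from hy)]
    split_ifs with hc
    · have hne : m y ∉ ({pullback.diagonal f η} : Set ↥(pullback f f)) := by
        intro hmem
        have hmy : m y = pullback.diagonal f η := hmem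
        obtain ⟨z, hz⟩ := mem_range_fst g ψ m (pullback.diagonal f) hsq y η hmy
        have h1 : m (g z) = pullback.diagonal f (ψ z) :=
          map_fst_mem_range g ψ m (pullback.diagonal f) hsq z
        rw [hz, hmy] at h1
        have h2 : ψ z = η := (hdinj h1).symm
        have h3 : z = η := by
          rw [hη]
          exact eq_generic_of_map_eq f hdim ψ hψ z (h2.trans hη)
        apply hy
        rw [← hz, h3]
      rw [Set.indicator_of_notMem hne, zero_mul]
    · rfl

end Groth.Agent.Lib.Helper64.GraphPb
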