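import Groth.Agent.Lib.Helper64.RelKey10
import Groth.Agent.Lib.Helper35.PbGen

/-!
# Rational sections of a pulled back invertible module along a closed immersion (helper64)

For a closed immersion `i : D → X` and an invertible module `N` on `X`, every nonzero rational
section of `i^* N` at a point `d` of `D` has the same divisor as a nonzero rational section of `N`
at `i d`: `exists_secDivFun_pullback_eq`.
-/

set_option autoImplicit false
set_option linter.style.haveILetI false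
set_option linter.unusedSectionVars false
set_option linter.unusedVariables false
universe u

open AlgebraicGeometry CategoryTheory TopologicalSpace IsLocalRing CycAlg

namespace Groth.Agent.Lib.Helper64.GysPb

open Groth.Agent.Lib.Helper64.CycOrd Groth.Agent.Lib.Helper64.CycLen
open Groth.Agent.Lib.Helper64.CycExc Groth.Agent.Lib.Helper64.CycTens
open Groth.Agent.Lib.Helper64.CycCl
open Groth.Agent.Lib.Helper64.RefExt Groth.Agent.Lib.Helper64.RefS2
open Groth.Agent.Lib.Lead.Inv Groth.Agent.Lib.Lead.QCohAff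
open Groth.Agent.Lib.Helper35.PbInv

variable {X D : Scheme.{u}} (i : D ⟶ X)

/-- the pullback of a local generator is a local generator -/
theorem isGen_pb (N : X.Modules) {U : X.Opens} {e : Γ(N, U)} (he : IsGen N U e) :
    IsGen ((Scheme.Modules.pullback i).obj N) (i ⁻¹ᵁ U) (pbSec i N U e) :=
  fun W hW => (isGen_pbSec i N U e (fun W hW => he W hW)) W hW

/-- change of generators is compatible with the pullback of sections -/
theorem germ_pbSec_change (N : X.Modules) {U₀ U₁ : X.Opens} (e₀ : Γ(N, U₀)) {e₁ : Γ(N, U₁)}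
    (he₁ : IsGen N U₁ e₁) (d : D) (h₀ : i d ∈ U₀) (h₁ : i d ∈ U₁) :
    ∃ c : X.presheaf.stalk (i d),
      N.presheaf.germ U₀ (i d) h₀ e₀ = c • N.presheaf.germ U₁ (i d) h₁ e₁ ∧
      ((Scheme.Modules.pullback i).obj N).presheaf.germ (i ⁻¹ᵁ U₀) d h₀ (pbSec i N U₀ e₀) =
        (i.stalkMap d).hom c •
          ((Scheme.Modules.pullback i).obj N).presheaf.germ (i ⁻¹ᵁ U₁) d h₁
            (pbSec i N U₁ e₁) := by
  obtain ⟨r, hr⟩ := (he₁ (U₀ ⊓ U₁) inf_le_right).2
    (N.presheaf.map (homOfLE (inf_le_left : U₀ ⊓ U₁ ≤ U₀)).op e₀)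
  have hr' : r • N.presheaf.map (homOfLE (inf_le_right : U₀ ⊓ U₁ ≤ U₁)).op e₁ =
      N.presheaf.map (homOfLE (inf_le_left : U₀ ⊓ U₁ ≤ U₀)).op e₀ := hr
  have hW : i d ∈ U₀ ⊓ U₁ := ⟨h₀, h₁⟩
  refine ⟨X.presheaf.germ (U₀ ⊓ U₁) (i d) hW r, ?_, ?_⟩
  · rw [← germ_res (F := N) (inf_le_left : U₀ ⊓ U₁ ≤ U₀) (i d) hW e₀, ← hr', germ_smul, germ_res]
  · have e1 : pbSec i N (U₀ ⊓ U₁) (Groth.Agent.Lib.Helper35.Gen.rs N
          (inf_le_left : U₀ ⊓ U₁ ≤ U₀) e₀) =
        (i.app (U₀ ⊓ U₁)).hom r • pbSec i N (U₀ ⊓ U₁) (Groth.Agent.Lib.Helper35.Gen.rs N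
          (inf_le_right : U₀ ⊓ U₁ ≤ U₁) e₁) := by
      rw [← pbSec_smul]
      congr 1
      exact hr'.symm
    rw [← pbSec_rs, ← pbSec_rs] at e1
    have e2 := congrArg (((Scheme.Modules.pullback i).obj N).presheaf.germ
      (i ⁻¹ᵁ (U₀ ⊓ U₁)) d hW) e1
    rw [germ_smul] at e2
    have e3 : ((Scheme.Modules.pullback i).obj N).presheaf.germ (i ⁻¹ᵁ (U₀ ⊓ U₁)) d hW
        (Groth.Agent.Lib.Helper35.Gen.rs ((Scheme.Modules.pullback i).obj N)
          (i.preimage_mono (inf_le_left : U₀ ⊓ U₁ ≤ U₀)) (pbSec i N U₀ e₀)) =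
        ((Scheme.Modules.pullback i).obj N).presheaf.germ (i ⁻¹ᵁ U₀) d h₀ (pbSec i N U₀ e₀) :=
      germ_res (F := (Scheme.Modules.pullback i).obj N)
        (i.preimage_mono (inf_le_left : U₀ ⊓ U₁ ≤ U₀)) d hW (pbSec i N U₀ e₀)
    have e4 : ((Scheme.Modules.pullback i).obj N).presheaf.germ (i ⁻¹ᵁ (U₀ ⊓ U₁)) d hW
        (Groth.Agent.Lib.Helper35.Gen.rs ((Scheme.Modules.pullback i).obj N)
          (i.preimage_mono (inf_le_right : U₀ ⊓ U₁ ≤ U₁)) (pbSec i N U₁ e₁)) =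
        ((Scheme.Modules.pullback i).obj N).presheaf.germ (i ⁻¹ᵁ U₁) d h₁ (pbSec i N U₁ e₁) :=
      germ_res (F := (Scheme.Modules.pullback i).obj N)
        (i.preimage_mono (inf_le_right : U₀ ⊓ U₁ ≤ U₁)) d hW (pbSec i N U₁ e₁)
    rw [e3, e4] at e2
    rw [e2]
    congr 1
    exact (Scheme.Hom.germ_stalkMap_apply i (U₀ ⊓ U₁) d hW r).symm

variable [IsClosedImmersion i]

/-- orders of rational sections of the pullback, computed with a pulled back generator -/
theorem secOrdAt_pullback_eq (N : X.Modules) {U₁ : X.Opens} {e₁ : Γ(N, U₁)} (he₁ : IsGen N U₁ e₁)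
    {d d' : D} (h : d ⤳ d') (h' : i d ⤳ i d') (hd' : i d' ∈ U₁) (φ : X.presheaf.stalk (i d))
    (hφ : φ ∉ maximalIdeal (X.presheaf.stalk (i d))) :
    Cyc.secOrdAt ((Scheme.Modules.pullback i).obj N) d d' h
      ((i.stalkMap d).hom φ • (Submodule.Quotient.mk
        (((Scheme.Modules.pullback i).obj N).presheaf.germ (i ⁻¹ᵁ U₁) d
          (h'.mem_open U₁.isOpen hd') (pbSec i N U₁ e₁)) :
        Cyc.secFibre ((Scheme.Modules.pullback i).obj N) d)) =
    Cyc.secOrdAt N (i d) (i d') h'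
      (φ • (Submodule.Quotient.mk (N.presheaf.germ U₁ (i d) (h'.mem_open U₁.isOpen hd') e₁) :
        Cyc.secFibre N (i d))) := by
  have hφ' : (i.stalkMap d).hom φ ∉ maximalIdeal (D.presheaf.stalk d) := by
    intro hmem
    apply hφ
    have hnu : ¬ IsUnit ((i.stalkMap d).hom φ) := (IsLocalRing.mem_maximalIdeal _).1 hmem
    rw [IsLocalRing.mem_maximalIdeal]
    intro hu
    exact hnu (hu.map _)
  rw [secOrdAt_eq_of_isGen N he₁ h' hd' φ hφ]
  have key := secOrdAt_eq_of_isGen ((Scheme.Modules.pullback i).obj N) (isGen_pb i N he₁) h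
    (show d' ∈ i ⁻¹ᵁ U₁ from hd') ((i.stalkMap d).hom φ) hφ'
  rw [key]
  have hres : (D.residue d ((i.stalkMap d).hom φ) : D.residueField d) =
      (i.residueFieldMap d).hom (X.residue (i d) φ) :=
    (ConcreteCategory.congr_hom (Scheme.residue_residueFieldMap i d) φ).symm
  rw [hres]
  exact ordAt_of_surjective i h h' (stalkMap_surjective_hom i d') (residueFieldMap_bijective i d) _

/-- **rational sections of the pullback to a closed subscheme have the divisors of rational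
sections on the ambient scheme** -/
theorem exists_secDivFun_pullback_eq (δ : X → ℤ) (N : X.Modules) (hN : PicF.IsInvertible N)
    (d : D) (u : Cyc.secFibre ((Scheme.Modules.pullback i).obj N) d) (hu : u ≠ 0) :
    ∃ v : Cyc.secFibre N (i d), v ≠ 0 ∧ ∀ d' : D,
      Cyc.secDivFun (fun d => δ (i d)) ((Scheme.Modules.pullback i).obj N) d u d' =
        Cyc.secDivFun δ N (i d) v (i d') := by
  obtain ⟨U₀, hdU₀, e₀, he₀⟩ := (isInvertible_iff_exists_isGen.1 hN) (i d)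
  obtain ⟨φ', hφ'm, hφ'u⟩ := exists_coeff_fibre ((Scheme.Modules.pullback i).obj N) d
    (show d ∈ i ⁻¹ᵁ U₀ from hdU₀) (isGen_pb i N he₀) u hu
  obtain ⟨φ, rfl⟩ := stalkMap_surjective_hom i d φ'
  have hφm : φ ∉ maximalIdeal (X.presheaf.stalk (i d)) := by
    intro hmem
    apply hφ'm
    have hnu : ¬ IsUnit φ := (IsLocalRing.mem_maximalIdeal _).1 hmem
    rw [IsLocalRing.mem_maximalIdeal]
    intro hu
    exact hnu ((isUnit_map_iff (i.stalkMap d).hom φ).1 hu)
  have hbij₀ := bijective_stalk_of_isGen he₀ (i d) hdU₀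
  refine ⟨φ • (Submodule.Quotient.mk (N.presheaf.germ U₀ (i d) hdU₀ e₀) : Cyc.secFibre N (i d)),
    fun h0 => hφm ((smul_mk_eq_zero_iff N (i d) _ hbij₀ φ).1 h0), ?_⟩
  intro d'
  have hsp : i d ⤳ i d' ↔ d ⤳ d' := specializes_iff_closedImmersion i
  unfold Cyc.secDivFun
  beta_reduce
  by_cases hc : d ⤳ d' ∧ δ (i d') + 1 = δ (i d)
  swap
  · have hc' : ¬ (i d ⤳ i d' ∧ δ (i d') + 1 = δ (i d)) := fun h => hc ⟨hsp.1 h.1, h.2⟩
    rw [dif_neg hc, dif_neg hc']
  have hc' : i d ⤳ i d' ∧ δ (i d') + 1 = δ (i d) := ⟨hsp.2 hc.1, hc.2⟩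
  rw [dif_pos hc, dif_pos hc']
  obtain ⟨U₁, hd'U₁, e₁, he₁⟩ := (isInvertible_iff_exists_isGen.1 hN) (i d')
  have hdU₁ : i d ∈ U₁ := hc'.1.mem_open U₁.isOpen hd'U₁
  obtain ⟨c, hc1, hc2⟩ := germ_pbSec_change i N e₀ he₁ d hdU₀ hdU₁
  have hbij₁ := bijective_stalk_of_isGen he₁ (i d) hdU₁
  have hcm : c ∉ maximalIdeal (X.presheaf.stalk (i d)) := by
    intro hmem
    have h1 : (1 : X.presheaf.stalk (i d)) • (Submodule.Quotient.mk
        (N.presheaf.germ U₀ (i d) hdU₀ e₀) : Cyc.secFibre N (i d)) = 0 := by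
      rw [one_smul, hc1]
      exact (smul_mk_eq_zero_iff N (i d) _ hbij₁ c).2 hmem
    rw [smul_mk_eq_zero_iff N (i d) _ hbij₀] at h1
    exact (Ideal.ne_top_iff_one _).1 (IsLocalRing.maximalIdeal.isMaximal _).ne_top h1
  have hφc : φ * c ∉ maximalIdeal (X.presheaf.stalk (i d)) := mul_not_mem hφm hcm
  have eL : u = (i.stalkMap d).hom (φ * c) • (Submodule.Quotient.mk
      (((Scheme.Modules.pullback i).obj N).presheaf.germ (i ⁻¹ᵁ U₁) d hdU₁ (pbSec i N U₁ e₁)) :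
      Cyc.secFibre ((Scheme.Modules.pullback i).obj N) d) := by
    rw [← hφ'u, hc2, map_mul, mul_smul]
    rfl
  have eR : φ • (Submodule.Quotient.mk (N.presheaf.germ U₀ (i d) hdU₀ e₀) :
      Cyc.secFibre N (i d)) = (φ * c) • (Submodule.Quotient.mk
        (N.presheaf.germ U₁ (i d) hdU₁ e₁) : Cyc.secFibre N (i d)) := by
    rw [hc1, mul_smul]
    rfl
  rw [eL, eR]
  exact secOrdAt_pullback_eq i N he₁ hc.1 hc'.1 hd'U₁ (φ * c) hφc

end Groth.Agent.Lib.Helper64.GysPb
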