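import Groth.Agent.Lib.Helper64.SecOrd3
import Groth.Agent.Lib.Helper64.RefS2

/-!
# The divisor of a regular section is its zero scheme cycle (helper64)

* `coheight_eq_one_of_isDimFun`: on an integral scheme with a dimension function `δ`, the points
  with `δ x + 1 = δ η` have coheight one.
* `ord_algebraMap_eq_length`: `Scheme.ord` of a regular germ is the length of the quotient.
* `secDivFun_eq_zeroSectionFun`.
-/

set_option autoImplicit false
set_option linter.style.haveILetI false
set_option linter.unusedSectionVars false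
universe u

open AlgebraicGeometry CategoryTheory Opposite TopologicalSpace

namespace Groth.Agent.Lib.Helper64.ZeroSec

open Groth.Agent.Lib.Lead.QCohAff
open Groth.Agent.Lib.Helper64.RefExt Groth.Agent.Lib.Helper64.SecOrd

variable {X : Scheme.{u}} [IsIntegral X]

theorem coheight_eq_one_of_isDimFun {δ : X → ℤ} (hδ : Cyc.IsDimFun X δ) (x : X)
    (hx : δ x + 1 = δ (genericPoint X)) : Order.coheight x = 1 := by
  have hmax : IsMax (genericPoint X) := fun z _ => spη z
  have hxη : x ≠ genericPoint X := by
    rintro rfl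
    omega
  apply le_antisymm
  · have : Order.coheight x ≤ ((1 : ℕ) : ℕ∞) := by
      rw [Order.coheight_le_coe_iff]
      intro y hy
      have hyx : y ⤳ x := hy.le
      have hne : y ≠ x := fun h => (lt_irrefl _ (h ▸ hy))
      have h1 := (hδ y x hyx hne).1
      have hyη : y = genericPoint X := by
        by_contra hne'
        have h2 := (hδ (genericPoint X) y (spη y) (Ne.symm hne')).1
        omega
      rw [hyη, Order.coheight_eq_zero.2 hmax]
      exact zero_lt_one
    exact_mod_cast this
  · rw [Order.one_le_iff_pos, Order.coheight_pos]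
    intro hmx
    exact hxη (Specializes.antisymm (spη x) (hmx (spη x : x ≤ genericPoint X))).eq.symm

variable [IsLocallyNoetherian X]

theorem ord_algebraMap_eq_length (x : X) (hx : Order.coheight x = 1) (a : X.presheaf.stalk x)
    (ha : a ≠ 0) :
    Scheme.ord (algebraMap (X.presheaf.stalk x) X.functionField a) x =
      ((Module.length (X.presheaf.stalk x) (X.presheaf.stalk x ⧸ Ideal.span {a})).toNat : ℤ) := by
  haveI : Ring.KrullDimLE 1 (X.presheaf.stalk x) := krullDimLE_of_coheight_le hx.le
  have haK : algebraMap (X.presheaf.stalk x) X.functionField a ≠ 0 := by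
    rwa [Ne, map_eq_zero_iff _ (IsFractionRing.injective (X.presheaf.stalk x) X.functionField)]
  rw [Scheme.ord_eq_iff hx haK]
  show Ring.ordFrac (X.presheaf.stalk x) (algebraMap _ _ a) = _
  rw [Ring.ordFrac_eq_ord _ ha]
  have hnzd : a ∈ nonZeroDivisors (X.presheaf.stalk x) := mem_nonZeroDivisors_iff_ne_zero.mpr ha
  have hfin : Ring.ord (X.presheaf.stalk x) a ≠ ⊤ := Ring.ord_ne_top hnzd
  exact Ring.ordMonoidWithZeroHom_eq_coe _ hnzd (ENat.natCast_toNat hfin).symm

/-- the divisor of a regular section of an invertible module is the cycle of its zero scheme -/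
theorem secDivFun_eq_zeroSectionFun (δ : X → ℤ) (hδ : Cyc.IsDimFun X δ) (n : ℤ)
    (hn : δ (genericPoint X) = n) (L : X.Modules) (hL : PicF.IsInvertible L)
    (s : L.presheaf.obj (Opposite.op ⊤))
    (hs : (L.presheaf.germ ⊤ (genericPoint X) trivial) s ≠ 0) :
    Cyc.secDivFun δ L (genericPoint X)
      (Submodule.Quotient.mk ((L.presheaf.germ ⊤ (genericPoint X) trivial) s)) =
      Cyc.zeroSectionFun δ (n - 1) L s := by
  funext x
  unfold Cyc.secDivFun Cyc.zeroSectionFun
  by_cases hx : δ x = n - 1
  · have hcond : genericPoint X ⤳ x ∧ δ x + 1 = δ (genericPoint X) := ⟨spη x, by omega⟩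
    rw [dif_pos hcond, if_pos hx]
    obtain ⟨U, hxU, e, he⟩ := (Groth.Agent.Lib.Lead.Inv.isInvertible_iff_exists_isGen).1 hL x
    have ht : ∃ t : L.presheaf.stalk x, Submodule.span (X.presheaf.stalk x) {t} = ⊤ := by
      refine ⟨L.presheaf.germ U x hxU e, ?_⟩
      rw [eq_top_iff]
      intro m _
      obtain ⟨a, ha⟩ := (Groth.Agent.Lib.Helper64.RefS2.bijective_stalk_of_isGen he x hxU).2 m
      exact Submodule.mem_span_singleton.2 ⟨a, ha⟩
    rw [dif_pos ht]
    have ht₀ := Classical.choose_spec ht
    generalize Classical.choose ht = t₀ at ht₀ ⊢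
    have hf : ∃ f : X.presheaf.stalk x, (L.presheaf.germ ⊤ x trivial) s = f • t₀ := by
      have : (L.presheaf.germ ⊤ x trivial) s ∈
          Submodule.span (X.presheaf.stalk x) {t₀} := by rw [ht₀]; trivial
      obtain ⟨a, ha⟩ := Submodule.mem_span_singleton.1 this
      exact ⟨a, ha.symm⟩
    rw [dif_pos hf]
    have hf₀ := Classical.choose_spec hf
    generalize Classical.choose hf = f₀ at hf₀ ⊢
    have hx1 : Order.coheight x = 1 := coheight_eq_one_of_isDimFun hδ x hcond.2
    have hη : (L.presheaf.germ ⊤ (genericPoint X) trivial) s =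
        algebraMap (X.presheaf.stalk x) X.functionField f₀ •
          (L.presheaf.stalkSpecializes (spη x)).hom t₀ := by
      rw [← sp_germ L (spη x) (U := ⊤) trivial s, hf₀, sp_smul]
      rfl
    have hsp : (L.presheaf.stalkSpecializes (spη x)).hom t₀ ≠ 0 := by
      intro h0
      apply hs
      rw [hη, h0, smul_zero]
    have hf0 : f₀ ≠ 0 := by
      intro h0
      apply hs
      rw [hη, h0, map_zero, zero_smul]
    rw [← ord_algebraMap_eq_length x hx1 _ hf0,
      ← secOrdAt_eq L x hx1 (spη x) t₀ ht₀ hsp]
    congr 1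
    rw [hη]
    rfl
  · rw [dif_neg (by rintro ⟨-, h⟩; omega), if_neg hx]

end Groth.Agent.Lib.Helper64.ZeroSec
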