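import Groth.Agent.Lib.Helper64.GysPb1
import Groth.Agent.Lib.Helper64.ZeroSec1

/-!
# The divisor of a regular section and the cycle of its zero scheme (helper64)

On an integral scheme `X` with generic point `η`, for a global section `s` of an invertible module
`L` with zero scheme `i : D → X`: the divisor `div_L(s)` (computed at `η`) is `i_* [D]_{n-1}`:
`secDivFun_generic_eq_subschemeFun`, `secDivFun_generic_eq_zero_of_notMem`.
-/

set_option autoImplicit false
set_option linter.style.haveILetI false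
set_option linter.unusedSectionVars false
set_option linter.unusedVariables false
universe u

open AlgebraicGeometry CategoryTheory TopologicalSpace IsLocalRing CycAlg

namespace Groth.Agent.Lib.Helper64.GysPb

open Groth.Agent.Lib.Helper64.CycOrd Groth.Agent.Lib.Helper64.CycLen
open Groth.Agent.Lib.Helper64.CycExc Groth.Agent.Lib.Helper64.CycTens
open Groth.Agent.Lib.Helper64.CycCl
open Groth.Agent.Lib.Helper64.RefExt Groth.Agent.Lib.Helper64.RefS2
open Groth.Agent.Lib.Helper64.SecOrd Groth.Agent.Lib.Helper64.ZeroSec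
open Groth.Agent.Lib.Lead.Inv Groth.Agent.Lib.Lead.QCohAff

theorem length_quotient_eq_of_surjective {A B : Type*} [CommRing A] [CommRing B] (φ : A →+* B)
    (hφ : Function.Surjective φ) (I : Ideal A) (hI : RingHom.ker φ = I) :
    Module.length A (A ⧸ I) = Module.length B B := by
  subst hI
  letI : Algebra A B := φ.toAlgebra
  have hsurj : Function.Surjective (Algebra.ofId A B) := hφ
  have e := Ideal.quotientKerAlgEquivOfSurjective (R₁ := A) (f := Algebra.ofId A B) hsurj
  have h1 : Module.length A (A ⧸ RingHom.ker φ) = Module.length A B := e.toLinearEquiv.length_eq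
  rw [h1]
  exact Module.length_eq_of_surjective hφ

variable {X : Scheme.{u}} [IsIntegral X] [IsLocallyNoetherian X]

/-- the coefficient of the divisor of a global section, by its local equation -/
theorem secDivFun_generic_eq_length (δ : X → ℤ) (hδ : Cyc.IsDimFun X δ) (n : ℤ)
    (hn : δ (genericPoint X) = n) (L : X.Modules)
    (s : L.presheaf.obj (Opposite.op ⊤))
    (hs : (L.presheaf.germ ⊤ (genericPoint X) trivial) s ≠ 0) (x : X) (hx : δ x = n - 1)
    (t₀ : L.presheaf.stalk x) (f₀ : X.presheaf.stalk x)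
    (ht₀ : Submodule.span (X.presheaf.stalk x) {t₀} = ⊤)
    (hf₀ : (L.presheaf.germ ⊤ x trivial) s = f₀ • t₀) :
    Cyc.secDivFun δ L (genericPoint X)
      (Submodule.Quotient.mk ((L.presheaf.germ ⊤ (genericPoint X) trivial) s)) x =
      ((Module.length (X.presheaf.stalk x) (X.presheaf.stalk x ⧸ Ideal.span {f₀})).toNat : ℤ) := by
  unfold Cyc.secDivFun
  have hcond : genericPoint X ⤳ x ∧ δ x + 1 = δ (genericPoint X) := ⟨spη x, by omega⟩
  rw [dif_pos hcond]
  have hx1 : Order.coheight x = 1 := coheight_eq_one_of_isDimFun hδ x hcond.2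
  have hη : (L.presheaf.germ ⊤ (genericPoint X) trivial) s =
      algebraMap (X.presheaf.stalk x) X.functionField f₀ •
        (L.presheaf.stalkSpecializes (spη x)).hom t₀ := by
    rw [← sp_germ L (spη x) (U := ⊤) trivial s, hf₀, sp_smul]
    rfl
  have hsp : (L.presheaf.stalkSpecializes (spη x)).hom t₀ ≠ 0 := by
    intro h0
    apply hs
    rw [hη, h0, smul_zero]
  have hf0 : f₀ ≠ 0 := by
    intro h0
    apply hs
    rw [hη, h0, map_zero, zero_smul]
  rw [← ord_algebraMap_eq_length x hx1 _ hf0,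
    ← secOrdAt_eq L x hx1 (spη x) t₀ ht₀ hsp]
  congr 1
  rw [hη]
  rfl

variable {D : Scheme.{u}} (i : D ⟶ X) [IsClosedImmersion i]

/-- **`div_L(s) = [Z(s)]_{n-1}`** at the points of the zero scheme -/
theorem secDivFun_generic_eq_subschemeFun (δ : X → ℤ) (hδ : Cyc.IsDimFun X δ) (n : ℤ)
    (hn : δ (genericPoint X) = n) (L : X.Modules)
    (s : L.presheaf.obj (Opposite.op ⊤))
    (hs : (L.presheaf.germ ⊤ (genericPoint X) trivial) s ≠ 0)
    (hD : Cyc.IsZeroSchemeOf i L s) (d : D) :
    Cyc.secDivFun δ L (genericPoint X)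
      (Submodule.Quotient.mk ((L.presheaf.germ ⊤ (genericPoint X) trivial) s)) (i d) =
      Cyc.subschemeFun (fun d => δ (i d)) (n - 1) (𝟙 D) d := by
  by_cases hx : δ (i d) = n - 1
  · obtain ⟨t, f, ht, hf, hker⟩ := hD.2 d
    rw [secDivFun_generic_eq_length δ hδ n hn L s hs (i d) hx t f ht hf]
    unfold Cyc.subschemeFun
    beta_reduce
    rw [if_pos hx]
    have h2 : {z : D | (𝟙 D : D ⟶ D) z = d} = {d} := by
      ext z
      exact Iff.rfl
    rw [h2, finsum_mem_singleton]
    rw [length_quotient_eq_of_surjective (i.stalkMap d).hom (stalkMap_surjective_hom i d) _ hker]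
  · unfold Cyc.secDivFun Cyc.subschemeFun
    beta_reduce
    rw [dif_neg (by rintro ⟨-, h⟩; omega), if_neg hx]

/-- `div_L(s)` vanishes off the zero scheme -/
theorem secDivFun_generic_eq_zero_of_notMem (δ : X → ℤ) (hδ : Cyc.IsDimFun X δ) (n : ℤ)
    (hn : δ (genericPoint X) = n) (L : X.Modules) (hL : PicF.IsInvertible L)
    (s : L.presheaf.obj (Opposite.op ⊤))
    (hs : (L.presheaf.germ ⊤ (genericPoint X) trivial) s ≠ 0)
    (x : X) (hx : (Submodule.Quotient.mk ((L.presheaf.germ ⊤ x trivial) s) :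
      Cyc.secFibre L x) ≠ 0) :
    Cyc.secDivFun δ L (genericPoint X)
      (Submodule.Quotient.mk ((L.presheaf.germ ⊤ (genericPoint X) trivial) s)) x = 0 := by
  by_cases hxn : δ x = n - 1
  swap
  · unfold Cyc.secDivFun
    rw [dif_neg (by rintro ⟨-, h⟩; omega)]
  obtain ⟨U, hxU, e, he⟩ := (isInvertible_iff_exists_isGen.1 hL) x
  have hbij := bijective_stalk_of_isGen he x hxU
  have ht : Submodule.span (X.presheaf.stalk x) {L.presheaf.germ U x hxU e} = ⊤ := by
    rw [eq_top_iff]
    intro m _
    obtain ⟨a, ha⟩ := hbij.2 m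
    exact Submodule.mem_span_singleton.2 ⟨a, ha⟩
  obtain ⟨f, hf⟩ := hbij.2 ((L.presheaf.germ ⊤ x trivial) s)
  have hf' : (L.presheaf.germ ⊤ x trivial) s = f • L.presheaf.germ U x hxU e := hf.symm
  rw [secDivFun_generic_eq_length δ hδ n hn L s hs x hxn _ f ht hf']
  have hfm : f ∉ maximalIdeal (X.presheaf.stalk x) := by
    intro hmem
    apply hx
    rw [hf']
    exact (smul_mk_eq_zero_iff L x _ hbij f).2 hmem
  have hfu : IsUnit f := by
    by_contra hne
    exact hfm ((IsLocalRing.mem_maximalIdeal _).2 hne)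
  have htop : Ideal.span {f} = ⊤ := Ideal.span_singleton_eq_top.2 hfu
  haveI : Subsingleton (X.presheaf.stalk x ⧸ Ideal.span {f}) := by
    rw [htop]
    exact Ideal.Quotient.subsingleton_iff.2 rfl
  rw [Module.length_eq_zero]
  rfl

end Groth.Agent.Lib.Helper64.GysPb
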