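import Groth.Agent.Lib.Helper64.GysPb2

/-!
# The Gysin pullback of the divisor of a rational section (helper64)

`gysin_div_ratEquiv`: for an effective Cartier divisor `i : D → X` on an integral scheme, given as
the zero scheme of a regular section `s` of `L`, and a nonzero rational section `t` of an invertible
module `N`: `i^* div_N(t) ∼ c₁(N|_D) ∩ [D]_{n-1}` on `D`.
-/

set_option autoImplicit false
set_option linter.style.haveILetI false
set_option linter.unusedSectionVars false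
set_option linter.unusedVariables false
universe u

open AlgebraicGeometry CategoryTheory TopologicalSpace IsLocalRing CycAlg

namespace Groth.Agent.Lib.Helper64.GysPb

open Groth.Agent.Lib.Helper64.CycOrd Groth.Agent.Lib.Helper64.CycLen
open Groth.Agent.Lib.Helper64.CycExc Groth.Agent.Lib.Helper64.CycTens
open Groth.Agent.Lib.Helper64.CycCl Groth.Agent.Lib.Helper64.RelKey
open Groth.Agent.Lib.Helper64.RefExt Groth.Agent.Lib.Helper64.RefS2
open Groth.Agent.Lib.Helper64.SecOrd Groth.Agent.Lib.Helper64.ZeroSec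
open Groth.Agent.Lib.Lead.Inv Groth.Agent.Lib.Lead.QCohAff

theorem finsum_comp_of_injective {α β : Type*} (g : α → β) (hg : Function.Injective g)
    (G : β → ℤ) (hG : ∀ b, G b ≠ 0 → b ∈ Set.range g) : ∑ᶠ a, G (g a) = ∑ᶠ b, G b := by
  classical
  rw [← finsum_mem_range hg, finsum_mem_def]
  apply finsum_congr
  intro b
  by_cases hb : b ∈ Set.range g
  · rw [Set.indicator_of_mem hb]
  · rw [Set.indicator_of_notMem hb]
    by_contra h
    exact hb (hG b (Ne.symm h))

theorem gysin_div_ratEquiv {X D : Scheme.{u}} [IsIntegral X] (δ : X → ℤ) (hX : Cyc.IsSetup X δ)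
    (n : ℤ) (hn : δ (genericPoint X) = n) (L : X.Modules) (hL : PicF.IsInvertible L)
    (s : L.presheaf.obj (Opposite.op ⊤))
    (hreg : ∀ x : X, Function.Injective
      (fun a : X.presheaf.stalk x => a • (L.presheaf.germ ⊤ x trivial) s))
    (i : D ⟶ X) [IsClosedImmersion i] (hD : Cyc.IsZeroSchemeOf i L s) (N : X.Modules)
    (hN : PicF.IsInvertible N) (t : Cyc.secFibre N (genericPoint X)) (ht : t ≠ 0)
    (w : (ξ : X) → Cyc.secFibre L ξ) (hw : ∀ ξ, w ξ ≠ 0)
    (u : (d : D) → Cyc.secFibre ((Scheme.Modules.pullback i).obj N) d) (hu : ∀ d, u d ≠ 0)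
    (γ₁ γ₂ : AlgebraicCycle D ℤ)
    (h₁ : ∀ d : D, γ₁ d = Cyc.c1CapFun δ L (Cyc.secDivFun δ N (genericPoint X) t)
      (Cyc.gysinChoice L s w) (i d))
    (h₂ : ⇑γ₂ = Cyc.c1CapFun (fun d => δ (i d)) ((Scheme.Modules.pullback i).obj N)
      (Cyc.subschemeFun (fun d => δ (i d)) (n - 1) (𝟙 D)) u) :
    Cyc.RatEquiv (fun d => δ (i d)) (n - 2) γ₁ γ₂ := by
  classical
  haveI : IsLocallyNoetherian X := hX.1
  have hδ : Cyc.IsDimFun X δ := hX.2.2
  have hs : (L.presheaf.germ ⊤ (genericPoint X) trivial) s ≠ 0 := by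
    intro h0
    have h1 : (fun a : X.presheaf.stalk (genericPoint X) =>
        a • (L.presheaf.germ ⊤ (genericPoint X) trivial) s) 1 =
        (fun a : X.presheaf.stalk (genericPoint X) =>
        a • (L.presheaf.germ ⊤ (genericPoint X) trivial) s) 0 := by
      simp only [h0, smul_zero]
    exact one_ne_zero (hreg (genericPoint X) h1)
  have hsη : (Submodule.Quotient.mk ((L.presheaf.germ ⊤ (genericPoint X) trivial) s) :
      Cyc.secFibre L (genericPoint X)) ≠ 0 := by
    intro h0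
    apply hs
    exact (mk_bijective L).1 (h0.trans (Submodule.Quotient.mk_zero _).symm)
  -- rational sections of `N` on `X` inducing the given ones on `D`
  have hvex : ∀ ξ : X, ∃ v : Cyc.secFibre N ξ, v ≠ 0 ∧ ∀ d : D, i d = ξ → ∀ d' : D,
      Cyc.secDivFun (fun d => δ (i d)) ((Scheme.Modules.pullback i).obj N) d (u d) d' =
        Cyc.secDivFun δ N ξ v (i d') := by
    intro ξ
    by_cases hξ : ξ ∈ Set.range ⇑i
    · obtain ⟨d, rfl⟩ := hξ
      obtain ⟨v, hv, hvd⟩ := exists_secDivFun_pullback_eq i δ N hN d (u d) (hu d)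
      refine ⟨v, hv, fun d₁ hd₁ d' => ?_⟩
      have hdd : d₁ = d := i.isClosedEmbedding.injective hd₁
      subst hdd
      exact hvd d'
    · obtain ⟨U, hU, e, he⟩ := (isInvertible_iff_exists_isGen.1 hN) ξ
      refine ⟨Submodule.Quotient.mk (N.presheaf.germ U ξ hU e), ?_,
        fun d hd => absurd ⟨d, hd⟩ hξ⟩
      intro h0
      have h1 : (1 : X.presheaf.stalk ξ) • (Submodule.Quotient.mk (N.presheaf.germ U ξ hU e) :
          Cyc.secFibre N ξ) = 0 := by rw [one_smul, h0]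
      rw [smul_mk_eq_zero_iff N ξ _ (bijective_stalk_of_isGen he ξ hU)] at h1
      exact (Ideal.ne_top_iff_one _).1 (IsLocalRing.maximalIdeal.isMaximal _).ne_top h1
  choose v hv hvD using hvex
  -- the key formula
  obtain ⟨P, hh, hhne, hhone, hPdim, hLF, haP, hbP, hglob, hform⟩ :=
    relKeyFormula' δ hX (genericPoint X) N L hN hL t ht _ hsη (Cyc.gysinChoice L s w)
      (gysinChoice_ne_zero L s w hw) v hv
  obtain ⟨a, ha⟩ : ∃ a : X → ℤ, a = Cyc.secDivFun δ L (genericPoint X)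
      (Submodule.Quotient.mk ((L.presheaf.germ ⊤ (genericPoint X) trivial) s)) := ⟨_, rfl⟩
  rw [← ha] at hform
  have haD : ∀ d : D, a (i d) = Cyc.subschemeFun (fun d => δ (i d)) (n - 1) (𝟙 D) d := by
    intro d
    rw [ha]
    exact secDivFun_generic_eq_subschemeFun i δ hδ n hn L s hs hD d
  have hnotZ : ∀ ξ : X, ξ ∉ Set.range ⇑i →
      (Submodule.Quotient.mk ((L.presheaf.germ ⊤ ξ trivial) s) : Cyc.secFibre L ξ) ≠ 0 := by
    intro ξ hξ h0
    apply hξ
    rw [hD.1]
    exact h0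
  have ha0 : ∀ ξ : X, ξ ∉ Set.range ⇑i → a ξ = 0 := by
    intro ξ hξ
    rw [ha]
    exact secDivFun_generic_eq_zero_of_notMem δ hδ n hn L hL s hs ξ (hnotZ ξ hξ)
  have hhZ : ∀ ξ : X, ξ ∉ Set.range ⇑i → hh ξ = 1 := by
    intro ξ hξ
    apply hglob s rfl ξ
    unfold Cyc.gysinChoice
    rw [if_pos (hnotZ ξ hξ)]
  -- the cap product on `D` as a cap product on `X`
  have hγ₂ : ∀ d' : D, γ₂ d' = Cyc.c1CapFun δ N a v (i d') := by
    intro d'
    rw [congrFun h₂ d']
    unfold Cyc.c1CapFun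
    obtain ⟨G, hG⟩ : ∃ G : X → ℤ, ∀ ξ, G ξ = a ξ * Cyc.secDivFun δ N ξ (v ξ) (i d') :=
      ⟨_, fun ξ => rfl⟩
    have e1 : ∀ d : D, Cyc.subschemeFun (fun d => δ (i d)) (n - 1) (𝟙 D) d *
        Cyc.secDivFun (fun d => δ (i d)) ((Scheme.Modules.pullback i).obj N) d (u d) d' =
        G (i d) := by
      intro d
      rw [hG, ← haD d, hvD (i d) d rfl d']
    rw [finsum_congr e1, finsum_comp_of_injective (⇑i) i.isClosedEmbedding.injective G]
    · exact finsum_congr hG
    · intro ξ hne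
      by_contra hξ
      apply hne
      rw [hG, ha0 ξ hξ, zero_mul]
  -- the family of rational functions
  obtain ⟨ξf, hξf⟩ : ∃ ξf : {ξ : X // P ξ ∧ ξ ∈ Set.range ⇑i} → X, ∀ j, ξf j = j.1 :=
    ⟨_, fun j => rfl⟩
  have hsumX : ∀ x : X, ∑ᶠ ξ, Cyc.divFun δ ξ (hh ξ) x =
      ∑ᶠ j : {ξ : X // P ξ ∧ ξ ∈ Set.range ⇑i}, Cyc.divFun δ j.1 (hh j.1) x := by
    intro x
    apply finsum_eq_subtype_of_support (fun ξ => Cyc.divFun δ ξ (hh ξ) x)
      (fun ξ => P ξ ∧ ξ ∈ Set.range ⇑i)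
    intro ξ hne
    refine ⟨?_, ?_⟩
    · by_contra hnP
      apply hne
      show Cyc.divFun δ ξ (hh ξ) x = 0
      rw [hhone ξ hnP]
      exact divFun_one δ ξ x
    · by_contra hξ
      apply hne
      show Cyc.divFun δ ξ (hh ξ) x = 0
      rw [hhZ ξ hξ]
      exact divFun_one δ ξ x
  obtain ⟨ζ, f', hdim', hne', hlf', hdiv⟩ :=
    exists_family_closedImmersion i δ (n - 2)
      (fun j : {ξ : X // P ξ ∧ ξ ∈ Set.range ⇑i} => j.1) (fun j => hh j.1)
      (fun j => j.2.2)
      (fun j => by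
        have h1 := (hPdim j.1 j.2.1).1
        omega)
      (fun j => hhne j.1)
      (fun x => by
        obtain ⟨V, hVo, hxV, hfin⟩ := hLF x
        refine ⟨V, hVo, hxV, ?_⟩
        have hfin' : {j : {ξ : X // P ξ ∧ ξ ∈ Set.range ⇑i} | j.1 ∈ {ξ : X | ξ ∈ V ∧ P ξ}}.Finite :=
          Set.Finite.preimage (Subtype.val_injective.injOn) hfin
        apply hfin'.subset
        rintro j ⟨y, hy1, hy2⟩
        have hsp : j.1 ⤳ y := specializes_iff_mem_closure.2 hy1
        exact ⟨hsp.mem_open hVo hy2, j.2.1⟩)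
  unfold Cyc.RatEquiv
  refine ⟨_, ζ, f', hdim', hne', hlf', fun d' => ?_⟩
  have e0 : (γ₁ - γ₂) d' = γ₁ d' - γ₂ d' := rfl
  rw [e0, h₁ d', hγ₂ d', hform (i d'), hsumX (i d')]
  exact finsum_congr fun j => (hdiv j d').symm

end Groth.Agent.Lib.Helper64.GysPb
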