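import Groth.Agent.Lib.Helper64.GysPb3
import Groth.Agent.Lib.Helper35.PbAmple

/-!
# The self-intersection formula `i^* i_* α = c₁(L|_D) ∩ α` (helper64)

* `secDivFun_pullback_core`, `exists_secDivFun_pullback_eq'`: every nonzero rational section of `N`
  at `i d` has the same divisor as a nonzero rational section of `i^* N` at `d`.
* `gysin_push_ratEquiv`: `i^* (i_* α) ∼ c₁(i^* L) ∩ α` on `D`.
-/

set_option autoImplicit false
set_option linter.style.haveILetI false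
set_option linter.unusedSectionVars false
set_option linter.unusedVariables false
universe u

open AlgebraicGeometry CategoryTheory TopologicalSpace IsLocalRing CycAlg

namespace Groth.Agent.Lib.Helper64.GysPb

open Groth.Agent.Lib.Helper64.CycOrd Groth.Agent.Lib.Helper64.CycLen
open Groth.Agent.Lib.Helper64.CycExc Groth.Agent.Lib.Helper64.CycTens
open Groth.Agent.Lib.Helper64.CycCl Groth.Agent.Lib.Helper64.RelKey
open Groth.Agent.Lib.Helper64.RefExt Groth.Agent.Lib.Helper64.RefS2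
open Groth.Agent.Lib.Lead.Inv Groth.Agent.Lib.Lead.QCohAff
open Groth.Agent.Lib.Helper35.PbInv

variable {X D : Scheme.{u}} (i : D ⟶ X) [IsClosedImmersion i]

theorem stalkMap_not_mem {d : D} {φ : X.presheaf.stalk (i d)}
    (hφ : φ ∉ maximalIdeal (X.presheaf.stalk (i d))) :
    (i.stalkMap d).hom φ ∉ maximalIdeal (D.presheaf.stalk d) := by
  intro hmem
  apply hφ
  have hnu : ¬ IsUnit ((i.stalkMap d).hom φ) := (IsLocalRing.mem_maximalIdeal _).1 hmem
  rw [IsLocalRing.mem_maximalIdeal]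
  intro hu
  exact hnu (hu.map _)

theorem secDivFun_pullback_core (δ : X → ℤ) (N : X.Modules) (hN : PicF.IsInvertible N) (d : D)
    {U₀ : X.Opens} {e₀ : Γ(N, U₀)} (he₀ : IsGen N U₀ e₀) (hdU₀ : i d ∈ U₀)
    (φ : X.presheaf.stalk (i d)) (hφm : φ ∉ maximalIdeal (X.presheaf.stalk (i d))) (d' : D) :
    Cyc.secDivFun (fun d => δ (i d)) ((Scheme.Modules.pullback i).obj N) d
      ((i.stalkMap d).hom φ • (Submodule.Quotient.mk
        (((Scheme.Modules.pullback i).obj N).presheaf.germ (i ⁻¹ᵁ U₀) d hdU₀ (pbSec i N U₀ e₀)) :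
        Cyc.secFibre ((Scheme.Modules.pullback i).obj N) d)) d' =
    Cyc.secDivFun δ N (i d)
      (φ • (Submodule.Quotient.mk (N.presheaf.germ U₀ (i d) hdU₀ e₀) : Cyc.secFibre N (i d)))
      (i d') := by
  have hbij₀ := bijective_stalk_of_isGen he₀ (i d) hdU₀
  have hsp : i d ⤳ i d' ↔ d ⤳ d' := specializes_iff_closedImmersion i
  unfold Cyc.secDivFun
  beta_reduce
  by_cases hc : d ⤳ d' ∧ δ (i d') + 1 = δ (i d)
  swap
  · have hc' : ¬ (i d ⤳ i d' ∧ δ (i d') + 1 = δ (i d)) := fun h => hc ⟨hsp.1 h.1, h.2⟩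
    rw [dif_neg hc, dif_neg hc']
  have hc' : i d ⤳ i d' ∧ δ (i d') + 1 = δ (i d) := ⟨hsp.2 hc.1, hc.2⟩
  rw [dif_pos hc, dif_pos hc']
  obtain ⟨U₁, hd'U₁, e₁, he₁⟩ := (isInvertible_iff_exists_isGen.1 hN) (i d')
  have hdU₁ : i d ∈ U₁ := hc'.1.mem_open U₁.isOpen hd'U₁
  obtain ⟨c, hc1, hc2⟩ := germ_pbSec_change i N e₀ he₁ d hdU₀ hdU₁
  have hbij₁ := bijective_stalk_of_isGen he₁ (i d) hdU₁
  have hcm : c ∉ maximalIdeal (X.presheaf.stalk (i d)) := by
    intro hmem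
    have h1 : (1 : X.presheaf.stalk (i d)) • (Submodule.Quotient.mk
        (N.presheaf.germ U₀ (i d) hdU₀ e₀) : Cyc.secFibre N (i d)) = 0 := by
      rw [one_smul, hc1]
      exact (smul_mk_eq_zero_iff N (i d) _ hbij₁ c).2 hmem
    rw [smul_mk_eq_zero_iff N (i d) _ hbij₀] at h1
    exact (Ideal.ne_top_iff_one _).1 (IsLocalRing.maximalIdeal.isMaximal _).ne_top h1
  have hφc : φ * c ∉ maximalIdeal (X.presheaf.stalk (i d)) := mul_not_mem hφm hcm
  have eL : (i.stalkMap d).hom φ • (Submodule.Quotient.mk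
        (((Scheme.Modules.pullback i).obj N).presheaf.germ (i ⁻¹ᵁ U₀) d hdU₀ (pbSec i N U₀ e₀)) :
        Cyc.secFibre ((Scheme.Modules.pullback i).obj N) d) =
      (i.stalkMap d).hom (φ * c) • (Submodule.Quotient.mk
      (((Scheme.Modules.pullback i).obj N).presheaf.germ (i ⁻¹ᵁ U₁) d hdU₁ (pbSec i N U₁ e₁)) :
      Cyc.secFibre ((Scheme.Modules.pullback i).obj N) d) := by
    rw [hc2, map_mul, mul_smul]
    rfl
  have eR : φ • (Submodule.Quotient.mk (N.presheaf.germ U₀ (i d) hdU₀ e₀) :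
      Cyc.secFibre N (i d)) = (φ * c) • (Submodule.Quotient.mk
        (N.presheaf.germ U₁ (i d) hdU₁ e₁) : Cyc.secFibre N (i d)) := by
    rw [hc1, mul_smul]
    rfl
  rw [eL, eR]
  exact secOrdAt_pullback_eq i N he₁ hc.1 hc'.1 hd'U₁ (φ * c) hφc

/-- rational sections of `N` on the closed subscheme come from rational sections of `i^* N` -/
theorem exists_secDivFun_pullback_eq' (δ : X → ℤ) (N : X.Modules) (hN : PicF.IsInvertible N)
    (d : D) (v : Cyc.secFibre N (i d)) (hv : v ≠ 0) :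
    ∃ u : Cyc.secFibre ((Scheme.Modules.pullback i).obj N) d, u ≠ 0 ∧ ∀ d' : D,
      Cyc.secDivFun (fun d => δ (i d)) ((Scheme.Modules.pullback i).obj N) d u d' =
        Cyc.secDivFun δ N (i d) v (i d') := by
  obtain ⟨U₀, hdU₀, e₀, he₀⟩ := (isInvertible_iff_exists_isGen.1 hN) (i d)
  obtain ⟨φ, hφm, rfl⟩ := exists_coeff_fibre N (i d) hdU₀ he₀ v hv
  refine ⟨_, ?_, fun d' => secDivFun_pullback_core i δ N hN d he₀ hdU₀ φ hφm d'⟩
  intro h0
  have hbij := bijective_stalk_of_isGen (isGen_pb i N he₀) d (show d ∈ i ⁻¹ᵁ U₀ from hdU₀)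
  exact stalkMap_not_mem i hφm
    ((smul_mk_eq_zero_iff ((Scheme.Modules.pullback i).obj N) d _ hbij _).1 h0)

/-- **the self-intersection formula** `i^* i_* α ∼ c₁(i^* L) ∩ α` -/
theorem gysin_push_ratEquiv (δ : X → ℤ) (L : X.Modules) (hL : PicF.IsInvertible L)
    (s : L.presheaf.obj (Opposite.op ⊤)) (k : ℤ) (α : AlgebraicCycle D ℤ)
    (hα : α ∈ Cyc.Zk D (fun d => δ (i d)) k) (w : (ξ : X) → Cyc.secFibre L ξ) (hw : ∀ ξ, w ξ ≠ 0)
    (t : (d : D) → Cyc.secFibre ((Scheme.Modules.pullback i).obj L) d) (ht : ∀ d, t d ≠ 0)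
    (ζ₁ ζ₂ : AlgebraicCycle D ℤ)
    (h₁ : ∀ d, ζ₁ d = Cyc.c1CapFun δ L ⇑(AlgebraicCycle.map i (fun d => δ (i d)) δ α)
      (Cyc.gysinChoice L s w) (i d))
    (h₂ : ⇑ζ₂ = Cyc.c1CapFun (fun d => δ (i d)) ((Scheme.Modules.pullback i).obj L) ⇑α t) :
    Cyc.RatEquiv (fun d => δ (i d)) (k - 1) ζ₁ ζ₂ := by
  classical
  have hinv : PicF.IsInvertible ((Scheme.Modules.pullback i).obj L) :=
    Groth.Agent.Lib.Helper35.PbInv.isInvertible_pullback i hL
  have hg := gysinChoice_ne_zero L s w hw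
  choose t' ht' ht'D using fun d =>
    exists_secDivFun_pullback_eq' i δ L hL d (Cyc.gysinChoice L s w (i d)) (hg (i d))
  have h₁' : ⇑ζ₁ = Cyc.c1CapFun (fun d => δ (i d)) ((Scheme.Modules.pullback i).obj L) ⇑α t' := by
    funext d'
    rw [h₁ d']
    unfold Cyc.c1CapFun
    obtain ⟨G, hG⟩ : ∃ G : X → ℤ, ∀ ξ, G ξ =
        (AlgebraicCycle.map i (fun d => δ (i d)) δ α) ξ *
          Cyc.secDivFun δ L ξ (Cyc.gysinChoice L s w ξ) (i d') := ⟨_, fun _ => rfl⟩
    have e1 : ∀ d : D, α d * Cyc.secDivFun (fun d => δ (i d))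
        ((Scheme.Modules.pullback i).obj L) d (t' d) d' = G (i d) := by
      intro d
      rw [hG, map_closedImmersion_apply i (fun d => δ (i d)) δ (fun _ => rfl) α d, ht'D d d']
    rw [finsum_congr e1, finsum_comp_of_injective (⇑i) i.isClosedEmbedding.injective G]
    · exact (finsum_congr hG).symm
    · intro ξ hne
      by_contra hξ
      apply hne
      rw [hG, map_closedImmersion_apply_of_notMem i (fun d => δ (i d)) δ α ξ hξ, zero_mul]
  have hα' : α ∈ Cyc.Zk D (fun d => δ (i d)) (k - 1 + 1) := by rwa [sub_add_cancel]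
  exact ratEquiv_c1Cap_of_sections (fun d => δ (i d)) ((Scheme.Modules.pullback i).obj L) hinv
    (k - 1) α hα' t' ht' t ht ζ₁ ζ₂ h₁' h₂

end Groth.Agent.Lib.Helper64.GysPb
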