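import Groth.Agent.Lib.Helper64.GysPb4

/-!
# The Gysin map commutes with first Chern classes (helper64)

`gysin_c1_comm`: `i^*(c₁(N) ∩ α) ∼ c₁(i^* N) ∩ i^* α` on the zero scheme `i : D → X` of a global
section of an invertible module `L`.
-/

set_option autoImplicit false
set_option linter.style.haveILetI false
set_option linter.unusedSectionVars false
set_option linter.unusedVariables false
universe u

open AlgebraicGeometry CategoryTheory TopologicalSpace IsLocalRing CycAlg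

namespace Groth.Agent.Lib.Helper64.GysPb

open Groth.Agent.Lib.Helper64.CycOrd Groth.Agent.Lib.Helper64.CycLen
open Groth.Agent.Lib.Helper64.CycExc Groth.Agent.Lib.Helper64.CycTens
open Groth.Agent.Lib.Helper64.CycCl Groth.Agent.Lib.Helper64.RelKey
open Groth.Agent.Lib.Helper64.RefExt Groth.Agent.Lib.Helper64.RefS2
open Groth.Agent.Lib.Helper64.SecOrd
open Groth.Agent.Lib.Lead.Inv Groth.Agent.Lib.Lead.QCohAff

variable {X : Scheme.{u}}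

/-- the divisor of the restriction of a global section vanishes where the section generates -/
theorem secDivFun_germ_eq_zero (δ : X → ℤ) (L : X.Modules) (hL : PicF.IsInvertible L)
    (σ : L.presheaf.obj (Opposite.op ⊤)) (ξ₀ ξ : X)
    (hξ : (Submodule.Quotient.mk (L.presheaf.germ ⊤ ξ trivial σ) : Cyc.secFibre L ξ) ≠ 0) :
    Cyc.secDivFun δ L ξ₀
      (Submodule.Quotient.mk (L.presheaf.germ ⊤ ξ₀ trivial σ) : Cyc.secFibre L ξ₀) ξ = 0 := by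
  unfold Cyc.secDivFun
  by_cases hc : ξ₀ ⤳ ξ ∧ δ ξ + 1 = δ ξ₀
  swap
  · rw [dif_neg hc]
  rw [dif_pos hc]
  obtain ⟨U, hξU, e, he⟩ := (isInvertible_iff_exists_isGen.1 hL) ξ
  have hbij := bijective_stalk_of_isGen he ξ hξU
  obtain ⟨f, hf⟩ := hbij.2 (L.presheaf.germ ⊤ ξ trivial σ)
  have hf' : L.presheaf.germ ⊤ ξ trivial σ = f • L.presheaf.germ U ξ hξU e := hf.symm
  have hfm : f ∉ maximalIdeal (X.presheaf.stalk ξ) := by
    intro hmem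
    apply hξ
    rw [hf']
    exact (smul_mk_eq_zero_iff L ξ _ hbij f).2 hmem
  have hfu : IsUnit f := by
    by_contra hne
    exact hfm ((IsLocalRing.mem_maximalIdeal _).2 hne)
  have h1 : L.presheaf.germ ⊤ ξ₀ trivial σ =
      (X.presheaf.stalkSpecializes hc.1).hom f •
        L.presheaf.germ U ξ₀ (hc.1.mem_open U.isOpen hξU) e := by
    have := congrArg (L.presheaf.stalkSpecializes hc.1).hom hf'
    rw [sp_germ, sp_smul, sp_germ] at this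
    exact this
  have h2 : (Submodule.Quotient.mk (L.presheaf.germ ⊤ ξ₀ trivial σ) : Cyc.secFibre L ξ₀) =
      (X.presheaf.stalkSpecializes hc.1).hom f •
        (Submodule.Quotient.mk (L.presheaf.germ U ξ₀ (hc.1.mem_open U.isOpen hξU) e) :
          Cyc.secFibre L ξ₀) := by
    rw [h1]
    rfl
  have hspu : IsUnit ((X.presheaf.stalkSpecializes hc.1).hom f) := hfu.map _
  rw [h2, secOrdAt_eq_of_isGen L he hc.1 hξU _ (not_mem_maximalIdeal_of_isUnit hspu)]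
  exact ordAt_specMap_unit ξ ξ₀ hc.1 hfu

theorem gysin_c1_comm {D : Scheme.{u}} (δ : X → ℤ) (hX : Cyc.IsSetup X δ) (L N : X.Modules)
    (hL : PicF.IsInvertible L) (hN : PicF.IsInvertible N) (s : L.presheaf.obj (Opposite.op ⊤))
    (i : D ⟶ X) [IsClosedImmersion i] (hD : Cyc.IsZeroSchemeOf i L s) (k : ℤ)
    (α : AlgebraicCycle X ℤ) (hα : α ∈ Cyc.Zk X δ k) (w : (ξ : X) → Cyc.secFibre L ξ)
    (hw : ∀ ξ, w ξ ≠ 0) (v : (ξ : X) → Cyc.secFibre N ξ) (hv : ∀ ξ, v ξ ≠ 0)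
    (t : (d : D) → Cyc.secFibre ((Scheme.Modules.pullback i).obj N) d) (ht : ∀ d, t d ≠ 0)
    (β : AlgebraicCycle X ℤ) (hβ : ⇑β = Cyc.c1CapFun δ N ⇑α v) (γ : D → ℤ)
    (hγ : γ = fun d => Cyc.c1CapFun δ L ⇑α (Cyc.gysinChoice L s w) (i d))
    (ζ₁ ζ₂ : AlgebraicCycle D ℤ)
    (h₁ : ∀ d, ζ₁ d = Cyc.c1CapFun δ L ⇑β (Cyc.gysinChoice L s w) (i d))
    (h₂ : ⇑ζ₂ = Cyc.c1CapFun (fun d => δ (i d)) ((Scheme.Modules.pullback i).obj N) γ t) :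
    Cyc.RatEquiv (fun d => δ (i d)) (k - 2) ζ₁ ζ₂ := by
  classical
  haveI : IsLocallyNoetherian X := hX.1
  have hcl : IsClosed (Set.range ⇑i) := i.isClosedEmbedding.isClosed_range
  have hmemZ : ∀ ξ : X, ξ ∈ Set.range ⇑i ↔
      (Submodule.Quotient.mk (L.presheaf.germ ⊤ ξ trivial s) : Cyc.secFibre L ξ) = 0 := by
    intro ξ
    rw [hD.1]
    exact Iff.rfl
  obtain ⟨g, hgdef⟩ : ∃ g : (ξ : X) → Cyc.secFibre L ξ, g = Cyc.gysinChoice L s w := ⟨_, rfl⟩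
  have hg : ∀ ξ, g ξ ≠ 0 := by
    intro ξ
    rw [hgdef]
    exact gysinChoice_ne_zero L s w hw ξ
  have hgZ : ∀ ξ, ξ ∉ Set.range ⇑i →
      g ξ = (Submodule.Quotient.mk (L.presheaf.germ ⊤ ξ trivial s) : Cyc.secFibre L ξ) := by
    intro ξ hξ
    rw [hmemZ] at hξ
    rw [hgdef]
    unfold Cyc.gysinChoice
    rw [if_pos hξ]
  rw [← hgdef] at h₁ hγ
  -- rational sections of `N` on `X` inducing the given ones on `D`
  have hvex : ∀ ξ : X, ∃ v' : Cyc.secFibre N ξ, v' ≠ 0 ∧ ∀ d : D, i d = ξ → ∀ d' : D,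
      Cyc.secDivFun (fun d => δ (i d)) ((Scheme.Modules.pullback i).obj N) d (t d) d' =
        Cyc.secDivFun δ N ξ v' (i d') := by
    intro ξ
    by_cases hξ : ξ ∈ Set.range ⇑i
    · obtain ⟨d, rfl⟩ := hξ
      obtain ⟨v', hv', hvd⟩ := exists_secDivFun_pullback_eq i δ N hN d (t d) (ht d)
      refine ⟨v', hv', fun d₁ hd₁ d' => ?_⟩
      have hdd : d₁ = d := i.isClosedEmbedding.injective hd₁
      subst hdd
      exact hvd d'
    · exact ⟨v ξ, hv ξ, fun d hd => absurd ⟨d, hd⟩ hξ⟩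
  choose v' hv' hv'D using hvex
  -- the key formula at every point
  choose P hh hhne hhone hPdim hLF haP hbP hglob hform using fun ξ₀ : X =>
    relKeyFormula' δ hX ξ₀ N L hN hL (v ξ₀) (hv ξ₀) (g ξ₀) (hg ξ₀) g hg v' hv'
  have hhZ : ∀ ξ₀ ξ, ξ ∉ Set.range ⇑i → hh ξ₀ ξ = 1 := by
    intro ξ₀ ξ hξ
    by_cases hP : P ξ₀ ξ
    swap
    · exact hhone ξ₀ ξ hP
    have hsp : ξ₀ ⤳ ξ := (hPdim ξ₀ ξ hP).2
    have hξ₀ : ξ₀ ∉ Set.range ⇑i := fun hmem => hξ (hsp.mem_closed hcl hmem)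
    exact hglob ξ₀ s (hgZ ξ₀ hξ₀) ξ (hgZ ξ hξ)
  -- the Gysin pullback is supported on `D`
  have hGsupp : ∀ ξ, ξ ∉ Set.range ⇑i → Cyc.c1CapFun δ L ⇑α g ξ = 0 := by
    intro ξ hξ
    unfold Cyc.c1CapFun
    apply finsum_eq_zero_of_forall_eq_zero
    intro ξ₀
    by_cases hsp : ξ₀ ⤳ ξ
    · have hξ₀ : ξ₀ ∉ Set.range ⇑i := fun hmem => hξ (hsp.mem_closed hcl hmem)
      rw [hgZ ξ₀ hξ₀, secDivFun_germ_eq_zero δ L hL s ξ₀ ξ ((hmemZ ξ).not.1 hξ), mul_zero]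
    · rw [secDivFun_eq_zero_of_not_specializes δ L ξ₀ (g ξ₀) ξ hsp, mul_zero]
  -- the cap product on `D` as a cap product on `X`
  have hζ₂ : ∀ d' : D, ζ₂ d' = Cyc.c1CapFun δ N (Cyc.c1CapFun δ L ⇑α g) v' (i d') := by
    intro d'
    rw [congrFun h₂ d']
    unfold Cyc.c1CapFun
    obtain ⟨G, hG⟩ : ∃ G : X → ℤ, ∀ ξ, G ξ =
        (∑ᶠ ξ₀, α ξ₀ * Cyc.secDivFun δ L ξ₀ (g ξ₀) ξ) * Cyc.secDivFun δ N ξ (v' ξ) (i d') :=
      ⟨_, fun ξ => rfl⟩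
    have e1 : ∀ d : D, γ d *
        Cyc.secDivFun (fun d => δ (i d)) ((Scheme.Modules.pullback i).obj N) d (t d) d' =
        G (i d) := by
      intro d
      rw [hG, hv'D (i d) d rfl d', hγ]
      rfl
    rw [finsum_congr e1, finsum_comp_of_injective (⇑i) i.isClosedEmbedding.injective G]
    · exact finsum_congr hG
    · intro ξ hne
      by_contra hξ
      apply hne
      have := hGsupp ξ hξ
      unfold Cyc.c1CapFun at this
      rw [hG, this, zero_mul]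
  have hFx : ∀ x, {ξ₀ : X | α ξ₀ ≠ 0 ∧ ξ₀ ⤳ x}.Finite := by
    intro x
    obtain ⟨t, ht, hfin⟩ := α.supportLocallyFiniteWithinDomain' x (Set.mem_univ x)
    apply hfin.subset
    rintro ξ₀ ⟨h1, h3⟩
    exact ⟨interior_subset (h3.mem_open isOpen_interior (mem_interior_iff_mem_nhds.2 ht)), h1⟩
  have hGx : ∀ x ξ₀, {ξ : X | ξ ⤳ x ∧ P ξ₀ ξ}.Finite := by
    intro x ξ₀
    obtain ⟨V, hVo, hxV, hfin⟩ := hLF ξ₀ x
    apply hfin.subset
    rintro ξ ⟨hsp, hξP⟩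
    exact ⟨hsp.mem_open hVo hxV, hξP⟩
  -- the identity on `X`
  have hmain : ∀ x : X, Cyc.c1CapFun δ L (Cyc.c1CapFun δ N ⇑α v) g x -
      Cyc.c1CapFun δ N (Cyc.c1CapFun δ L ⇑α g) v' x =
      ∑ᶠ p : {p : X × X // α p.1 ≠ 0 ∧ P p.1 p.2 ∧ p.2 ∈ Set.range ⇑i},
        Cyc.divFun δ p.1.2 ((hh p.1.1 p.1.2) ^ (α p.1.1)) x := by
    intro x
    have hγ₁ : Cyc.c1CapFun δ L (Cyc.c1CapFun δ N ⇑α v) g x =
        ∑ᶠ ξ₀, α ξ₀ * Cyc.c1CapFun δ L (Cyc.secDivFun δ N ξ₀ (v ξ₀)) g x := by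
      unfold Cyc.c1CapFun
      exact finsum_cap_exchange α x P (hGx x) (fun ξ₀ ξ => Cyc.secDivFun δ N ξ₀ (v ξ₀) ξ)
        (fun ξ => Cyc.secDivFun δ L ξ (g ξ) x)
        (fun ξ₀ ξ hne => ⟨by
          by_contra hns
          exact hne (secDivFun_eq_zero_of_not_specializes δ N ξ₀ (v ξ₀) ξ hns), haP ξ₀ ξ hne⟩)
        (fun ξ hne => by
          by_contra hns
          exact hne (secDivFun_eq_zero_of_not_specializes δ L ξ (g ξ) x hns))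
    have hγ₂ : Cyc.c1CapFun δ N (Cyc.c1CapFun δ L ⇑α g) v' x =
        ∑ᶠ ξ₀, α ξ₀ * Cyc.c1CapFun δ N (Cyc.secDivFun δ L ξ₀ (g ξ₀)) v' x := by
      unfold Cyc.c1CapFun
      exact finsum_cap_exchange α x P (hGx x) (fun ξ₀ ξ => Cyc.secDivFun δ L ξ₀ (g ξ₀) ξ)
        (fun ξ => Cyc.secDivFun δ N ξ (v' ξ) x)
        (fun ξ₀ ξ hne => ⟨by
          by_contra hns
          exact hne (secDivFun_eq_zero_of_not_specializes δ L ξ₀ (g ξ₀) ξ hns), hbP ξ₀ ξ hne⟩)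
        (fun ξ hne => by
          by_contra hns
          exact hne (secDivFun_eq_zero_of_not_specializes δ N ξ (v' ξ) x hns))
    rw [hγ₁, hγ₂]
    have hC₁ : ∀ ξ₀, Cyc.c1CapFun δ L (Cyc.secDivFun δ N ξ₀ (v ξ₀)) g x ≠ 0 → ξ₀ ⤳ x := by
      intro ξ₀ hne
      unfold Cyc.c1CapFun at hne
      obtain ⟨ξ, hξ⟩ := exists_ne_zero_of_finsum_ne_zero' hne
      have h1 : ξ₀ ⤳ ξ := by
        by_contra hns
        exact left_ne_zero_of_mul hξ (secDivFun_eq_zero_of_not_specializes δ N ξ₀ (v ξ₀) ξ hns)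
      have h2 : ξ ⤳ x := by
        by_contra hns
        exact right_ne_zero_of_mul hξ (secDivFun_eq_zero_of_not_specializes δ L ξ (g ξ) x hns)
      exact h1.trans h2
    have hC₂ : ∀ ξ₀, Cyc.c1CapFun δ N (Cyc.secDivFun δ L ξ₀ (g ξ₀)) v' x ≠ 0 → ξ₀ ⤳ x := by
      intro ξ₀ hne
      unfold Cyc.c1CapFun at hne
      obtain ⟨ξ, hξ⟩ := exists_ne_zero_of_finsum_ne_zero' hne
      have h1 : ξ₀ ⤳ ξ := by
        by_contra hns
        exact left_ne_zero_of_mul hξ (secDivFun_eq_zero_of_not_specializes δ L ξ₀ (g ξ₀) ξ hns)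
      have h2 : ξ ⤳ x := by
        by_contra hns
        exact right_ne_zero_of_mul hξ (secDivFun_eq_zero_of_not_specializes δ N ξ (v' ξ) x hns)
      exact h1.trans h2
    have f₁ : (Function.support fun ξ₀ =>
        α ξ₀ * Cyc.c1CapFun δ L (Cyc.secDivFun δ N ξ₀ (v ξ₀)) g x).Finite := by
      apply (hFx x).subset
      intro ξ₀ hξ₀
      rw [Function.mem_support] at hξ₀
      exact ⟨left_ne_zero_of_mul hξ₀, hC₁ ξ₀ (right_ne_zero_of_mul hξ₀)⟩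
    have f₂ : (Function.support fun ξ₀ =>
        α ξ₀ * Cyc.c1CapFun δ N (Cyc.secDivFun δ L ξ₀ (g ξ₀)) v' x).Finite := by
      apply (hFx x).subset
      intro ξ₀ hξ₀
      rw [Function.mem_support] at hξ₀
      exact ⟨left_ne_zero_of_mul hξ₀, hC₂ ξ₀ (right_ne_zero_of_mul hξ₀)⟩
    rw [← finsum_sub_distrib f₁ f₂]
    obtain ⟨G, hG⟩ : ∃ G : X × X → ℤ, ∀ p, G p =
        Cyc.divFun δ p.2 ((hh p.1 p.2) ^ (α p.1)) x := ⟨_, fun p => rfl⟩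
    have hGval : ∀ ξ₀ ξ, G (ξ₀, ξ) = (α ξ₀) * Cyc.divFun δ ξ (hh ξ₀ ξ) x := by
      intro ξ₀ ξ
      rw [hG]
      exact divFun_zpow δ ξ (hhne ξ₀ ξ) (α ξ₀) x
    have hGsupp' : ∀ p, G p ≠ 0 →
        (α p.1 ≠ 0 ∧ P p.1 p.2 ∧ p.2 ∈ Set.range ⇑i) ∧ p.2 ⤳ x := by
      rintro ⟨ξ₀, ξ⟩ hne
      rw [hGval] at hne
      have h1 : α ξ₀ ≠ 0 := left_ne_zero_of_mul hne
      have h2 : Cyc.divFun δ ξ (hh ξ₀ ξ) x ≠ 0 := right_ne_zero_of_mul hne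
      refine ⟨⟨h1, ?_, ?_⟩, ?_⟩
      · by_contra hnP
        apply h2
        rw [hhone ξ₀ ξ hnP]
        exact divFun_one δ ξ x
      · by_contra hnZ
        apply h2
        rw [hhZ ξ₀ ξ hnZ]
        exact divFun_one δ ξ x
      · by_contra hns
        exact h2 (divFun_eq_zero_of_not_specializes δ ξ _ x hns)
    have hGfin : (Function.support G).Finite := by
      apply finite_prod_of_fibres (hFx x) (fun ξ₀ => {ξ : X | ξ ⤳ x ∧ P ξ₀ ξ})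
        (fun ξ₀ _ => hGx x ξ₀)
      rintro ⟨ξ₀, ξ⟩ hp
      obtain ⟨⟨h1, h2, -⟩, h3⟩ := hGsupp' _ hp
      exact ⟨⟨h1, (hPdim ξ₀ ξ h2).2.trans h3⟩, h3, h2⟩
    have hRHS : ∑ᶠ p : {p : X × X // α p.1 ≠ 0 ∧ P p.1 p.2 ∧ p.2 ∈ Set.range ⇑i},
        Cyc.divFun δ p.1.2 ((hh p.1.1 p.1.2) ^ (α p.1.1)) x = ∑ᶠ p : X × X, G p := by
      rw [finsum_eq_subtype_of_support G
        (fun p => α p.1 ≠ 0 ∧ P p.1 p.2 ∧ p.2 ∈ Set.range ⇑i) (fun p hp => (hGsupp' p hp).1)]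
      exact finsum_congr fun p => (hG p.1).symm
    rw [hRHS, finsum_curry G hGfin]
    apply finsum_congr
    intro ξ₀
    have e1 : ∑ᶠ ξ, G (ξ₀, ξ) = (α ξ₀) * ∑ᶠ ξ, Cyc.divFun δ ξ (hh ξ₀ ξ) x := by
      rw [mul_finsum]
      exact finsum_congr fun ξ => hGval ξ₀ ξ
    rw [e1, ← hform ξ₀ x]
    ring
  -- the family on `D`
  obtain ⟨ζ, f', hdim', hne', hlf', hdiv⟩ :=
    exists_family_closedImmersion i δ (k - 2)
      (fun p : {p : X × X // α p.1 ≠ 0 ∧ P p.1 p.2 ∧ p.2 ∈ Set.range ⇑i} => p.1.2)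
      (fun p => (hh p.1.1 p.1.2) ^ (α p.1.1))
      (fun p => p.2.2.2)
      (fun p => by
        show δ p.1.2 = k - 2 + 1
        have h1 := (hPdim p.1.1 p.1.2 p.2.2.1).1
        have h2 : δ p.1.1 = k := by
          by_contra hne
          exact p.2.1 (hα p.1.1 hne)
        omega)
      (fun p => zpow_ne_zero _ (hhne p.1.1 p.1.2))
      (fun x => by
        obtain ⟨U₀, hU₀o, hxU₀, hU₀fin⟩ := locallyFinite_support_closure α x
        have hF' : {ξ₀ : X | α ξ₀ ≠ 0 ∧ ξ₀ ∈ U₀}.Finite := by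
          have := Set.Finite.image (fun i : {ξ : X // α ξ ≠ 0} => i.1) hU₀fin
          apply this.subset
          rintro ξ₀ ⟨h1, h2⟩
          exact ⟨⟨ξ₀, h1⟩, ⟨ξ₀, subset_closure rfl, h2⟩, rfl⟩
        choose V hVo hxV hVfin using fun ξ₀ => hLF ξ₀ x
        refine ⟨U₀ ∩ ⋂ ξ₀ ∈ {ξ₀ : X | α ξ₀ ≠ 0 ∧ ξ₀ ∈ U₀}, V ξ₀,
          hU₀o.inter (hF'.isOpen_biInter fun ξ₀ _ => hVo ξ₀),
          ⟨hxU₀, Set.mem_iInter₂.2 fun ξ₀ _ => hxV ξ₀⟩, ?_⟩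
        have hpairs : {p : X × X | (α p.1 ≠ 0 ∧ p.1 ∈ U₀) ∧ (p.2 ∈ V p.1 ∧ P p.1 p.2)}.Finite := by
          apply finite_prod_of_fibres hF' (fun ξ₀ => {ξ : X | ξ ∈ V ξ₀ ∧ P ξ₀ ξ})
            (fun ξ₀ _ => hVfin ξ₀)
          rintro p hp
          exact hp
        apply (Set.Finite.preimage (Subtype.val_injective.injOn) hpairs).subset
        rintro p ⟨y, hy1, hy2⟩
        have hsp : p.1.2 ⤳ y := specializes_iff_mem_closure.2 hy1
        have hpU₀ : p.1.2 ∈ U₀ := hsp.mem_open hU₀o hy2.1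
        have hsp0 : p.1.1 ⤳ p.1.2 := (hPdim p.1.1 p.1.2 p.2.2.1).2
        have hp0U₀ : p.1.1 ∈ U₀ := hsp0.mem_open hU₀o hpU₀
        have hmem := Set.mem_iInter₂.1 hy2.2 p.1.1 ⟨p.2.1, hp0U₀⟩
        exact ⟨⟨p.2.1, hp0U₀⟩, hsp.mem_open (hVo p.1.1) hmem, p.2.2.1⟩)
  unfold Cyc.RatEquiv
  refine ⟨_, ζ, f', hdim', hne', hlf', fun d' => ?_⟩
  have e0 : (ζ₁ - ζ₂) d' = ζ₁ d' - ζ₂ d' := rfl
  rw [e0, h₁ d', hζ₂ d', hβ, hmain (i d')]
  exact finsum_congr fun j => (hdiv j d').symm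

end Groth.Agent.Lib.Helper64.GysPb
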