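import Groth.Agent.Lib.Helper64.AssReg2
import Groth.Agent.Lib.Helper64.CycLen2

/-!
# Generic points of irreducible components and meromorphic functions (helper64)

* `IsGen x`: `x` is the generic point of an irreducible component.
* `isGen_iff`, `isGen_iff_minimalPrimes`.
* `isField_stalk_of_isGen`, `bijective_algebraMap_KStalk_of_isGen`.
* `germ_eq_zero_of_forall_isGen`: on a reduced scheme a function vanishing at the generic points
  vanishes.
* `mk_eq_of_forall_isGen`: two fractions agreeing at the generic points agree everywhere.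
-/

set_option autoImplicit false
set_option linter.style.haveILetI false
set_option linter.unusedSectionVars false
universe u

open AlgebraicGeometry CategoryTheory TopologicalSpace IsLocalRing

namespace Groth.Agent.Lib.Helper64.MeroGen

open Groth.Agent.Lib.Helper64.AssReg Groth.Agent.Lib.Helper64.CycLen
open Groth.Agent.Lib.Helper64.StalkSpec Groth.Agent.Lib.Helper64.MeroInv
open Groth.Agent.Lib.Helper29.QCohLoc Groth.Agent.Lib.Helper65.CurveDiv

variable {X : Scheme.{u}}

/-- `x` is the generic point of an irreducible component -/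
def IsGen (x : X) : Prop := closure ({x} : Set X) ∈ irreducibleComponents (X : Type u)

theorem isGen_iff (x : X) : IsGen x ↔ ∀ y : X, y ⤳ x → y = x := by
  constructor
  · intro h y hy
    have h1 : closure ({x} : Set X) ⊆ closure {y} := specializes_iff_closure_subset.1 hy
    have h2 : closure ({y} : Set X) ⊆ closure {x} :=
      h.2 (isIrreducible_singleton.closure) h1
    have h3 : x ⤳ y := specializes_iff_closure_subset.2 h2
    exact (hy.antisymm h3).eq
  · intro h
    refine ⟨isIrreducible_singleton.closure, ?_⟩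
    intro Z hZ hle
    obtain ⟨z, hz⟩ := QuasiSober.sober hZ.closure isClosed_closure
    have hz' : closure ({z} : Set X) = closure Z := hz
    have hxZ : x ∈ closure Z := subset_closure (hle (subset_closure (Set.mem_singleton x)))
    rw [← hz'] at hxZ
    have hzx : z ⤳ x := specializes_iff_mem_closure.2 hxZ
    have := h z hzx
    subst this
    intro w hw
    rw [hz']
    exact subset_closure hw

theorem isGen_iff_minimalPrimes {W : X.Opens} (hW : IsAffineOpen W) {x : X} (hx : x ∈ W) :
    IsGen x ↔ (hW.primeIdealOf ⟨x, hx⟩).asIdeal ∈ minimalPrimes Γ(X, W) := by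
  rw [isGen_iff, minimalPrimes_eq_minimals]
  constructor
  · intro h
    refine ⟨(hW.primeIdealOf ⟨x, hx⟩).isPrime, ?_⟩
    intro q hq hle
    haveI : q.IsPrime := hq
    obtain ⟨y, hyW, hy⟩ := exists_point_of_prime hW q
    have hyx : y ⤳ x := by
      apply specializes_of_primeIdealOf_le hW hx hyW
      rw [hy]
      exact hle
    have := h y hyx
    subst this
    rw [← hy]
  · intro h y hy
    have hyW : y ∈ W := hy.mem_open W.isOpen hx
    have hle : (hW.primeIdealOf ⟨y, hyW⟩).asIdeal ≤ (hW.primeIdealOf ⟨x, hx⟩).asIdeal :=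
      primeIdealOf_le_of_specializes hW hx hyW hy
    have hge := h.2 (hW.primeIdealOf ⟨y, hyW⟩).isPrime hle
    exact primeIdealOf_inj hW hyW hx (le_antisymm hle hge)

variable [IsReduced X]

/-- the local ring at the generic point of an irreducible component of a reduced scheme is a
field -/
theorem isField_stalk_of_isGen {x : X} (hx : IsGen x) : IsField (X.presheaf.stalk x) := by
  rw [IsLocalRing.isField_iff_maximalIdeal_eq]
  have hprime : ∀ p : Ideal (X.presheaf.stalk x), p.IsPrime →
      p = maximalIdeal (X.presheaf.stalk x) := by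
    intro p hp
    haveI := hp
    obtain ⟨ζ, h, hζ⟩ := exists_specializes_primeOf_eq x p
    have := (isGen_iff x).1 hx ζ h
    subst this
    rw [← hζ]
    exact primeOf_self h
  have h1 : maximalIdeal (X.presheaf.stalk x) ≤ nilradical (X.presheaf.stalk x) := by
    rw [nilradical_eq_sInf]
    apply le_sInf
    intro p hp
    rw [hprime p hp]
  rw [nilradical_eq_zero] at h1
  exact le_bot_iff.1 h1

theorem germ_eq_zero_of_not_isUnit {x : X} (hx : IsGen x) (g : X.presheaf.stalk x)
    (hg : ¬ IsUnit g) : g = 0 := by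
  have h1 : g ∈ maximalIdeal (X.presheaf.stalk x) := hg
  rw [IsLocalRing.isField_iff_maximalIdeal_eq.1 (isField_stalk_of_isGen hx)] at h1
  exact h1

/-- at the generic point of an irreducible component of a reduced scheme, the local ring is
the ring of germs of meromorphic functions -/
theorem bijective_algebraMap_KStalk_of_isGen {x : X} (hx : IsGen x) :
    Function.Bijective (algebraMap (X.presheaf.stalk x) (Mero.KStalk X x)) := by
  refine ⟨Mero.algebraMap_KStalk_injective x, ?_⟩
  intro t
  obtain ⟨a, s, rfl⟩ := IsLocalization.exists_mk'_eq (Mero.regStalk X x) t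
  have hs : IsUnit (s : X.presheaf.stalk x) := by
    by_contra hc
    have h0 := germ_eq_zero_of_not_isUnit hx _ hc
    have h1 : (s : X.presheaf.stalk x) ∈ nonZeroDivisors (X.presheaf.stalk x) :=
      Mero.regStalk_le_nonZeroDivisors x s.2
    exact nonZeroDivisors.ne_zero h1 h0
  obtain ⟨u, hu⟩ := hs
  refine ⟨a * (u⁻¹ : (X.presheaf.stalk x)ˣ), ?_⟩
  rw [eq_comm, IsLocalization.mk'_eq_iff_eq_mul, ← map_mul]
  congr 1
  rw [← hu, mul_assoc, Units.inv_mul, mul_one]

/-- on a reduced scheme, a function whose germs at the generic points of the irreducible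
components vanish has vanishing germs everywhere -/
theorem germ_eq_zero_of_forall_isGen {V : X.Opens} (a : Γ(X, V))
    (h : ∀ (x : X) (hx : x ∈ V), IsGen x → X.presheaf.germ V x hx a = 0) (y : X) (hy : y ∈ V) :
    X.presheaf.germ V y hy a = 0 := by
  by_contra hne
  obtain ⟨_, ⟨W, hW : IsAffineOpen W, rfl⟩, hyW, hWV⟩ :=
    X.isBasis_affineOpens.exists_subset_of_mem_open hy V.isOpen
  have hWV' : W ≤ V := hWV
  obtain ⟨a', ha'⟩ : ∃ a' : Γ(X, W), a' = X.presheaf.map (homOfLE hWV').op a := ⟨_, rfl⟩
  have hgerm : ∀ (x : X) (hx : x ∈ W), X.presheaf.germ W x hx a' =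
      X.presheaf.germ V x (hWV' hx) a := by
    intro x hx
    rw [ha']
    exact TopCat.Presheaf.germ_res_apply X.presheaf (homOfLE hWV') x hx a
  have ha'0 : a' ≠ 0 := by
    intro h0
    apply hne
    rw [← hgerm y hyW, h0, map_zero]
  have hex : ∃ p ∈ minimalPrimes Γ(X, W), a' ∉ p := by
    by_contra hc
    push Not at hc
    apply ha'0
    have h1 : a' ∈ sInf (minimalPrimes Γ(X, W)) := by
      rw [Submodule.mem_sInf]
      exact hc
    rw [minimalPrimes, Ideal.sInf_minimalPrimes] at h1
    have h2 : (⊥ : Ideal Γ(X, W)).radical = ⊥ := by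
      have := nilradical_eq_zero Γ(X, W)
      exact this
    rw [h2] at h1
    exact h1
  obtain ⟨p, hp, hap⟩ := hex
  haveI : p.IsPrime := Ideal.minimalPrimes_isPrime hp
  obtain ⟨x, hxW, hx⟩ := exists_point_of_prime hW p
  have hgen : IsGen x := by
    rw [isGen_iff_minimalPrimes hW hxW, hx]
    exact hp
  have h1 : x ∈ X.basicOpen a' := by
    by_contra hc
    apply hap
    rw [← hx]
    exact (mem_primeIdealOf_iff hW x hxW a').2 hc
  have h2 : IsUnit (X.presheaf.germ W x hxW a') := (Scheme.mem_basicOpen X a' x hxW).1 h1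
  rw [hgerm x hxW, h x (hWV' hxW) hgen] at h2
  exact not_isUnit_zero h2

/-- equality of fractions in `K_{X,z}` -/
theorem lmk_eq_iff {z : X} (m m' : X.presheaf.stalk z) (s s' : Mero.regStalk X z) :
    (LocalizedModule.mk m s : Mero.KStalk X z) = LocalizedModule.mk m' s' ↔
      (s' : X.presheaf.stalk z) * m = (s : X.presheaf.stalk z) * m' := by
  rw [LocalizedModule.mk_eq]
  constructor
  · rintro ⟨w, hw⟩
    have hw' : (w : X.presheaf.stalk z) * ((s' : X.presheaf.stalk z) * m) =
        (w : X.presheaf.stalk z) * ((s : X.presheaf.stalk z) * m') := hw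
    have hnz : (w : X.presheaf.stalk z) ∈ nonZeroDivisors (X.presheaf.stalk z) :=
      Mero.regStalk_le_nonZeroDivisors z w.2
    exact mul_cancel_left_mem_nonZeroDivisors hnz |>.1 hw'
  · intro h
    exact ⟨1, by rw [one_smul, one_smul]; exact h⟩

/-- on a reduced scheme, two fractions agreeing at the generic points of the irreducible
components agree everywhere -/
theorem mk_eq_of_forall_isGen {V : X.Opens} (a a' : Γ(X, V)) (b b' : Mero.regSub X V)
    (h : ∀ (x : X) (hx : x ∈ V), IsGen x →
      (LocalizedModule.mk (X.presheaf.germ V x hx a) (Mero.regGerm ⟨x, hx⟩ b) :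
        Mero.KStalk X x) =
      LocalizedModule.mk (X.presheaf.germ V x hx a') (Mero.regGerm ⟨x, hx⟩ b'))
    (z : X) (hz : z ∈ V) :
    (LocalizedModule.mk (X.presheaf.germ V z hz a) (Mero.regGerm ⟨z, hz⟩ b) :
        Mero.KStalk X z) =
      LocalizedModule.mk (X.presheaf.germ V z hz a') (Mero.regGerm ⟨z, hz⟩ b') := by
  rw [lmk_eq_iff]
  have h0 : ∀ (x : X) (hx : x ∈ V), IsGen x →
      X.presheaf.germ V x hx (b'.1 * a - b.1 * a') = 0 := by
    intro x hx hgen
    have := (lmk_eq_iff _ _ _ _).1 (h x hx hgen)
    rw [map_sub, map_mul, map_mul, sub_eq_zero]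
    exact this
  have h1 := germ_eq_zero_of_forall_isGen _ h0 z hz
  rw [map_sub, map_mul, map_mul, sub_eq_zero] at h1
  exact h1

end Groth.Agent.Lib.Helper64.MeroGen
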