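import Groth.Agent.Lib.Helper64.GysPb5
import Groth.Agent.Lib.Helper64.MeroGen1

/-!
# Closed subschemes of a cycle setup (helper64)

* `isSetup_closedImmersion`: a closed subscheme of a setup `(X, δ)` is a setup for the restricted
  dimension function.
* `exists_nhd_finite_maximal`: the maximal points of a locally Noetherian scheme are locally finite.
* `ratEquivZero_map_closedImmersion`: pushforward along a closed immersion preserves rational
  equivalence to zero.
-/

set_option autoImplicit false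
set_option linter.style.haveILetI false
set_option linter.unusedSectionVars false
set_option linter.unusedVariables false
universe u

open AlgebraicGeometry CategoryTheory TopologicalSpace IsLocalRing CycAlg

namespace Groth.Agent.Lib.Helper64.GysPb

open Groth.Agent.Lib.Helper64.CycOrd Groth.Agent.Lib.Helper64.CycLen
open Groth.Agent.Lib.Helper64.CycExc Groth.Agent.Lib.Helper64.CycTens
open Groth.Agent.Lib.Helper64.CycCl

theorem isUniversallyCatenary_of_surjective {A B : Type u} [CommRing A] [CommRing B]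
    (φ : A →+* B) (hφ : Function.Surjective φ) (hA : CAlg.IsUniversallyCatenary A) :
    CAlg.IsUniversallyCatenary B := by
  obtain ⟨hN, hcat⟩ := hA
  haveI := hN
  refine ⟨isNoetherianRing_of_surjective A B φ hφ, ?_⟩
  intro S _ _ hS
  letI : Algebra A B := φ.toAlgebra
  letI : Algebra A S := ((algebraMap B S).comp φ).toAlgebra
  haveI : IsScalarTower A B S := IsScalarTower.of_algebraMap_eq (fun a => rfl)
  have hsurj : Function.Surjective (Algebra.ofId A B) := hφ
  have h1 : Algebra.FiniteType A B := Algebra.FiniteType.of_surjective (Algebra.ofId A B) hsurj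
  exact hcat S (Algebra.FiniteType.trans h1 hS)

variable {X Y : Scheme.{u}} (ι : Y ⟶ X) [IsClosedImmersion ι]

theorem isDimFun_closedImmersion {δ : X → ℤ} (hδ : Cyc.IsDimFun X δ) :
    Cyc.IsDimFun Y (fun y => δ (ι y)) := by
  intro x y hxy hne
  have hsp : ι x ⤳ ι y := hxy.map ι.continuous
  have hne' : ι x ≠ ι y := fun h => hne (ι.isClosedEmbedding.injective h)
  obtain ⟨h1, h2⟩ := hδ (ι x) (ι y) hsp hne'
  refine ⟨h1, fun himm => h2 ?_⟩
  intro z hxz hzy
  have hz : z ∈ Set.range ⇑ι := hxz.mem_closed ι.isClosedEmbedding.isClosed_range ⟨x, rfl⟩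
  obtain ⟨z', rfl⟩ := hz
  rcases himm z' ((specializes_iff_closedImmersion ι).1 hxz)
    ((specializes_iff_closedImmersion ι).1 hzy) with h | h
  · left
    rw [h]
  · right
    rw [h]

theorem isSetup_closedImmersion {δ : X → ℤ} (hX : Cyc.IsSetup X δ) :
    Cyc.IsSetup Y (fun y => δ (ι y)) := by
  haveI : IsLocallyNoetherian X := hX.1
  refine ⟨LocallyOfFiniteType.isLocallyNoetherian ι, fun y => ?_, isDimFun_closedImmersion ι hX.2.2⟩
  exact isUniversallyCatenary_of_surjective (ι.stalkMap y).hom (stalkMap_surjective_hom ι y)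
    (hX.2.1 (ι y))

omit [IsClosedImmersion ι] in
/-- the maximal points of a locally Noetherian scheme are locally finite -/
theorem exists_nhd_finite_maximal [IsLocallyNoetherian Y] (y₀ : Y) :
    ∃ W : Set Y, IsOpen W ∧ y₀ ∈ W ∧ {y : Y | y ∈ W ∧ ∀ z : Y, z ⤳ y → z = y}.Finite := by
  obtain ⟨_, ⟨W, hW : IsAffineOpen W, rfl⟩, hyW, -⟩ :=
    Y.isBasis_affineOpens.exists_subset_of_mem_open (Set.mem_univ y₀) isOpen_univ
  haveI : IsNoetherianRing Γ(Y, W) := IsLocallyNoetherian.component_noetherian ⟨W, hW⟩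
  refine ⟨W, W.isOpen, hyW, ?_⟩
  have hfin : (minimalPrimes Γ(Y, W)).Finite := minimalPrimes.finite_of_isNoetherianRing _
  have hinj : Function.Injective (fun y : W => (hW.primeIdealOf y).asIdeal) := by
    intro a b hab
    have h1 : hW.primeIdealOf a = hW.primeIdealOf b := PrimeSpectrum.ext hab
    have h2 := hW.fromSpec_primeIdealOf a
    rw [h1, hW.fromSpec_primeIdealOf b] at h2
    exact Subtype.ext h2.symm
  have hfin' : ((fun y : W => (hW.primeIdealOf y).asIdeal) ⁻¹' minimalPrimes Γ(Y, W)).Finite :=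
    hfin.preimage hinj.injOn
  have := hfin'.image (fun y : W => (y : Y))
  apply this.subset
  rintro y ⟨hyW', hmax⟩
  refine ⟨⟨y, hyW'⟩, ?_, rfl⟩
  exact (Groth.Agent.Lib.Helper64.MeroGen.isGen_iff_minimalPrimes hW hyW').1
    ((Groth.Agent.Lib.Helper64.MeroGen.isGen_iff y).2 hmax)

/-- pushforward along a closed immersion preserves rational equivalence to zero -/
theorem ratEquivZero_map_closedImmersion (δ : X → ℤ) (k : ℤ) (β : AlgebraicCycle Y ℤ)
    (h : Cyc.RatEquivZero (fun y => δ (ι y)) k β) :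
    Cyc.RatEquivZero δ k (AlgebraicCycle.map ι (fun y => δ (ι y)) δ β) := by
  classical
  obtain ⟨J, pt, f, hdim, hf, hlf, hsum⟩ := h
  have hbij := fun j => residueFieldMap_bijective ι (pt j)
  choose f' hf' using fun j => (hbij j).2 (f j)
  have hcl : IsClosed (Set.range ⇑ι) := ι.isClosedEmbedding.isClosed_range
  refine ⟨J, fun j => ι (pt j), f', hdim, ?_, ?_, ?_⟩
  · intro j h0
    apply hf j
    rw [← hf' j, h0, map_zero]
  · intro x
    by_cases hx : x ∈ Set.range ⇑ι
    · obtain ⟨y₀, rfl⟩ := hx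
      obtain ⟨U, hUo, hyU, hfin⟩ := hlf y₀
      obtain ⟨V, hVo, rfl⟩ := ι.isClosedEmbedding.toIsInducing.isOpen_iff.1 hUo
      refine ⟨V, hVo, hyU, ?_⟩
      apply hfin.subset
      rintro j ⟨z, hz1, hz2⟩
      have hsp : ι (pt j) ⤳ z := specializes_iff_mem_closure.2 hz1
      have hzr : z ∈ Set.range ⇑ι := hsp.mem_closed hcl ⟨pt j, rfl⟩
      obtain ⟨z', rfl⟩ := hzr
      exact ⟨z', specializes_iff_mem_closure.1 ((specializes_iff_closedImmersion ι).1 hsp), hz2⟩
    · refine ⟨(Set.range ⇑ι)ᶜ, hcl.isOpen_compl, hx, ?_⟩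
      convert Set.finite_empty
      rw [Set.eq_empty_iff_forall_notMem]
      rintro j ⟨z, hz1, hz2⟩
      have hsp : ι (pt j) ⤳ z := specializes_iff_mem_closure.2 hz1
      exact hz2 (hsp.mem_closed hcl ⟨pt j, rfl⟩)
  · intro x
    by_cases hx : x ∈ Set.range ⇑ι
    · obtain ⟨y, rfl⟩ := hx
      rw [map_closedImmersion_apply ι (fun y => δ (ι y)) δ (fun _ => rfl) β y, hsum y]
      apply finsum_congr
      intro j
      rw [← hf' j]
      exact divFun_closedImmersion ι δ (pt j) y (f' j)
    · rw [map_closedImmersion_apply_of_notMem ι (fun y => δ (ι y)) δ β x hx]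
      symm
      apply finsum_eq_zero_of_forall_eq_zero
      intro j
      exact divFun_eq_zero_of_notMem_range ι δ (pt j) (f' j) x hx

end Groth.Agent.Lib.Helper64.GysPb
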