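import Groth.Agent.Lib.Helper64.GysPb6

/-!
# `c₁(L) ∩ [Y] = [Z(s)]` for a regular section on a closed subscheme (helper64)

`c1Cap_subscheme_ratEquiv`: for a closed subscheme `ι : Y → X` with `δ ≤ k + 1` and a section `s`
of `ι^* L` regular in `δ`-dimension `k`: `c₁(L) ∩ [Y]_{k+1} ∼ ι_* [Z(s)]_k`.
-/

set_option autoImplicit false
set_option linter.style.haveILetI false
set_option linter.unusedSectionVars false
set_option linter.unusedVariables false
universe u

open AlgebraicGeometry CategoryTheory TopologicalSpace IsLocalRing CycAlg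

namespace Groth.Agent.Lib.Helper64.GysPb

open Groth.Agent.Lib.Helper64.CycOrd Groth.Agent.Lib.Helper64.CycLen
open Groth.Agent.Lib.Helper64.CycExc Groth.Agent.Lib.Helper64.CycTens
open Groth.Agent.Lib.Helper64.CycCl

theorem c1Cap_subscheme_ratEquiv {X Y : Scheme.{u}} (δ : X → ℤ) (hX : Cyc.IsSetup X δ)
    (L : X.Modules) (hL : PicF.IsInvertible L) (ι : Y ⟶ X) [IsClosedImmersion ι] (k : ℤ)
    (hY : ∀ y : Y, δ (ι y) ≤ k + 1)
    (s : ((Scheme.Modules.pullback ι).obj L).presheaf.obj (Opposite.op ⊤))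
    (hZ : ∀ y : Y, (((Scheme.Modules.pullback ι).obj L).presheaf.germ ⊤ y trivial) s ∈
      IsLocalRing.maximalIdeal (Y.presheaf.stalk y) •
        (⊤ : Submodule (Y.presheaf.stalk y) (((Scheme.Modules.pullback ι).obj L).presheaf.stalk y)) →
      δ (ι y) ≤ k)
    (hreg : ∀ y : Y, δ (ι y) = k → Function.Injective (fun a : Y.presheaf.stalk y =>
      a • (((Scheme.Modules.pullback ι).obj L).presheaf.germ ⊤ y trivial) s))
    (v : (ξ : X) → Cyc.secFibre L ξ) (hv : ∀ ξ, v ξ ≠ 0) (γ : AlgebraicCycle X ℤ)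
    (hγ : ⇑γ = Cyc.c1CapFun δ L (Cyc.subschemeFun δ (k + 1) ι) v) (ζ : AlgebraicCycle Y ℤ)
    (hζ : ⇑ζ = Cyc.zeroSectionFun (fun y => δ (ι y)) k ((Scheme.Modules.pullback ι).obj L) s) :
    Cyc.RatEquiv δ k γ (AlgebraicCycle.map ι (fun y => δ (ι y)) δ ζ) := by
  classical
  haveI : IsLocallyNoetherian X := hX.1
  have hYs : Cyc.IsSetup Y (fun y => δ (ι y)) := isSetup_closedImmersion ι hX
  haveI : IsLocallyNoetherian Y := hYs.1
  have hinv : PicF.IsInvertible ((Scheme.Modules.pullback ι).obj L) :=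
    Groth.Agent.Lib.Helper35.PbInv.isInvertible_pullback ι hL
  have hcl : IsClosed (Set.range ⇑ι) := ι.isClosedEmbedding.isClosed_range
  have hinj : Function.Injective ⇑ι := ι.isClosedEmbedding.injective
  obtain ⟨A, hA⟩ : ∃ A : X → ℤ, A = Cyc.subschemeFun δ (k + 1) ι := ⟨_, rfl⟩
  obtain ⟨B, hB⟩ : ∃ B : Y → ℤ, B = Cyc.subschemeFun (fun y => δ (ι y)) (k + 1) (𝟙 Y) :=
    ⟨_, rfl⟩
  have hAB : ∀ y, A (ι y) = B y := by
    intro y
    rw [hA, hB]
    unfold Cyc.subschemeFun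
    beta_reduce
    have h1 : {z : Y | ι z = ι y} = {y} := by
      ext z
      exact ⟨fun h => hinj h, fun h => by rw [Set.mem_singleton_iff.1 h]; rfl⟩
    have h2 : {z : Y | (𝟙 Y : Y ⟶ Y) z = y} = {y} := by
      ext z
      exact Iff.rfl
    rw [h1, h2]
  have hA0 : ∀ x, x ∉ Set.range ⇑ι → A x = 0 := by
    intro x hx
    rw [hA]
    unfold Cyc.subschemeFun
    split_ifs
    · have h1 : {z : Y | ι z = x} = ∅ := by
        rw [Set.eq_empty_iff_forall_notMem]
        intro z hz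
        exact hx ⟨z, hz⟩
      rw [h1, finsum_mem_empty]
    · rfl
  have hBk : ∀ y, δ (ι y) ≠ k + 1 → B y = 0 := by
    intro y hy
    rw [hB]
    unfold Cyc.subschemeFun
    beta_reduce
    rw [if_neg hy]
  have hBmax : ∀ y, B y ≠ 0 → ∀ z : Y, z ⤳ y → z = y := by
    intro y hy z hz
    by_contra hne
    have hyk : δ (ι y) = k + 1 := by
      by_contra h
      exact hy (hBk y h)
    have h1 := (hYs.2.2 z y hz hne).1
    have h2 := hY z
    have h1' : δ (ι y) < δ (ι z) := h1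
    omega
  have hBlf : ∀ y ∈ (Set.univ : Set Y), ∃ t ∈ nhds y, (t ∩ Function.support B).Finite := by
    intro y _
    obtain ⟨W, hWo, hyW, hfin⟩ := exists_nhd_finite_maximal (Y := Y) y
    refine ⟨W, hWo.mem_nhds hyW, hfin.subset ?_⟩
    rintro z ⟨hzW, hz⟩
    exact ⟨hzW, hBmax z hz⟩
  obtain ⟨αY, hαY⟩ : ∃ αY : AlgebraicCycle Y ℤ, αY = ⟨B, Set.subset_univ _, hBlf⟩ := ⟨_, rfl⟩
  have hαYB : ⇑αY = B := by
    rw [hαY]
    rfl
  have hαYk : αY ∈ Cyc.Zk Y (fun y => δ (ι y)) (k + 1) := by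
    intro y hy
    rw [hαYB]
    exact hBk y hy
  -- the sections
  choose t' ht' ht'D using fun y =>
    exists_secDivFun_pullback_eq' ι δ L hL y (v (ι y)) (hv (ι y))
  obtain ⟨st, hst⟩ : ∃ st : (y : Y) → Cyc.secFibre ((Scheme.Modules.pullback ι).obj L) y,
      st = Cyc.gysinChoice ((Scheme.Modules.pullback ι).obj L) s t' := ⟨_, rfl⟩
  have hstne : ∀ y, st y ≠ 0 := by
    intro y
    rw [hst]
    exact gysinChoice_ne_zero _ s t' ht' y
  have hζ' : ⇑ζ = Cyc.c1CapFun (fun y => δ (ι y)) ((Scheme.Modules.pullback ι).obj L) ⇑αY st := by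
    have e1 := zeroSectionFun_eq_c1CapFun (fun y => δ (ι y)) hYs
      ((Scheme.Modules.pullback ι).obj L) hinv k hY s hreg
    rw [← hB] at e1
    rw [hζ, e1, hαYB]
    funext y'
    unfold Cyc.c1CapFun
    apply finsum_congr
    intro y
    by_cases hy : B y = 0
    · rw [hy, zero_mul, zero_mul]
    · have hyk : δ (ι y) = k + 1 := by
        by_contra h
        exact hy (hBk y h)
      have hne : (Submodule.Quotient.mk
          ((((Scheme.Modules.pullback ι).obj L).presheaf.germ ⊤ y trivial) s) :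
          Cyc.secFibre ((Scheme.Modules.pullback ι).obj L) y) ≠ 0 := by
        intro h0
        have := hZ y ((Submodule.Quotient.mk_eq_zero _).1 h0)
        omega
      have hsty : st y = Submodule.Quotient.mk
          ((((Scheme.Modules.pullback ι).obj L).presheaf.germ ⊤ y trivial) s) := by
        rw [hst]
        unfold Cyc.gysinChoice
        rw [if_pos hne]
      rw [hsty]
  -- the restriction of `γ` to `Y`
  have hγι : ∀ y', γ (ι y') =
      Cyc.c1CapFun (fun y => δ (ι y)) ((Scheme.Modules.pullback ι).obj L) B t' y' := by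
    intro y'
    rw [congrFun hγ (ι y'), ← hA]
    unfold Cyc.c1CapFun
    obtain ⟨G, hG⟩ : ∃ G : X → ℤ, ∀ ξ, G ξ = A ξ * Cyc.secDivFun δ L ξ (v ξ) (ι y') :=
      ⟨_, fun _ => rfl⟩
    have e1 : ∀ y, B y * Cyc.secDivFun (fun y => δ (ι y))
        ((Scheme.Modules.pullback ι).obj L) y (t' y) y' = G (ι y) := by
      intro y
      rw [hG, hAB, ht'D y y']
    rw [finsum_congr e1, finsum_comp_of_injective (⇑ι) hinj G]
    · exact (finsum_congr hG).symm
    · intro ξ hne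
      by_contra hξ
      apply hne
      rw [hG, hA0 ξ hξ, zero_mul]
  have hγ0 : ∀ x, x ∉ Set.range ⇑ι → γ x = 0 := by
    intro x hx
    rw [congrFun hγ x, ← hA]
    unfold Cyc.c1CapFun
    apply finsum_eq_zero_of_forall_eq_zero
    intro ξ
    by_cases hξ : ξ ∈ Set.range ⇑ι
    · have hns : ¬ ξ ⤳ x := fun hsp => hx (hsp.mem_closed hcl hξ)
      rw [secDivFun_eq_zero_of_not_specializes δ L ξ (v ξ) x hns, mul_zero]
    · rw [hA0 ξ hξ, zero_mul]
  have hγYlf : ∀ y ∈ (Set.univ : Set Y), ∃ t ∈ nhds y,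
      (t ∩ Function.support (fun y => γ (ι y))).Finite := by
    intro y _
    obtain ⟨t, ht, hfin⟩ := γ.supportLocallyFiniteWithinDomain' (ι y) (Set.mem_univ _)
    refine ⟨ι ⁻¹' t, ι.continuous.continuousAt ht, ?_⟩
    have h1 : ι ⁻¹' t ∩ Function.support (fun y => γ (ι y)) =
        ι ⁻¹' (t ∩ Function.support γ) := by
      ext p'
      rfl
    rw [h1]
    exact hfin.preimage hinj.injOn
  obtain ⟨γY, hγY⟩ : ∃ γY : AlgebraicCycle Y ℤ, γY =
      ⟨fun y => γ (ι y), Set.subset_univ _, hγYlf⟩ := ⟨_, rfl⟩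
  have hγYp : ∀ y, γY y = γ (ι y) := by
    intro y
    rw [hγY]
    rfl
  have hγY' : ⇑γY =
      Cyc.c1CapFun (fun y => δ (ι y)) ((Scheme.Modules.pullback ι).obj L) ⇑αY t' := by
    funext y'
    rw [hγYp, hγι, hαYB]
  have hRE : Cyc.RatEquiv (fun y => δ (ι y)) k γY ζ :=
    ratEquiv_c1Cap_of_sections (fun y => δ (ι y)) ((Scheme.Modules.pullback ι).obj L) hinv k αY
      hαYk t' ht' st hstne γY ζ hγY' hζ'
  obtain ⟨J, pt, f, hdim, hf, hlf, hsum⟩ :=
    ratEquivZero_map_closedImmersion ι δ k (γY - ζ) hRE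
  refine ⟨J, pt, f, hdim, hf, hlf, fun x => ?_⟩
  rw [← hsum x]
  have e0 : (γ - AlgebraicCycle.map ι (fun y => δ (ι y)) δ ζ) x =
      γ x - AlgebraicCycle.map ι (fun y => δ (ι y)) δ ζ x := rfl
  rw [e0]
  by_cases hx : x ∈ Set.range ⇑ι
  · obtain ⟨y, rfl⟩ := hx
    rw [map_closedImmersion_apply ι (fun y => δ (ι y)) δ (fun _ => rfl) ζ y,
      map_closedImmersion_apply ι (fun y => δ (ι y)) δ (fun _ => rfl) (γY - ζ) y]
    have e1 : (γY - ζ) y = γY y - ζ y := rfl
    rw [e1, hγYp]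
  · rw [map_closedImmersion_apply_of_notMem ι (fun y => δ (ι y)) δ ζ x hx,
      map_closedImmersion_apply_of_notMem ι (fun y => δ (ι y)) δ (γY - ζ) x hx, hγ0 x hx, sub_zero]

end Groth.Agent.Lib.Helper64.GysPb
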