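import Groth.Agent.Lib.Helper64.GysPb7

/-!
# Stalks of a fibre product of closed subschemes (helper64)

For a cartesian square `p₁ : P → D`, `p₂ : P → D'`, `i : D → X`, `i' : D' → X` with `i'` a closed
immersion: if the kernel of `O_{X, i(p₁ z)} → O_{D', p₂ z}` is generated by `f` then the kernel of
`O_{D, p₁ z} → O_{P, z}` is generated by the image of `f`: `ker_stalkMap_fst_eq_span`.
-/

set_option autoImplicit false
set_option linter.style.haveILetI false
set_option linter.unusedSectionVars false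
set_option linter.unusedVariables false
universe u

open AlgebraicGeometry CategoryTheory TopologicalSpace IsLocalRing Limits

namespace Groth.Agent.Lib.Helper64.GysSq

variable {X D D' P : Scheme.{u}}

/-- germs of sections and `stalkClosedPointTo`, stable under equality of morphisms -/
theorem germ_stalkClosedPointTo_congr {R : CommRingCat.{u}} [IsLocalRing R] {Y : Scheme.{u}}
    (f₁ f₂ : Spec R ⟶ Y) (h : f₁ = f₂) (U : Y.Opens) (h₁ : f₁ (closedPoint R) ∈ U)
    (h₂ : f₂ (closedPoint R) ∈ U) (β : Γ(Y, U)) :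
    (Scheme.stalkClosedPointTo f₁).hom (Y.presheaf.germ U _ h₁ β) =
      (Scheme.stalkClosedPointTo f₂).hom (Y.presheaf.germ U _ h₂ β) := by
  subst h
  rfl

theorem germ_eq_zero_of_eq {Y : Scheme.{u}} {U : Y.Opens} (β : Γ(Y, U)) {y z : Y} (h : y = z)
    (hy : y ∈ U) (hz : z ∈ U) (h0 : Y.presheaf.germ U z hz β = 0) :
    Y.presheaf.germ U y hy β = 0 := by
  subst h
  exact h0

/-- a morphism from a local scheme to `P` kills the kernel of `O_{D, p₁ z} → O_{P, z}` -/
theorem eq_zero_of_lift (p₁ : P ⟶ D) (hinj : Function.Injective ⇑p₁) (z : P)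
    (R : CommRingCat.{u}) [IsLocalRing R] (g : Spec R ⟶ P) (φ : D.presheaf.stalk (p₁ z) ⟶ R)
    [IsLocalHom φ.hom] (hg : g ≫ p₁ = Spec.map φ ≫ D.fromSpecStalk (p₁ z))
    (b : D.presheaf.stalk (p₁ z)) (hb : (p₁.stalkMap z).hom b = 0) : φ.hom b = 0 := by
  have hpt : g (closedPoint R) = z := by
    apply hinj
    have h1 : (g ≫ p₁) (closedPoint R) = p₁ z := by
      rw [hg, Scheme.Hom.comp_apply, Spec_closedPoint, Scheme.fromSpecStalk_closedPoint]
    exact h1
  obtain ⟨U, hU, β, rfl⟩ := TopCat.Presheaf.exists_germ_eq D.presheaf b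
  have hU1 : (Spec.map φ ≫ D.fromSpecStalk (p₁ z)) (closedPoint R) ∈ U := by
    rw [Scheme.Hom.comp_apply, Spec_closedPoint, Scheme.fromSpecStalk_closedPoint]
    exact hU
  have hU2 : (g ≫ p₁) (closedPoint R) ∈ U := by
    rw [hg]
    exact hU1
  have e1 : φ.hom (D.presheaf.germ U (p₁ z) hU β) =
      (Scheme.stalkClosedPointTo (Spec.map φ ≫ D.fromSpecStalk (p₁ z))).hom
        (D.presheaf.germ U _ hU1 β) :=
    (ConcreteCategory.congr_hom
      (Scheme.germ_stalkClosedPointTo_Spec_fromSpecStalk φ U hU1) β).symm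
  rw [e1, ← germ_stalkClosedPointTo_congr (g ≫ p₁) _ hg U hU2 hU1 β,
    Scheme.stalkClosedPointTo_comp]
  have e2 : (p₁.stalkMap (g (closedPoint R))).hom (D.presheaf.germ U _ hU2 β) =
      P.presheaf.germ (p₁ ⁻¹ᵁ U) (g (closedPoint R)) hU2 ((p₁.app U).hom β) :=
    Scheme.Hom.germ_stalkMap_apply p₁ U (g (closedPoint R)) hU2 β
  have e3 : P.presheaf.germ (p₁ ⁻¹ᵁ U) (g (closedPoint R)) hU2 ((p₁.app U).hom β) = 0 := by
    apply germ_eq_zero_of_eq _ hpt hU2 (show z ∈ p₁ ⁻¹ᵁ U from hU)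
    rw [← Scheme.Hom.germ_stalkMap_apply p₁ U z hU β]
    exact hb
  show (Scheme.stalkClosedPointTo g).hom ((p₁.stalkMap (g (closedPoint R))).hom _) = 0
  rw [e2, e3, map_zero]

end Groth.Agent.Lib.Helper64.GysSq
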