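import Groth.Agent.Lib.Helper64.GysSq2

/-!
# Restricting the section of a zero scheme to another zero scheme (helper64)

For `D = Z(s)`, `D' = Z(s')` and `P = D ×_X D'` the zero scheme of a section `σ'` of `L'|_D`:
at the points `d` of `D` outside `D'` the divisor of `σ'` (as a rational section on the closure of
`d` in `D`) equals the divisor of `s'` (as a rational section on the closure of `i d` in `X`):
`secDivFun_zeroScheme_eq`.
-/

set_option autoImplicit false
set_option linter.style.haveILetI false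
set_option linter.unusedSectionVars false
set_option linter.unusedVariables false
universe u

open AlgebraicGeometry CategoryTheory TopologicalSpace IsLocalRing CycAlg Limits

namespace Groth.Agent.Lib.Helper64.GysSq

open Groth.Agent.Lib.Helper64.CycOrd Groth.Agent.Lib.Helper64.CycLen
open Groth.Agent.Lib.Helper64.CycExc Groth.Agent.Lib.Helper64.CycTens
open Groth.Agent.Lib.Helper64.CycCl Groth.Agent.Lib.Helper64.RelKey
open Groth.Agent.Lib.Helper64.RefExt Groth.Agent.Lib.Helper64.RefS2
open Groth.Agent.Lib.Helper64.SecOrd Groth.Agent.Lib.Helper64.GysPb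
open Groth.Agent.Lib.Lead.Inv Groth.Agent.Lib.Lead.QCohAff
open Groth.Agent.Lib.Helper35.PbInv

variable {X D D' P : Scheme.{u}}

/-- in a local ring, generators of the same principal ideal differ by a unit -/
theorem exists_unit_mul_of_span_eq {R : Type*} [CommRing R] [IsLocalRing R] {x y : R}
    (h : Ideal.span {x} = Ideal.span {y}) : ∃ a : R, IsUnit a ∧ x = a * y := by
  have hx : x ∈ Ideal.span {y} := h ▸ Ideal.mem_span_singleton_self x
  have hy : y ∈ Ideal.span {x} := h.symm ▸ Ideal.mem_span_singleton_self y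
  obtain ⟨a, ha⟩ := Ideal.mem_span_singleton'.1 hx
  obtain ⟨b, hb⟩ := Ideal.mem_span_singleton'.1 hy
  by_cases hu : IsUnit a
  · exact ⟨a, hu, ha.symm⟩
  · have h1 : IsUnit (1 - b * a) := by
      have hm : a ∈ maximalIdeal R := (IsLocalRing.mem_maximalIdeal _).2 hu
      have hm' : b * a ∈ maximalIdeal R := Ideal.mul_mem_left _ _ hm
      by_contra hnu
      have h2 : 1 - b * a ∈ maximalIdeal R := (IsLocalRing.mem_maximalIdeal _).2 hnu
      have h3 : (1 : R) ∈ maximalIdeal R := by
        have := Ideal.add_mem _ h2 hm'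
        rwa [sub_add_cancel] at this
      exact (Ideal.ne_top_iff_one _).1 (IsLocalRing.maximalIdeal.isMaximal R).ne_top h3
    have h4 : (1 - b * a) * y = 0 := by
      rw [sub_mul, one_mul, mul_assoc, ha, hb, sub_self]
    have hy0 : y = 0 := (h1.mul_right_eq_zero).1 h4
    refine ⟨1, isUnit_one, ?_⟩
    rw [← ha, hy0, mul_zero, mul_zero]

/-- a generator of the stalk of an invertible module is a unit multiple of a local generator -/
theorem exists_unit_smul_germ {Y : Scheme.{u}} (M : Y.Modules) {U : Y.Opens} {e : Γ(M, U)}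
    (he : IsGen M U e) (y : Y) (hy : y ∈ U) (t : M.presheaf.stalk y)
    (ht : Submodule.span (Y.presheaf.stalk y) {t} = ⊤) :
    ∃ c : Y.presheaf.stalk y, IsUnit c ∧ t = c • M.presheaf.germ U y hy e := by
  have hbij := bijective_stalk_of_isGen he y hy
  obtain ⟨c, hc⟩ := hbij.2 t
  have hc' : c • M.presheaf.germ U y hy e = t := hc
  have hmem : M.presheaf.germ U y hy e ∈ Submodule.span (Y.presheaf.stalk y) {t} := by
    rw [ht]
    exact Submodule.mem_top
  obtain ⟨c', hc''⟩ := Submodule.mem_span_singleton.1 hmem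
  have h1 : (c' * c) • M.presheaf.germ U y hy e =
      (1 : Y.presheaf.stalk y) • M.presheaf.germ U y hy e := by
    rw [mul_smul, hc', hc'', one_smul]
  have h2 : c' * c = 1 := hbij.1 h1
  exact ⟨c, IsUnit.of_mul_eq_one c' (by rw [mul_comm]; exact h2), hc'.symm⟩

/-- the local equation of a zero scheme, at a point given up to equality -/
theorem zeroScheme_at (i' : D' ⟶ X) (L' : X.Modules) (s' : L'.presheaf.obj (Opposite.op ⊤))
    (hD' : Cyc.IsZeroSchemeOf i' L' s') (d₂ : D') (y : X) (hy : y = i' d₂) :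
    ∃ (t : L'.presheaf.stalk y) (f : X.presheaf.stalk y),
      Submodule.span (X.presheaf.stalk y) {t} = ⊤ ∧ L'.presheaf.germ ⊤ y trivial s' = f • t ∧
      RingHom.ker ((i'.stalkMap d₂).hom.comp
        (X.presheaf.stalkCongr (.of_eq hy)).hom.hom) = Ideal.span {f} := by
  subst hy
  obtain ⟨t, f, h1, h2, h3⟩ := hD'.2 d₂
  refine ⟨t, f, h1, h2, ?_⟩
  rw [← h3]
  congr 1
  ext a
  simp

/-- points of `D` over `D'` lift to the fibre product -/
theorem mem_range_fst (p₁ : P ⟶ D) (p₂ : P ⟶ D') (i : D ⟶ X) (i' : D' ⟶ X)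
    (hsq : IsPullback p₁ p₂ i i') (d : D) (d₂ : D') (h : i d = i' d₂) : d ∈ Set.range ⇑p₁ := by
  obtain ⟨z', hz1, hz2⟩ := Scheme.Pullback.exists_preimage_pullback (f := i) (g := i') d d₂ h
  refine ⟨hsq.isoPullback.inv z', ?_⟩
  rw [← Scheme.Hom.comp_apply, hsq.isoPullback_inv_fst]
  exact hz1

theorem map_fst_mem_range (p₁ : P ⟶ D) (p₂ : P ⟶ D') (i : D ⟶ X) (i' : D' ⟶ X)
    (hsq : IsPullback p₁ p₂ i i') (z : P) : i (p₁ z) = i' (p₂ z) := by
  rw [← Scheme.Hom.comp_apply, ← Scheme.Hom.comp_apply, hsq.w]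

end Groth.Agent.Lib.Helper64.GysSq
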