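import Groth.Agent.Lib.Helper64.GysSq3

/-!
# Restricting the section of a zero scheme to another zero scheme, II (helper64)

`secDivFun_zeroScheme_eq`: for `D = Z(s)`, `D' = Z(s')` and `P = D ×_X D'` the zero scheme of a
section `σ'` of `L'|_D`: at the points `d` of `D` outside `D'` the divisor of `σ'` equals the
divisor of `s'`.
-/

set_option autoImplicit false
set_option linter.style.haveILetI false
set_option linter.unusedSectionVars false
set_option linter.unusedVariables false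
universe u

open AlgebraicGeometry CategoryTheory TopologicalSpace IsLocalRing CycAlg Limits

namespace Groth.Agent.Lib.Helper64.GysSq

open Groth.Agent.Lib.Helper64.CycOrd Groth.Agent.Lib.Helper64.CycLen
open Groth.Agent.Lib.Helper64.CycExc Groth.Agent.Lib.Helper64.CycTens
open Groth.Agent.Lib.Helper64.CycCl Groth.Agent.Lib.Helper64.RelKey
open Groth.Agent.Lib.Helper64.RefExt Groth.Agent.Lib.Helper64.RefS2
open Groth.Agent.Lib.Helper64.SecOrd Groth.Agent.Lib.Helper64.GysPb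
open Groth.Agent.Lib.Lead.Inv Groth.Agent.Lib.Lead.QCohAff
open Groth.Agent.Lib.Helper35.PbInv

variable {X D D' P : Scheme.{u}}

theorem secDivFun_zeroScheme_eq (p₁ : P ⟶ D) (p₂ : P ⟶ D') (i : D ⟶ X) (i' : D' ⟶ X)
    [IsClosedImmersion i] [IsClosedImmersion i'] [IsClosedImmersion p₁]
    (hsq : IsPullback p₁ p₂ i i') (δ : X → ℤ) (L' : X.Modules) (hL' : PicF.IsInvertible L')
    (s' : L'.presheaf.obj (Opposite.op ⊤)) (hD' : Cyc.IsZeroSchemeOf i' L' s')
    (σ' : ((Scheme.Modules.pullback i).obj L').presheaf.obj (Opposite.op ⊤))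
    (hσ' : Cyc.IsZeroSchemeOf p₁ ((Scheme.Modules.pullback i).obj L') σ')
    (d : D) (hd : i d ∉ Set.range ⇑i') (d' : D) :
    Cyc.secDivFun (fun d => δ (i d)) ((Scheme.Modules.pullback i).obj L') d
      (Submodule.Quotient.mk (((Scheme.Modules.pullback i).obj L').presheaf.germ ⊤ d trivial σ') :
        Cyc.secFibre ((Scheme.Modules.pullback i).obj L') d) d' =
    Cyc.secDivFun δ L' (i d)
      (Submodule.Quotient.mk (L'.presheaf.germ ⊤ (i d) trivial s') : Cyc.secFibre L' (i d))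
      (i d') := by
  classical
  have hinvD : PicF.IsInvertible ((Scheme.Modules.pullback i).obj L') :=
    Groth.Agent.Lib.Helper35.PbInv.isInvertible_pullback i hL'
  by_cases hd' : d' ∈ Set.range ⇑p₁
  swap
  · have hid' : i d' ∉ Set.range ⇑i' := by
      rintro ⟨d₂, hd₂⟩
      exact hd' (mem_range_fst p₁ p₂ i i' hsq d' d₂ hd₂.symm)
    have h1 : (Submodule.Quotient.mk
        (((Scheme.Modules.pullback i).obj L').presheaf.germ ⊤ d' trivial σ') :
        Cyc.secFibre ((Scheme.Modules.pullback i).obj L') d') ≠ 0 := by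
      intro h0
      apply hd'
      rw [hσ'.1]
      exact h0
    have h2 : (Submodule.Quotient.mk (L'.presheaf.germ ⊤ (i d') trivial s') :
        Cyc.secFibre L' (i d')) ≠ 0 := by
      intro h0
      apply hid'
      rw [hD'.1]
      exact h0
    rw [secDivFun_germ_eq_zero (fun d => δ (i d)) _ hinvD σ' d d' h1,
      secDivFun_germ_eq_zero δ L' hL' s' (i d) (i d') h2]
  obtain ⟨z, rfl⟩ := hd'
  have hsp : i d ⤳ i (p₁ z) ↔ d ⤳ p₁ z := specializes_iff_closedImmersion i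
  by_cases h : d ⤳ p₁ z
  swap
  · rw [secDivFun_eq_zero_of_not_specializes _ _ _ _ _ h,
      secDivFun_eq_zero_of_not_specializes _ _ _ _ _ (fun h' => h (hsp.1 h'))]
  have h' : i d ⤳ i (p₁ z) := hsp.2 h
  have hpt : i (p₁ z) = i' (p₂ z) := map_fst_mem_range p₁ p₂ i i' hsq z
  obtain ⟨t₁, f₁, hspan₁, hgerm₁, hker₁⟩ := hσ'.2 z
  obtain ⟨t₂, f₂, hspan₂, hgerm₂, hker₂⟩ := zeroScheme_at i' L' s' hD' (p₂ z) (i (p₁ z)) hpt
  have hK := ker_stalkMap_fst_eq_span p₁ p₂ i i' hsq p₁.isClosedEmbedding.injective z hpt f₂ hker₂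
  obtain ⟨a, hau, hfa⟩ := exists_unit_mul_of_span_eq (hker₁.symm.trans hK)
  obtain ⟨U₁, hU₁, e₁, he₁⟩ := (isInvertible_iff_exists_isGen.1 hL') (i (p₁ z))
  obtain ⟨c₂, hc₂u, hc₂⟩ := exists_unit_smul_germ L' he₁ (i (p₁ z)) hU₁ t₂ hspan₂
  obtain ⟨c₁, hc₁u, hc₁⟩ := exists_unit_smul_germ ((Scheme.Modules.pullback i).obj L')
    (isGen_pb i L' he₁) (p₁ z) (show p₁ z ∈ i ⁻¹ᵁ U₁ from hU₁) t₁ hspan₁
  obtain ⟨b, hb⟩ := stalkMap_surjective_hom i (p₁ z) (a * c₁)
  have hbu : IsUnit b := by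
    apply (isUnit_map_iff (i.stalkMap (p₁ z)).hom b).1
    rw [hb]
    exact hau.mul hc₁u
  have hdU₁ : i d ∈ U₁ := h'.mem_open U₁.isOpen hU₁
  -- the germs at the special point
  have E₁ : ((Scheme.Modules.pullback i).obj L').presheaf.germ ⊤ (p₁ z) trivial σ' =
      (i.stalkMap (p₁ z)).hom (b * f₂) •
        ((Scheme.Modules.pullback i).obj L').presheaf.germ (i ⁻¹ᵁ U₁) (p₁ z) hU₁
          (pbSec i L' U₁ e₁) := by
    rw [hgerm₁, hfa, hc₁, smul_smul, map_mul, hb]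
    congr 1
    ring
  have E₂ : L'.presheaf.germ ⊤ (i (p₁ z)) trivial s' =
      (f₂ * c₂) • L'.presheaf.germ U₁ (i (p₁ z)) hU₁ e₁ := by
    rw [hgerm₂, hc₂, smul_smul]
  -- the germs at the generic point
  have F₂ : L'.presheaf.germ ⊤ (i d) trivial s' =
      (X.presheaf.stalkSpecializes h').hom (f₂ * c₂) • L'.presheaf.germ U₁ (i d) hdU₁ e₁ := by
    have := congrArg (L'.presheaf.stalkSpecializes h').hom E₂
    rw [sp_germ, sp_smul, sp_germ] at this
    exact this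
  have F₁ : ((Scheme.Modules.pullback i).obj L').presheaf.germ ⊤ d trivial σ' =
      (i.stalkMap d).hom ((X.presheaf.stalkSpecializes h').hom (b * f₂)) •
        ((Scheme.Modules.pullback i).obj L').presheaf.germ (i ⁻¹ᵁ U₁) d hdU₁
          (pbSec i L' U₁ e₁) := by
    have := congrArg (((Scheme.Modules.pullback i).obj L').presheaf.stalkSpecializes h).hom E₁
    rw [sp_germ, sp_smul, sp_germ] at this
    rw [this]
    congr 1
    exact (Scheme.Hom.stalkSpecializes_stalkMap_apply i d (p₁ z) h (b * f₂)).symm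
  obtain ⟨φ₁, hφ₁⟩ : ∃ φ₁ : X.presheaf.stalk (i d),
      φ₁ = (X.presheaf.stalkSpecializes h').hom (b * f₂) := ⟨_, rfl⟩
  obtain ⟨φ₂, hφ₂⟩ : ∃ φ₂ : X.presheaf.stalk (i d),
      φ₂ = (X.presheaf.stalkSpecializes h').hom (f₂ * c₂) := ⟨_, rfl⟩
  rw [← hφ₁] at F₁
  rw [← hφ₂] at F₂
  have hbij₁ := bijective_stalk_of_isGen he₁ (i d) hdU₁
  have hφ₂m : φ₂ ∉ maximalIdeal (X.presheaf.stalk (i d)) := by
    intro hmem
    apply hd
    rw [hD'.1]
    show (Submodule.Quotient.mk (L'.presheaf.germ ⊤ (i d) trivial s') :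
      Cyc.secFibre L' (i d)) = 0
    rw [F₂]
    exact (smul_mk_eq_zero_iff L' (i d) _ hbij₁ φ₂).2 hmem
  have hspf : (X.presheaf.stalkSpecializes h').hom f₂ ∉ maximalIdeal (X.presheaf.stalk (i d)) := by
    intro hmem
    apply hφ₂m
    rw [hφ₂, map_mul]
    exact Ideal.mul_mem_right _ _ hmem
  have hspb : (X.presheaf.stalkSpecializes h').hom b ∉ maximalIdeal (X.presheaf.stalk (i d)) :=
    not_mem_maximalIdeal_of_isUnit (hbu.map _)
  have hspc : (X.presheaf.stalkSpecializes h').hom c₂ ∉ maximalIdeal (X.presheaf.stalk (i d)) :=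
    not_mem_maximalIdeal_of_isUnit (hc₂u.map _)
  have hφ₁m : φ₁ ∉ maximalIdeal (X.presheaf.stalk (i d)) := by
    rw [hφ₁, map_mul]
    exact mul_not_mem hspb hspf
  have G₁ : (Submodule.Quotient.mk
      (((Scheme.Modules.pullback i).obj L').presheaf.germ ⊤ d trivial σ') :
      Cyc.secFibre ((Scheme.Modules.pullback i).obj L') d) =
      (i.stalkMap d).hom φ₁ • (Submodule.Quotient.mk
        (((Scheme.Modules.pullback i).obj L').presheaf.germ (i ⁻¹ᵁ U₁) d hdU₁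
          (pbSec i L' U₁ e₁)) : Cyc.secFibre ((Scheme.Modules.pullback i).obj L') d) := by
    rw [F₁]
    rfl
  have G₂ : (Submodule.Quotient.mk (L'.presheaf.germ ⊤ (i d) trivial s') :
      Cyc.secFibre L' (i d)) =
      φ₂ • (Submodule.Quotient.mk (L'.presheaf.germ U₁ (i d) hdU₁ e₁) :
        Cyc.secFibre L' (i d)) := by
    rw [F₂]
    rfl
  rw [G₁, G₂, secDivFun_pullback_core i δ L' hL' d he₁ hdU₁ φ₁ hφ₁m (p₁ z)]
  unfold Cyc.secDivFun
  by_cases hc : i d ⤳ i (p₁ z) ∧ δ (i (p₁ z)) + 1 = δ (i d)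
  swap
  · rw [dif_neg hc, dif_neg hc]
  rw [dif_pos hc, dif_pos hc, secOrdAt_eq_of_isGen L' he₁ hc.1 hU₁ φ₁ hφ₁m,
    secOrdAt_eq_of_isGen L' he₁ hc.1 hU₁ φ₂ hφ₂m]
  have e1 : (X.residue (i d) φ₁ : X.residueField (i d)) =
      Cyc.specMap (i (p₁ z)) (i d) hc.1 b * Cyc.specMap (i (p₁ z)) (i d) hc.1 f₂ := by
    rw [hφ₁, ← map_mul]
    rfl
  have e2 : (X.residue (i d) φ₂ : X.residueField (i d)) =
      Cyc.specMap (i (p₁ z)) (i d) hc.1 f₂ * Cyc.specMap (i (p₁ z)) (i d) hc.1 c₂ := by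
    rw [hφ₂, ← map_mul]
    rfl
  have n1 : Cyc.specMap (i (p₁ z)) (i d) hc.1 b ≠ 0 := residue_ne_zero hspb
  have n2 : Cyc.specMap (i (p₁ z)) (i d) hc.1 f₂ ≠ 0 := residue_ne_zero hspf
  have n3 : Cyc.specMap (i (p₁ z)) (i d) hc.1 c₂ ≠ 0 := residue_ne_zero hspc
  rw [e1, e2, ordAt_mul _ _ _ n1 n2, ordAt_mul _ _ _ n2 n3,
    ordAt_specMap_unit _ _ hc.1 hbu, ordAt_specMap_unit _ _ hc.1 hc₂u, zero_add, add_zero]

end Groth.Agent.Lib.Helper64.GysSq
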