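import Groth.Agent.Lib.Helper64.GysSq4
import Groth.Agent.Lib.Helper64.RelKey11

/-!
# From key formulas to rational equivalence on a closed subscheme (helper64)

* `gysin_cap_eq`: a cap product on the zero scheme `D` of a Gysin pullback, computed on `X`;
* `ratEquiv_of_keyFormulas`: if `c₁(B) ∩ (c₁(A) ∩ α)` and `c₁(A) ∩ (c₁(B) ∩ α)` (computed with
  families of rational sections) differ at every generic point by the divisors of a family of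
  rational functions which are trivial outside a closed subscheme `ι : Z → X`, then the restrictions
  to `Z` are rationally equivalent on `Z`.
-/

set_option autoImplicit false
set_option linter.style.haveILetI false
set_option linter.unusedSectionVars false
set_option linter.unusedVariables false
universe u

open AlgebraicGeometry CategoryTheory TopologicalSpace IsLocalRing CycAlg Limits

namespace Groth.Agent.Lib.Helper64.GysSq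

open Groth.Agent.Lib.Helper64.CycOrd Groth.Agent.Lib.Helper64.CycLen
open Groth.Agent.Lib.Helper64.CycExc Groth.Agent.Lib.Helper64.CycTens
open Groth.Agent.Lib.Helper64.CycCl Groth.Agent.Lib.Helper64.RelKey
open Groth.Agent.Lib.Helper64.RefExt Groth.Agent.Lib.Helper64.RefS2
open Groth.Agent.Lib.Helper64.SecOrd Groth.Agent.Lib.Helper64.GysPb
open Groth.Agent.Lib.Lead.Inv Groth.Agent.Lib.Lead.QCohAff
open Groth.Agent.Lib.Helper35.PbInv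

variable {X : Scheme.{u}}

theorem gysin_cap_eq {D : Scheme.{u}} (i : D ⟶ X) [IsClosedImmersion i] (δ : X → ℤ)
    (L N : X.Modules) (hL : PicF.IsInvertible L)
    (s : L.presheaf.obj (Opposite.op ⊤)) (hD : Cyc.IsZeroSchemeOf i L s) (α : X → ℤ)
    (w : (ξ : X) → Cyc.secFibre L ξ)
    (t : (d : D) → Cyc.secFibre ((Scheme.Modules.pullback i).obj N) d)
    (v' : (ξ : X) → Cyc.secFibre N ξ)
    (hv'D : ∀ d d' : D,
      Cyc.secDivFun (fun d => δ (i d)) ((Scheme.Modules.pullback i).obj N) d (t d) d' =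
        Cyc.secDivFun δ N (i d) (v' (i d)) (i d'))
    (γ : D → ℤ) (hγ : γ = fun d => Cyc.c1CapFun δ L α (Cyc.gysinChoice L s w) (i d)) (d' : D) :
    Cyc.c1CapFun (fun d => δ (i d)) ((Scheme.Modules.pullback i).obj N) γ t d' =
      Cyc.c1CapFun δ N (Cyc.c1CapFun δ L α (Cyc.gysinChoice L s w)) v' (i d') := by
  classical
  have hcl : IsClosed (Set.range ⇑i) := i.isClosedEmbedding.isClosed_range
  have hmemZ : ∀ ξ : X, ξ ∈ Set.range ⇑i ↔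
      (Submodule.Quotient.mk (L.presheaf.germ ⊤ ξ trivial s) : Cyc.secFibre L ξ) = 0 := by
    intro ξ
    rw [hD.1]
    exact Iff.rfl
  obtain ⟨g, hgdef⟩ : ∃ g : (ξ : X) → Cyc.secFibre L ξ, g = Cyc.gysinChoice L s w := ⟨_, rfl⟩
  have hgZ : ∀ ξ, ξ ∉ Set.range ⇑i →
      g ξ = (Submodule.Quotient.mk (L.presheaf.germ ⊤ ξ trivial s) : Cyc.secFibre L ξ) := by
    intro ξ hξ
    rw [hmemZ] at hξ
    rw [hgdef]
    unfold Cyc.gysinChoice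
    rw [if_pos hξ]
  rw [← hgdef] at hγ ⊢
  have hGsupp : ∀ ξ, ξ ∉ Set.range ⇑i → Cyc.c1CapFun δ L α g ξ = 0 := by
    intro ξ hξ
    unfold Cyc.c1CapFun
    apply finsum_eq_zero_of_forall_eq_zero
    intro ξ₀
    by_cases hsp : ξ₀ ⤳ ξ
    · have hξ₀ : ξ₀ ∉ Set.range ⇑i := fun hmem => hξ (hsp.mem_closed hcl hmem)
      rw [hgZ ξ₀ hξ₀, secDivFun_germ_eq_zero δ L hL s ξ₀ ξ ((hmemZ ξ).not.1 hξ), mul_zero]
    · rw [secDivFun_eq_zero_of_not_specializes δ L ξ₀ (g ξ₀) ξ hsp, mul_zero]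
  unfold Cyc.c1CapFun
  obtain ⟨G, hG⟩ : ∃ G : X → ℤ, ∀ ξ, G ξ =
      (∑ᶠ ξ₀, α ξ₀ * Cyc.secDivFun δ L ξ₀ (g ξ₀) ξ) * Cyc.secDivFun δ N ξ (v' ξ) (i d') :=
    ⟨_, fun ξ => rfl⟩
  have e1 : ∀ d : D, γ d *
      Cyc.secDivFun (fun d => δ (i d)) ((Scheme.Modules.pullback i).obj N) d (t d) d' =
      G (i d) := by
    intro d
    rw [hG, hv'D d d', hγ]
    rfl
  rw [finsum_congr e1, finsum_comp_of_injective (⇑i) i.isClosedEmbedding.injective G]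
  · exact finsum_congr hG
  · intro ξ hne
    by_contra hξ
    apply hne
    have := hGsupp ξ hξ
    unfold Cyc.c1CapFun at this
    rw [hG, this, zero_mul]

theorem ratEquiv_of_keyFormulas {Z : Scheme.{u}} (ι : Z ⟶ X) [IsClosedImmersion ι] (δ : X → ℤ)
    (A B : X.Modules) (k : ℤ) (α : AlgebraicCycle X ℤ) (hα : α ∈ Cyc.Zk X δ k)
    (a₁ a₂ : (ξ : X) → Cyc.secFibre A ξ) (b₁ b₂ : (ξ : X) → Cyc.secFibre B ξ)
    (P : X → X → Prop) (hh : ∀ ξ₀ ξ : X, X.residueField ξ)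
    (hhne : ∀ ξ₀ ξ, hh ξ₀ ξ ≠ 0) (hhone : ∀ ξ₀ ξ, ¬ P ξ₀ ξ → hh ξ₀ ξ = 1)
    (hPdim : ∀ ξ₀ ξ, P ξ₀ ξ → δ ξ + 1 = δ ξ₀ ∧ ξ₀ ⤳ ξ)
    (hLF : ∀ ξ₀ x : X, ∃ V : Set X, IsOpen V ∧ x ∈ V ∧ {ξ : X | ξ ∈ V ∧ P ξ₀ ξ}.Finite)
    (haP : ∀ ξ₀ ξ, Cyc.secDivFun δ A ξ₀ (a₁ ξ₀) ξ ≠ 0 → P ξ₀ ξ)
    (hbP : ∀ ξ₀ ξ, Cyc.secDivFun δ B ξ₀ (b₂ ξ₀) ξ ≠ 0 → P ξ₀ ξ)
    (hform : ∀ ξ₀ x : X, Cyc.c1CapFun δ B (Cyc.secDivFun δ A ξ₀ (a₁ ξ₀)) b₁ x -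
        Cyc.c1CapFun δ A (Cyc.secDivFun δ B ξ₀ (b₂ ξ₀)) a₂ x =
          ∑ᶠ ξ, Cyc.divFun δ ξ (hh ξ₀ ξ) x)
    (hhZ : ∀ ξ₀ ξ, ξ ∉ Set.range ⇑ι → hh ξ₀ ξ = 1)
    (ζ₁ ζ₂ : AlgebraicCycle Z ℤ)
    (h₁ : ∀ z, ζ₁ z = Cyc.c1CapFun δ B (Cyc.c1CapFun δ A ⇑α a₁) b₁ (ι z))
    (h₂ : ∀ z, ζ₂ z = Cyc.c1CapFun δ A (Cyc.c1CapFun δ B ⇑α b₂) a₂ (ι z)) :
    Cyc.RatEquiv (fun z => δ (ι z)) (k - 2) ζ₁ ζ₂ := by
  classical
  have hFx : ∀ x, {ξ₀ : X | α ξ₀ ≠ 0 ∧ ξ₀ ⤳ x}.Finite := by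
    intro x
    obtain ⟨t, ht, hfin⟩ := α.supportLocallyFiniteWithinDomain' x (Set.mem_univ x)
    apply hfin.subset
    rintro ξ₀ ⟨h1, h3⟩
    exact ⟨interior_subset (h3.mem_open isOpen_interior (mem_interior_iff_mem_nhds.2 ht)), h1⟩
  have hGx : ∀ x ξ₀, {ξ : X | ξ ⤳ x ∧ P ξ₀ ξ}.Finite := by
    intro x ξ₀
    obtain ⟨V, hVo, hxV, hfin⟩ := hLF ξ₀ x
    apply hfin.subset
    rintro ξ ⟨hsp, hξP⟩
    exact ⟨hsp.mem_open hVo hxV, hξP⟩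
  -- the identity on `X`
  have hmain : ∀ x : X, Cyc.c1CapFun δ B (Cyc.c1CapFun δ A ⇑α a₁) b₁ x -
      Cyc.c1CapFun δ A (Cyc.c1CapFun δ B ⇑α b₂) a₂ x =
      ∑ᶠ p : {p : X × X // α p.1 ≠ 0 ∧ P p.1 p.2 ∧ p.2 ∈ Set.range ⇑ι},
        Cyc.divFun δ p.1.2 ((hh p.1.1 p.1.2) ^ (α p.1.1)) x := by
    intro x
    have hγ₁ : Cyc.c1CapFun δ B (Cyc.c1CapFun δ A ⇑α a₁) b₁ x =
        ∑ᶠ ξ₀, α ξ₀ * Cyc.c1CapFun δ B (Cyc.secDivFun δ A ξ₀ (a₁ ξ₀)) b₁ x := by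
      unfold Cyc.c1CapFun
      exact finsum_cap_exchange α x P (hGx x) (fun ξ₀ ξ => Cyc.secDivFun δ A ξ₀ (a₁ ξ₀) ξ)
        (fun ξ => Cyc.secDivFun δ B ξ (b₁ ξ) x)
        (fun ξ₀ ξ hne => ⟨by
          by_contra hns
          exact hne (secDivFun_eq_zero_of_not_specializes δ A ξ₀ (a₁ ξ₀) ξ hns), haP ξ₀ ξ hne⟩)
        (fun ξ hne => by
          by_contra hns
          exact hne (secDivFun_eq_zero_of_not_specializes δ B ξ (b₁ ξ) x hns))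
    have hγ₂ : Cyc.c1CapFun δ A (Cyc.c1CapFun δ B ⇑α b₂) a₂ x =
        ∑ᶠ ξ₀, α ξ₀ * Cyc.c1CapFun δ A (Cyc.secDivFun δ B ξ₀ (b₂ ξ₀)) a₂ x := by
      unfold Cyc.c1CapFun
      exact finsum_cap_exchange α x P (hGx x) (fun ξ₀ ξ => Cyc.secDivFun δ B ξ₀ (b₂ ξ₀) ξ)
        (fun ξ => Cyc.secDivFun δ A ξ (a₂ ξ) x)
        (fun ξ₀ ξ hne => ⟨by
          by_contra hns
          exact hne (secDivFun_eq_zero_of_not_specializes δ B ξ₀ (b₂ ξ₀) ξ hns), hbP ξ₀ ξ hne⟩)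
        (fun ξ hne => by
          by_contra hns
          exact hne (secDivFun_eq_zero_of_not_specializes δ A ξ (a₂ ξ) x hns))
    rw [hγ₁, hγ₂]
    have hC₁ : ∀ ξ₀, Cyc.c1CapFun δ B (Cyc.secDivFun δ A ξ₀ (a₁ ξ₀)) b₁ x ≠ 0 → ξ₀ ⤳ x := by
      intro ξ₀ hne
      unfold Cyc.c1CapFun at hne
      obtain ⟨ξ, hξ⟩ := exists_ne_zero_of_finsum_ne_zero' hne
      have h1 : ξ₀ ⤳ ξ := by
        by_contra hns
        exact left_ne_zero_of_mul hξ (secDivFun_eq_zero_of_not_specializes δ A ξ₀ (a₁ ξ₀) ξ hns)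
      have h2 : ξ ⤳ x := by
        by_contra hns
        exact right_ne_zero_of_mul hξ (secDivFun_eq_zero_of_not_specializes δ B ξ (b₁ ξ) x hns)
      exact h1.trans h2
    have hC₂ : ∀ ξ₀, Cyc.c1CapFun δ A (Cyc.secDivFun δ B ξ₀ (b₂ ξ₀)) a₂ x ≠ 0 → ξ₀ ⤳ x := by
      intro ξ₀ hne
      unfold Cyc.c1CapFun at hne
      obtain ⟨ξ, hξ⟩ := exists_ne_zero_of_finsum_ne_zero' hne
      have h1 : ξ₀ ⤳ ξ := by
        by_contra hns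
        exact left_ne_zero_of_mul hξ (secDivFun_eq_zero_of_not_specializes δ B ξ₀ (b₂ ξ₀) ξ hns)
      have h2 : ξ ⤳ x := by
        by_contra hns
        exact right_ne_zero_of_mul hξ (secDivFun_eq_zero_of_not_specializes δ A ξ (a₂ ξ) x hns)
      exact h1.trans h2
    have f₁ : (Function.support fun ξ₀ =>
        α ξ₀ * Cyc.c1CapFun δ B (Cyc.secDivFun δ A ξ₀ (a₁ ξ₀)) b₁ x).Finite := by
      apply (hFx x).subset
      intro ξ₀ hξ₀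
      rw [Function.mem_support] at hξ₀
      exact ⟨left_ne_zero_of_mul hξ₀, hC₁ ξ₀ (right_ne_zero_of_mul hξ₀)⟩
    have f₂ : (Function.support fun ξ₀ =>
        α ξ₀ * Cyc.c1CapFun δ A (Cyc.secDivFun δ B ξ₀ (b₂ ξ₀)) a₂ x).Finite := by
      apply (hFx x).subset
      intro ξ₀ hξ₀
      rw [Function.mem_support] at hξ₀
      exact ⟨left_ne_zero_of_mul hξ₀, hC₂ ξ₀ (right_ne_zero_of_mul hξ₀)⟩
    rw [← finsum_sub_distrib f₁ f₂]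
    obtain ⟨G, hG⟩ : ∃ G : X × X → ℤ, ∀ p, G p =
        Cyc.divFun δ p.2 ((hh p.1 p.2) ^ (α p.1)) x := ⟨_, fun p => rfl⟩
    have hGval : ∀ ξ₀ ξ, G (ξ₀, ξ) = (α ξ₀) * Cyc.divFun δ ξ (hh ξ₀ ξ) x := by
      intro ξ₀ ξ
      rw [hG]
      exact divFun_zpow δ ξ (hhne ξ₀ ξ) (α ξ₀) x
    have hGsupp' : ∀ p, G p ≠ 0 →
        (α p.1 ≠ 0 ∧ P p.1 p.2 ∧ p.2 ∈ Set.range ⇑ι) ∧ p.2 ⤳ x := by
      rintro ⟨ξ₀, ξ⟩ hne
      rw [hGval] at hne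
      have h1 : α ξ₀ ≠ 0 := left_ne_zero_of_mul hne
      have h2 : Cyc.divFun δ ξ (hh ξ₀ ξ) x ≠ 0 := right_ne_zero_of_mul hne
      refine ⟨⟨h1, ?_, ?_⟩, ?_⟩
      · by_contra hnP
        apply h2
        rw [hhone ξ₀ ξ hnP]
        exact divFun_one δ ξ x
      · by_contra hnZ
        apply h2
        rw [hhZ ξ₀ ξ hnZ]
        exact divFun_one δ ξ x
      · by_contra hns
        exact h2 (divFun_eq_zero_of_not_specializes δ ξ _ x hns)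
    have hGfin : (Function.support G).Finite := by
      apply finite_prod_of_fibres (hFx x) (fun ξ₀ => {ξ : X | ξ ⤳ x ∧ P ξ₀ ξ})
        (fun ξ₀ _ => hGx x ξ₀)
      rintro ⟨ξ₀, ξ⟩ hp
      obtain ⟨⟨h1, h2, -⟩, h3⟩ := hGsupp' _ hp
      exact ⟨⟨h1, (hPdim ξ₀ ξ h2).2.trans h3⟩, h3, h2⟩
    have hRHS : ∑ᶠ p : {p : X × X // α p.1 ≠ 0 ∧ P p.1 p.2 ∧ p.2 ∈ Set.range ⇑ι},
        Cyc.divFun δ p.1.2 ((hh p.1.1 p.1.2) ^ (α p.1.1)) x = ∑ᶠ p : X × X, G p := by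
      rw [finsum_eq_subtype_of_support G
        (fun p => α p.1 ≠ 0 ∧ P p.1 p.2 ∧ p.2 ∈ Set.range ⇑ι) (fun p hp => (hGsupp' p hp).1)]
      exact finsum_congr fun p => (hG p.1).symm
    rw [hRHS, finsum_curry G hGfin]
    apply finsum_congr
    intro ξ₀
    have e1 : ∑ᶠ ξ, G (ξ₀, ξ) = (α ξ₀) * ∑ᶠ ξ, Cyc.divFun δ ξ (hh ξ₀ ξ) x := by
      rw [mul_finsum]
      exact finsum_congr fun ξ => hGval ξ₀ ξ
    rw [e1, ← hform ξ₀ x]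
    ring
  -- the family on `Z`
  obtain ⟨ζ, f', hdim', hne', hlf', hdiv⟩ :=
    exists_family_closedImmersion ι δ (k - 2)
      (fun p : {p : X × X // α p.1 ≠ 0 ∧ P p.1 p.2 ∧ p.2 ∈ Set.range ⇑ι} => p.1.2)
      (fun p => (hh p.1.1 p.1.2) ^ (α p.1.1))
      (fun p => p.2.2.2)
      (fun p => by
        show δ p.1.2 = k - 2 + 1
        have h1 := (hPdim p.1.1 p.1.2 p.2.2.1).1
        have h2 : δ p.1.1 = k := by
          by_contra hne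
          exact p.2.1 (hα p.1.1 hne)
        omega)
      (fun p => zpow_ne_zero _ (hhne p.1.1 p.1.2))
      (fun x => by
        obtain ⟨U₀, hU₀o, hxU₀, hU₀fin⟩ := locallyFinite_support_closure α x
        have hF' : {ξ₀ : X | α ξ₀ ≠ 0 ∧ ξ₀ ∈ U₀}.Finite := by
          have := Set.Finite.image (fun i : {ξ : X // α ξ ≠ 0} => i.1) hU₀fin
          apply this.subset
          rintro ξ₀ ⟨h1, h2⟩
          exact ⟨⟨ξ₀, h1⟩, ⟨ξ₀, subset_closure rfl, h2⟩, rfl⟩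
        choose V hVo hxV hVfin using fun ξ₀ => hLF ξ₀ x
        refine ⟨U₀ ∩ ⋂ ξ₀ ∈ {ξ₀ : X | α ξ₀ ≠ 0 ∧ ξ₀ ∈ U₀}, V ξ₀,
          hU₀o.inter (hF'.isOpen_biInter fun ξ₀ _ => hVo ξ₀),
          ⟨hxU₀, Set.mem_iInter₂.2 fun ξ₀ _ => hxV ξ₀⟩, ?_⟩
        have hpairs : {p : X × X | (α p.1 ≠ 0 ∧ p.1 ∈ U₀) ∧ (p.2 ∈ V p.1 ∧ P p.1 p.2)}.Finite := by
          apply finite_prod_of_fibres hF' (fun ξ₀ => {ξ : X | ξ ∈ V ξ₀ ∧ P ξ₀ ξ})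
            (fun ξ₀ _ => hVfin ξ₀)
          rintro p hp
          exact hp
        apply (Set.Finite.preimage (Subtype.val_injective.injOn) hpairs).subset
        rintro p ⟨y, hy1, hy2⟩
        have hsp : p.1.2 ⤳ y := specializes_iff_mem_closure.2 hy1
        have hpU₀ : p.1.2 ∈ U₀ := hsp.mem_open hU₀o hy2.1
        have hsp0 : p.1.1 ⤳ p.1.2 := (hPdim p.1.1 p.1.2 p.2.2.1).2
        have hp0U₀ : p.1.1 ∈ U₀ := hsp0.mem_open hU₀o hpU₀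
        have hmem := Set.mem_iInter₂.1 hy2.2 p.1.1 ⟨p.2.1, hp0U₀⟩
        exact ⟨⟨p.2.1, hp0U₀⟩, hsp.mem_open (hVo p.1.1) hmem, p.2.2.1⟩)
  unfold Cyc.RatEquiv
  refine ⟨_, ζ, f', hdim', hne', hlf', fun d' => ?_⟩
  have e0 : (ζ₁ - ζ₂) d' = ζ₁ d' - ζ₂ d' := rfl
  rw [e0, h₁ d', h₂ d', hmain (ι d')]
  exact finsum_congr fun j => (hdiv j d').symm

end Groth.Agent.Lib.Helper64.GysSq
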