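import Groth.Agent.Lib.Helper64.HartogsMod

/-!
# Relative Hartogs: bijectivity of `F(V) → F(W)` for `W ≤ V` from regular pairs at the points of
`V ∖ W` (helper64)
-/

set_option autoImplicit false
universe x v w u

open CategoryTheory Opposite TopologicalSpace TopCat

namespace Groth.Agent.Lib.Helper64.HartogsGlue

section

variable {C : Type w} [Category.{v} C] {FC : C → C → Type*} {CC : C → Type*}
  [∀ X Y, FunLike (FC X Y) (CC X) (CC Y)] [ConcreteCategory C FC]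
  [Limits.HasLimitsOfSize.{x, x} C] [(CategoryTheory.forget C).ReflectsIsomorphisms]
  [Limits.PreservesLimitsOfSize.{x, x} (CategoryTheory.forget C)]
  {X : TopCat.{x}} (F : TopCat.Sheaf C X)

/-- relative version of `bijective_res_inf_of_basis`: only basis elements inside `V` are used -/
theorem bijective_res_inf_of_basis_le (U : Opens X) (B : Set (Opens X)) (hB : Opens.IsBasis B)
    (V : Opens X)
    (h : ∀ W ∈ B, W ≤ V → Function.Bijective (F.1.map (homOfLE (inf_le_left : W ⊓ U ≤ W)).op)) :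
    Function.Bijective (F.1.map (homOfLE (inf_le_left : V ⊓ U ≤ V)).op) := by
  have hinj : Function.Injective (F.1.map (homOfLE (inf_le_left : V ⊓ U ≤ V)).op) := by
    intro s s' hss
    let ι := {W : Opens X // W ∈ B ∧ W ≤ V}
    have hcover : V ≤ ⨆ i : ι, i.1 := by
      intro x hx
      obtain ⟨W, hWB, hxW, hWV⟩ := Opens.isBasis_iff_nbhd.1 hB hx
      exact Opens.mem_iSup.2 ⟨⟨W, hWB, hWV⟩, hxW⟩
    refine F.eq_of_locally_eq' (fun i : ι => i.1) V (fun i => homOfLE i.2.2) hcover s s' ?_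
    intro i
    apply (h i.1 i.2.1 i.2.2).1
    rw [res_res F _ _ (homOfLE (inf_le_left.trans i.2.2) : i.1 ⊓ U ⟶ V),
      res_res F _ _ (homOfLE (inf_le_left.trans i.2.2) : i.1 ⊓ U ⟶ V),
      ← res_res F (homOfLE (inf_le_inf_right U i.2.2) : i.1 ⊓ U ⟶ V ⊓ U)
        (homOfLE inf_le_left : V ⊓ U ⟶ V), hss, res_res]
  refine ⟨hinj, ?_⟩
  intro t
  let ι := {W : Opens X // W ∈ B ∧ W ≤ V}
  have hcover : V ≤ ⨆ i : ι, i.1 := by
    intro x hx
    obtain ⟨W, hWB, hxW, hWV⟩ := Opens.isBasis_iff_nbhd.1 hB hx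
    exact Opens.mem_iSup.2 ⟨⟨W, hWB, hWV⟩, hxW⟩
  have hex : ∀ i : ι, ∃ s : ToType (F.1.obj (op i.1)),
      F.1.map (homOfLE (inf_le_left : i.1 ⊓ U ≤ i.1)).op s =
        F.1.map (homOfLE (inf_le_inf_right U i.2.2) : i.1 ⊓ U ⟶ V ⊓ U).op t :=
    fun i => (h i.1 i.2.1 i.2.2).2 _
  choose sf hsf using hex
  have hcompat : TopCat.Presheaf.IsCompatible F.1 (fun i : ι => i.1) sf := by
    intro i j
    let κ := {W : Opens X // W ∈ B ∧ W ≤ i.1 ⊓ j.1}
    have hcov2 : i.1 ⊓ j.1 ≤ ⨆ k : κ, k.1 := by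
      intro x hx
      obtain ⟨W, hWB, hxW, hWV⟩ := Opens.isBasis_iff_nbhd.1 hB hx
      exact Opens.mem_iSup.2 ⟨⟨W, hWB, hWV⟩, hxW⟩
    refine F.eq_of_locally_eq' (fun k : κ => k.1) _ (fun k => homOfLE k.2.2) hcov2 _ _ ?_
    intro k
    have hki : k.1 ≤ i.1 := k.2.2.trans inf_le_left
    have hkj : k.1 ≤ j.1 := k.2.2.trans inf_le_right
    apply (h k.1 k.2.1 (hki.trans i.2.2)).1
    rw [res_res F _ _ (homOfLE hki : k.1 ⟶ i.1), res_res F _ _ (homOfLE hkj : k.1 ⟶ j.1),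
      res_res F _ _ (homOfLE (inf_le_left.trans hki) : k.1 ⊓ U ⟶ i.1),
      res_res F _ _ (homOfLE (inf_le_left.trans hkj) : k.1 ⊓ U ⟶ j.1),
      ← res_res F (homOfLE (inf_le_inf_right U hki) : k.1 ⊓ U ⟶ i.1 ⊓ U)
        (homOfLE inf_le_left : i.1 ⊓ U ⟶ i.1), hsf i,
      ← res_res F (homOfLE (inf_le_inf_right U hkj) : k.1 ⊓ U ⟶ j.1 ⊓ U)
        (homOfLE inf_le_left : j.1 ⊓ U ⟶ j.1), hsf j, res_res F _ _
        (homOfLE (inf_le_inf_right U (hki.trans i.2.2)) : k.1 ⊓ U ⟶ V ⊓ U), res_res]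
  obtain ⟨s, hs, -⟩ := F.existsUnique_gluing' (fun i : ι => i.1) V (fun i => homOfLE i.2.2) hcover
    sf hcompat
  refine ⟨s, ?_⟩
  have hcov3 : V ⊓ U ≤ ⨆ i : ι, i.1 ⊓ U := by
    intro x hx
    obtain ⟨i, hi⟩ := Opens.mem_iSup.1 (hcover hx.1)
    exact Opens.mem_iSup.2 ⟨i, hi, hx.2⟩
  refine F.eq_of_locally_eq' (fun i : ι => i.1 ⊓ U) _ (fun i => homOfLE (inf_le_inf_right U i.2.2))
    hcov3 _ _ ?_
  intro i
  rw [res_res F _ _ (homOfLE (inf_le_left.trans i.2.2) : i.1 ⊓ U ⟶ V),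
    ← res_res F (homOfLE inf_le_left : i.1 ⊓ U ⟶ i.1) (homOfLE i.2.2 : i.1 ⟶ V), hs i, hsf i]

end

end Groth.Agent.Lib.Helper64.HartogsGlue

namespace Groth.Agent.Lib.Helper64.HartogsMod

open AlgebraicGeometry Groth.Agent.Lib.Helper29.QCohLoc

variable {X : Scheme.{u}} (F : X.Modules)

theorem bijective_res_of_eq {V W W' : X.Opens} (hWV : W ≤ V) (hW'V : W' ≤ V) (h : W = W')
    (key : Function.Bijective (F.presheaf.map (homOfLE hW'V).op)) :
    Function.Bijective (F.presheaf.map (homOfLE hWV).op) := by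
  subst h
  exact key

/-- **Hartogs for quasi-coherent modules, relative form**: regular pairs are only needed at the points
of `V ∖ W`. -/
theorem bijective_res_rel [IsLocallyNoetherian X]
    (hloc : ∀ V : X.Opens, IsAffineOpen V → LocAt F V) {V W : X.Opens} (hWV : W ≤ V)
    (hreg : ∀ x ∈ V, x ∉ W → HasRegPairMod (X.presheaf.stalk x) (F.presheaf.stalk x)) :
    Function.Bijective (F.presheaf.map (homOfLE hWV).op) := by
  have hW : W = V ⊓ W := (inf_eq_right.2 hWV).symm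
  have key : Function.Bijective (F.presheaf.map (homOfLE (inf_le_left : V ⊓ W ≤ V)).op) := by
    refine HartogsGlue.bijective_res_inf_of_basis_le (⟨F.presheaf, F.isSheaf⟩ : TopCat.Sheaf Ab X) W
      X.affineOpens X.isBasis_affineOpens V ?_
    intro V' hV' hV'V
    haveI : IsNoetherianRing Γ(X, V') := IsLocallyNoetherian.component_noetherian ⟨V', hV'⟩
    exact bijective_res_of_isAffineOpen F hloc hV' (V' ⊓ W) inf_le_left
      (fun x hxV' hx => hreg x (hV'V hxV') (fun hxW => hx ⟨hxV', hxW⟩))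
  exact bijective_res_of_eq F hWV inf_le_left hW key

end Groth.Agent.Lib.Helper64.HartogsMod
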