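import Groth.Agent.Lib.Helper64.MeroInv3

/-!
# Generators of `O_X(D)` from local equations of `D` (helper64)

* `isGen_of_unit`: where `D` is the class of a unit `f` of `K_X(V)`, the section `f⁻¹` generates `O_X(D)`.
* `mulSec`: the multiplication `O_X(D) × O_X(E) → O_X(D E)`.
-/

set_option autoImplicit false
set_option linter.style.haveILetI false
set_option linter.unusedSectionVars false
universe u

open AlgebraicGeometry CategoryTheory Opposite TopologicalSpace

namespace Groth.Agent.Lib.Helper64.MeroInv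

open Mero Groth.Agent.Lib.Helper65.CurveDiv Groth.Agent.Lib.Lead.SheafGlue
open Groth.Agent.Lib.Lead.Inv

variable {X : Scheme.{u}}

/-- the value of a unit of `K_X(V)` at a point, as a unit -/
noncomputable def unitAt {V : X.Opens} (f : (Γ(kmod X, V))ˣ) (y : V) : (KStalk X y.1)ˣ :=
  Units.map (evalK X V y).toMonoidHom f

theorem unitAt_val {V : X.Opens} (f : (Γ(kmod X, V))ˣ) (y : V) :
    ((unitAt f y : (KStalk X y.1)ˣ) : KStalk X y.1) = (f : Γ(kmod X, V)).1 y := rfl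

theorem unitAt_inv_val {V : X.Opens} (f : (Γ(kmod X, V))ˣ) (y : V) :
    (((unitAt f y)⁻¹ : (KStalk X y.1)ˣ) : KStalk X y.1) = ((f⁻¹ : (Γ(kmod X, V))ˣ) : Γ(kmod X, V)).1 y := by
  rw [← unitAt_val, unitAt, unitAt, map_inv]

theorem germOf_eq {V : X.Opens} (f : (Γ(kmod X, V))ˣ) (y : V) :
    germOf f y = QuotientGroup.mk (unitAt f y) := rfl

/-- the divisor condition in terms of a local equation -/
theorem divCond_iff (D : Divisor X) {V : X.Opens} (f : (Γ(kmod X, V))ˣ) (y : V)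
    (hD : D.1 y.1 = germOf f y) (t : KStalk X y.1) :
    DivCond D y.1 t ↔
      t * (f : Γ(kmod X, V)).1 y ∈ (algebraMap (X.presheaf.stalk y.1) (KStalk X y.1)).range := by
  constructor
  · intro h
    have := h (unitAt f y) hD
    rwa [unitAt_val] at this
  · intro h g hg
    rw [hD, germOf_eq] at hg
    obtain ⟨u, hu⟩ := QuotientGroup.eq.mp hg
    have hg' : g = unitAt f y *
        Units.map (algebraMap (X.presheaf.stalk y.1) (KStalk X y.1)).toMonoidHom u := by
      rw [hu, mul_inv_cancel_left]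
    obtain ⟨c, hc⟩ := h
    refine ⟨c * u, ?_⟩
    rw [map_mul, hc, hg', Units.val_mul, unitAt_val, mul_assoc]
    rfl

/-- where `D` is the class of the unit `f`, a section with value `f⁻¹` generates `O_X(D)` -/
theorem isGen_of_unit (D : Divisor X) {V : X.Opens} (f : (Γ(kmod X, V))ˣ)
    (hD : ∀ y : V, D.1 y.1 = germOf f y) (e : Γ(divMod D, V))
    (he : toKSec D e = ((f⁻¹ : (Γ(kmod X, V))ˣ) : Γ(kmod X, V))) :
    IsGen (divMod D) V e := by
  have hmul : ∀ y : V, e.1 y * (f : Γ(kmod X, V)).1 y = 1 := by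
    intro y
    have h1 := congrArg (fun s : Γ(kmod X, V) => s.1 y) he
    change e.1 y = _ at h1
    rw [h1]
    exact congrArg (fun s : Γ(kmod X, V) => s.1 y) (Units.inv_mul f)
  have hmul' : ∀ y : V, (f : Γ(kmod X, V)).1 y * e.1 y = 1 := fun y => by
    rw [mul_comm]; exact hmul y
  intro W hW
  constructor
  · intro r r' hrr
    apply TopCat.Presheaf.section_ext X.sheaf W
    intro y hy
    apply algebraMap_KStalk_injective y
    have h1 := congrArg (fun s : Γ(divMod D, W) => s.1 ⟨y, hy⟩) hrr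
    change X.presheaf.germ W y hy r • e.1 ⟨y, hW hy⟩ =
      X.presheaf.germ W y hy r' • e.1 ⟨y, hW hy⟩ at h1
    rw [smul_kstalk, smul_kstalk] at h1
    have h2 := congrArg (· * (f : Γ(kmod X, V)).1 ⟨y, hW hy⟩) h1
    simp only [mul_assoc, hmul ⟨y, hW hy⟩, mul_one] at h2
    exact h2
  · intro t
    let τ : Γ(kmod X, W) := toKSec D t * (kmod X).presheaf.map (homOfLE hW).op (f : Γ(kmod X, V))
    have hτ : ∀ y : W, τ.1 y ∈ (algebraMap (X.presheaf.stalk y.1) (KStalk X y.1)).range := by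
      intro y
      exact (divCond_iff D f ⟨y.1, hW y.2⟩ (hD ⟨y.1, hW y.2⟩) (t.1 y)).1 (t.2.2 y)
    obtain ⟨r, hr⟩ := exists_toK_eq τ hτ
    refine ⟨r, ?_⟩
    apply Subtype.ext
    funext y
    change X.presheaf.germ W y.1 y.2 r • e.1 ⟨y.1, hW y.2⟩ = t.1 y
    have h1 := congrArg (fun s : Γ(kmod X, W) => s.1 y) hr
    change (LocalizedModule.mk _ _ : KStalk X y.1) =
      t.1 y * (f : Γ(kmod X, V)).1 ⟨y.1, hW y.2⟩ at h1
    rw [smul_kstalk, algebraMap_eq_lmk, h1, mul_assoc, hmul' ⟨y.1, hW y.2⟩, mul_one]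

/-- the generator `f⁻¹` of `O_X(D)` where `D` is the class of the unit `f` -/
noncomputable def genOfUnit (D : Divisor X) {V : X.Opens} (f : (Γ(kmod X, V))ˣ)
    (hD : ∀ y : V, D.1 y.1 = germOf f y) : Γ(divMod D, V) :=
  ofKSec D ((f⁻¹ : (Γ(kmod X, V))ˣ) : Γ(kmod X, V)) (fun y => by
    rw [divCond_iff D f y (hD y)]
    have : ((f⁻¹ : (Γ(kmod X, V))ˣ) : Γ(kmod X, V)).1 y * (f : Γ(kmod X, V)).1 y = 1 :=
      congrArg (fun s : Γ(kmod X, V) => s.1 y) (Units.inv_mul f)
    rw [this]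
    exact ⟨1, map_one _⟩)

theorem isGen_genOfUnit (D : Divisor X) {V : X.Opens} (f : (Γ(kmod X, V))ˣ)
    (hD : ∀ y : V, D.1 y.1 = germOf f y) : IsGen (divMod D) V (genOfUnit D f hD) :=
  isGen_of_unit D f hD _ rfl

/-- restriction of units of `K_X` -/
noncomputable def resUnit {U V : X.Opens} (h : V ≤ U) (f : (Γ(kmod X, U))ˣ) : (Γ(kmod X, V))ˣ :=
  Units.map ((kring X).obj.map (homOfLE h).op).hom.toMonoidHom f

theorem resUnit_val {U V : X.Opens} (h : V ≤ U) (f : (Γ(kmod X, U))ˣ) (y : V) :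
    ((resUnit h f : (Γ(kmod X, V))ˣ) : Γ(kmod X, V)).1 y = (f : Γ(kmod X, U)).1 ⟨y.1, h y.2⟩ := rfl

theorem germOf_resUnit {U V : X.Opens} (h : V ≤ U) (f : (Γ(kmod X, U))ˣ) (y : V) :
    germOf (resUnit h f) y = germOf f ⟨y.1, h y.2⟩ :=
  congrArg _ (Units.ext rfl)

theorem germOf_mul {V : X.Opens} (f g : (Γ(kmod X, V))ˣ) (y : V) :
    germOf (f * g) y = germOf f y * germOf g y := by
  rw [germOf, germOf, germOf, map_mul, QuotientGroup.mk_mul]

theorem divisor_mul_apply (D E : Divisor X) (x : X) : (D * E).1 x = D.1 x * E.1 x := rfl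

/-- the product of sections of `O_X(D)` and `O_X(E)` -/
theorem divCond_mul (D E : Divisor X) (x : X) {t t' : KStalk X x} (h : DivCond D x t)
    (h' : DivCond E x t') : DivCond (D * E) x (t * t') := by
  intro g hg
  obtain ⟨g₁, hg₁⟩ := QuotientGroup.mk_surjective (D.1 x)
  obtain ⟨g₂, hg₂⟩ := QuotientGroup.mk_surjective (E.1 x)
  rw [divisor_mul_apply, ← hg₁, ← hg₂, ← QuotientGroup.mk_mul] at hg
  obtain ⟨u, hu⟩ := QuotientGroup.eq.mp hg
  have hg' : g = g₁ * g₂ *
      Units.map (algebraMap (X.presheaf.stalk x) (KStalk X x)).toMonoidHom u := by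
    rw [hu, mul_inv_cancel_left]
  obtain ⟨c, hc⟩ := h g₁ hg₁.symm
  obtain ⟨c', hc'⟩ := h' g₂ hg₂.symm
  refine ⟨c * c' * u, ?_⟩
  rw [map_mul, map_mul, hc, hc', hg', Units.val_mul, Units.val_mul]
  have : ((Units.map (algebraMap (X.presheaf.stalk x) (KStalk X x)).toMonoidHom u :
      (KStalk X x)ˣ) : KStalk X x) = algebraMap _ _ (u : X.presheaf.stalk x) := rfl
  rw [this]
  ring

/-- the multiplication `O_X(D) × O_X(E) → O_X(D E)` on sections -/
noncomputable def mulSec (D E : Divisor X) {U : X.Opens} (t : Γ(divMod D, U)) (t' : Γ(divMod E, U)) :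
    Γ(divMod (D * E), U) :=
  ⟨fun y => t.1 y * t'.1 y, ⟨kLoc_mul X U t.1 t'.1 t.2.1 t'.2.1,
    fun y => divCond_mul D E y.1 (t.2.2 y) (t'.2.2 y)⟩⟩

theorem mulSec_apply (D E : Divisor X) {U : X.Opens} (t : Γ(divMod D, U)) (t' : Γ(divMod E, U))
    (y : U) : (mulSec D E t t').1 y = t.1 y * t'.1 y := rfl

end Groth.Agent.Lib.Helper64.MeroInv
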