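import Groth.Agent.Lib.Helper64.MeroReg4
import Groth.Agent.Lib.Helper64.MeroInv4

/-!
# Regular meromorphic sections of invertible modules: local structure (helper64)

* `bijective_smul_mk`: `S_x⁻¹ L_x` is free over `K_{X,x}` on the class of a generator of `L_x`.
* `exists_chart`: a regular meromorphic section is locally `(r / b) ε` with `ε` a generator and `r, b`
  regular.
* `smul_chart`, `bijective_smul_of_isRegularMero`, `coefEquiv` (`κ`), `mk_eq_of_smul_eq`.
-/

set_option autoImplicit false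
set_option linter.style.haveILetI false
set_option linter.unusedSectionVars false
universe u

open AlgebraicGeometry CategoryTheory Opposite TopologicalSpace

namespace Groth.Agent.Lib.Helper64.MeroDiv

open Mero Groth.Agent.Lib.Helper29.QCohLoc Groth.Agent.Lib.Helper65.CurveDiv
open Groth.Agent.Lib.Helper64.MeroInv Groth.Agent.Lib.Lead.Inv
open Groth.Agent.Lib.Helper64.RefS2 Groth.Agent.Lib.Helper64.MeroReg

variable {X : Scheme.{u}} {L : X.Modules}

/-- `S_x⁻¹ L_x` is free over `K_{X,x}` on the class of a generator of `L_x` -/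
theorem bijective_smul_mk {x : X} (e : L.presheaf.stalk x)
    (he : Function.Bijective fun a : X.presheaf.stalk x => a • e) :
    Function.Bijective (fun q : KStalk X x => q • (LocalizedModule.mk e 1 : MStalk L x)) := by
  constructor
  · intro q q' h
    have h0 : (q - q') • (LocalizedModule.mk e 1 : MStalk L x) = 0 := by
      rw [sub_smul]
      exact sub_eq_zero.2 h
    have h1 : q - q' = 0 := by
      generalize q - q' = p at h0
      induction p using Localization.induction_on with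
      | H ct =>
        obtain ⟨c, t⟩ := ct
        change Localization.mk c t • _ = 0 at h0
        rw [LocalizedModule.mk_smul_mk, lmkM_eq_zero_iff] at h0
        obtain ⟨d, hd⟩ := h0
        rw [← mul_smul] at hd
        have h1 : (d : X.presheaf.stalk x) * c = 0 := he.1 (hd.trans (zero_smul _ _).symm)
        have h2 : c = 0 :=
          (mem_nonZeroDivisors_iff.1 (regStalk_le_nonZeroDivisors x d.2)).1 _ h1
        rw [h2]
        exact Localization.mk_zero t
    exact sub_eq_zero.1 h1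
  · intro t
    induction t using LocalizedModule.induction_on with
    | h m t' =>
      obtain ⟨c, hc⟩ := he.2 m
      refine ⟨Localization.mk c t', ?_⟩
      change Localization.mk c t' • LocalizedModule.mk e 1 = _
      rw [LocalizedModule.mk_smul_mk, mul_one]
      exact congrArg (fun m' => LocalizedModule.mk m' t') hc

/-- the class of `u • e` -/
theorem mk_smul_eq {x : X} (u : X.presheaf.stalk x) (e : L.presheaf.stalk x) :
    (LocalizedModule.mk (u • e) 1 : MStalk L x) =
      algebraMap (X.presheaf.stalk x) (KStalk X x) u • (LocalizedModule.mk e 1 : MStalk L x) := by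
  rw [algebraMap_eq_lmk]
  change _ = Localization.mk u 1 • LocalizedModule.mk e 1
  rw [LocalizedModule.mk_smul_mk, mul_one]

/-- local structure of a regular meromorphic section of an invertible module -/
theorem exists_chart (hL : PicF.IsInvertible L) (s : Γ(merMod L, ⊤)) (hs : IsRegularMero L s)
    (x : X) :
    ∃ (V : X.Opens) (ε : Γ(L, V)) (r b : Γ(X, V)), x ∈ V ∧ IsGen L V ε ∧
      ∃ (_ : r ∈ regSub X V) (hb : b ∈ regSub X V), ∀ y : V,
        s.1 ⟨y.1, Opens.mem_top y.1⟩ =
          LocalizedModule.mk (L.presheaf.germ V y.1 y.2 (r • ε)) (regGerm y ⟨b, hb⟩) := by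
  obtain ⟨V₀, hxV₀, i, m, b₀, hfrac⟩ := s.2 ⟨x, Opens.mem_top x⟩
  obtain ⟨U₁, hxU₁, ε₁, hε₁⟩ := (isInvertible_iff_exists_isGen.1 hL) x
  have hVV₀ : V₀ ⊓ U₁ ≤ V₀ := inf_le_left
  have hVU₁ : V₀ ⊓ U₁ ≤ U₁ := inf_le_right
  have hε : IsGen L (V₀ ⊓ U₁) (L.presheaf.map (homOfLE hVU₁).op ε₁) := hε₁.res hVU₁
  let r : Γ(X, V₀ ⊓ U₁) := hε₁.coeff hVU₁ (L.presheaf.map (homOfLE hVV₀).op m)
  have hr : r • L.presheaf.map (homOfLE hVU₁).op ε₁ = L.presheaf.map (homOfLE hVV₀).op m :=
    hε₁.coeff_smul _ _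
  have hbreg : X.presheaf.map (homOfLE hVV₀).op b₀.1 ∈ regSub X (V₀ ⊓ U₁) :=
    regSub_res (homOfLE hVV₀) b₀.2
  have hval : ∀ y : (V₀ ⊓ U₁ : X.Opens), s.1 ⟨y.1, Opens.mem_top y.1⟩ =
      LocalizedModule.mk (L.presheaf.germ (V₀ ⊓ U₁) y.1 y.2
        (r • L.presheaf.map (homOfLE hVU₁).op ε₁))
        (regGerm y ⟨X.presheaf.map (homOfLE hVV₀).op b₀.1, hbreg⟩) := by
    intro y
    have h1 : s.1 ⟨y.1, Opens.mem_top y.1⟩ =
        LocalizedModule.mk (L.presheaf.germ V₀ y.1 y.2.1 m) (regGerm ⟨y.1, y.2.1⟩ b₀) :=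
      hfrac ⟨y.1, y.2.1⟩
    rw [h1, hr]
    exact mk_congr (Groth.Agent.Lib.Helper29.QCohLoc.germ_res L V₀ _ hVV₀ y.1 y.2 m).symm
      (TopCat.Presheaf.germ_res_apply X.presheaf (homOfLE hVV₀) y.1 y.2 b₀.1).symm
  have hrreg : r ∈ regSub X (V₀ ⊓ U₁) := by
    intro y
    rw [mem_nonZeroDivisors_iff_right]
    intro c hc
    have h1 := hs y.1 (Localization.mk c 1) (by
      rw [hval y, LocalizedModule.mk_smul_mk, Groth.Agent.Lib.Helper29.QCohLoc.germ_smul,
        ← mul_smul, hc, zero_smul, LocalizedModule.zero_mk])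
    have h2 : (LocalizedModule.mk c 1 : KStalk X y.1) = 0 := h1
    exact (lmk_eq_zero_iff y.1 c 1).1 h2
  exact ⟨V₀ ⊓ U₁, _, r, _, ⟨hxV₀, hxU₁⟩, hε, hrreg, hbreg, hval⟩

/-- in a chart, `(c b / r) • s = c ε` -/
theorem smul_chart {V : X.Opens} (ε : Γ(L, V)) (r b : regSub X V) (y : V)
    (t : MStalk L y.1)
    (ht : t = LocalizedModule.mk (L.presheaf.germ V y.1 y.2 (r.1 • ε)) (regGerm y b))
    (c : X.presheaf.stalk y.1) :
    (LocalizedModule.mk (c * X.presheaf.germ V y.1 y.2 b.1) (regGerm y r) : KStalk X y.1) • t =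
      LocalizedModule.mk (c • L.presheaf.germ V y.1 y.2 ε) 1 := by
  rw [ht]
  change Localization.mk _ _ • _ = _
  rw [LocalizedModule.mk_smul_mk, Groth.Agent.Lib.Helper29.QCohLoc.germ_smul, LocalizedModule.mk_eq]
  refine ⟨1, ?_⟩
  rw [one_smul, one_smul, one_smul, Submonoid.smul_def, Submonoid.coe_mul, ← mul_smul, ← mul_smul]
  congr 1
  change c * X.presheaf.germ V y.1 y.2 b.1 * X.presheaf.germ V y.1 y.2 r.1 =
    X.presheaf.germ V y.1 y.2 r.1 * X.presheaf.germ V y.1 y.2 b.1 * c
  ring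

/-- in a chart, `s = (r / b) • ε` -/
theorem chart_eq_smul {V : X.Opens} (ε : Γ(L, V)) (r b : regSub X V) (y : V) :
    (LocalizedModule.mk (L.presheaf.germ V y.1 y.2 (r.1 • ε)) (regGerm y b) : MStalk L y.1) =
      (LocalizedModule.mk (X.presheaf.germ V y.1 y.2 r.1) (regGerm y b) : KStalk X y.1) •
        (LocalizedModule.mk (L.presheaf.germ V y.1 y.2 ε) 1 : MStalk L y.1) := by
  change _ = Localization.mk _ _ • _
  rw [LocalizedModule.mk_smul_mk, mul_one, Groth.Agent.Lib.Helper29.QCohLoc.germ_smul]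

theorem isUnit_lmk (y : X) (a b : regStalk X y) :
    IsUnit (LocalizedModule.mk (a : X.presheaf.stalk y) b : KStalk X y) := by
  rw [lmk_eq_mk']
  exact IsUnit.of_mul_eq_one _ (IsLocalization.mk'_mul_mk'_eq_one a b)

/-- multiplication by a regular meromorphic section of an invertible module is bijective on the
localized stalks -/
theorem bijective_smul_of_isRegularMero (hL : PicF.IsInvertible L) (s : Γ(merMod L, ⊤))
    (hs : IsRegularMero L s) (y : X) :
    Function.Bijective (fun q : KStalk X y => q • s.1 ⟨y, Opens.mem_top y⟩) := by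
  obtain ⟨V, ε, r, b, hyV, hε, hr, hb, hval⟩ := exists_chart hL s hs y
  have h1 := hval ⟨y, hyV⟩
  rw [chart_eq_smul ε ⟨r, hr⟩ ⟨b, hb⟩ ⟨y, hyV⟩] at h1
  have hG := isUnit_lmk y (regGerm ⟨y, hyV⟩ ⟨r, hr⟩) (regGerm ⟨y, hyV⟩ ⟨b, hb⟩)
  have hB := bijective_smul_mk (L := L) (L.presheaf.germ V y hyV ε)
    (bijective_stalk_of_isGen hε y hyV)
  have key : (fun q : KStalk X y => q • s.1 ⟨y, Opens.mem_top y⟩) =
      (fun p : KStalk X y => p • (LocalizedModule.mk (L.presheaf.germ V y hyV ε) 1 : MStalk L y)) ∘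
        (fun q : KStalk X y => q * hG.unit) := by
    funext q
    change q • s.1 ⟨y, Opens.mem_top y⟩ = (q * _) • _
    rw [h1, mul_smul]
    rfl
  rw [key]
  exact hB.comp (Units.mulRight_bijective hG.unit)

/-- the coefficient of an element of `S_y⁻¹ L_y` with respect to `s_y` -/
noncomputable def coefEquiv (s : Γ(merMod L, ⊤))
    (hbij : ∀ y : X, Function.Bijective (fun q : KStalk X y => q • s.1 ⟨y, Opens.mem_top y⟩))
    (y : X) : MStalk L y ≃ₗ[KStalk X y] KStalk X y :=
  (LinearEquiv.ofBijective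
    (LinearMap.toSpanSingleton (KStalk X y) (MStalk L y) (s.1 ⟨y, Opens.mem_top y⟩)) (hbij y)).symm

theorem coefEquiv_smul (s : Γ(merMod L, ⊤))
    (hbij : ∀ y : X, Function.Bijective (fun q : KStalk X y => q • s.1 ⟨y, Opens.mem_top y⟩))
    (y : X) (t : MStalk L y) : coefEquiv s hbij y t • s.1 ⟨y, Opens.mem_top y⟩ = t :=
  (LinearEquiv.ofBijective
    (LinearMap.toSpanSingleton (KStalk X y) (MStalk L y) (s.1 ⟨y, Opens.mem_top y⟩))
      (hbij y)).apply_symm_apply t

theorem coefEquiv_eq (s : Γ(merMod L, ⊤))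
    (hbij : ∀ y : X, Function.Bijective (fun q : KStalk X y => q • s.1 ⟨y, Opens.mem_top y⟩))
    (y : X) (t : MStalk L y) (q : KStalk X y) (h : q • s.1 ⟨y, Opens.mem_top y⟩ = t) :
    coefEquiv s hbij y t = q :=
  (hbij y).1 ((coefEquiv_smul s hbij y t).trans h.symm)

/-- the class of the coefficient of a meromorphic section with respect to a generator does not depend
on the generator -/
theorem mk_eq_of_smul_eq {y : X} (e e' : L.presheaf.stalk y)
    (he : Function.Bijective fun a : X.presheaf.stalk y => a • e)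
    (he' : Function.Bijective fun a : X.presheaf.stalk y => a • e')
    (g g' : (KStalk X y)ˣ)
    (h : (g : KStalk X y) • (LocalizedModule.mk e 1 : MStalk L y) =
      (g' : KStalk X y) • (LocalizedModule.mk e' 1 : MStalk L y)) :
    (QuotientGroup.mk g : Germ X y) = QuotientGroup.mk g' := by
  obtain ⟨u, hu⟩ := he.2 e'
  obtain ⟨d, hd⟩ := he'.2 e
  have hdu : d * u = 1 := by
    apply he.1
    change (d * u) • e = (1 : X.presheaf.stalk y) • e
    rw [mul_smul, one_smul]
    change d • (u • e) = e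
    rw [show u • e = e' from hu]
    exact hd
  have huu : IsUnit u := IsUnit.of_mul_eq_one d (by rw [mul_comm]; exact hdu)
  have h2 : (LocalizedModule.mk e' 1 : MStalk L y) =
      algebraMap (X.presheaf.stalk y) (KStalk X y) u • (LocalizedModule.mk e 1 : MStalk L y) := by
    rw [← mk_smul_eq]
    exact congrArg (fun m => LocalizedModule.mk m 1) hu.symm
  rw [h2, ← mul_smul] at h
  have h3 : (g : KStalk X y) = g' * algebraMap (X.presheaf.stalk y) (KStalk X y) u :=
    (bijective_smul_mk e he).1 h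
  rw [QuotientGroup.eq]
  refine ⟨huu.unit⁻¹, ?_⟩
  rw [eq_comm, inv_mul_eq_iff_eq_mul, map_inv, eq_mul_inv_iff_mul_eq]
  apply Units.ext
  rw [Units.val_mul, h3]
  rfl

end Groth.Agent.Lib.Helper64.MeroDiv
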