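import Groth.Agent.Lib.Helper64.MeroDiv1
import Groth.Agent.Lib.Helper35.PbTensor

/-!
# The divisor of a regular meromorphic section and `L ≅ O_X(div s)` (helper64)

* `fracUnit`, `HasCharts`, `exists_hasCharts`: the divisor of a regular meromorphic section.
* `toDivMod : L ⟶ O_X(D)`, `isIso_toDivMod`.
* `exists_iso_divMod_of_hasRegularMero`.
-/

set_option autoImplicit false
set_option linter.style.haveILetI false
set_option linter.unusedSectionVars false
universe u

open AlgebraicGeometry CategoryTheory Opposite TopologicalSpace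

namespace Groth.Agent.Lib.Helper64.MeroDiv

open Mero Groth.Agent.Lib.Helper29.QCohLoc Groth.Agent.Lib.Helper65.CurveDiv
open Groth.Agent.Lib.Helper64.MeroInv Groth.Agent.Lib.Lead.Inv
open Groth.Agent.Lib.Helper64.RefS2 Groth.Agent.Lib.Helper64.MeroReg

variable {X : Scheme.{u}} {L : X.Modules}

/-- the unit `r / b` of `K_X(V)` -/
noncomputable def fracUnit {V : X.Opens} (r b : regSub X V) : (Γ(kmod X, V))ˣ :=
  ⟨fracSec r.1 b, fracSec b.1 r, fracSec_mul_swap r b, fracSec_mul_swap b r⟩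

theorem fracUnit_val {V : X.Opens} (r b : regSub X V) (y : V) :
    ((fracUnit r b : (Γ(kmod X, V))ˣ) : Γ(kmod X, V)).1 y =
      LocalizedModule.mk (X.presheaf.germ V y.1 y.2 r.1) (regGerm y b) := rfl

/-- `s` is locally `(r / b) ε` and `D` is locally the class of `r / b` -/
def HasCharts (s : Γ(merMod L, ⊤)) (D : Divisor X) : Prop :=
  ∀ x : X, ∃ (V : X.Opens) (ε : Γ(L, V)) (r b : regSub X V), x ∈ V ∧ IsGen L V ε ∧
    (∀ y : V, s.1 ⟨y.1, Opens.mem_top y.1⟩ =
      LocalizedModule.mk (L.presheaf.germ V y.1 y.2 (r.1 • ε)) (regGerm y b)) ∧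
    ∀ y : V, D.1 y.1 = germOf (fracUnit r b) y

/-- `D` is the divisor of `s` with respect to free generators of the stalks -/
def IsDivOf (s : Γ(merMod L, ⊤)) (D : Divisor X) : Prop :=
  ∀ (y : X) (e : L.presheaf.stalk y) (g : (KStalk X y)ˣ),
    Function.Bijective (fun a : X.presheaf.stalk y => a • e) →
    s.1 ⟨y, Opens.mem_top y⟩ = (g : KStalk X y) • (LocalizedModule.mk e 1 : MStalk L y) →
    D.1 y = QuotientGroup.mk g

theorem chart_unit_smul {V : X.Opens} (ε : Γ(L, V)) (r b : regSub X V) (y : V)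
    (t : MStalk L y.1)
    (ht : t = LocalizedModule.mk (L.presheaf.germ V y.1 y.2 (r.1 • ε)) (regGerm y b)) :
    t = ((unitAt (fracUnit r b) y : (KStalk X y.1)ˣ) : KStalk X y.1) •
      (LocalizedModule.mk (L.presheaf.germ V y.1 y.2 ε) 1 : MStalk L y.1) := by
  rw [ht, chart_eq_smul, unitAt_val, fracUnit_val]

/-- **the divisor of a regular meromorphic section** -/
theorem exists_hasCharts (hL : PicF.IsInvertible L) (s : Γ(merMod L, ⊤))
    (hs : IsRegularMero L s) : ∃ D : Divisor X, HasCharts s D ∧ IsDivOf s D := by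
  have hch : ∀ x : X, ∃ (V : X.Opens) (ε : Γ(L, V)) (r b : regSub X V), x ∈ V ∧ IsGen L V ε ∧
      ∀ y : V, s.1 ⟨y.1, Opens.mem_top y.1⟩ =
        LocalizedModule.mk (L.presheaf.germ V y.1 y.2 (r.1 • ε)) (regGerm y b) := by
    intro x
    obtain ⟨V, ε, r, b, hxV, hε, hr, hb, hval⟩ := exists_chart hL s hs x
    exact ⟨V, ε, ⟨r, hr⟩, ⟨b, hb⟩, hxV, hε, hval⟩
  choose V ε r b hxV hε hval using hch
  let Dfun : ∀ y : X, Germ X y := fun y => germOf (fracUnit (r y) (b y)) ⟨y, hxV y⟩
  -- independence of the chart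
  have key : ∀ (y : X) (e : L.presheaf.stalk y) (g : (KStalk X y)ˣ),
      Function.Bijective (fun a : X.presheaf.stalk y => a • e) →
      s.1 ⟨y, Opens.mem_top y⟩ = (g : KStalk X y) • (LocalizedModule.mk e 1 : MStalk L y) →
      Dfun y = QuotientGroup.mk g := by
    intro y e g he hg
    change QuotientGroup.mk (unitAt (fracUnit (r y) (b y)) ⟨y, hxV y⟩) = _
    apply mk_eq_of_smul_eq (L := L) (L.presheaf.germ (V y) y (hxV y) (ε y)) e
      (bijective_stalk_of_isGen (hε y) y (hxV y)) he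
    rw [← hg]
    exact (chart_unit_smul (ε y) (r y) (b y) ⟨y, hxV y⟩ _ (hval y ⟨y, hxV y⟩)).symm
  have hloc : ∀ (x : X) (y : V x), Dfun y.1 = germOf (fracUnit (r x) (b x)) y := by
    intro x y
    exact key y.1 _ _ (bijective_stalk_of_isGen (hε x) y.1 y.2)
      (chart_unit_smul (ε x) (r x) (b x) y _ (hval x y))
  refine ⟨⟨Dfun, fun x => ⟨V x, hxV x, fracUnit (r x) (b x), fun y => hloc x y⟩⟩, ?_, key⟩
  intro x
  exact ⟨V x, ε x, r x, b x, hxV x, hε x, hval x, fun y => hloc x y⟩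

section morphism

variable (s : Γ(merMod L, ⊤))
  (hbij : ∀ y : X, Function.Bijective (fun q : KStalk X y => q • s.1 ⟨y, Opens.mem_top y⟩))

/-- the coefficients of a section of `L` with respect to `s` -/
noncomputable def coefSec {U : X.Opens} (m : Γ(L, U)) : ∀ y : U, KStalk X y.1 :=
  fun y => coefEquiv s hbij y.1 (LocalizedModule.mk (L.presheaf.germ U y.1 y.2 m) 1)

theorem coefSec_chart {V : X.Opens} (ε : Γ(L, V)) (r b : regSub X V)
    (hval : ∀ y : V, s.1 ⟨y.1, Opens.mem_top y.1⟩ =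
      LocalizedModule.mk (L.presheaf.germ V y.1 y.2 (r.1 • ε)) (regGerm y b))
    {U : X.Opens} (m : Γ(L, U)) (z : X) (hzU : z ∈ U) (hzV : z ∈ V) (c : X.presheaf.stalk z)
    (hc : L.presheaf.germ U z hzU m = c • L.presheaf.germ V z hzV ε) :
    coefSec s hbij m ⟨z, hzU⟩ =
      LocalizedModule.mk (c * X.presheaf.germ V z hzV b.1) (regGerm ⟨z, hzV⟩ r) := by
  apply coefEquiv_eq
  rw [hc]
  exact smul_chart ε r b ⟨z, hzV⟩ _ (hval ⟨z, hzV⟩) c

theorem lmk_mul_swap (z : X) (c : X.presheaf.stalk z) (r b : regStalk X z) :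
    (LocalizedModule.mk (c * (b : X.presheaf.stalk z)) r : KStalk X z) *
      LocalizedModule.mk (r : X.presheaf.stalk z) b =
      algebraMap (X.presheaf.stalk z) (KStalk X z) c := by
  rw [lmk_eq_mk', lmk_eq_mk', ← IsLocalization.mk'_mul, IsLocalization.mk'_eq_iff_eq_mul,
    ← map_mul]
  congr 1
  rw [Submonoid.coe_mul]
  ring

variable (D : Divisor X) (hD : HasCharts s D)

include hD in
theorem coefSec_mem {U : X.Opens} (m : Γ(L, U)) :
    (divLoc X D).pred (coefSec s hbij m) := by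
  constructor
  · intro y
    obtain ⟨V, ε, r, b, hyV, hε, hval, -⟩ := hD y.1
    have hWV : V ⊓ U ≤ V := inf_le_left
    have hWU : V ⊓ U ≤ U := inf_le_right
    let c : Γ(X, V ⊓ U) := hε.coeff hWV (L.presheaf.map (homOfLE hWU).op m)
    have hc : c • L.presheaf.map (homOfLE hWV).op ε = L.presheaf.map (homOfLE hWU).op m :=
      hε.coeff_smul _ _
    refine ⟨V ⊓ U, ⟨hyV, y.2⟩, homOfLE hWU, c * X.presheaf.map (homOfLE hWV).op b.1,
      ⟨X.presheaf.map (homOfLE hWV).op r.1, regSub_res (homOfLE hWV) r.2⟩, fun z => ?_⟩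
    have hcz : L.presheaf.germ U z.1 z.2.2 m =
        X.presheaf.germ (V ⊓ U) z.1 z.2 c • L.presheaf.germ V z.1 z.2.1 ε := by
      rw [← Groth.Agent.Lib.Helper29.QCohLoc.germ_res L U _ hWU z.1 z.2 m, ← hc,
        Groth.Agent.Lib.Helper29.QCohLoc.germ_smul, Groth.Agent.Lib.Helper29.QCohLoc.germ_res]
    have h1 := coefSec_chart s hbij ε r b hval m z.1 z.2.2 z.2.1 _ hcz
    change coefSec s hbij m ⟨z.1, z.2.2⟩ = _
    rw [h1]
    refine mk_congr ?_ ?_
    · rw [map_mul, TopCat.Presheaf.germ_res_apply]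
    · exact (TopCat.Presheaf.germ_res_apply X.presheaf (homOfLE hWV) z.1 z.2 r.1).symm
  · intro z
    obtain ⟨V, ε, r, b, hzV, hε, hval, hDV⟩ := hD z.1
    rw [divCond_iff D (fracUnit r b) ⟨z.1, hzV⟩ (hDV ⟨z.1, hzV⟩), fracUnit_val]
    obtain ⟨c, hc⟩ := (bijective_stalk_of_isGen hε z.1 hzV).2 (L.presheaf.germ U z.1 z.2 m)
    have h1 := coefSec_chart s hbij ε r b hval m z.1 z.2 hzV c hc.symm
    change coefSec s hbij m ⟨z.1, z.2⟩ * _ ∈ _
    rw [h1]
    exact ⟨c, (lmk_mul_swap z.1 c (regGerm ⟨z.1, hzV⟩ r) (regGerm ⟨z.1, hzV⟩ b)).symm⟩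

theorem lmk_one_add {z : X} (m m' : L.presheaf.stalk z) :
    (LocalizedModule.mk (m + m') 1 : MStalk L z) =
      LocalizedModule.mk m 1 + LocalizedModule.mk m' 1 := by
  rw [LocalizedModule.mk_add_mk, one_smul, one_smul, one_mul]

theorem lmk_one_smul {z : X} (a : X.presheaf.stalk z) (m : L.presheaf.stalk z) :
    (LocalizedModule.mk (a • m) 1 : MStalk L z) =
      algebraMap (X.presheaf.stalk z) (KStalk X z) a • (LocalizedModule.mk m 1 : MStalk L z) :=
  mk_smul_eq a m

/-- the map `L → O_X(D)` on sections -/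
noncomputable def toDivModFun (U : X.Opens) : Γ(L, U) →+ Γ(divMod D, U) where
  toFun m := ⟨coefSec s hbij m, coefSec_mem s hbij D hD m⟩
  map_zero' := Subtype.ext <| funext fun y => by
    change coefEquiv s hbij y.1 (LocalizedModule.mk (L.presheaf.germ U y.1 y.2 0) 1) = 0
    rw [map_zero, LocalizedModule.zero_mk, map_zero]
  map_add' m m' := Subtype.ext <| funext fun y => by
    change coefEquiv s hbij y.1 (LocalizedModule.mk (L.presheaf.germ U y.1 y.2 (m + m')) 1) =
      coefEquiv s hbij y.1 (LocalizedModule.mk (L.presheaf.germ U y.1 y.2 m) 1) +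
        coefEquiv s hbij y.1 (LocalizedModule.mk (L.presheaf.germ U y.1 y.2 m') 1)
    rw [map_add, lmk_one_add, map_add]

theorem toDivModFun_apply (U : X.Opens) (m : Γ(L, U)) (y : U) :
    (toDivModFun s hbij D hD U m).1 y =
      coefEquiv s hbij y.1 (LocalizedModule.mk (L.presheaf.germ U y.1 y.2 m) 1) := rfl

/-- the morphism `L ⟶ O_X(D)`, `m ↦ m / s` -/
noncomputable def toDivMod : L ⟶ divMod D :=
  ⟨PresheafOfModules.homMk (M₁ := L.val) (M₂ := (divMod D).val)
    { app := fun U => AddCommGrpCat.ofHom (toDivModFun s hbij D hD U.unop)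
      naturality := fun {U V} i => by
        ext m
        refine Subtype.ext (funext fun x => ?_)
        exact congrArg (coefEquiv s hbij x.1)
          (mk_congr (TopCat.Presheaf.germ_res_apply' L.presheaf i x.1 x.2 m) rfl) }
    (fun U r m => Subtype.ext <| funext fun x =>
      (congrArg (coefEquiv s hbij x.1)
        (mk_congr (Mero.germ_smul L U.unop x.1 x.2 r m) rfl)).trans (by
          rw [lmk_one_smul, map_smul, smul_eq_mul, ← smul_kstalk]
          rfl))⟩

theorem toDivMod_app (U : X.Opens) (m : Γ(L, U)) :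
    ((toDivMod s hbij D hD).app U).hom m = toDivModFun s hbij D hD U m := rfl

include hD in
theorem isIso_toDivMod : IsIso (toDivMod s hbij D hD) := by
  apply Groth.Agent.Lib.Helper35.PbTensor.isIso_of_isGen_map
  intro x
  obtain ⟨V, ε, r, b, hxV, hε, hval, hDV⟩ := hD x
  refine ⟨V, hxV, ε, hε, ?_⟩
  rw [toDivMod_app]
  apply isGen_of_unit D (fracUnit r b) hDV
  apply Subtype.ext
  funext y
  change coefSec s hbij ε y = (fracSec b.1 r).1 y
  have h1 := coefSec_chart s hbij ε r b hval ε y.1 y.2 y.2 1 (one_smul _ _).symm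
  rw [one_mul] at h1
  exact h1

end morphism

/-- **an invertible module with a regular meromorphic section is `O_X(D)`** -/
theorem exists_iso_divMod_of_hasRegularMero (hL : PicF.IsInvertible L) (h : HasRegularMero L) :
    ∃ D : Divisor X, Nonempty (L ≅ divMod D) := by
  obtain ⟨s, hs⟩ := h
  obtain ⟨D, hD, -⟩ := exists_hasCharts hL s hs
  have hbij := bijective_smul_of_isRegularMero hL s hs
  haveI := isIso_toDivMod s hbij D hD
  exact ⟨D, ⟨asIso (toDivMod s hbij D hD)⟩⟩

end Groth.Agent.Lib.Helper64.MeroDiv
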