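import Groth.Agent.Lib.Helper64.MeroDiv2
import Groth.Agent.Lib.Helper64.MeroReg5

/-!
# Locally finite irreducible components (helper64)

* `finite_irreducibleComponents_of_locallyFinite`: a quasi-compact space openly embedded in a space
  with locally finite set of irreducible components has finitely many irreducible components.
* `exists_iso_divMod_of_isReduced_of_locallyFinite`.
-/

set_option autoImplicit false
set_option linter.style.haveILetI false
set_option linter.unusedSectionVars false
universe u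

open AlgebraicGeometry CategoryTheory Opposite TopologicalSpace

namespace Groth.Agent.Lib.Helper64.MeroDiv

theorem finite_irreducibleComponents_of_locallyFinite {X Y : Type*} [TopologicalSpace X]
    [TopologicalSpace Y] (f : Y → X) (hf : Topology.IsOpenEmbedding f) [CompactSpace Y]
    (hX : ∀ x : X, ∃ W : Set X, IsOpen W ∧ x ∈ W ∧
      {Z : Set X | Z ∈ irreducibleComponents X ∧ (Z ∩ W).Nonempty}.Finite) :
    (irreducibleComponents Y).Finite := by
  choose W hWo hxW hWfin using hX
  obtain ⟨t, ht⟩ := isCompact_univ.elim_finite_subcover (fun y : Y => f ⁻¹' (W (f y)))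
    (fun y => (hWo (f y)).preimage hf.continuous) (fun y _ => Set.mem_iUnion.2 ⟨y, hxW (f y)⟩)
  let T : Set (Set X) := ⋃ y ∈ t, {Z : Set X | Z ∈ irreducibleComponents X ∧ (Z ∩ W (f y)).Nonempty}
  have hT : T.Finite := Set.Finite.biUnion t.finite_toSet (fun y _ => hWfin (f y))
  refine (hT.image (fun Z => f ⁻¹' Z)).subset ?_
  intro C hC
  have hCirr : IsIrreducible C := hC.1
  obtain ⟨Z, hZ, hCZ⟩ := exists_mem_irreducibleComponents_subset_of_isIrreducible (f '' C)
    (hCirr.image f hf.continuous.continuousOn)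
  have hCsub : C ⊆ f ⁻¹' Z := fun c hc => hCZ ⟨c, hc, rfl⟩
  have hpre : IsPreirreducible (f ⁻¹' Z) := hZ.1.isPreirreducible.preimage hf
  have hirr : IsIrreducible (f ⁻¹' Z) := ⟨hCirr.nonempty.mono hCsub, hpre⟩
  have hEq : C = f ⁻¹' Z := le_antisymm hCsub (hC.2 hirr hCsub)
  obtain ⟨c, hc⟩ := hCirr.nonempty
  obtain ⟨y, hyt, hcy⟩ : ∃ y ∈ t, c ∈ f ⁻¹' (W (f y)) := by
    have := ht (Set.mem_univ c)
    simpa only [Set.mem_iUnion, exists_prop] using this
  refine ⟨Z, ?_, hEq.symm⟩
  exact Set.mem_biUnion hyt ⟨hZ, ⟨f c, hCZ ⟨c, hc, rfl⟩, hcy⟩⟩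

open Mero Groth.Agent.Lib.Helper64.MeroReg

/-- **case b)**: on a reduced scheme with locally finite set of irreducible components every
invertible module is `O_X(D)` -/
theorem exists_iso_divMod_of_isReduced_of_locallyFinite (X : Scheme.{u}) [IsReduced X]
    (hX : ∀ x : ↥X, ∃ W : X.Opens, x ∈ W ∧
      {Z : Set ↥X | Z ∈ irreducibleComponents ↥X ∧ (Z ∩ (W : Set ↥X)).Nonempty}.Finite)
    (L : X.Modules) (hL : PicF.IsInvertible L) :
    ∃ D : Mero.Divisor X, Nonempty (L ≅ Mero.divMod D) := by
  apply exists_iso_divMod_of_hasRegularMero hL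
  refine hasRegularMero_of_weakAss_generic (fun x hx y hyx => weakAss_generic_of_isReduced x hx y hyx)
    ?_ hL
  intro U hU
  haveI : CompactSpace ↥(U : Scheme.{u}) := isCompact_iff_compactSpace.1 hU
  refine finite_irreducibleComponents_of_locallyFinite (X := ↥X) (Y := ↥(U : Scheme.{u}))
    (fun y => U.ι.base y) U.ι.isOpenEmbedding ?_
  intro x
  obtain ⟨W, hxW, hfin⟩ := hX x
  exact ⟨(W : Set X), W.isOpen, hxW, hfin⟩

end Groth.Agent.Lib.Helper64.MeroDiv
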