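import Groth.Agent.Lib.Helper64.MeroGen1

/-!
# Meromorphic functions on a reduced scheme with finitely many irreducible components (helper64)

`K_X(U)` is the product of the rings `K_{X,x}` over the generic points `x ∈ U` of the irreducible
components.
-/

set_option autoImplicit false
set_option linter.style.haveILetI false
set_option linter.unusedSectionVars false
universe u

open AlgebraicGeometry CategoryTheory TopologicalSpace IsLocalRing

namespace Groth.Agent.Lib.Helper64.MeroGen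

open Groth.Agent.Lib.Helper64.AssReg Groth.Agent.Lib.Helper64.CycLen
open Groth.Agent.Lib.Helper64.StalkSpec Groth.Agent.Lib.Helper64.MeroInv
open Groth.Agent.Lib.Helper29.QCohLoc Groth.Agent.Lib.Helper65.CurveDiv

variable {X : Scheme.{u}}

/-- germs as fractions of sections over an affine open -/
theorem exists_germ_mul_eq {W : X.Opens} (hW : IsAffineOpen W) (x : X) (hx : x ∈ W)
    (u : X.presheaf.stalk x) :
    ∃ c d : Γ(X, W), d ∉ (hW.primeIdealOf ⟨x, hx⟩).asIdeal ∧
      u * X.presheaf.germ W x hx d = X.presheaf.germ W x hx c := by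
  letI : Algebra Γ(X, W) (X.presheaf.stalk x) :=
    TopCat.Presheaf.algebra_section_stalk X.presheaf ⟨x, hx⟩
  haveI : IsLocalization.AtPrime (X.presheaf.stalk x) (hW.primeIdealOf ⟨x, hx⟩).asIdeal :=
    hW.isLocalization_stalk ⟨x, hx⟩
  obtain ⟨⟨c, d⟩, hcd⟩ := IsLocalization.surj (hW.primeIdealOf ⟨x, hx⟩).asIdeal.primeCompl u
  exact ⟨c, d.1, d.2, hcd⟩

/-- germs of nonzerodivisors over an affine open are nonzerodivisors -/
theorem germ_mem_nonZeroDivisors {W : X.Opens} (hW : IsAffineOpen W) {b : Γ(X, W)}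
    (hb : b ∈ nonZeroDivisors Γ(X, W)) (x : X) (hx : x ∈ W) :
    X.presheaf.germ W x hx b ∈ nonZeroDivisors (X.presheaf.stalk x) := by
  letI : Algebra Γ(X, W) (X.presheaf.stalk x) :=
    TopCat.Presheaf.algebra_section_stalk X.presheaf ⟨x, hx⟩
  haveI : IsLocalization.AtPrime (X.presheaf.stalk x) (hW.primeIdealOf ⟨x, hx⟩).asIdeal :=
    hW.isLocalization_stalk ⟨x, hx⟩
  apply IsLocalization.map_nonZeroDivisors_le (hW.primeIdealOf ⟨x, hx⟩).asIdeal.primeCompl
    (X.presheaf.stalk x)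
  exact ⟨b, hb, rfl⟩

/-- in a reduced ring, an element of all minimal primes vanishes -/
theorem eq_zero_of_forall_mem_minimalPrimes {A : Type*} [CommRing A] [IsReduced A] (c : A)
    (h : ∀ p ∈ minimalPrimes A, c ∈ p) : c = 0 := by
  have h1 : c ∈ sInf (minimalPrimes A) := by
    rw [Submodule.mem_sInf]
    exact h
  rw [minimalPrimes, Ideal.sInf_minimalPrimes] at h1
  have h2 : (⊥ : Ideal A).radical = ⊥ := nilradical_eq_zero A
  rw [h2] at h1
  exact h1

variable [IsReduced X]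

/-- **local existence**: over an affine open, any family of germs of meromorphic functions at the
generic points is given by one fraction -/
theorem exists_frac_of_family (hfin : (irreducibleComponents (X : Type u)).Finite) {W : X.Opens}
    (hW : IsAffineOpen W) (t : ∀ x : {x : W // IsGen x.1}, Mero.KStalk X x.1.1) :
    ∃ (a : Γ(X, W)) (b : Mero.regSub X W), ∀ x : {x : W // IsGen x.1},
      t x = LocalizedModule.mk (X.presheaf.germ W x.1.1 x.1.2 a) (Mero.regGerm x.1 b) := by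
  classical
  haveI : Finite ↥(irreducibleComponents (X : Type u)) := hfin.to_subtype
  have hinj : Function.Injective (fun x : {x : W // IsGen x.1} =>
      (⟨closure {x.1.1}, x.2⟩ : ↥(irreducibleComponents (X : Type u)))) := by
    intro x y hxy
    have h1 : closure ({x.1.1} : Set X) = closure {y.1.1} := congrArg Subtype.val hxy
    have h2 : x.1.1 ⤳ y.1.1 := specializes_iff_closure_subset.2 h1.ge
    have h3 : y.1.1 ⤳ x.1.1 := specializes_iff_closure_subset.2 h1.le
    exact Subtype.ext (Subtype.ext (h2.antisymm h3).eq)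
  haveI : Finite {x : W // IsGen x.1} := Finite.of_injective _ hinj
  haveI : Fintype {x : W // IsGen x.1} := Fintype.ofFinite _
  -- the primes
  obtain ⟨P, hP⟩ : ∃ P : {x : W // IsGen x.1} → Ideal Γ(X, W),
      ∀ j, P j = (hW.primeIdealOf ⟨j.1.1, j.1.2⟩).asIdeal := ⟨_, fun _ => rfl⟩
  have hPprime : ∀ j, (P j).IsPrime := fun j => by
    rw [hP]
    exact (hW.primeIdealOf ⟨j.1.1, j.1.2⟩).isPrime
  have hPmin : ∀ j, P j ∈ minimalPrimes Γ(X, W) := fun j => by
    rw [hP]
    exact (isGen_iff_minimalPrimes hW j.1.2).1 j.2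
  have hPall : ∀ p ∈ minimalPrimes Γ(X, W), ∃ j, P j = p := by
    intro p hp
    haveI : p.IsPrime := Ideal.minimalPrimes_isPrime hp
    obtain ⟨x, hxW, hx⟩ := exists_point_of_prime hW p
    have hgen : IsGen x := by
      rw [isGen_iff_minimalPrimes hW hxW, hx]
      exact hp
    exact ⟨⟨⟨x, hxW⟩, hgen⟩, by rw [hP]; exact hx⟩
  have hPne : ∀ i j, i ≠ j → ¬ P i ≤ P j := by
    intro i j hij hle
    apply hij
    have hmin := hPmin j
    rw [minimalPrimes_eq_minimals] at hmin
    have hge : P j ≤ P i := hmin.2 (hPprime i) hle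
    have heq : P i = P j := le_antisymm hle hge
    rw [hP, hP] at heq
    have := primeIdealOf_inj hW i.1.2 j.1.2 heq
    exact Subtype.ext (Subtype.ext this)
  -- the separating elements
  have hg : ∀ i j, ∃ g : Γ(X, W), i ≠ j → (g ∈ P i ∧ g ∉ P j) := by
    intro i j
    by_cases hij : i = j
    · exact ⟨0, fun h => (h hij).elim⟩
    · obtain ⟨g, hg1, hg2⟩ := SetLike.not_le_iff_exists.1 (hPne i j hij)
      exact ⟨g, fun _ => ⟨hg1, hg2⟩⟩
  choose g hg using hg
  obtain ⟨e, he⟩ : ∃ e : {x : W // IsGen x.1} → Γ(X, W),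
      ∀ j, e j = ∏ i ∈ Finset.univ.erase j, g i j := ⟨_, fun _ => rfl⟩
  have he_notMem : ∀ j, e j ∉ P j := by
    intro j hmem
    haveI := hPprime j
    rw [he, Ideal.IsPrime.prod_mem_iff] at hmem
    obtain ⟨i, hi, hmem⟩ := hmem
    exact (hg i j (Finset.ne_of_mem_erase hi)).2 hmem
  have he_mem : ∀ i j, i ≠ j → e j ∈ P i := by
    intro i j hij
    rw [he, ← Finset.mul_prod_erase _ _ (Finset.mem_erase.2 ⟨hij, Finset.mem_univ i⟩)]
    exact Ideal.mul_mem_right _ _ (hg i j hij).1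
  -- numerators and denominators
  have hu : ∀ j : {x : W // IsGen x.1}, ∃ c d : Γ(X, W), d ∉ P j ∧
      ∀ (s : Mero.regStalk X j.1.1) (m : X.presheaf.stalk j.1.1),
        (s : X.presheaf.stalk j.1.1) * X.presheaf.germ W j.1.1 j.1.2 c =
          m * X.presheaf.germ W j.1.1 j.1.2 d →
        t j = LocalizedModule.mk m s := by
    intro j
    obtain ⟨u, hu⟩ := (bijective_algebraMap_KStalk_of_isGen j.2).2 (t j)
    obtain ⟨c, d, hd, hcd⟩ := exists_germ_mul_eq hW j.1.1 j.1.2 u
    refine ⟨c, d, by rw [hP]; exact hd, ?_⟩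
    intro s m hsm
    rw [← hu, algebraMap_eq_lmk, lmk_eq_iff]
    have hdu : IsUnit (X.presheaf.germ W j.1.1 j.1.2 d) := by
      apply (Scheme.mem_basicOpen X d j.1.1 j.1.2).1
      by_contra hc
      exact hd ((mem_primeIdealOf_iff hW j.1.1 j.1.2 d).2 hc)
    apply hdu.mul_right_cancel
    have h1 : ((s : X.presheaf.stalk j.1.1) * u) * X.presheaf.germ W j.1.1 j.1.2 d =
        (s : X.presheaf.stalk j.1.1) * X.presheaf.germ W j.1.1 j.1.2 c := by
      rw [mul_assoc, hcd]
    rw [h1, hsm]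
    simp
  choose c d hd hcd using hu
  obtain ⟨a, ha⟩ : ∃ a : Γ(X, W), a = ∑ j, e j * c j := ⟨_, rfl⟩
  obtain ⟨b, hb⟩ : ∃ b : Γ(X, W), b = ∑ j, e j * d j := ⟨_, rfl⟩
  have hgerm_e : ∀ i j, i ≠ j → X.presheaf.germ W j.1.1 j.1.2 (e i) = 0 := by
    intro i j hij
    apply germ_eq_zero_of_not_isUnit j.2
    intro hunit
    have h1 : j.1.1 ∈ X.basicOpen (e i) := (Scheme.mem_basicOpen X (e i) j.1.1 j.1.2).2 hunit
    have h2 := he_mem j i (Ne.symm hij)
    rw [hP] at h2
    exact (mem_primeIdealOf_iff hW j.1.1 j.1.2 (e i)).1 h2 h1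
  have hgerm_sum : ∀ (v : {x : W // IsGen x.1} → Γ(X, W)) (j : {x : W // IsGen x.1}),
      X.presheaf.germ W j.1.1 j.1.2 (∑ i, e i * v i) =
        X.presheaf.germ W j.1.1 j.1.2 (e j) * X.presheaf.germ W j.1.1 j.1.2 (v j) := by
    intro v j
    rw [map_sum, Finset.sum_eq_single j]
    · rw [map_mul]
    · intro i _ hij
      rw [map_mul, hgerm_e i j hij, zero_mul]
    · intro h
      exact (h (Finset.mem_univ j)).elim
  have hb_notMem : ∀ j, b ∉ P j := by
    intro j hmem
    haveI := hPprime j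
    rw [hb, ← Finset.add_sum_erase _ _ (Finset.mem_univ j)] at hmem
    have h1 : ∑ i ∈ Finset.univ.erase j, e i * d i ∈ P j := by
      apply Ideal.sum_mem
      intro i hi
      exact Ideal.mul_mem_right _ _ (he_mem j i (Finset.ne_of_mem_erase hi).symm)
    have h2 : e j * d j ∈ P j := (Ideal.add_mem_iff_left _ h1).1 hmem
    rcases (hPprime j).mem_or_mem h2 with h3 | h3
    · exact he_notMem j h3
    · exact hd j h3
  have hb_nzd : b ∈ nonZeroDivisors Γ(X, W) := by
    rw [mem_nonZeroDivisors_iff_right]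
    intro c' hc'
    apply eq_zero_of_forall_mem_minimalPrimes
    intro p hp
    obtain ⟨j, rfl⟩ := hPall p hp
    have h1 : c' * b ∈ P j := by
      rw [hc']
      exact Ideal.zero_mem _
    exact ((hPprime j).mem_or_mem h1).resolve_right (hb_notMem j)
  have hb_reg : b ∈ Mero.regSub X W := fun y => germ_mem_nonZeroDivisors hW hb_nzd y.1 y.2
  refine ⟨a, ⟨b, hb_reg⟩, ?_⟩
  intro j
  apply hcd j
  show X.presheaf.germ W j.1.1 j.1.2 b * X.presheaf.germ W j.1.1 j.1.2 (c j) =
    X.presheaf.germ W j.1.1 j.1.2 a * X.presheaf.germ W j.1.1 j.1.2 (d j)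
  rw [ha, hb, hgerm_sum, hgerm_sum]
  ring

/-- two fractions over two opens agreeing at the common generic points agree at every common
point -/
theorem eq_of_forall_isGen {V V' : X.Opens} (a : Γ(X, V)) (b : Mero.regSub X V) (a' : Γ(X, V'))
    (b' : Mero.regSub X V')
    (h : ∀ (x : X) (hx : x ∈ V) (hx' : x ∈ V'), IsGen x →
      (LocalizedModule.mk (X.presheaf.germ V x hx a) (Mero.regGerm ⟨x, hx⟩ b) :
        Mero.KStalk X x) =
      LocalizedModule.mk (X.presheaf.germ V' x hx' a') (Mero.regGerm ⟨x, hx'⟩ b'))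
    (z : X) (hz : z ∈ V) (hz' : z ∈ V') :
    (LocalizedModule.mk (X.presheaf.germ V z hz a) (Mero.regGerm ⟨z, hz⟩ b) :
        Mero.KStalk X z) =
      LocalizedModule.mk (X.presheaf.germ V' z hz' a') (Mero.regGerm ⟨z, hz'⟩ b') := by
  have e1 : ∀ (x : X) (hx : x ∈ V ⊓ V'),
      (LocalizedModule.mk (X.presheaf.germ V x hx.1 a) (Mero.regGerm ⟨x, hx.1⟩ b) :
        Mero.KStalk X x) =
      LocalizedModule.mk
        (X.presheaf.germ (V ⊓ V') x hx (X.presheaf.map (homOfLE inf_le_left).op a))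
        (Mero.regGerm ⟨x, hx⟩ ⟨X.presheaf.map (homOfLE (inf_le_left : V ⊓ V' ≤ V)).op b.1,
          Mero.regSub_res _ b.2⟩) := by
    intro x hx
    exact Mero.mk_congr
      (TopCat.Presheaf.germ_res_apply X.presheaf (homOfLE inf_le_left) x hx a).symm
      (TopCat.Presheaf.germ_res_apply X.presheaf (homOfLE inf_le_left) x hx b.1).symm
  have e2 : ∀ (x : X) (hx : x ∈ V ⊓ V'),
      (LocalizedModule.mk (X.presheaf.germ V' x hx.2 a') (Mero.regGerm ⟨x, hx.2⟩ b') :
        Mero.KStalk X x) =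
      LocalizedModule.mk
        (X.presheaf.germ (V ⊓ V') x hx (X.presheaf.map (homOfLE inf_le_right).op a'))
        (Mero.regGerm ⟨x, hx⟩ ⟨X.presheaf.map (homOfLE (inf_le_right : V ⊓ V' ≤ V')).op b'.1,
          Mero.regSub_res _ b'.2⟩) := by
    intro x hx
    exact Mero.mk_congr
      (TopCat.Presheaf.germ_res_apply X.presheaf (homOfLE inf_le_right) x hx a').symm
      (TopCat.Presheaf.germ_res_apply X.presheaf (homOfLE inf_le_right) x hx b'.1).symm
  rw [e1 z ⟨hz, hz'⟩, e2 z ⟨hz, hz'⟩]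
  apply mk_eq_of_forall_isGen
  intro x hx hgen
  rw [← e1 x hx, ← e2 x hx]
  exact h x hx.1 hx.2 hgen

/-- **meromorphic functions on a reduced scheme with finitely many irreducible components** -/
theorem bijective_evalK (hfin : (irreducibleComponents (X : Type u)).Finite) (U : X.Opens) :
    Function.Bijective (fun s : Γ(Mero.kmod X, U) =>
      fun x : {x : U // closure ({x.1} : Set X) ∈ irreducibleComponents (X : Type u)} =>
        Mero.evalK X U x.1 s) := by
  constructor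
  · intro s s' hss'
    apply Subtype.ext
    funext y
    obtain ⟨V, hyV, i, a, b, hab⟩ := s.2 y
    obtain ⟨V', hyV', i', a', b', hab'⟩ := s'.2 y
    have h1 := hab ⟨y.1, hyV⟩
    have h2 := hab' ⟨y.1, hyV'⟩
    have h3 : s.1 y = LocalizedModule.mk (X.presheaf.germ V y.1 hyV a)
        (Mero.regGerm ⟨y.1, hyV⟩ b) := h1
    have h4 : s'.1 y = LocalizedModule.mk (X.presheaf.germ V' y.1 hyV' a')
        (Mero.regGerm ⟨y.1, hyV'⟩ b') := h2
    rw [h3, h4]
    apply eq_of_forall_isGen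
    intro x hx hx' hgen
    have h5 : s.1 ⟨x, i.le hx⟩ = LocalizedModule.mk (X.presheaf.germ V x hx a)
        (Mero.regGerm ⟨x, hx⟩ b) := hab ⟨x, hx⟩
    have h6 : s'.1 ⟨x, i'.le hx'⟩ = LocalizedModule.mk (X.presheaf.germ V' x hx' a')
        (Mero.regGerm ⟨x, hx'⟩ b') := hab' ⟨x, hx'⟩
    rw [← h5, ← h6]
    exact congrFun hss' ⟨⟨x, i.le hx⟩, hgen⟩
  · intro t
    have hloc : ∀ y : U, ∃ (W : X.Opens) (_ : IsAffineOpen W) (_ : y.1 ∈ W) (hWU : W ≤ U)
        (a : Γ(X, W)) (b : Mero.regSub X W), ∀ (x : X) (hx : x ∈ W) (hgen : IsGen x),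
          t ⟨⟨x, hWU hx⟩, hgen⟩ =
            LocalizedModule.mk (X.presheaf.germ W x hx a) (Mero.regGerm ⟨x, hx⟩ b) := by
      intro y
      obtain ⟨_, ⟨W, hW : IsAffineOpen W, rfl⟩, hyW, hWU⟩ :=
        X.isBasis_affineOpens.exists_subset_of_mem_open y.2 U.isOpen
      have hWU' : W ≤ U := hWU
      obtain ⟨a, b, hab⟩ := exists_frac_of_family hfin hW
        (fun x : {x : W // IsGen x.1} => t ⟨⟨x.1.1, hWU' x.1.2⟩, x.2⟩)
      exact ⟨W, hW, hyW, hWU', a, b, fun x hx hgen => hab ⟨⟨x, hx⟩, hgen⟩⟩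
    choose W hW hyW hWU a b hab using hloc
    obtain ⟨s, hs⟩ : ∃ s : ∀ y : U, Mero.KStalk X y.1, ∀ y, s y =
        LocalizedModule.mk (X.presheaf.germ (W y) y.1 (hyW y) (a y))
          (Mero.regGerm ⟨y.1, hyW y⟩ (b y)) := ⟨_, fun _ => rfl⟩
    have hpred : (Mero.kLoc X).pred s := by
      intro y
      refine ⟨W y, hyW y, homOfLE (hWU y), a y, b y, ?_⟩
      intro z
      show s ⟨z.1, hWU y z.2⟩ = _
      rw [hs]
      apply eq_of_forall_isGen
      intro x hx hx' hgen
      rw [← hab ⟨z.1, hWU y z.2⟩ x hx hgen, ← hab y x hx' hgen]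
    refine ⟨⟨s, hpred⟩, ?_⟩
    funext x
    show s x.1 = t x
    rw [hs]
    exact (hab x.1 x.1.1 (hyW x.1) x.2).symm

end Groth.Agent.Lib.Helper64.MeroGen
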