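import Mathlib
import Groth.Prelude.Def_MeroDiv
import Groth.Agent.Lib.Helper65.CurveDiv
import Groth.Agent.Lib.Lead.Inv2
import Groth.Agent.Lib.Lead.SheafPts

/-!
# The fractional ideal of a divisor is invertible (helper64)

* `exists_toK_eq`: a meromorphic function all of whose values lie in the local rings is a regular
  function.
* `exists_isGen_divMod`: where `D` is the class of `a / b`, the section `b / a` generates `O_X(D)`.
* `isInvertible_divMod`.
-/

set_option autoImplicit false
set_option linter.style.haveILetI false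
set_option linter.unusedSectionVars false
universe u

open AlgebraicGeometry CategoryTheory Opposite TopologicalSpace

namespace Groth.Agent.Lib.Helper64.MeroInv

open Mero Groth.Agent.Lib.Helper65.CurveDiv Groth.Agent.Lib.Lead.SheafGlue

variable {X : Scheme.{u}}

theorem algebraMap_eq_lmk (x : X) (a : X.presheaf.stalk x) :
    algebraMap (X.presheaf.stalk x) (KStalk X x) a = LocalizedModule.mk a 1 := by
  rw [lmk_eq_mk', IsLocalization.mk'_one]

theorem toK_injective (W : X.Opens) : Function.Injective (toK X W) := by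
  intro r r' h
  apply TopCat.Presheaf.section_ext X.sheaf W
  intro y hy
  apply algebraMap_KStalk_injective y
  rw [algebraMap_eq_lmk, algebraMap_eq_lmk]
  exact congrArg (fun t : Γ(kmod X, W) => t.1 ⟨y, hy⟩) h

theorem toK_res {W V : X.Opens} (h : V ≤ W) (r : Γ(X, W)) :
    (kmod X).presheaf.map (homOfLE h).op (toK X W r) =
      toK X V (X.presheaf.map (homOfLE h).op r) := by
  apply Subtype.ext
  funext z
  change (LocalizedModule.mk _ _ : KStalk X z.1) = LocalizedModule.mk _ _
  exact mk_congr (TopCat.Presheaf.germ_res_apply X.presheaf (homOfLE h) z.1 z.2 r).symm rfl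

/-- a meromorphic function all of whose values lie in the local rings is a regular function -/
theorem exists_toK_eq {W : X.Opens} (t : Γ(kmod X, W))
    (h : ∀ y : W, t.1 y ∈ (algebraMap (X.presheaf.stalk y.1) (KStalk X y.1)).range) :
    ∃ r : Γ(X, W), toK X W r = t := by
  have hloc : ∀ y : W, ∃ (V : X.Opens) (hV : V ≤ W) (_ : y.1 ∈ V) (α : Γ(X, V)),
      toK X V α = (kmod X).presheaf.map (homOfLE hV).op t := by
    intro y
    obtain ⟨ay, hay⟩ := h y
    obtain ⟨V, hyV, i, a, b, hab⟩ := t.2 y
    obtain ⟨V', hyV', α, hα⟩ := TopCat.Presheaf.exists_germ_eq X.presheaf ay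
    have h1 : ay * X.presheaf.germ V y.1 hyV b.1 = X.presheaf.germ V y.1 hyV a := by
      apply algebraMap_KStalk_injective
      have hab' := hab ⟨y.1, hyV⟩
      dsimp only at hab'
      rw [map_mul, hay]
      change t.1 y * _ = _
      have : t.1 (i ⟨y.1, hyV⟩) = t.1 y := rfl
      rw [← this, hab', lmk_eq_mk']
      exact IsLocalization.mk'_spec _ _ _
    have hyVV : y.1 ∈ V' ⊓ V := ⟨hyV', hyV⟩
    have h2 : X.presheaf.germ (V' ⊓ V) y.1 hyVV
        (X.presheaf.map (homOfLE (inf_le_left : V' ⊓ V ≤ V')).op α *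
          X.presheaf.map (homOfLE (inf_le_right : V' ⊓ V ≤ V)).op b.1) =
        X.presheaf.germ (V' ⊓ V) y.1 hyVV
          (X.presheaf.map (homOfLE (inf_le_right : V' ⊓ V ≤ V)).op a) := by
      rw [map_mul, TopCat.Presheaf.germ_res_apply, TopCat.Presheaf.germ_res_apply,
        TopCat.Presheaf.germ_res_apply, hα, h1]
    obtain ⟨V'', hyV'', i1, i2, heq⟩ := TopCat.Presheaf.germ_eq X.presheaf y.1 hyVV hyVV _ _ h2
    have hV''V : V'' ≤ V := i1.le.trans inf_le_right
    have hV''V' : V'' ≤ V' := i1.le.trans inf_le_left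
    have hV''W : V'' ≤ W := hV''V.trans i.le
    refine ⟨V'', hV''W, hyV'', X.presheaf.map (homOfLE hV''V').op α, ?_⟩
    apply Subtype.ext
    funext z
    have hab' := hab ⟨z.1, hV''V z.2⟩
    dsimp only at hab'
    change (LocalizedModule.mk _ _ : KStalk X z.1) = t.1 ⟨z.1, hV''W z.2⟩
    have : t.1 (i ⟨z.1, hV''V z.2⟩) = t.1 ⟨z.1, hV''W z.2⟩ := rfl
    rw [← this, hab', lmk_eq_mk', lmk_eq_mk', IsLocalization.mk'_one, eq_comm,
      IsLocalization.mk'_eq_iff_eq_mul, ← map_mul]
    congr 1
    have hz := congrArg (X.presheaf.germ V'' z.1 z.2) heq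
    rw [Subsingleton.elim i2 i1] at hz
    simp only [map_mul, TopCat.Presheaf.germ_res_apply] at hz
    rw [TopCat.Presheaf.germ_res_apply]
    exact hz.symm
  choose V hV hyV α hα using hloc
  obtain ⟨r, hr⟩ := exists_glue_ptsX V hV hyV α (by
    intro x y
    apply toK_injective
    rw [← toK_res, ← toK_res, hα, hα]
    rfl)
  refine ⟨r, ?_⟩
  apply Subtype.ext
  funext y
  have h1 := congrArg (fun s : Γ(kmod X, V y) => s.1 ⟨y.1, hyV y⟩) (hα y)
  have h2 := congrArg (fun s : Γ(kmod X, V y) => s.1 ⟨y.1, hyV y⟩) (toK_res (hV y) r)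
  rw [hr y] at h2
  exact h2.trans h1

end Groth.Agent.Lib.Helper64.MeroInv
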