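import Groth.Agent.Lib.Helper64.MeroInv1

/-!
# The fractional ideal of a divisor is invertible, II (helper64)
-/

set_option autoImplicit false
set_option linter.style.haveILetI false
set_option linter.unusedSectionVars false
universe u

open AlgebraicGeometry CategoryTheory Opposite TopologicalSpace

namespace Groth.Agent.Lib.Helper64.MeroInv

open Mero Groth.Agent.Lib.Helper65.CurveDiv Groth.Agent.Lib.Lead.SheafGlue

variable {X : Scheme.{u}}

/-- the underlying meromorphic function of a section of `O_X(D)` -/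
def toKSec (D : Divisor X) {W : X.Opens} (t : Γ(divMod D, W)) : Γ(kmod X, W) := ⟨t.1, t.2.1⟩

theorem toKSec_apply (D : Divisor X) {W : X.Opens} (t : Γ(divMod D, W)) (y : W) :
    (toKSec D t).1 y = t.1 y := rfl

theorem divCond_of_sec (D : Divisor X) {W : X.Opens} (t : Γ(divMod D, W)) (y : W) :
    DivCond D y.1 (t.1 y) := t.2.2 y

/-- a meromorphic function satisfying the divisor condition is a section of `O_X(D)` -/
def ofKSec (D : Divisor X) {W : X.Opens} (t : Γ(kmod X, W)) (h : ∀ y : W, DivCond D y.1 (t.1 y)) :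
    Γ(divMod D, W) := ⟨t.1, ⟨t.2, h⟩⟩

theorem smul_kstalk (x : X) (r : X.presheaf.stalk x) (t : KStalk X x) :
    r • t = algebraMap (X.presheaf.stalk x) (KStalk X x) r * t := Algebra.smul_def r t

theorem fracSec_apply' {V : X.Opens} (a : Γ(X, V)) (b : regSub X V) (y : V) :
    (fracSec a b).1 y = IsLocalization.mk' (KStalk X y.1) (X.presheaf.germ V y.1 y.2 a)
      (regGerm y b) := by
  rw [fracSec_apply, lmk_eq_mk']

/-- where `D` is the class of `a / b`, the section `b / a` generates `O_X(D)` -/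
theorem exists_isGen_divMod (D : Divisor X) {V : X.Opens} (a b : regSub X V)
    (hD : ∀ y : V, D.1 y.1 = regClass y.1 (regGerm y a) / regClass y.1 (regGerm y b)) :
    ∃ e : Γ(divMod D, V), Groth.Agent.Lib.Lead.Inv.IsGen (divMod D) V e ∧
      toKSec D e = fracSec b.1 a := by
  -- the divisor condition in terms of `a / b`
  have hcond : ∀ (y : V) (t : KStalk X y.1), DivCond D y.1 t ↔
      t * (fracSec a.1 b).1 y ∈ (algebraMap (X.presheaf.stalk y.1) (KStalk X y.1)).range := by
    intro y t
    have hDy : D.1 y.1 = QuotientGroup.mk (regUnit y.1 (regGerm y a) / regUnit y.1 (regGerm y b)) := by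
      rw [hD y, regClass, regClass, QuotientGroup.mk_div]
    have hval : ((regUnit y.1 (regGerm y a) / regUnit y.1 (regGerm y b) : (KStalk X y.1)ˣ) :
        KStalk X y.1) = (fracSec a.1 b).1 y := by
      rw [fracSec_apply', div_eq_mul_inv, Units.val_mul, eq_comm,
        Units.eq_mul_inv_iff_mul_eq]
      simp only [regUnit_val]
      exact IsLocalization.mk'_spec _ _ _
    constructor
    · intro h
      have := h _ hDy
      rwa [hval] at this
    · intro h g hg
      rw [hDy] at hg
      obtain ⟨u, hu⟩ := QuotientGroup.eq.mp hg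
      -- (a/b)⁻¹ * g = algebraMap u
      have hu' : (g : KStalk X y.1) = (fracSec a.1 b).1 y *
          algebraMap (X.presheaf.stalk y.1) (KStalk X y.1) u := by
        have hg' : g = (regUnit y.1 (regGerm y a) / regUnit y.1 (regGerm y b)) *
            Units.map (algebraMap (X.presheaf.stalk y.1) (KStalk X y.1)).toMonoidHom u := by
          rw [hu, mul_inv_cancel_left]
        rw [hg', Units.val_mul, hval]
        rfl
      obtain ⟨c, hc⟩ := h
      refine ⟨c * u, ?_⟩
      rw [map_mul, hc, hu', mul_assoc]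
  have hmul : ∀ y : V, (fracSec b.1 a).1 y * (fracSec a.1 b).1 y = 1 := by
    intro y
    exact congrArg (fun s : Γ(kmod X, V) => s.1 y) (fracSec_mul_swap b a)
  have hmul' : ∀ y : V, (fracSec a.1 b).1 y * (fracSec b.1 a).1 y = 1 := by
    intro y
    exact congrArg (fun s : Γ(kmod X, V) => s.1 y) (fracSec_mul_swap a b)
  have he : ∀ y : V, DivCond D y.1 ((fracSec b.1 a).1 y) := by
    intro y
    rw [hcond, hmul y]
    exact ⟨1, map_one _⟩
  refine ⟨ofKSec D (fracSec b.1 a) he, ?_, rfl⟩
  intro W hW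
  constructor
  · intro r r' hrr
    apply TopCat.Presheaf.section_ext X.sheaf W
    intro y hy
    apply algebraMap_KStalk_injective y
    have h1 := congrArg (fun s : Γ(divMod D, W) => s.1 ⟨y, hy⟩) hrr
    change X.presheaf.germ W y hy r • (fracSec b.1 a).1 ⟨y, hW hy⟩ =
      X.presheaf.germ W y hy r' • (fracSec b.1 a).1 ⟨y, hW hy⟩ at h1
    rw [smul_kstalk, smul_kstalk] at h1
    have h2 := congrArg (· * (fracSec a.1 b).1 ⟨y, hW hy⟩) h1
    simp only [mul_assoc, hmul ⟨y, hW hy⟩, mul_one] at h2
    exact h2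
  · intro t
    -- τ = t * (a / b)
    let τ : Γ(kmod X, W) := toKSec D t * (kmod X).presheaf.map (homOfLE hW).op (fracSec a.1 b)
    have hτ : ∀ y : W, τ.1 y ∈ (algebraMap (X.presheaf.stalk y.1) (KStalk X y.1)).range := by
      intro y
      exact (hcond ⟨y.1, hW y.2⟩ (t.1 y)).1 (t.2.2 y)
    obtain ⟨r, hr⟩ := exists_toK_eq τ hτ
    refine ⟨r, ?_⟩
    apply Subtype.ext
    funext y
    change X.presheaf.germ W y.1 y.2 r • (fracSec b.1 a).1 ⟨y.1, hW y.2⟩ = t.1 y
    have h1 := congrArg (fun s : Γ(kmod X, W) => s.1 y) hr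
    change (LocalizedModule.mk _ _ : KStalk X y.1) = t.1 y * (fracSec a.1 b).1 ⟨y.1, hW y.2⟩ at h1
    rw [smul_kstalk, algebraMap_eq_lmk, h1, mul_assoc, hmul' ⟨y.1, hW y.2⟩, mul_one]

/-- **the fractional ideal of a divisor is an invertible module** -/
theorem isInvertible_divMod (D : Divisor X) : PicF.IsInvertible (divMod D) := by
  rw [Groth.Agent.Lib.Lead.Inv.isInvertible_iff_exists_isGen]
  intro x
  obtain ⟨V, hxV, -, a, b, hab⟩ := local_structure D x ⊤ trivial
  obtain ⟨e, he, -⟩ := exists_isGen_divMod D a b hab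
  exact ⟨V, hxV, e, he⟩

end Groth.Agent.Lib.Helper64.MeroInv
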