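import Groth.Agent.Lib.Helper64.MeroInv2
import Groth.Agent.Lib.Lead.TensorMapMono

/-!
# Invertible fractional ideals (helper64)

A sub-`O_X`-module `J` of `K_X` is invertible iff locally `J = O · f` for a unit `f` of `K_X`.
-/

set_option autoImplicit false
set_option linter.style.haveILetI false
set_option linter.unusedSectionVars false
universe u

open AlgebraicGeometry CategoryTheory Opposite TopologicalSpace

namespace Groth.Agent.Lib.Helper64.MeroInv

open Mero Groth.Agent.Lib.Helper65.CurveDiv Groth.Agent.Lib.Lead.SheafGlue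
open Groth.Agent.Lib.Lead.Inv

variable {X : Scheme.{u}}

theorem kmod_smul_eq {V : X.Opens} (r : Γ(X, V)) (t : Γ(kmod X, V)) : r • t = toK X V r * t := by
  apply Subtype.ext
  funext y
  change X.presheaf.germ V y.1 y.2 r • t.1 y = (LocalizedModule.mk _ _ : KStalk X y.1) * t.1 y
  rw [smul_kstalk, algebraMap_eq_lmk]

theorem isUnit_res {U V : X.Opens} (h : V ≤ U) (f : (Γ(kmod X, U))ˣ) :
    IsUnit ((kmod X).presheaf.map (homOfLE h).op (f : Γ(kmod X, U))) :=
  f.isUnit.map ((kring X).obj.map (homOfLE h).op).hom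

theorem fracSec_res {V W : X.Opens} (h : W ≤ V) (a : Γ(X, V)) (b : regSub X V) :
    (kmod X).presheaf.map (homOfLE h).op (fracSec a b) =
      fracSec (X.presheaf.map (homOfLE h).op a)
        ⟨X.presheaf.map (homOfLE h).op b.1, regSub_res _ b.2⟩ := by
  apply Subtype.ext
  funext y
  change (LocalizedModule.mk _ _ : KStalk X y.1) = LocalizedModule.mk _ _
  exact mk_congr (TopCat.Presheaf.germ_res_apply X.presheaf (homOfLE h) y.1 y.2 a).symm
    (TopCat.Presheaf.germ_res_apply X.presheaf (homOfLE h) y.1 y.2 b.1).symm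

theorem toK_mul_fracSec {V : X.Opens} (r a : Γ(X, V)) (b : regSub X V) :
    toK X V r * fracSec a b = fracSec (r * a) b := by
  apply Subtype.ext
  funext y
  change (LocalizedModule.mk _ _ : KStalk X y.1) * (LocalizedModule.mk _ _ : KStalk X y.1) =
    LocalizedModule.mk _ _
  rw [lmk_eq_mk', lmk_eq_mk', lmk_eq_mk', ← IsLocalization.mk'_mul, map_mul]
  congr 1
  exact one_mul _

theorem fracSec_zero {V : X.Opens} (b : regSub X V) : fracSec (0 : Γ(X, V)) b = 0 := by
  apply Subtype.ext
  funext y
  change (LocalizedModule.mk _ _ : KStalk X y.1) = 0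
  rw [map_zero, LocalizedModule.zero_mk]

theorem kmod_res_self {U : X.Opens} (t : Γ(kmod X, U)) :
    (kmod X).presheaf.map (homOfLE (le_refl U)).op t = t := by
  apply Subtype.ext
  funext y
  rfl

/-- the numerator of a locally free generator of a fractional ideal is regular -/
theorem mem_regSub_of_injective {V : X.Opens} (a : Γ(X, V))
    (h : ∀ (W : X.Opens) (hW : W ≤ V) (r : Γ(X, W)),
      r * X.presheaf.map (homOfLE hW).op a = 0 → r = 0) : a ∈ regSub X V := by
  intro y
  rw [mem_nonZeroDivisors_iff_right]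
  intro c hc
  obtain ⟨W, hyW, γ, rfl⟩ := TopCat.Presheaf.exists_germ_eq X.presheaf c
  have hyWV : y.1 ∈ W ⊓ V := ⟨hyW, y.2⟩
  have h1 : X.presheaf.germ (W ⊓ V) y.1 hyWV
      (X.presheaf.map (homOfLE (inf_le_left : W ⊓ V ≤ W)).op γ *
        X.presheaf.map (homOfLE (inf_le_right : W ⊓ V ≤ V)).op a) =
      X.presheaf.germ (W ⊓ V) y.1 hyWV 0 := by
    rw [map_mul, TopCat.Presheaf.germ_res_apply, TopCat.Presheaf.germ_res_apply, hc, map_zero]
  obtain ⟨W', hyW', i1, i2, heq⟩ := TopCat.Presheaf.germ_eq X.presheaf y.1 hyWV hyWV _ _ h1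
  rw [map_zero, map_mul] at heq
  have hW'V : W' ≤ V := i1.le.trans inf_le_right
  have hW'W : W' ≤ W := i1.le.trans inf_le_left
  have h2 := h W' hW'V (X.presheaf.map (homOfLE hW'W).op γ) (by
    rw [← heq]
    congr 1
    · rw [← CommRingCat.comp_apply, ← Functor.map_comp]; rfl
    · rw [← CommRingCat.comp_apply, ← Functor.map_comp]; rfl)
  rw [← TopCat.Presheaf.germ_res_apply X.presheaf (homOfLE hW'W) y.1 hyW' γ, h2, map_zero]

/-- **invertible fractional ideals are locally generated by a unit of `K_X`** -/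
theorem isInvertible_iff_locally_unit (J : X.Modules) (ι : J ⟶ kmod X) [Mono ι] :
    PicF.IsInvertible J ↔ ∀ x : X, ∃ (U : X.Opens) (_ : x ∈ U) (f : (Γ(kmod X, U))ˣ),
      ∀ (V : X.Opens) (hV : V ≤ U),
        Set.range (ι.app V).hom =
          {t : Γ(kmod X, V) | ∃ r : Γ(X, V),
            t = toK X V r * (kmod X).presheaf.map (homOfLE hV).op (f : Γ(kmod X, U))} := by
  rw [isInvertible_iff_exists_isGen]
  constructor
  · intro h x
    obtain ⟨U, hxU, e, he⟩ := h x
    -- the meromorphic function `f₀ = ι e`, locally `a / b`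
    obtain ⟨V, hxV, i, a, b, hab⟩ := ((ι.app U).hom e).2 ⟨x, hxU⟩
    have hVU : V ≤ U := i.le
    have hf₀ : (kmod X).presheaf.map (homOfLE hVU).op ((ι.app U).hom e) = fracSec a b := by
      apply Subtype.ext
      funext y
      exact hab y
    have ha : a ∈ regSub X V := by
      apply mem_regSub_of_injective
      intro W hW r hr
      have h0 : r • J.presheaf.map (homOfLE (hW.trans hVU)).op e =
          (0 : Γ(X, W)) • J.presheaf.map (homOfLE (hW.trans hVU)).op e := by
        apply app_injective_of_mono ι W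
        have e1 : ∀ c : Γ(X, W), (ι.app W).hom (c • J.presheaf.map (homOfLE (hW.trans hVU)).op e) =
            toK X W c * (kmod X).presheaf.map (homOfLE hW).op (fracSec a b) := by
          intro c
          have := Scheme.Modules.Hom.app_smul ι c (J.presheaf.map (homOfLE (hW.trans hVU)).op e)
          refine this.trans ?_
          rw [kmod_smul_eq]
          congr 1
          exact (app_res ι (hW.trans hVU) e).trans (by
            rw [← Groth.Agent.Lib.Lead.QCohAff.res_res (kmod X) hVU hW, hf₀])
        rw [e1, e1, map_zero, zero_mul, fracSec_res, toK_mul_fracSec, hr, fracSec_zero]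
      exact (he W (hW.trans hVU)).1 h0
    refine ⟨V, hxV, fracUnit ⟨a, ha⟩ b, ?_⟩
    intro W hW
    have e1 : ∀ c : Γ(X, W), (ι.app W).hom (c • J.presheaf.map (homOfLE (hW.trans hVU)).op e) =
        toK X W c * (kmod X).presheaf.map (homOfLE hW).op (fracSec a b) := by
      intro c
      have := Scheme.Modules.Hom.app_smul ι c (J.presheaf.map (homOfLE (hW.trans hVU)).op e)
      refine this.trans ?_
      rw [kmod_smul_eq]
      congr 1
      exact (app_res ι (hW.trans hVU) e).trans (by
        rw [← Groth.Agent.Lib.Lead.QCohAff.res_res (kmod X) hVU hW, hf₀])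
    ext t
    constructor
    · rintro ⟨m, rfl⟩
      obtain ⟨c, rfl⟩ := (he W (hW.trans hVU)).2 m
      exact ⟨c, e1 c⟩
    · rintro ⟨c, rfl⟩
      exact ⟨_, e1 c⟩
  · intro h x
    obtain ⟨U, hxU, f, hf⟩ := h x
    have hfU : (f : Γ(kmod X, U)) ∈ Set.range (ι.app U).hom := by
      rw [hf U le_rfl]
      refine ⟨1, ?_⟩
      rw [map_one, one_mul, kmod_res_self]
    obtain ⟨e, he⟩ := hfU
    refine ⟨U, hxU, e, ?_⟩
    intro W hW
    have e1 : ∀ c : Γ(X, W), (ι.app W).hom (c • J.presheaf.map (homOfLE hW).op e) =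
        toK X W c * (kmod X).presheaf.map (homOfLE hW).op (f : Γ(kmod X, U)) := by
      intro c
      have := Scheme.Modules.Hom.app_smul ι c (J.presheaf.map (homOfLE hW).op e)
      refine this.trans ?_
      rw [kmod_smul_eq]
      congr 1
      have := app_res ι hW e
      exact this.trans (by rw [he])
    constructor
    · intro c c' hcc
      have h1 := congrArg (ι.app W).hom hcc
      rw [e1, e1] at h1
      have h2 := (isUnit_res hW f).mul_left_injective h1
      exact toK_injective W h2
    · intro m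
      have hm : (ι.app W).hom m ∈ Set.range (ι.app W).hom := ⟨m, rfl⟩
      rw [hf W hW] at hm
      obtain ⟨c, hc⟩ := hm
      refine ⟨c, ?_⟩
      apply app_injective_of_mono ι W
      rw [e1, hc]

end Groth.Agent.Lib.Helper64.MeroInv
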