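import Groth.Agent.Lib.Helper64.MeroInv4
import Groth.Agent.Lib.Helper35.PbTensor

/-!
# The multiplication `O_X(D) ⊗ O_X(E) ≅ O_X(D E)` (helper64)
-/

set_option autoImplicit false
set_option linter.style.haveILetI false
set_option linter.unusedSectionVars false
universe u

open AlgebraicGeometry CategoryTheory Opposite TopologicalSpace

namespace Groth.Agent.Lib.Helper64.MeroInv

open Mero Groth.Agent.Lib.Helper65.CurveDiv Groth.Agent.Lib.Lead.SheafGlue
open Groth.Agent.Lib.Lead.Inv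

variable {X : Scheme.{u}}

/-- the multiplication as a bilinear map on sections -/
noncomputable def mulBil (D E : Divisor X) (U : X.Opens) :
    Γ(divMod D, U) →ₗ[Γ(X, U)] Γ(divMod E, U) →ₗ[Γ(X, U)] Γ(divMod (D * E), U) :=
  LinearMap.mk₂ Γ(X, U) (mulSec D E)
    (fun t₁ t₂ t' => Subtype.ext (funext fun y => add_mul _ _ _))
    (fun r t t' => Subtype.ext (funext fun y => smul_mul_assoc _ _ _))
    (fun t t₁ t₂ => Subtype.ext (funext fun y => mul_add _ _ _))
    (fun r t t' => Subtype.ext (funext fun y => mul_smul_comm _ _ _))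

theorem mulBil_apply (D E : Divisor X) (U : X.Opens) (t : Γ(divMod D, U)) (t' : Γ(divMod E, U)) :
    mulBil D E U t t' = mulSec D E t t' := rfl

/-- the multiplication morphism -/
noncomputable def mulHomDiv (D E : Divisor X) :
    CohB1.tensorMod (divMod D) (divMod E) ⟶ divMod (D * E) :=
  tensorLift (divMod D) (divMod E) (divMod (D * E)) (mulBil D E) (fun _ _ _ => rfl)

theorem mulHomDiv_tmul (D E : Divisor X) {W : X.Opens} (t : Γ(divMod D, W)) (t' : Γ(divMod E, W)) :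
    ((mulHomDiv D E).app W).hom (tmul (divMod D) (divMod E) t t') = mulSec D E t t' :=
  tensorLift_tmul (divMod D) (divMod E) (divMod (D * E)) (mulBil D E) (fun _ _ _ => rfl) t t'

theorem isIso_mulHomDiv (D E : Divisor X) : IsIso (mulHomDiv D E) := by
  apply Groth.Agent.Lib.Helper35.PbTensor.isIso_of_isGen_map
  intro x
  obtain ⟨U₁, hxU₁, f₁, hf₁⟩ := D.2 x
  obtain ⟨U₂, hxU₂, f₂, hf₂⟩ := E.2 x
  have hD : ∀ y : (U₁ ⊓ U₂ : X.Opens), D.1 y.1 = germOf (resUnit inf_le_left f₁) y := fun y => by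
    rw [germOf_resUnit]; exact hf₁ ⟨y.1, y.2.1⟩
  have hE : ∀ y : (U₁ ⊓ U₂ : X.Opens), E.1 y.1 = germOf (resUnit inf_le_right f₂) y := fun y => by
    rw [germOf_resUnit]; exact hf₂ ⟨y.1, y.2.2⟩
  have hDE : ∀ y : (U₁ ⊓ U₂ : X.Opens), (D * E).1 y.1 =
      germOf (resUnit inf_le_left f₁ * resUnit inf_le_right f₂) y := fun y => by
    rw [divisor_mul_apply, germOf_mul, hD y, hE y]
  refine ⟨U₁ ⊓ U₂, ⟨hxU₁, hxU₂⟩, tmul _ _ (genOfUnit D _ hD) (genOfUnit E _ hE),
    isGen_tmul (isGen_genOfUnit D _ hD) (isGen_genOfUnit E _ hE), ?_⟩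
  rw [mulHomDiv_tmul]
  apply isGen_of_unit (D * E) _ hDE
  apply Subtype.ext
  funext y
  change ((resUnit inf_le_left f₁)⁻¹ : (Γ(kmod X, U₁ ⊓ U₂))ˣ).1.1 y *
    ((resUnit inf_le_right f₂)⁻¹ : (Γ(kmod X, U₁ ⊓ U₂))ˣ).1.1 y = _
  rw [mul_inv, Units.val_mul]
  rfl

end Groth.Agent.Lib.Helper64.MeroInv
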