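import Groth.Agent.Lib.Helper29.WeakAssNZD
import Groth.Agent.Lib.Helper64.MeroInv3

/-!
# Regular germs and nonzerodivisors (helper64)

* `isUnit_of_weakAss`: a nonzerodivisor germ at a weakly associated point is a unit.
* `not_mem_of_minimalPrimes`: a nonzerodivisor of a localization avoids the minimal primes below.
* `primeIdealOf_mem_minimalPrimes`, `finite_weakAss`.
* `mem_regSub_of_affine`, `exists_basicOpen_regSub`, `regStalk_eq_of_weakAss_generic`.
-/

set_option autoImplicit false
set_option linter.style.haveILetI false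
set_option linter.unusedSectionVars false
universe u

open AlgebraicGeometry CategoryTheory Opposite TopologicalSpace

namespace Groth.Agent.Lib.Helper64.MeroReg

open Mero Groth.Agent.Lib.Helper29.QCohLoc Groth.Agent.Lib.Helper65.CurveDiv

variable {X : Scheme.{u}}

/-- a nonzerodivisor germ at a weakly associated point is a unit -/
theorem isUnit_of_weakAss {y : X} (hy : Curv2.IsWeakAssPoint (Coh.structureModule X) y)
    {g : X.presheaf.stalk y} (hg : g ∈ nonZeroDivisors (X.presheaf.stalk y)) : IsUnit g := by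
  by_contra hu
  obtain ⟨m, hm⟩ := hy
  have hm0 : m ≠ 0 := by
    rintro rfl
    have : (1 : X.presheaf.stalk y) ∈ IsLocalRing.maximalIdeal (X.presheaf.stalk y) := by
      rw [← hm]
      apply Ideal.le_radical
      rw [LinearMap.mem_ker, LinearMap.toSpanSingleton_apply, smul_zero]
    exact (Ideal.ne_top_iff_one _).mp (IsLocalRing.maximalIdeal.isMaximal _).ne_top this
  have hgm : g ∈ IsLocalRing.maximalIdeal (X.presheaf.stalk y) :=
    (IsLocalRing.mem_maximalIdeal _).2 hu
  rw [← hm] at hgm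
  obtain ⟨n, hn⟩ := hgm
  rw [LinearMap.mem_ker, LinearMap.toSpanSingleton_apply] at hn
  obtain ⟨c, rfl⟩ := (stalkEquiv X y).surjective m
  rw [← map_smul, smul_eq_mul] at hn
  have h1 : g ^ n * c = 0 := (stalkEquiv X y).injective (hn.trans (map_zero _).symm)
  have h2 : c = 0 := by
    have h3 := (mem_nonZeroDivisors_iff_right.1 (pow_mem hg n)) c (by rw [mul_comm]; exact h1)
    exact h3
  exact hm0 (by rw [h2, map_zero])

/-- a nonzerodivisor of the localization at `p` lies in no minimal prime below `p` -/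
theorem not_mem_of_minimalPrimes {A S : Type*} [CommRing A] [CommRing S] [Algebra A S]
    (p : Ideal A) [p.IsPrime] [IsLocalization.AtPrime S p] {q : Ideal A}
    (hq : q ∈ minimalPrimes A) (hqp : q ≤ p) {a : A}
    (ha : algebraMap A S a ∈ nonZeroDivisors S) : a ∉ q := by
  intro haq
  have hqprime : q.IsPrime := hq.1.1
  have hdisj : Disjoint (p.primeCompl : Set A) (q : Set A) := by
    rw [Set.disjoint_left]
    intro x hx hxq
    exact hx (hqp hxq)
  have hmin : q.map (algebraMap A S) ∈ minimalPrimes S := by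
    have h1 := IsLocalization.minimalPrimes_map p.primeCompl S (⊥ : Ideal A)
    rw [Ideal.map_bot] at h1
    change q.map _ ∈ (⊥ : Ideal S).minimalPrimes
    rw [h1, Set.mem_preimage,
      IsLocalization.under_map_of_isPrime_disjoint p.primeCompl S hqprime hdisj]
    exact hq
  exact notMem_nonZeroDivisors_of_mem_mem_minimalPrimes (Ideal.mem_map_of_mem _ haq) hmin ha

/-- the prime of a point without proper generizations is a minimal prime -/
theorem primeIdealOf_mem_minimalPrimes {U : X.Opens} (hU : IsAffineOpen U) {y : X} (hy : y ∈ U)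
    (hgen : ∀ z : X, z ⤳ y → z = y) :
    (hU.primeIdealOf ⟨y, hy⟩).asIdeal ∈ minimalPrimes Γ(X, U) := by
  refine ⟨⟨(hU.primeIdealOf ⟨y, hy⟩).isPrime, bot_le⟩, ?_⟩
  rintro q ⟨hq, -⟩ hqle
  haveI := hq
  obtain ⟨z, hz, hzq⟩ := exists_point_of_prime hU q
  have hsp : z ⤳ y := specializes_of_primeIdealOf_le hU hy hz (by rw [hzq]; exact hqle)
  have hzy := hgen z hsp
  subst hzy
  rw [← hzq]

/-- finiteness of the weakly associated points in an open with finitely many irreducible
components, when weakly associated points are maximal points -/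
theorem finite_weakAss
    (ha : ∀ x : X, Curv2.IsWeakAssPoint (Coh.structureModule X) x → ∀ y : X, y ⤳ x → y = x)
    (U : X.Opens) (hfin : (irreducibleComponents ↥(U : Scheme.{u})).Finite) :
    {y : X | y ∈ U ∧ Curv2.IsWeakAssPoint (Coh.structureModule X) y}.Finite := by
  let S' : Set ↥(U : Scheme.{u}) :=
    {z | Curv2.IsWeakAssPoint (Coh.structureModule X) (U.ι z)}
  have hS' : S'.Finite := by
    apply Set.Finite.of_finite_image
      (f := fun z : ↥(U : Scheme.{u}) => closure ({z} : Set ↥(U : Scheme.{u})))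
    · apply hfin.subset
      rintro _ ⟨z, hz, rfl⟩
      refine ⟨isIrreducible_singleton.closure, ?_⟩
      intro S hS hle
      obtain ⟨ζ, hζ⟩ := QuasiSober.sober hS.closure isClosed_closure
      have h1 : z ∈ closure ({ζ} : Set ↥(U : Scheme.{u})) := by
        rw [hζ.def]
        exact subset_closure (hle (subset_closure rfl))
      have h2 : ζ ⤳ z := specializes_iff_mem_closure.2 h1
      have h3 : U.ι ζ ⤳ U.ι z := h2.map U.ι.continuous
      have h4 := ha _ hz _ h3
      have h5 : ζ = z := Subtype.ext h4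
      rw [h5] at hζ
      calc S ≤ closure S := subset_closure
        _ = closure {z} := hζ.def.symm
    · intro z _ z' _ h
      simp only at h
      have h1 : z ⤳ z' := specializes_iff_closure_subset.2 (by rw [h])
      have h2 : z' ⤳ z := specializes_iff_closure_subset.2 (by rw [h])
      exact (h1.antisymm h2).eq
  refine (hS'.image U.ι).subset ?_
  rintro y ⟨hy, hw⟩
  exact ⟨⟨y, hy⟩, hw, rfl⟩

/-- regularity may be checked on affine opens -/
theorem mem_regSub_of_affine {V : X.Opens} (a : Γ(X, V))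
    (h : ∀ (W : X.Opens) (hW : W ≤ V), IsAffineOpen W →
      X.presheaf.map (homOfLE hW).op a ∈ nonZeroDivisors Γ(X, W)) : a ∈ regSub X V := by
  intro y
  rw [mem_nonZeroDivisors_iff_right]
  intro c hc
  obtain ⟨W, hyW, γ, rfl⟩ := TopCat.Presheaf.exists_germ_eq X.presheaf c
  have hyWV : y.1 ∈ W ⊓ V := ⟨hyW, y.2⟩
  have h1 : X.presheaf.germ (W ⊓ V) y.1 hyWV
      (X.presheaf.map (homOfLE (inf_le_left : W ⊓ V ≤ W)).op γ *
        X.presheaf.map (homOfLE (inf_le_right : W ⊓ V ≤ V)).op a) =
      X.presheaf.germ (W ⊓ V) y.1 hyWV 0 := by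
    rw [map_mul, TopCat.Presheaf.germ_res_apply, TopCat.Presheaf.germ_res_apply, hc, map_zero]
  obtain ⟨W', hyW', i1, i2, heq⟩ := TopCat.Presheaf.germ_eq X.presheaf y.1 hyWV hyWV _ _ h1
  rw [map_zero, map_mul] at heq
  obtain ⟨W'', hW''aff, hyW'', hW''W'⟩ :=
    (Opens.isBasis_iff_nbhd.1 X.isBasis_affineOpens) hyW'
  have hW''V : W'' ≤ V := hW''W'.trans (i1.le.trans inf_le_right)
  have hW''W : W'' ≤ W := hW''W'.trans (i1.le.trans inf_le_left)
  have h2 := congrArg (X.presheaf.map (homOfLE hW''W').op) heq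
  rw [map_mul, map_zero] at h2
  have h3 : X.presheaf.map (homOfLE hW''W).op γ * X.presheaf.map (homOfLE hW''V).op a = 0 := by
    rw [← h2]
    congr 1
    · rw [← CommRingCat.comp_apply, ← Functor.map_comp, ← CommRingCat.comp_apply,
        ← Functor.map_comp]; rfl
    · rw [← CommRingCat.comp_apply, ← Functor.map_comp, ← CommRingCat.comp_apply,
        ← Functor.map_comp]; rfl
  have h4 := (mem_nonZeroDivisors_iff_right.1 (h W'' hW''V hW''aff)) _ h3
  rw [← TopCat.Presheaf.germ_res_apply X.presheaf (homOfLE hW''W) y.1 hyW'' γ, h4, map_zero]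

/-- spreading out a nonzerodivisor germ to a regular section on a basic open -/
theorem exists_basicOpen_regSub {U : X.Opens} (hU : IsAffineOpen U)
    (hG : {y : X | y ∈ U ∧ Curv2.IsWeakAssPoint (Coh.structureModule X) y}.Finite)
    {x : X} (hx : x ∈ U) (a : Γ(X, U))
    (ha : ∀ y : X, y ∈ U → Curv2.IsWeakAssPoint (Coh.structureModule X) y → y ⤳ x →
      y ∈ X.basicOpen a) :
    ∃ f : Γ(X, U), x ∈ X.basicOpen f ∧
      X.presheaf.map (homOfLE (X.basicOpen_le f)).op a ∈ regSub X (X.basicOpen f) := by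
  classical
  have hex : ∀ y : X, (∃ hy : y ∈ U, ¬ y ⤳ x) → ∃ g : Γ(X, U), ∃ hy : y ∈ U,
      g ∈ (hU.primeIdealOf ⟨y, hy⟩).asIdeal ∧ g ∉ (hU.primeIdealOf ⟨x, hx⟩).asIdeal := by
    rintro y ⟨hy, hyx⟩
    have hnle : ¬ (hU.primeIdealOf ⟨y, hy⟩).asIdeal ≤ (hU.primeIdealOf ⟨x, hx⟩).asIdeal :=
      fun hle => hyx (specializes_of_primeIdealOf_le hU hx hy hle)
    obtain ⟨g, hg1, hg2⟩ := Set.not_subset.1 hnle
    exact ⟨g, hy, hg1, hg2⟩
  let φ : X → Γ(X, U) := fun y =>
    if h : ∃ hy : y ∈ U, ¬ y ⤳ x then (hex y h).choose else 1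
  have hφx : ∀ y, φ y ∉ (hU.primeIdealOf ⟨x, hx⟩).asIdeal := by
    intro y
    by_cases h : ∃ hy : y ∈ U, ¬ y ⤳ x
    · simp only [φ, dif_pos h]
      exact (hex y h).choose_spec.choose_spec.2
    · simp only [φ, dif_neg h]
      exact (Ideal.ne_top_iff_one _).1 (hU.primeIdealOf ⟨x, hx⟩).isPrime.ne_top
  have hφy : ∀ (y : X) (hy : y ∈ U), ¬ y ⤳ x → φ y ∈ (hU.primeIdealOf ⟨y, hy⟩).asIdeal := by
    intro y hy hyx
    have h : ∃ hy : y ∈ U, ¬ y ⤳ x := ⟨hy, hyx⟩
    simp only [φ, dif_pos h]
    exact (hex y h).choose_spec.choose_spec.1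
  let f : Γ(X, U) := ∏ y ∈ hG.toFinset, φ y
  have hfx : f ∉ (hU.primeIdealOf ⟨x, hx⟩).asIdeal := by
    intro hf
    obtain ⟨y, -, hy⟩ := ((hU.primeIdealOf ⟨x, hx⟩).isPrime.prod_mem_iff).1 hf
    exact hφx y hy
  have hxf : x ∈ X.basicOpen f := by
    by_contra hxf
    exact hfx ((mem_primeIdealOf_iff hU x hx f).2 hxf)
  refine ⟨f, hxf, ?_⟩
  apply mem_regSub_of_affine
  intro W hW hWaff
  apply mem_nonZeroDivisors_of_forall_weakAss hWaff
  intro y hyW hwa
  have hyf : y ∈ X.basicOpen f := hW hyW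
  have hyU : y ∈ U := X.basicOpen_le f hyf
  have hyx : y ⤳ x := by
    by_contra hyx
    have hmem : y ∈ hG.toFinset := by
      rw [Set.Finite.mem_toFinset]
      exact ⟨hyU, hwa⟩
    have h1 : f ∈ (hU.primeIdealOf ⟨y, hyU⟩).asIdeal := by
      obtain ⟨c, hc⟩ := Finset.dvd_prod_of_mem φ hmem
      change f = _ at hc
      rw [hc]
      exact Ideal.mul_mem_right _ _ (hφy y hyU hyx)
    exact (mem_primeIdealOf_iff hU y hyU f).1 h1 hyf
  have h2 := ha y hyU hwa hyx
  rw [← CommRingCat.comp_apply, ← Functor.map_comp, Scheme.basicOpen_res]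
  exact ⟨hyW, h2⟩

/-- **germs of regular sections are all nonzerodivisors** when the weakly associated points
are maximal points and quasi-compact opens have finitely many irreducible components -/
theorem regStalk_eq_of_weakAss_generic
    (ha : ∀ x : X, Curv2.IsWeakAssPoint (Coh.structureModule X) x → ∀ y : X, y ⤳ x → y = x)
    (hb : ∀ U : X.Opens, IsCompact (U : Set X) →
      (irreducibleComponents ↥(U : Scheme.{u})).Finite) (x : X) :
    regStalk X x = nonZeroDivisors (X.presheaf.stalk x) := by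
  apply le_antisymm (regStalk_le_nonZeroDivisors x)
  intro g hg
  obtain ⟨W, hxW, γ, rfl⟩ := TopCat.Presheaf.exists_germ_eq X.presheaf g
  obtain ⟨U, hUaff, hxU, hUW⟩ := (Opens.isBasis_iff_nbhd.1 X.isBasis_affineOpens) hxW
  have hUaff' : IsAffineOpen U := hUaff
  let a : Γ(X, U) := X.presheaf.map (homOfLE hUW).op γ
  have hga : X.presheaf.germ U x hxU a = X.presheaf.germ W x hxW γ :=
    TopCat.Presheaf.germ_res_apply X.presheaf (homOfLE hUW) x hxU γ
  have hGfin := finite_weakAss ha U (hb U hUaff'.isCompact)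
  obtain ⟨f, hxf, hreg⟩ := exists_basicOpen_regSub hUaff' hGfin hxU a (by
    intro y hyU hwa hyx
    by_contra hya
    have h1 : a ∈ (hUaff'.primeIdealOf ⟨y, hyU⟩).asIdeal :=
      (mem_primeIdealOf_iff hUaff' y hyU a).2 hya
    let _ := X.presheaf.algebra_section_stalk ⟨x, hxU⟩
    have hloc := hUaff'.isLocalization_stalk ⟨x, hxU⟩
    have hmin := primeIdealOf_mem_minimalPrimes hUaff' hyU (ha y hwa)
    have hle := primeIdealOf_le_of_specializes hUaff' hxU hyU hyx
    have hnz : algebraMap Γ(X, U) (X.presheaf.stalk x) a ∈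
        nonZeroDivisors (X.presheaf.stalk x) := by
      change X.presheaf.germ U x hxU a ∈ _
      rw [hga]
      exact hg
    exact not_mem_of_minimalPrimes (S := X.presheaf.stalk x)
      (hUaff'.primeIdealOf ⟨x, hxU⟩).asIdeal hmin hle hnz h1)
  refine ⟨X.basicOpen f, hxf, _, hreg, ?_⟩
  rw [TopCat.Presheaf.germ_res_apply, hga]

end Groth.Agent.Lib.Helper64.MeroReg
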