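import Groth.Agent.Lib.Helper64.MeroReg1

/-!
# `K_X(U)` as the total ring of fractions of `O_X(U)` on affine opens (helper64)

* `exists_pow_mul_eq_zero`: a section of `K_X` over an affine open vanishing on `D(f)` is killed by
  a power of `f`.
* `exists_denominator`: denominators of a section of `K_X` avoiding a point where nonzerodivisor
  germs are units.
* `isLocalization_kmod`.
-/

set_option autoImplicit false
set_option linter.style.haveILetI false
set_option linter.unusedSectionVars false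
universe u

open AlgebraicGeometry CategoryTheory Opposite TopologicalSpace

namespace Groth.Agent.Lib.Helper64.MeroReg

open Mero Groth.Agent.Lib.Helper29.QCohLoc Groth.Agent.Lib.Helper65.CurveDiv
open Groth.Agent.Lib.Helper64.MeroInv

variable {X : Scheme.{u}}

theorem lmk_eq_zero_iff (z : X) (a : X.presheaf.stalk z) (s : regStalk X z) :
    (LocalizedModule.mk a s : KStalk X z) = 0 ↔ a = 0 := by
  rw [lmk_eq_mk', IsLocalization.mk'_eq_zero_iff]
  constructor
  · rintro ⟨m, hm⟩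
    exact (mem_nonZeroDivisors_iff.1 (regStalk_le_nonZeroDivisors z m.2)).1 a hm
  · rintro rfl
    exact ⟨1, mul_zero _⟩

theorem toK_mul_apply {U : X.Opens} (r : Γ(X, U)) (w : Γ(kmod X, U)) (z : U) :
    (toK X U r * w).1 z = X.presheaf.germ U z.1 z.2 r • w.1 z := by
  rw [← kmod_smul_eq]
  rfl

/-- a section of `K_X` over an affine open which vanishes on `D(f)` is killed by a power of `f` -/
theorem exists_pow_mul_eq_zero {U : X.Opens} (hU : IsAffineOpen U) (w : Γ(kmod X, U))
    (f : Γ(X, U)) (hw : ∀ z : U, z.1 ∈ X.basicOpen f → w.1 z = 0) :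
    ∃ M : ℕ, toK X U (f ^ M) * w = 0 := by
  let p : Set X → Prop := fun S => ∃ M : ℕ, ∀ M' : ℕ, M ≤ M' → ∀ z : U, z.1 ∈ S →
    (toK X U (f ^ M') * w).1 z = 0
  have hp : p (U : Set X) := by
    apply hU.isCompact.induction_on (p := p)
    · exact ⟨0, fun _ _ z hz => absurd hz (Set.notMem_empty _)⟩
    · rintro S T hST ⟨M, hM⟩
      exact ⟨M, fun M' hM' z hz => hM M' hM' z (hST hz)⟩
    · rintro S T ⟨M, hM⟩ ⟨N, hN⟩
      refine ⟨max M N, fun M' hM' z hz => ?_⟩
      rcases hz with hz | hz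
      · exact hM M' ((le_max_left _ _).trans hM') z hz
      · exact hN M' ((le_max_right _ _).trans hM') z hz
    · intro y hy
      obtain ⟨V₀, hyV₀, i, a₀, b₀, hfrac⟩ := w.2 ⟨y, hy⟩
      obtain ⟨g, hgV₀, hyg⟩ := hU.exists_basicOpen_le ⟨y, hyV₀⟩ hy
      have hV : IsAffineOpen (X.basicOpen g) := hU.basicOpen g
      refine ⟨(X.basicOpen g : Set X), mem_nhdsWithin_of_mem_nhds
        ((X.basicOpen g).isOpen.mem_nhds hyg), ?_⟩
      let a₁ : Γ(X, X.basicOpen g) := X.presheaf.map (homOfLE hgV₀).op a₀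
      let f₁ : Γ(X, X.basicOpen g) := X.presheaf.map (homOfLE (X.basicOpen_le g)).op f
      -- `a₁` vanishes on `D(f₁)`
      have hzero : (Coh.structureModule X).presheaf.map (homOfLE (X.basicOpen_le f₁)).op
          (ofSec X a₁) = 0 := by
        rw [ofSec_res]
        change ofSec X _ = ofSec X 0
        congr 1
        apply TopCat.Presheaf.section_ext X.sheaf
        intro z hz
        have hzg : z ∈ X.basicOpen g := X.basicOpen_le f₁ hz
        have hzf : z ∈ X.basicOpen f := by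
          have h1 : X.basicOpen f₁ = X.basicOpen g ⊓ X.basicOpen f :=
            Scheme.basicOpen_res X f (homOfLE (X.basicOpen_le g)).op
          rw [h1] at hz
          exact hz.2
        have hzU : z ∈ U := X.basicOpen_le g hzg
        have h2 := hfrac ⟨z, hgV₀ hzg⟩
        have h3 : w.1 ⟨z, hzU⟩ = 0 := hw ⟨z, hzU⟩ hzf
        have h4 : (LocalizedModule.mk (X.presheaf.germ V₀ z (hgV₀ hzg) a₀)
            (regGerm ⟨z, hgV₀ hzg⟩ b₀) : KStalk X z) = 0 := by
          rw [← h3]
          exact h2.symm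
        rw [lmk_eq_zero_iff] at h4
        have e1 : X.presheaf.germ (X.basicOpen f₁) z hz
            (X.presheaf.map (homOfLE (X.basicOpen_le f₁)).op a₁) = 0 := by
          rw [TopCat.Presheaf.germ_res_apply, TopCat.Presheaf.germ_res_apply]
          exact h4
        exact e1.trans (map_zero _).symm
      obtain ⟨M, hM⟩ := (locAt_structureModule X hV).kill f₁ (ofSec X a₁) hzero
      rw [smul_ofSec] at hM
      have hM' : f₁ ^ M * a₁ = 0 := ofSec_injective X hM
      refine ⟨M, fun M' hMM' z hz => ?_⟩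
      have h2 := hfrac ⟨z.1, hgV₀ hz⟩
      have h2' : w.1 z = LocalizedModule.mk (X.presheaf.germ V₀ z.1 (hgV₀ hz) a₀)
          (regGerm ⟨z.1, hgV₀ hz⟩ b₀) := h2
      rw [toK_mul_apply, h2', LocalizedModule.smul'_mk, lmk_eq_zero_iff, smul_eq_mul]
      have h5 : X.presheaf.germ U z.1 z.2 (f ^ M') * X.presheaf.germ V₀ z.1 (hgV₀ hz) a₀ =
          X.presheaf.germ (X.basicOpen g) z.1 hz (f₁ ^ (M' - M) * (f₁ ^ M * a₁)) := by
        rw [map_mul, map_mul, map_pow, map_pow, map_pow, ← mul_assoc, ← pow_add,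
          Nat.sub_add_cancel hMM']
        rw [TopCat.Presheaf.germ_res_apply, TopCat.Presheaf.germ_res_apply]
      rw [h5, hM', mul_zero, map_zero]
  obtain ⟨M, hM⟩ := hp
  refine ⟨M, ?_⟩
  apply Subtype.ext
  funext z
  exact hM M le_rfl z z.2

theorem germ_of_res_eq {U V₀ : X.Opens} {g : Γ(X, U)} (hgV₀ : X.basicOpen g ≤ V₀)
    (A : Γ(X, U)) (a' : Γ(X, V₀)) (G : Γ(X, U))
    (h : X.presheaf.map (homOfLE (X.basicOpen_le g)).op A =
      X.presheaf.map (homOfLE hgV₀).op a' * X.presheaf.map (homOfLE (X.basicOpen_le g)).op G)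
    (z : X) (hz : z ∈ X.basicOpen g) :
    X.presheaf.germ U z (X.basicOpen_le g hz) A =
      X.presheaf.germ V₀ z (hgV₀ hz) a' * X.presheaf.germ U z (X.basicOpen_le g hz) G := by
  have := congrArg (X.presheaf.germ (X.basicOpen g) z hz) h
  rw [map_mul, TopCat.Presheaf.germ_res_apply, TopCat.Presheaf.germ_res_apply,
    TopCat.Presheaf.germ_res_apply] at this
  exact this

theorem fracSec_self {V : X.Opens} (a : regSub X V) : fracSec a.1 a = 1 := by
  apply Subtype.ext
  funext y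
  change (LocalizedModule.mk _ _ : KStalk X y.1) = 1
  exact mk_self_eq_one (regGerm y a)

/-- a denominator of a section of `K_X` over an affine open, invertible at a point where all
nonzerodivisor germs are units -/
theorem exists_denominator {U : X.Opens} (hU : IsAffineOpen U) (t : Γ(kmod X, U)) {η : X}
    (hη : η ∈ U)
    (hunit : ∀ g : X.presheaf.stalk η, g ∈ nonZeroDivisors (X.presheaf.stalk η) → IsUnit g) :
    ∃ b c : Γ(X, U), η ∈ X.basicOpen b ∧ toK X U b * t = toK X U c := by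
  obtain ⟨V₀, hηV₀, i, a', b', hfrac⟩ := t.2 ⟨η, hη⟩
  obtain ⟨g, hgV₀, hηg⟩ := hU.exists_basicOpen_le ⟨η, hηV₀⟩ hη
  have hloc := hU.isLocalization_basicOpen g
  obtain ⟨⟨A₀, ⟨_, n, rfl⟩⟩, hA₀⟩ := IsLocalization.surj (Submonoid.powers g)
    (X.presheaf.map (homOfLE hgV₀).op a')
  obtain ⟨⟨B₁, ⟨_, m, rfl⟩⟩, hB₁⟩ := IsLocalization.surj (Submonoid.powers g)
    (X.presheaf.map (homOfLE hgV₀).op b'.1)
  simp only at hA₀ hB₁
  have hA₀' : X.presheaf.map (homOfLE hgV₀).op a' *
      X.presheaf.map (homOfLE (X.basicOpen_le g)).op (g ^ n) =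
      X.presheaf.map (homOfLE (X.basicOpen_le g)).op A₀ := hA₀
  have hB₁' : X.presheaf.map (homOfLE hgV₀).op b'.1 *
      X.presheaf.map (homOfLE (X.basicOpen_le g)).op (g ^ m) =
      X.presheaf.map (homOfLE (X.basicOpen_le g)).op B₁ := hB₁
  obtain ⟨N, hN⟩ : ∃ N, N = n + m := ⟨_, rfl⟩
  obtain ⟨A₂, hA₂def⟩ : ∃ A₂ : Γ(X, U), A₂ = A₀ * g ^ m := ⟨_, rfl⟩
  obtain ⟨B₂, hB₂def⟩ : ∃ B₂ : Γ(X, U), B₂ = B₁ * g ^ n := ⟨_, rfl⟩
  have hA₂ : X.presheaf.map (homOfLE (X.basicOpen_le g)).op A₂ =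
      X.presheaf.map (homOfLE hgV₀).op a' *
        X.presheaf.map (homOfLE (X.basicOpen_le g)).op (g ^ N) := by
    rw [hA₂def, hN, map_mul, ← hA₀', pow_add, map_mul, mul_assoc]
  have hB₂ : X.presheaf.map (homOfLE (X.basicOpen_le g)).op B₂ =
      X.presheaf.map (homOfLE hgV₀).op b'.1 *
        X.presheaf.map (homOfLE (X.basicOpen_le g)).op (g ^ N) := by
    rw [hB₂def, hN, map_mul, ← hB₁', pow_add, map_mul, mul_assoc,
      mul_comm ((X.presheaf.map (homOfLE (X.basicOpen_le g)).op) (g ^ m))]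
  -- `B₂ t - A₂` vanishes on `D(g)`
  have hvan : ∀ z : U, z.1 ∈ X.basicOpen g → (toK X U B₂ * t - toK X U A₂).1 z = 0 := by
    intro z hz
    have h2 : t.1 z = LocalizedModule.mk (X.presheaf.germ V₀ z.1 (hgV₀ hz) a')
        (regGerm ⟨z.1, hgV₀ hz⟩ b') := hfrac ⟨z.1, hgV₀ hz⟩
    have hgA := germ_of_res_eq hgV₀ A₂ a' (g ^ N) hA₂ z.1 hz
    have hgB := germ_of_res_eq hgV₀ B₂ b'.1 (g ^ N) hB₂ z.1 hz
    change (toK X U B₂ * t).1 z - (toK X U A₂).1 z = 0
    rw [toK_mul_apply, h2, LocalizedModule.smul'_mk, toK_apply, sub_eq_zero, lmk_eq_mk', lmk_eq_mk',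
      IsLocalization.mk'_eq_iff_eq, smul_eq_mul, hgA, hgB]
    simp only [OneMemClass.coe_one, one_mul]
    congr 1
    change _ * _ * _ = _ * (_ * _)
    ring
  obtain ⟨M, hM⟩ := exists_pow_mul_eq_zero hU (toK X U B₂ * t - toK X U A₂) g hvan
  refine ⟨g ^ M * B₂, g ^ M * A₂, ?_, ?_⟩
  · rw [Scheme.mem_basicOpen X _ η hη, map_mul, map_pow]
    have hgu : IsUnit (X.presheaf.germ U η hη g) := (Scheme.mem_basicOpen X g η hη).1 hηg
    refine (hgu.pow M).mul ?_
    have hB₂η := germ_of_res_eq hgV₀ B₂ b'.1 (g ^ N) hB₂ η hηg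
    rw [hB₂η, map_pow]
    exact (hunit _ (b'.2 ⟨η, hηV₀⟩)).mul (hgu.pow N)
  · have e1 : toK X U (g ^ M * B₂) = toK X U (g ^ M) * toK X U B₂ := map_mul _ _ _
    have e2 : toK X U (g ^ M * A₂) = toK X U (g ^ M) * toK X U A₂ := map_mul _ _ _
    rw [e1, e2, mul_assoc]
    have h1 : toK X U (g ^ M) * (toK X U B₂ * t) - toK X U (g ^ M) * toK X U A₂ = 0 := by
      rw [← mul_sub]
      exact hM
    exact sub_eq_zero.1 h1

/-- a regular element of the ring of an affine open is a regular section -/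
theorem mem_regSub_of_mem_nonZeroDivisors {U : X.Opens} (hU : IsAffineOpen U) {a : Γ(X, U)}
    (ha : a ∈ nonZeroDivisors Γ(X, U)) : a ∈ regSub X U := by
  intro y
  let _ := X.presheaf.algebra_section_stalk y
  have hloc := hU.isLocalization_stalk y
  exact IsLocalization.map_nonZeroDivisors_le (hU.primeIdealOf y).asIdeal.primeCompl
    (X.presheaf.stalk y.1) (Submonoid.mem_map_of_mem _ ha)

/-- **`K_X(U)` is the total ring of fractions of `O_X(U)` for `U` affine** when the weakly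
associated points are maximal points and quasi-compact opens have finitely many irreducible
components -/
theorem isLocalization_kmod
    (ha : ∀ x : X, Curv2.IsWeakAssPoint (Coh.structureModule X) x → ∀ y : X, y ⤳ x → y = x)
    (hb : ∀ U : X.Opens, IsCompact (U : Set X) →
      (irreducibleComponents ↥(U : Scheme.{u})).Finite) (U : X.affineOpens) :
    @IsLocalization Γ(X, U.1) _ (nonZeroDivisors Γ(X, U.1)) Γ(kmod X, U.1) _
      (toK X U.1).toAlgebra := by
  classical
  letI := (toK X U.1).toAlgebra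
  have hU : IsAffineOpen U.1 := U.2
  rw [isLocalization_iff]
  refine ⟨?_, ?_, ?_⟩
  · rintro ⟨a, ha'⟩
    have hreg := mem_regSub_of_mem_nonZeroDivisors hU ha'
    change IsUnit (toK X U.1 a)
    refine ⟨⟨toK X U.1 a, fracSec 1 ⟨a, hreg⟩, ?_, ?_⟩, rfl⟩
    · rw [toK_mul_fracSec, mul_one]
      exact fracSec_self ⟨a, hreg⟩
    · rw [mul_comm, toK_mul_fracSec, mul_one]
      exact fracSec_self ⟨a, hreg⟩
  · intro t
    have hGfin := finite_weakAss ha U.1 (hb U.1 hU.isCompact)
    -- the ideal of denominators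
    let I : Ideal Γ(X, U.1) :=
      { carrier := {b | ∃ c : Γ(X, U.1), toK X U.1 b * t = toK X U.1 c}
        zero_mem' := ⟨0, by rw [map_zero, zero_mul]⟩
        add_mem' := by
          rintro b b' ⟨c, hc⟩ ⟨c', hc'⟩
          exact ⟨c + c', by rw [map_add, add_mul, hc, hc', map_add]⟩
        smul_mem' := by
          rintro r b ⟨c, hc⟩
          exact ⟨r * c, by rw [smul_eq_mul, map_mul, mul_assoc, hc, map_mul]⟩ }
    have hI : ∀ (η : X) (hη : η ∈ U.1), Curv2.IsWeakAssPoint (Coh.structureModule X) η →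
        ¬ I ≤ (hU.primeIdealOf ⟨η, hη⟩).asIdeal := by
      intro η hη hwa hle
      obtain ⟨b, c, hηb, hbc⟩ := exists_denominator hU t hη
        (fun g hg => isUnit_of_weakAss hwa hg)
      have hbI : b ∈ I := ⟨c, hbc⟩
      exact (mem_primeIdealOf_iff hU η hη b).1 (hle hbI) hηb
    -- prime avoidance
    let P : X → Ideal Γ(X, U.1) := fun η =>
      if h : η ∈ U.1 then (hU.primeIdealOf ⟨η, h⟩).asIdeal else ⊤
    have hP : ∀ η (h : η ∈ U.1), P η = (hU.primeIdealOf ⟨η, h⟩).asIdeal := fun η h => dif_pos h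
    have havoid : ¬ ((I : Set Γ(X, U.1)) ⊆ ⋃ η ∈ (hGfin.toFinset : Set X), (P η : Set Γ(X, U.1))) := by
      rcases hGfin.toFinset.eq_empty_or_nonempty with hemp | ⟨η₀, hη₀⟩
      · intro hsub
        have h0 := hsub I.zero_mem
        rw [hemp] at h0
        simp at h0
      · rw [Ideal.subset_union_prime (R := Γ(X, U.1)) (s := hGfin.toFinset) (f := P) η₀ η₀]
        · rintro ⟨η, hηm, hle⟩
          have hη := (Set.Finite.mem_toFinset hGfin).1 hηm
          rw [hP η hη.1] at hle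
          exact hI η hη.1 hη.2 hle
        · intro η hηm _ _
          have hη := (Set.Finite.mem_toFinset hGfin).1 hηm
          rw [hP η hη.1]
          exact (hU.primeIdealOf ⟨η, hη.1⟩).isPrime
    obtain ⟨b, hbI, hbP⟩ := Set.not_subset.1 havoid
    obtain ⟨c, hc⟩ := hbI
    have hbnz : b ∈ nonZeroDivisors Γ(X, U.1) := by
      apply mem_nonZeroDivisors_of_forall_weakAss hU
      intro y hy hwa
      by_contra hyb
      apply hbP
      have hym : y ∈ hGfin.toFinset := (Set.Finite.mem_toFinset hGfin).2 ⟨hy, hwa⟩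
      refine Set.mem_biUnion (x := y) hym ?_
      rw [hP y hy]
      exact (mem_primeIdealOf_iff hU y hy b).2 hyb
    refine ⟨(c, ⟨b, hbnz⟩), ?_⟩
    change t * toK X U.1 b = toK X U.1 c
    rw [mul_comm]
    exact hc
  · intro x y hxy
    exact ⟨1, by rw [toK_injective U.1 hxy]⟩

end Groth.Agent.Lib.Helper64.MeroReg
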