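import Groth.Agent.Lib.Helper64.MeroReg2
import Groth.Agent.Lib.Helper64.RefS2

/-!
# Meromorphic sections of invertible modules: vanishing principle, gluing, prescribed fractions
(helper64)

* `lmkM_eq_zero_iff`, `fracM`.
* `merMod_eq_zero_of_weakAss`: a meromorphic section of an invertible module vanishing at all weakly
  associated points vanishes.
* `exists_glue_merMod`: gluing of meromorphic sections.
* `exists_frac_prescribed`: regular sections `a, b` over an affine open with prescribed quotient at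
  the weakly associated points.
-/

set_option autoImplicit false
set_option linter.style.haveILetI false
set_option linter.unusedSectionVars false
universe u

open AlgebraicGeometry CategoryTheory Opposite TopologicalSpace

namespace Groth.Agent.Lib.Helper64.MeroReg

open Mero Groth.Agent.Lib.Helper29.QCohLoc Groth.Agent.Lib.Helper65.CurveDiv
open Groth.Agent.Lib.Helper64.MeroInv Groth.Agent.Lib.Lead.Inv
open Groth.Agent.Lib.Helper64.RefS2

variable {X : Scheme.{u}} {L : X.Modules}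

theorem lmkM_eq_zero_iff {x : X} (m : L.presheaf.stalk x) (s : regStalk X x) :
    (LocalizedModule.mk m s : MStalk L x) = 0 ↔
      ∃ c : regStalk X x, (c : X.presheaf.stalk x) • m = 0 := by
  rw [← LocalizedModule.zero_mk s, LocalizedModule.mk_eq]
  constructor
  · rintro ⟨u, hu⟩
    refine ⟨u * s, ?_⟩
    rw [smul_zero, smul_zero] at hu
    rw [Submonoid.coe_mul, mul_smul]
    exact hu
  · rintro ⟨c, hc⟩
    refine ⟨c, ?_⟩
    rw [smul_zero, smul_zero]
    change (c : X.presheaf.stalk x) • (s : X.presheaf.stalk x) • m = 0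
    rw [smul_comm, hc, smul_zero]

/-- the meromorphic section `m / b` -/
noncomputable def fracM {V : X.Opens} (m : Γ(L, V)) (b : regSub X V) : Γ(merMod L, V) :=
  ⟨fun y => LocalizedModule.mk (L.presheaf.germ V y.1 y.2 m) (regGerm y b),
    fun y => ⟨V, y.2, 𝟙 _, m, b, fun _ => rfl⟩⟩

theorem fracM_apply {V : X.Opens} (m : Γ(L, V)) (b : regSub X V) (y : V) :
    (fracM m b).1 y = LocalizedModule.mk (L.presheaf.germ V y.1 y.2 m) (regGerm y b) := rfl

/-- a meromorphic section of an invertible module vanishing at all weakly associated points of the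
structure sheaf vanishes -/
theorem merMod_eq_zero_of_weakAss (hL : PicF.IsInvertible L) {W : X.Opens} (t : Γ(merMod L, W))
    (h : ∀ η : W, Curv2.IsWeakAssPoint (Coh.structureModule X) η.1 → t.1 η = 0) (z : W) :
    t.1 z = 0 := by
  obtain ⟨V₀, hzV₀, i, m, b, hfrac⟩ := t.2 z
  obtain ⟨U₁, hzU₁, ε, hε⟩ := (isInvertible_iff_exists_isGen.1 hL) z.1
  obtain ⟨V, hVaff, hzV, hVle⟩ := (Opens.isBasis_iff_nbhd.1 X.isBasis_affineOpens)
    (show z.1 ∈ V₀ ⊓ U₁ from ⟨hzV₀, hzU₁⟩)
  have hVaff' : IsAffineOpen V := hVaff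
  have hVV₀ : V ≤ V₀ := hVle.trans inf_le_left
  have hVU₁ : V ≤ U₁ := hVle.trans inf_le_right
  have hε' : IsGen L V (L.presheaf.map (homOfLE hVU₁).op ε) := hε.res hVU₁
  let r : Γ(X, V) := hε.coeff hVU₁ (L.presheaf.map (homOfLE hVV₀).op m)
  have hr : r • L.presheaf.map (homOfLE hVU₁).op ε = L.presheaf.map (homOfLE hVV₀).op m :=
    hε.coeff_smul _ _
  have hr0 : r = 0 := by
    by_contra hne
    obtain ⟨y, hy, hwa, hgy⟩ := exists_isWeakAssPoint_of_ne_zero (Coh.structureModule X) hVaff'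
      (locAt_structureModule X hVaff') (ofSec X r) (fun h0 => hne (ofSec_injective X h0))
    apply hgy
    rw [germ_ofSec]
    have hyW : y ∈ W := i.le (hVV₀ hy)
    have h1 := h ⟨y, hyW⟩ hwa
    have h2 : t.1 ⟨y, hyW⟩ = LocalizedModule.mk (L.presheaf.germ V₀ y (hVV₀ hy) m)
        (regGerm ⟨y, hVV₀ hy⟩ b) := hfrac ⟨y, hVV₀ hy⟩
    obtain ⟨c, hc⟩ := (lmkM_eq_zero_iff _ _).1 (h2.symm.trans h1)
    have h3 : L.presheaf.germ V₀ y (hVV₀ hy) m =
        X.presheaf.germ V y hy r • L.presheaf.germ V y hy (L.presheaf.map (homOfLE hVU₁).op ε) := by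
      rw [← Groth.Agent.Lib.Helper29.QCohLoc.germ_smul, hr,
        Groth.Agent.Lib.Helper29.QCohLoc.germ_res]
    rw [h3, ← mul_smul] at hc
    have h4 : (c : X.presheaf.stalk y) * X.presheaf.germ V y hy r = 0 :=
      (bijective_stalk_of_isGen hε' y hy).1 (hc.trans (zero_smul _ _).symm)
    have h5 : X.presheaf.germ V y hy r = 0 :=
      (mem_nonZeroDivisors_iff.1 (regStalk_le_nonZeroDivisors y c.2)).1 _ h4
    rw [h5, zero_smul]
  have hm0 : L.presheaf.map (homOfLE hVV₀).op m = 0 := by rw [← hr, hr0, zero_smul]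
  have h5 : t.1 z = LocalizedModule.mk (L.presheaf.germ V₀ z.1 hzV₀ m)
      (regGerm ⟨z.1, hzV₀⟩ b) := hfrac ⟨z.1, hzV₀⟩
  rw [h5, ← Groth.Agent.Lib.Helper29.QCohLoc.germ_res L V₀ V hVV₀ z.1 hzV m, hm0, map_zero,
    LocalizedModule.zero_mk]

/-- gluing of meromorphic sections -/
theorem exists_glue_merMod (U : X → X.Opens) (hU : ∀ x, x ∈ U x) (σ : ∀ x, Γ(merMod L, U x))
    (hσ : ∀ (x y z : X) (hzx : z ∈ U x) (hzy : z ∈ U y),
      (σ x).1 ⟨z, hzx⟩ = (σ y).1 ⟨z, hzy⟩) :
    ∃ s : Γ(merMod L, ⊤), ∀ (x z : X) (hz : z ∈ U x),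
      s.1 ⟨z, Opens.mem_top z⟩ = (σ x).1 ⟨z, hz⟩ := by
  refine ⟨⟨fun z => (σ z.1).1 ⟨z.1, hU z.1⟩, ?_⟩, fun x z hz => hσ z x z (hU z) hz⟩
  intro z
  obtain ⟨V, hzV, i, m, b, hfrac⟩ := (σ z.1).2 ⟨z.1, hU z.1⟩
  refine ⟨V, hzV, homOfLE le_top, m, b, fun y => ?_⟩
  have h1 := hfrac y
  exact (hσ y.1 z.1 y.1 (hU y.1) (i.le y.2)).trans h1

/-- the germ at a maximal point of an element of its prime is nilpotent -/
theorem isNilpotent_germ_of_mem {V : X.Opens} (hV : IsAffineOpen V) {η : X} (hη : η ∈ V)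
    (hgen : ∀ z : X, z ⤳ η → z = η) {u : Γ(X, V)}
    (hu : u ∈ (hV.primeIdealOf ⟨η, hη⟩).asIdeal) : IsNilpotent (X.presheaf.germ V η hη u) := by
  let _ := X.presheaf.algebra_section_stalk ⟨η, hη⟩
  have hloc := hV.isLocalization_stalk ⟨η, hη⟩
  have hmin := primeIdealOf_mem_minimalPrimes hV hη hgen
  have hrad := IsLocalization.AtPrime.radical_map_of_mem_minimalPrimes
    (A := X.presheaf.stalk η) (hV.primeIdealOf ⟨η, hη⟩).asIdeal ⊥ hmin
  have h1 : algebraMap Γ(X, V) (X.presheaf.stalk η) u ∈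
      ((⊥ : Ideal Γ(X, V)).map (algebraMap Γ(X, V) (X.presheaf.stalk η))).radical := by
    rw [hrad]
    exact Ideal.mem_map_of_mem _ hu
  rw [Ideal.map_bot] at h1
  obtain ⟨n, hn⟩ := h1
  exact ⟨n, hn⟩

/-- regular sections `a, b` over an affine open with prescribed quotient at the weakly associated
points -/
theorem exists_frac_prescribed {V : X.Opens} (hV : IsAffineOpen V)
    (ha : ∀ x : X, Curv2.IsWeakAssPoint (Coh.structureModule X) x → ∀ y : X, y ⤳ x → y = x)
    (hG : {y : X | y ∈ V ∧ Curv2.IsWeakAssPoint (Coh.structureModule X) y}.Finite)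
    (c : ∀ η : X, X.presheaf.stalk η)
    (hc : ∀ η : X, η ∈ V → Curv2.IsWeakAssPoint (Coh.structureModule X) η → IsUnit (c η)) :
    ∃ a b : Γ(X, V), a ∈ regSub X V ∧ b ∈ regSub X V ∧
      ∀ (η : X) (hη : η ∈ V), Curv2.IsWeakAssPoint (Coh.structureModule X) η →
        X.presheaf.germ V η hη a = c η * X.presheaf.germ V η hη b := by
  classical
  -- numerators and denominators
  have hfr : ∀ η : X, ∃ α σ : Γ(X, V), ∀ hη : η ∈ V,
      Curv2.IsWeakAssPoint (Coh.structureModule X) η →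
      IsUnit (X.presheaf.germ V η hη σ) ∧
        c η * X.presheaf.germ V η hη σ = X.presheaf.germ V η hη α := by
    intro η
    by_cases hη : η ∈ V
    · let _ := X.presheaf.algebra_section_stalk ⟨η, hη⟩
      have hloc := hV.isLocalization_stalk ⟨η, hη⟩
      obtain ⟨⟨α, σ⟩, hασ⟩ := IsLocalization.surj (hV.primeIdealOf ⟨η, hη⟩).asIdeal.primeCompl (c η)
      refine ⟨α, σ.1, fun _ _ => ⟨?_, hασ⟩⟩
      exact IsLocalization.map_units (X.presheaf.stalk η) σ
    · exact ⟨0, 0, fun h => absurd h hη⟩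
  choose α σ hασ using hfr
  -- separating elements
  have hsep : ∀ η' η : X, ∃ v : Γ(X, V), ∀ (hη' : η' ∈ V) (hη : η ∈ V),
      Curv2.IsWeakAssPoint (Coh.structureModule X) η' →
      Curv2.IsWeakAssPoint (Coh.structureModule X) η → η' ≠ η →
      X.presheaf.germ V η' hη' v = 0 ∧ IsUnit (X.presheaf.germ V η hη v) := by
    intro η' η
    by_cases hcond : ∃ (hη' : η' ∈ V) (_ : η ∈ V),
        Curv2.IsWeakAssPoint (Coh.structureModule X) η' ∧
        Curv2.IsWeakAssPoint (Coh.structureModule X) η ∧ η' ≠ η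
    · obtain ⟨hη', hη, hwa', hwa, hne⟩ := hcond
      have hnle : ¬ (hV.primeIdealOf ⟨η', hη'⟩).asIdeal ≤ (hV.primeIdealOf ⟨η, hη⟩).asIdeal :=
        fun hle => hne (ha η hwa η' (specializes_of_primeIdealOf_le hV hη hη' hle))
      obtain ⟨u, hu1, hu2⟩ := Set.not_subset.1 hnle
      obtain ⟨n, hn⟩ := isNilpotent_germ_of_mem hV hη' (ha η' hwa') hu1
      refine ⟨u ^ n, fun h1 h2 _ _ _ => ⟨by rw [map_pow]; exact hn, ?_⟩⟩
      rw [map_pow]
      refine IsUnit.pow n ?_
      have : η ∈ X.basicOpen u := by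
        by_contra hcon
        exact hu2 ((mem_primeIdealOf_iff hV η hη u).2 hcon)
      exact (Scheme.mem_basicOpen X u η h2).1 this
    · refine ⟨1, fun h1 h2 h3 h4 h5 => absurd ⟨h1, h2, h3, h4, h5⟩ hcond⟩
  choose v hv using hsep
  let G := hG.toFinset
  have hmemG : ∀ η, η ∈ G ↔ η ∈ V ∧ Curv2.IsWeakAssPoint (Coh.structureModule X) η :=
    fun η => Set.Finite.mem_toFinset hG
  let t : X → Γ(X, V) := fun η => ∏ η' ∈ G.erase η, v η' η
  have ht_unit : ∀ (η : X) (hη : η ∈ V), Curv2.IsWeakAssPoint (Coh.structureModule X) η →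
      IsUnit (X.presheaf.germ V η hη (t η)) := by
    intro η hη hwa
    change IsUnit (X.presheaf.germ V η hη (∏ η' ∈ G.erase η, v η' η))
    rw [map_prod]
    apply IsUnit.prod_iff.2
    intro η' hη'
    rw [Finset.mem_erase] at hη'
    have h' := (hmemG η').1 hη'.2
    exact (hv η' η h'.1 hη h'.2 hwa hη'.1).2
  have ht_zero : ∀ (η η' : X) (hη : η ∈ V), Curv2.IsWeakAssPoint (Coh.structureModule X) η →
      η' ∈ G → η' ≠ η → X.presheaf.germ V η hη (t η') = 0 := by
    intro η η' hη hwa hη'G hne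
    change X.presheaf.germ V η hη (∏ η'' ∈ G.erase η', v η'' η') = 0
    rw [map_prod]
    have h' := (hmemG η').1 hη'G
    apply Finset.prod_eq_zero (i := η)
    · rw [Finset.mem_erase]
      exact ⟨fun h => hne h.symm, (hmemG η).2 ⟨hη, hwa⟩⟩
    · exact (hv η η' hη h'.1 hwa h'.2 (fun h => hne h.symm)).1
  let b : Γ(X, V) := ∑ η ∈ G, t η * σ η
  let a : Γ(X, V) := ∑ η ∈ G, t η * α η
  have hb_germ : ∀ (η : X) (hη : η ∈ V), Curv2.IsWeakAssPoint (Coh.structureModule X) η →
      X.presheaf.germ V η hη b =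
        X.presheaf.germ V η hη (t η) * X.presheaf.germ V η hη (σ η) := by
    intro η hη hwa
    change X.presheaf.germ V η hη (∑ η' ∈ G, t η' * σ η') = _
    rw [map_sum, Finset.sum_eq_single η]
    · rw [map_mul]
    · intro η' hη'G hne
      rw [map_mul, ht_zero η η' hη hwa hη'G hne, zero_mul]
    · intro hnot
      exact absurd ((hmemG η).2 ⟨hη, hwa⟩) hnot
  have ha_germ : ∀ (η : X) (hη : η ∈ V), Curv2.IsWeakAssPoint (Coh.structureModule X) η →
      X.presheaf.germ V η hη a =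
        X.presheaf.germ V η hη (t η) * X.presheaf.germ V η hη (α η) := by
    intro η hη hwa
    change X.presheaf.germ V η hη (∑ η' ∈ G, t η' * α η') = _
    rw [map_sum, Finset.sum_eq_single η]
    · rw [map_mul]
    · intro η' hη'G hne
      rw [map_mul, ht_zero η η' hη hwa hη'G hne, zero_mul]
    · intro hnot
      exact absurd ((hmemG η).2 ⟨hη, hwa⟩) hnot
  have hrel : ∀ (η : X) (hη : η ∈ V), Curv2.IsWeakAssPoint (Coh.structureModule X) η →
      X.presheaf.germ V η hη a = c η * X.presheaf.germ V η hη b := by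
    intro η hη hwa
    rw [ha_germ η hη hwa, hb_germ η hη hwa, ← (hασ η hη hwa).2]
    ring
  have hb_unit : ∀ (η : X) (hη : η ∈ V), Curv2.IsWeakAssPoint (Coh.structureModule X) η →
      IsUnit (X.presheaf.germ V η hη b) := by
    intro η hη hwa
    rw [hb_germ η hη hwa]
    exact (ht_unit η hη hwa).mul (hασ η hη hwa).1
  have ha_unit : ∀ (η : X) (hη : η ∈ V), Curv2.IsWeakAssPoint (Coh.structureModule X) η →
      IsUnit (X.presheaf.germ V η hη a) := by
    intro η hη hwa
    rw [hrel η hη hwa]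
    exact (hc η hη hwa).mul (hb_unit η hη hwa)
  refine ⟨a, b, ?_, ?_, hrel⟩
  · apply mem_regSub_of_mem_nonZeroDivisors hV
    apply mem_nonZeroDivisors_of_forall_weakAss hV
    intro y hy hwa
    exact (Scheme.mem_basicOpen X a y hy).2 (ha_unit y hy hwa)
  · apply mem_regSub_of_mem_nonZeroDivisors hV
    apply mem_nonZeroDivisors_of_forall_weakAss hV
    intro y hy hwa
    exact (Scheme.mem_basicOpen X b y hy).2 (hb_unit y hy hwa)

end Groth.Agent.Lib.Helper64.MeroReg
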