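import Groth.Agent.Lib.Helper64.MeroReg3

/-!
# Existence of regular meromorphic sections of invertible modules (helper64)

`hasRegularMero_of_weakAss_generic`: if the weakly associated points of `O_X` are maximal points and
every quasi-compact open has finitely many irreducible components, every invertible module has a
regular meromorphic section.
-/

set_option autoImplicit false
set_option linter.style.haveILetI false
set_option linter.unusedSectionVars false
universe u

open AlgebraicGeometry CategoryTheory Opposite TopologicalSpace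

namespace Groth.Agent.Lib.Helper64.MeroReg

open Mero Groth.Agent.Lib.Helper29.QCohLoc Groth.Agent.Lib.Helper65.CurveDiv
open Groth.Agent.Lib.Helper64.MeroInv Groth.Agent.Lib.Lead.Inv
open Groth.Agent.Lib.Helper64.RefS2

variable {X : Scheme.{u}} {L : X.Modules}

theorem merMod_sub_apply {W : X.Opens} (t t' : Γ(merMod L, W)) (z : W) :
    (t - t').1 z = t.1 z - t'.1 z := rfl

theorem merMod_res_apply {U V : X.Opens} (h : V ≤ U) (t : Γ(merMod L, U)) (z : V) :
    ((merMod L).presheaf.map (homOfLE h).op t).1 z = t.1 ⟨z.1, h z.2⟩ := rfl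

/-- the value of `a ε / b` at a point where `a = c b` and `e = c ε` -/
theorem fracM_eq_of_rel {V : X.Opens} (ε : Γ(L, V)) (a : Γ(X, V)) (b : regSub X V) (η : V)
    (c : X.presheaf.stalk η.1) (e : L.presheaf.stalk η.1)
    (hac : X.presheaf.germ V η.1 η.2 a = c * X.presheaf.germ V η.1 η.2 b.1)
    (he : e = c • L.presheaf.germ V η.1 η.2 ε) :
    (fracM (a • ε) b).1 η = LocalizedModule.mk e 1 := by
  have h1 : L.presheaf.germ V η.1 η.2 (a • ε) = X.presheaf.germ V η.1 η.2 b.1 • e := by
    rw [Groth.Agent.Lib.Helper29.QCohLoc.germ_smul, hac, he, ← mul_smul, mul_comm]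
  rw [fracM_apply, LocalizedModule.mk_eq]
  refine ⟨1, ?_⟩
  rw [one_smul, one_smul, one_smul]
  exact h1

/-- **existence of regular meromorphic sections** -/
theorem hasRegularMero_of_weakAss_generic
    (ha : ∀ x : X, Curv2.IsWeakAssPoint (Coh.structureModule X) x → ∀ y : X, y ⤳ x → y = x)
    (hb : ∀ U : X.Opens, IsCompact (U : Set X) →
      (irreducibleComponents ↥(U : Scheme.{u})).Finite)
    (hL : PicF.IsInvertible L) : HasRegularMero L := by
  classical
  -- generators of the stalks
  have hgen : ∀ η : X, ∃ e : L.presheaf.stalk η,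
      Function.Bijective (fun a : X.presheaf.stalk η => a • e) := by
    intro η
    obtain ⟨U, hU, ε, hε⟩ := (isInvertible_iff_exists_isGen.1 hL) η
    exact ⟨_, bijective_stalk_of_isGen hε η hU⟩
  choose e he using hgen
  -- affine charts trivialising `L`
  have hchart : ∀ x : X, ∃ (V : X.Opens) (ε : Γ(L, V)), IsAffineOpen V ∧ x ∈ V ∧ IsGen L V ε := by
    intro x
    obtain ⟨U, hU, ε, hε⟩ := (isInvertible_iff_exists_isGen.1 hL) x
    obtain ⟨V, hVaff, hxV, hVU⟩ := (Opens.isBasis_iff_nbhd.1 X.isBasis_affineOpens) hU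
    exact ⟨V, _, hVaff, hxV, hε.res hVU⟩
  choose V ε hVaff hxV hε using hchart
  -- coefficients of the chosen generators in the charts
  have hcoef : ∀ (x η : X), ∃ c : X.presheaf.stalk η, ∀ hη : η ∈ V x,
      e η = c • L.presheaf.germ (V x) η hη (ε x) ∧ IsUnit c := by
    intro x η
    by_cases hη : η ∈ V x
    · have hbij := bijective_stalk_of_isGen (hε x) η hη
      obtain ⟨c, hc⟩ := hbij.2 (e η)
      obtain ⟨d, hd⟩ := (he η).2 (L.presheaf.germ (V x) η hη (ε x))
      refine ⟨c, fun _ => ⟨hc.symm, ?_⟩⟩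
      have h1 : (d * c) • L.presheaf.germ (V x) η hη (ε x) =
          (1 : X.presheaf.stalk η) • L.presheaf.germ (V x) η hη (ε x) := by
        rw [mul_smul, one_smul]
        change d • (c • _) = _
        rw [show c • L.presheaf.germ (V x) η hη (ε x) = e η from hc]
        exact hd
      exact IsUnit.of_mul_eq_one d (by rw [mul_comm]; exact hbij.1 h1)
    · exact ⟨1, fun h => absurd h hη⟩
  choose c hc using hcoef
  -- the fractions
  have hfrac : ∀ x : X, ∃ a b : Γ(X, V x), a ∈ regSub X (V x) ∧ b ∈ regSub X (V x) ∧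
      ∀ (η : X) (hη : η ∈ V x), Curv2.IsWeakAssPoint (Coh.structureModule X) η →
        X.presheaf.germ (V x) η hη a = c x η * X.presheaf.germ (V x) η hη b := by
    intro x
    exact exists_frac_prescribed (hVaff x) ha
      (finite_weakAss ha (V x) (hb (V x) (hVaff x).isCompact)) (c x)
      (fun η hη _ => (hc x η hη).2)
  choose a b hareg hbreg hab using hfrac
  let σ : ∀ x : X, Γ(merMod L, V x) := fun x => fracM (a x • ε x) ⟨b x, hbreg x⟩
  have hσval : ∀ (x η : X) (hη : η ∈ V x), Curv2.IsWeakAssPoint (Coh.structureModule X) η →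
      (σ x).1 ⟨η, hη⟩ = LocalizedModule.mk (e η) 1 := by
    intro x η hη hwa
    exact fracM_eq_of_rel (ε x) (a x) ⟨b x, hbreg x⟩ ⟨η, hη⟩ (c x η) (e η) (hab x η hη hwa)
      (hc x η hη).1
  have hσ : ∀ (x y z : X) (hzx : z ∈ V x) (hzy : z ∈ V y),
      (σ x).1 ⟨z, hzx⟩ = (σ y).1 ⟨z, hzy⟩ := by
    intro x y z hzx hzy
    let t : Γ(merMod L, V x ⊓ V y) :=
      (merMod L).presheaf.map (homOfLE (inf_le_left : V x ⊓ V y ≤ V x)).op (σ x) -
        (merMod L).presheaf.map (homOfLE (inf_le_right : V x ⊓ V y ≤ V y)).op (σ y)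
    have ht := merMod_eq_zero_of_weakAss hL t (by
      intro η hwa
      rw [merMod_sub_apply, merMod_res_apply, merMod_res_apply, hσval x η.1 η.2.1 hwa,
        hσval y η.1 η.2.2 hwa, sub_self]) ⟨z, ⟨hzx, hzy⟩⟩
    rw [merMod_sub_apply, merMod_res_apply, merMod_res_apply] at ht
    exact sub_eq_zero.1 ht
  obtain ⟨s, hs⟩ := exists_glue_merMod V hxV σ hσ
  refine ⟨s, ?_⟩
  intro x q hq
  rw [hs x x (hxV x)] at hq
  change q • (fracM (a x • ε x) ⟨b x, hbreg x⟩).1 ⟨x, hxV x⟩ = 0 at hq
  rw [fracM_apply] at hq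
  induction q using Localization.induction_on with
  | H rt =>
    obtain ⟨r, t'⟩ := rt
    change Localization.mk r t' • _ = 0 at hq
    rw [LocalizedModule.mk_smul_mk, lmkM_eq_zero_iff] at hq
    obtain ⟨d, hd⟩ := hq
    rw [Groth.Agent.Lib.Helper29.QCohLoc.germ_smul, ← mul_smul, ← mul_smul, mul_assoc] at hd
    have h1 : (d : X.presheaf.stalk x) * (r * X.presheaf.germ (V x) x (hxV x) (a x)) = 0 :=
      (bijective_stalk_of_isGen (hε x) x (hxV x)).1 (hd.trans (zero_smul _ _).symm)
    have h2 : r * X.presheaf.germ (V x) x (hxV x) (a x) = 0 :=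
      (mem_nonZeroDivisors_iff.1 (regStalk_le_nonZeroDivisors x d.2)).1 _ h1
    have h3 : r = 0 := (mem_nonZeroDivisors_iff.1 (hareg x ⟨x, hxV x⟩)).2 _ h2
    rw [h3]
    exact Localization.mk_zero t'

end Groth.Agent.Lib.Helper64.MeroReg
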