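import Mathlib

set_option autoImplicit false

open Polynomial

namespace Groth.Agent.Lib.Helper64.NormDet

/-- Over an algebraically closed field, `det (P(U))` only depends on the characteristic polynomial
of `U` (and the size). -/
theorem det_aeval_eq_of_charpoly_eq {K : Type*} [Field K] [IsAlgClosed K]
    {ι ι' : Type*} [Fintype ι] [DecidableEq ι] [Fintype ι'] [DecidableEq ι']
    (hcard : Fintype.card ι = Fintype.card ι')
    (U : Matrix ι ι K) (W : Matrix ι' ι' K) (h : U.charpoly = W.charpoly) (P : K[X]) :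
    (aeval U P).det = (aeval W P).det := by
  have hlin : ∀ a : K, (aeval U (X - C a)).det = (aeval W (X - C a)).det := by
    intro a
    have h1 := Matrix.eval_charpoly U a
    have h2 := Matrix.eval_charpoly W a
    rw [h] at h1
    have e1 : aeval U (X - C a) = -(Matrix.scalar ι a - U) := by
      simp [Matrix.algebraMap_eq_diagonal]
    have e2 : aeval W (X - C a) = -(Matrix.scalar ι' a - W) := by
      simp [Matrix.algebraMap_eq_diagonal]
    rw [e1, e2, Matrix.det_neg, Matrix.det_neg, ← h1, ← h2, hcard]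
  have key : ∀ s : Multiset K, (aeval U (s.map (fun a => X - C a)).prod).det =
      (aeval W (s.map (fun a => X - C a)).prod).det := by
    intro s
    induction s using Multiset.induction_on with
    | empty => simp
    | cons a s ih =>
      rw [Multiset.map_cons, Multiset.prod_cons, map_mul, map_mul, Matrix.det_mul, Matrix.det_mul,
        ih, hlin]
  have hP := (IsAlgClosed.splits P).eq_prod_roots
  rw [hP, map_mul, map_mul, Matrix.det_mul, Matrix.det_mul, key]
  congr 1
  simp [Matrix.algebraMap_eq_diagonal, hcard]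

theorem repr_semilinear {D k : Type*} [CommRing D] [CommRing k] (φ : D →+* k)
    {S S' : Type*} [CommRing S] [CommRing S'] [Algebra D S] [Algebra k S']
    (ψ : S →+* S') (hψ : ∀ d, ψ (algebraMap D S d) = algebraMap k S' (φ d))
    {ι ι' : Type*} [Fintype ι] [DecidableEq ι] [Fintype ι'] [DecidableEq ι']
    (e : ι ≃ ι') (b : Module.Basis ι D S) (b' : Module.Basis ι' k S') (hb : ∀ i, ψ (b i) = b' (e i))
    (y : S) (i : ι) : b'.repr (ψ y) (e i) = φ (b.repr y i) := by
  conv_lhs => rw [← b.sum_repr y]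
  rw [map_sum]
  simp only [Algebra.smul_def, map_mul, hψ, hb]
  simp only [← Algebra.smul_def, map_sum, map_smul, Module.Basis.repr_self, Finsupp.coe_finsetSum,
    Finsupp.coe_smul, Finset.sum_apply, Pi.smul_apply, smul_eq_mul]
  rw [Finset.sum_eq_single i]
  · simp
  · intro l _ hl
    rw [Finsupp.single_apply, if_neg (fun h => hl (e.injective h)), mul_zero]
  · intro h; exact absurd (Finset.mem_univ i) h

theorem leftMulMatrix_map {D k : Type*} [CommRing D] [CommRing k] (φ : D →+* k)
    {S S' : Type*} [CommRing S] [CommRing S'] [Algebra D S] [Algebra k S']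
    (ψ : S →+* S') (hψ : ∀ d, ψ (algebraMap D S d) = algebraMap k S' (φ d))
    {ι ι' : Type*} [Fintype ι] [DecidableEq ι] [Fintype ι'] [DecidableEq ι']
    (e : ι ≃ ι') (b : Module.Basis ι D S) (b' : Module.Basis ι' k S') (hb : ∀ i, ψ (b i) = b' (e i))
    (x : S) :
    (Algebra.leftMulMatrix b x).map φ = (Algebra.leftMulMatrix b' (ψ x)).submatrix e e := by
  ext i j
  rw [Matrix.map_apply, Matrix.submatrix_apply, Algebra.leftMulMatrix_eq_repr_mul,
    Algebra.leftMulMatrix_eq_repr_mul, ← hb, ← map_mul, repr_semilinear φ ψ hψ e b b' hb]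

theorem norm_map {D k : Type*} [CommRing D] [CommRing k] (φ : D →+* k)
    {S S' : Type*} [CommRing S] [CommRing S'] [Algebra D S] [Algebra k S']
    (ψ : S →+* S') (hψ : ∀ d, ψ (algebraMap D S d) = algebraMap k S' (φ d))
    {ι ι' : Type*} [Fintype ι] [DecidableEq ι] [Fintype ι'] [DecidableEq ι']
    (e : ι ≃ ι') (b : Module.Basis ι D S) (b' : Module.Basis ι' k S') (hb : ∀ i, ψ (b i) = b' (e i))
    (x : S) : φ (Algebra.norm D x) = Algebra.norm k (ψ x) := by
  rw [Algebra.norm_eq_matrix_det b, Algebra.norm_eq_matrix_det b', RingHom.map_det,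
    RingHom.mapMatrix_apply, leftMulMatrix_map φ ψ hψ e b b' hb, Matrix.det_submatrix_equiv_self]

theorem norm_adjoinRoot_map {D k : Type*} [CommRing D] [CommRing k] (φ : D →+* k)
    (g : D[X]) (hg : g.Monic) (P : D[X]) :
    φ (Algebra.norm D (AdjoinRoot.mk g P)) =
      Algebra.norm k (AdjoinRoot.mk (g.map φ) (P.map φ)) := by
  cases subsingleton_or_nontrivial k
  · exact Subsingleton.elim _ _
  have hg' : (g.map φ).Monic := hg.map φ
  have hdeg : g.natDegree = (g.map φ).natDegree := (hg.natDegree_map φ).symm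
  let ψ : AdjoinRoot g →+* AdjoinRoot (g.map φ) := AdjoinRoot.map φ g (g.map φ) dvd_rfl
  have hψmk : ∀ Q : D[X], ψ (AdjoinRoot.mk g Q) = AdjoinRoot.mk (g.map φ) (Q.map φ) := by
    intro Q
    induction Q using Polynomial.induction_on' with
    | add p q hp hq => rw [map_add, map_add, hp, hq, Polynomial.map_add, map_add]
    | monomial n a =>
      rw [← C_mul_X_pow_eq_monomial, map_mul, map_mul, map_pow, AdjoinRoot.mk_C, AdjoinRoot.mk_X,
        map_pow, Polynomial.map_mul, Polynomial.map_pow, Polynomial.map_C, Polynomial.map_X, map_mul,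
        map_pow, AdjoinRoot.mk_C, AdjoinRoot.mk_X]
      simp [ψ]
  have hb : ∀ (f : D[X]) (hf : f.Monic) (i : Fin f.natDegree),
      AdjoinRoot.powerBasisAux' hf i = AdjoinRoot.root f ^ (i : ℕ) :=
    fun f hf i => (AdjoinRoot.powerBasis' hf).basis_eq_pow i
  have hb' : ∀ (f : k[X]) (hf : f.Monic) (i : Fin f.natDegree),
      AdjoinRoot.powerBasisAux' hf i = AdjoinRoot.root f ^ (i : ℕ) :=
    fun f hf i => (AdjoinRoot.powerBasis' hf).basis_eq_pow i
  rw [norm_map φ ψ ?_ (finCongr hdeg) (AdjoinRoot.powerBasisAux' hg)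
    (AdjoinRoot.powerBasisAux' hg') ?_ (AdjoinRoot.mk g P), hψmk]
  · intro d
    simp [ψ, AdjoinRoot.algebraMap_eq]
  · intro i
    rw [hb, hb', map_pow]
    simp [ψ]

theorem aeval_map_matrix {D k : Type*} [CommRing D] [CommRing k] (φ : D →+* k)
    {ι : Type*} [Fintype ι] [DecidableEq ι] (U : Matrix ι ι D) (P : D[X]) :
    (aeval U P).map φ = aeval (U.map φ) (P.map φ) := by
  have := Polynomial.map_aeval_eq_aeval_map (S := Matrix ι ι D) (T := k) (U := Matrix ι ι k)
    (φ := φ) (ψ := φ.mapMatrix) (by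
      ext x i j
      by_cases hij : i = j <;>
        simp [Matrix.algebraMap_eq_diagonal, hij]) P U
  simpa using this

theorem norm_eq_det_field {K : Type*} [Field K] [IsAlgClosed K]
    {ι : Type*} [Fintype ι] [DecidableEq ι] (U : Matrix ι ι K) (P : K[X]) :
    Algebra.norm K (AdjoinRoot.mk U.charpoly P) = (aeval U P).det := by
  have hχ : U.charpoly.Monic := Matrix.charpoly_monic U
  let pb := AdjoinRoot.powerBasis' hχ
  have h1 : Algebra.norm K (AdjoinRoot.mk U.charpoly P) =
      (aeval (Algebra.leftMulMatrix pb.basis (AdjoinRoot.root U.charpoly)) P).det := by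
    rw [Algebra.norm_eq_matrix_det pb.basis, ← AdjoinRoot.aeval_eq, aeval_algHom_apply]
  rw [h1]
  symm
  apply det_aeval_eq_of_charpoly_eq
  · rw [Fintype.card_fin, ← Matrix.charpoly_natDegree_eq_dim U]
    rfl
  · have h2 := charpoly_leftMulMatrix pb
    have h3 : pb.gen = AdjoinRoot.root U.charpoly := rfl
    rw [h3] at h2
    rw [h2, AdjoinRoot.minpoly_root hχ.ne_zero, hχ.leadingCoeff]
    simp

theorem norm_eq_det_domain {D : Type*} [CommRing D] [IsDomain D]
    {ι : Type*} [Fintype ι] [DecidableEq ι] (U : Matrix ι ι D) (P : D[X]) :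
    Algebra.norm D (AdjoinRoot.mk U.charpoly P) = (aeval U P).det := by
  let K := AlgebraicClosure (FractionRing D)
  let φ : D →+* K := algebraMap D K
  have hφ : Function.Injective φ := by
    have : (algebraMap D K) = (algebraMap (FractionRing D) K).comp (algebraMap D (FractionRing D)) :=
      IsScalarTower.algebraMap_eq _ _ _
    change Function.Injective (algebraMap D K)
    rw [this]
    exact (algebraMap (FractionRing D) K).injective.comp (IsFractionRing.injective D _)
  apply hφ
  rw [norm_adjoinRoot_map φ _ (Matrix.charpoly_monic U), ← Matrix.charpoly_map,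
    norm_eq_det_field, RingHom.map_det, RingHom.mapMatrix_apply]
  rw [aeval_map_matrix]

theorem norm_eq_det_of_map {D k : Type*} [CommRing D] [IsDomain D] [CommRing k] (φ : D →+* k)
    {ι : Type*} [Fintype ι] [DecidableEq ι] (U : Matrix ι ι D) (P : D[X]) :
    Algebra.norm k (AdjoinRoot.mk (U.map φ).charpoly (P.map φ)) =
      (aeval (U.map φ) (P.map φ)).det := by
  rw [Matrix.charpoly_map, ← norm_adjoinRoot_map φ _ (Matrix.charpoly_monic U),
    norm_eq_det_domain, RingHom.map_det, RingHom.mapMatrix_apply, aeval_map_matrix]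

theorem norm_eq_det {k : Type*} [CommRing k]
    {ι : Type*} [Fintype ι] [DecidableEq ι] (U : Matrix ι ι k) (P : k[X]) :
    Algebra.norm k (AdjoinRoot.mk U.charpoly P) = (aeval U P).det := by
  let D := MvPolynomial ((ι × ι) ⊕ ℕ) ℤ
  let 𝕌 : Matrix ι ι D := Matrix.of fun i j => MvPolynomial.X (Sum.inl (i, j))
  let ℙ : D[X] := ∑ l ∈ Finset.range (P.natDegree + 1), C (MvPolynomial.X (Sum.inr l)) * X ^ l
  let φ : D →+* k := MvPolynomial.eval₂Hom (Int.castRingHom k)
    (Sum.elim (fun p => U p.1 p.2) (fun l => P.coeff l))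
  have hφX : ∀ x, φ (MvPolynomial.X x) =
      Sum.elim (fun p : ι × ι => U p.1 p.2) (fun l => P.coeff l) x :=
    fun x => MvPolynomial.eval₂Hom_X' _ _ _
  have hU : 𝕌.map φ = U := by
    ext i j
    simp [𝕌, hφX]
  have hP : ℙ.map φ = P := by
    conv_rhs => rw [P.as_sum_range_C_mul_X_pow]
    simp [ℙ, hφX, Polynomial.map_sum]
  have := norm_eq_det_of_map φ 𝕌 ℙ
  rwa [hU, hP] at this

/-- The norm from `k[T]/(χ_u)` of the class of `P` is `det (P(u))`. -/
theorem norm_eq_det_linearMap (k : Type*) [CommRing k] (M : Type*) [AddCommGroup M] [Module k M]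
    [Module.Free k M] [Module.Finite k M] (u : M →ₗ[k] M) (P : Polynomial k) :
    Algebra.norm k (AdjoinRoot.mk u.charpoly P) = LinearMap.det (Polynomial.aeval u P) := by
  let b := Module.Free.chooseBasis k M
  rw [LinearMap.charpoly_def, norm_eq_det, ← LinearMap.det_toMatrix b]
  congr 1
  exact Polynomial.aeval_algHom_apply (LinearMap.toMatrixAlgEquiv b).toAlgHom u P

end Groth.Agent.Lib.Helper64.NormDet
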