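import Groth.Agent.Lib.Helper64.FpqcOpen
import Groth.Agent.Lib.Helper64.DescFam

set_option backward.isDefEq.respectTransparency false
set_option backward.isDefEq.respectTransparency.types false
set_option autoImplicit false

universe u

open CategoryTheory CategoryTheory.Limits AlgebraicGeometry Desc
open Groth.Agent.Lib.Helper64.DescFam Groth.Agent.Lib.Helper64.FpqcOpen

namespace Groth.Agent.Lib.Helper64.OpenDescent

variable {S : Scheme.{u}} {ι : Type u} {X : ι → Scheme.{u}} {f : ∀ i, X i ⟶ S}

/-- lifts along a monomorphism are unique -/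
lemma lifts_subsingleton {Y : Scheme.{u}} (V : Over Y) [Mono V.hom] {T : Scheme.{u}} (x : T ⟶ Y) :
    Subsingleton (Lifts V x) :=
  ⟨fun a b => Subtype.ext ((cancel_mono V.hom).mp (a.2.trans b.2.symm))⟩

/-- transfer of the open images along the descent datum, pointwise -/
lemma mem_range_of_mem_range (D : SchDDFam f) (hD : ∀ i, IsOpenImmersion (D.obj i).hom)
    {T : Scheme.{u}} {i j : ι} (x₀ : T ⟶ X i) (x₁ : T ⟶ X j) (h : x₀ ≫ f i = x₁ ≫ f j) (t : T)
    (ht : x₀.base t ∈ Set.range (D.obj i).hom.base) : x₁.base t ∈ Set.range (D.obj j).hom.base := by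
  have := hD i
  let T' : T.Opens := x₀ ⁻¹ᵁ (D.obj i).hom.opensRange
  have htT' : t ∈ T' := ht
  have hsub : Set.range (T'.ι ≫ x₀).base ⊆ Set.range (D.obj i).hom.base := by
    rintro _ ⟨y, rfl⟩
    have h1 : y.val ∈ T' := y.2
    have h2 : x₀.base y.val ∈ Set.range (D.obj i).hom.base := h1
    simpa using h2
  let v : Lifts (D.obj i) (T'.ι ≫ x₀) :=
    ⟨IsOpenImmersion.lift (D.obj i).hom (T'.ι ≫ x₀) hsub, IsOpenImmersion.lift_fac _ _ _⟩
  have h' : (T'.ι ≫ x₀) ≫ f i = (T'.ι ≫ x₁) ≫ f j := by
    rw [Category.assoc, h, Category.assoc]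
  let u := D.φ (T'.ι ≫ x₀) (T'.ι ≫ x₁) h' v
  refine ⟨u.1.base ⟨t, htT'⟩, ?_⟩
  have := u.2
  rw [← Scheme.Hom.comp_apply, this]
  simp


/-- the descended subset of `S` -/
def Vset (D : SchDDFam f) : Set S := ⋃ i, (f i).base '' Set.range (D.obj i).hom.base

lemma preimage_Vset (D : SchDDFam f) (hD : ∀ i, IsOpenImmersion (D.obj i).hom) (i : ι) :
    (f i).base ⁻¹' Vset D = Set.range (D.obj i).hom.base := by
  apply Set.Subset.antisymm
  · intro a ha
    simp only [Vset, Set.mem_preimage, Set.mem_iUnion, Set.mem_image] at ha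
    obtain ⟨j, b, hb, hba⟩ := ha
    obtain ⟨t, ht1, ht2⟩ := Scheme.Pullback.exists_preimage_pullback (f := f j) (g := f i) b a hba
    have := mem_range_of_mem_range D hD (pullback.fst (f j) (f i)) (pullback.snd (f j) (f i))
      pullback.condition t (by rw [ht1]; exact hb)
    rwa [ht2] at this
  · rintro _ ⟨z, rfl⟩
    simp only [Vset, Set.mem_preimage, Set.mem_iUnion, Set.mem_image]
    exact ⟨i, _, ⟨z, rfl⟩, rfl⟩

lemma isOpen_Vset (hf : Presieve.ofArrows X f ∈ Scheme.fpqcPrecoverage S) (D : SchDDFam f)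
    (hD : ∀ i, IsOpenImmersion (D.obj i).hom) : IsOpen (Vset D) := by
  refine isOpen_of_fpqc _ hf _ ?_
  rintro T g ⟨i⟩
  rw [preimage_Vset D hD i]
  exact (hD i).base_open.isOpen_range

/-- Open immersions descend along fpqc covering families. -/
theorem isEffective_of_isOpenImmersion (hf : Presieve.ofArrows X f ∈ Scheme.fpqcPrecoverage S)
    (D : Desc.SchDDFam f) (hD : ∀ i, IsOpenImmersion (D.obj i).hom) :
    D.IsEffective := by
  let V : S.Opens := ⟨Vset D, isOpen_Vset hf D hD⟩
  let U : Over S := Over.mk V.ι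
  have hmono : ∀ i, Mono (D.obj i).hom := fun i => by have := hD i; infer_instance
  have hmono' : ∀ i, Mono ((canonicalDDFam f U).obj i).hom := fun i => by
    change Mono (pullback.fst (f i) V.ι)
    infer_instance
  have hsubD : ∀ ⦃T : Scheme.{u}⦄ ⦃i : ι⦄ (x : T ⟶ X i),
      Lifts ((canonicalDDFam f U).obj i) x → Set.range x.base ⊆ Set.range (D.obj i).hom.base := by
    rintro T i x v _ ⟨t, rfl⟩
    rw [← preimage_Vset D hD i]
    change (f i).base (x.base t) ∈ Vset D
    let v1 : T ⟶ pullback (f i) V.ι := v.1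
    have h1 : v1 ≫ pullback.fst (f i) V.ι = x := v.2
    have h2 : x ≫ f i = (v1 ≫ pullback.snd (f i) V.ι) ≫ V.ι := by
      have : (v1 ≫ pullback.fst (f i) V.ι) ≫ f i = (v1 ≫ pullback.snd (f i) V.ι) ≫ V.ι := by
        rw [Category.assoc, pullback.condition, Category.assoc]
      rwa [h1] at this
    have h3 : (f i).base (x.base t) = (x ≫ f i).base t := by simp
    rw [h3, h2]
    have : ((v1 ≫ pullback.snd (f i) V.ι) ≫ V.ι).base t =
        ((v1 ≫ pullback.snd (f i) V.ι).base t).val := by simp
    rw [this]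
    exact ((v1 ≫ pullback.snd (f i) V.ι).base t).2
  have hsubV : ∀ ⦃T : Scheme.{u}⦄ ⦃i : ι⦄ (x : T ⟶ X i),
      Lifts (D.obj i) x → Set.range (x ≫ f i).base ⊆ Set.range V.ι.base := by
    rintro T i x v _ ⟨t, rfl⟩
    rw [Scheme.Opens.range_ι]
    change (x ≫ f i).base t ∈ Vset D
    have h1 : v.1 ≫ (D.obj i).hom = x := v.2
    have : x.base t ∈ (f i).base ⁻¹' Vset D := by
      rw [preimage_Vset D hD i, ← h1]
      exact ⟨v.1.base t, by simp⟩
    simpa using this
  let m : PtMap (canonicalDDFam f U) D :=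
    { map := fun T i x v =>
        have := hD i
        ⟨IsOpenImmersion.lift (D.obj i).hom x (hsubD x v), IsOpenImmersion.lift_fac _ _ _⟩
      natural := fun T T' g i x y hy v v' _ => by
        have := hmono i
        rw [← cancel_mono (D.obj i).hom, Category.assoc]
        simp only [IsOpenImmersion.lift_fac]
        exact hy.symm
      comm := fun T i j x₀ x₁ h v => by
        have := hmono j
        exact (lifts_subsingleton (D.obj j) x₁).elim _ _ }
  let m' : PtMap D (canonicalDDFam f U) :=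
    { map := fun T i x v =>
        ⟨pullback.lift x (IsOpenImmersion.lift V.ι (x ≫ f i) (hsubV x v))
          (IsOpenImmersion.lift_fac V.ι _ _).symm, pullback.lift_fst _ _ _⟩
      natural := fun T T' g i x y hy v v' _ => by
        have := hmono' i
        rw [← cancel_mono ((canonicalDDFam f U).obj i).hom, Category.assoc]
        change pullback.lift _ _ _ ≫ pullback.fst _ _ = g ≫ pullback.lift _ _ _ ≫ pullback.fst _ _
        rw [pullback.lift_fst, pullback.lift_fst]
        exact hy.symm
      comm := fun T i j x₀ x₁ h v => by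
        have := hmono' j
        exact (lifts_subsingleton ((canonicalDDFam f U).obj j) x₁).elim _ _ }
  refine ⟨U, ⟨mkIso m m' ?_ ?_⟩⟩
  · intro T i x v
    have := hmono' i
    exact (lifts_subsingleton ((canonicalDDFam f U).obj i) x).elim _ _
  · intro T i x v
    have := hmono i
    exact (lifts_subsingleton (D.obj i) x).elim _ _

end Groth.Agent.Lib.Helper64.OpenDescent
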