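import Mathlib.CategoryTheory.Sites.Over
import Mathlib.CategoryTheory.Comma.Over.Pullback
import Mathlib.CategoryTheory.Limits.Shapes.Pullback.IsPullback.Basic

/-!
# Beck–Chevalley isomorphism on over categories and base change for big sites (helper64)

* `overBC hsq : Over.pullback f' ⋙ Over.map g' ≅ Over.map g ⋙ Over.pullback f` for a cartesian
  square `IsPullback g' f' f g`.
* `nonempty_bc_iso`: `g_big⁻¹ ∘ f_big,* ≅ f'_big,* ∘ g'_big⁻¹` on sheaves for `J.over _`.
-/

set_option autoImplicit false
open CategoryTheory CategoryTheory.Limits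

namespace Groth.Agent.Lib.Helper64.OverBC

variable {C : Type*} [Category C] [HasPullbacks C]

/-- Beck–Chevalley isomorphism on over categories for a cartesian square. -/
noncomputable def overBC {S T S' T' : C} {f : T ⟶ S} {g : S' ⟶ S} {g' : T' ⟶ T} {f' : T' ⟶ S'}
    (hsq : IsPullback g' f' f g) :
    Over.pullback f' ⋙ Over.map g' ≅ Over.map g ⋙ Over.pullback f :=
  NatIso.ofComponents
    (fun U => Over.isoMk
      (((IsPullback.paste_horiz (IsPullback.of_hasPullback U.hom f').flip hsq).flip).isoPullback)
      (by simp))
    (by
      intro U V φ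
      ext
      dsimp
      apply pullback.hom_ext
      · simp
        erw [pullback.lift_fst]
        erw [pullback.lift_fst]
        rw [IsPullback.isoPullback_hom_fst_assoc]
      · simp
        erw [pullback.lift_snd_assoc]
        erw [pullback.lift_snd]
        rw [IsPullback.isoPullback_hom_snd])

theorem nonempty_bc_iso (J : GrothendieckTopology C) (A : Type*) [Category A]
    {S T S' T' : C} {f : T ⟶ S} {g : S' ⟶ S} {g' : T' ⟶ T} {f' : T' ⟶ S'}
    (hsq : IsPullback g' f' f g) :
    Nonempty ((Over.pullback f).sheafPushforwardContinuous A (J.over S) (J.over T) ⋙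
        J.overMapPullback A g ≅
      J.overMapPullback A g' ⋙
        (Over.pullback f').sheafPushforwardContinuous A (J.over S') (J.over T')) := by
  have := Functor.isContinuous_comp (Over.map g) (Over.pullback f) (J.over S') (J.over S) (J.over T)
  have := Functor.isContinuous_comp (Over.pullback f') (Over.map g') (J.over S') (J.over T')
    (J.over T)
  exact ⟨Functor.sheafPushforwardContinuousComp _ _ _ _ _ _ ≪≫
    Functor.sheafPushforwardContinuousIso (overBC hsq).symm _ _ _ ≪≫
    (Functor.sheafPushforwardContinuousComp _ _ _ _ _ _).symm⟩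

end Groth.Agent.Lib.Helper64.OverBC
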