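import Groth.Agent.Lib.Helper64.SecOrd5
import Groth.Agent.Lib.Lead.Tw6
import Groth.Agent.Lib.Helper35.ModRestrict

/-!
# Invertible modules are rank one reflexive; the order of `1` (helper64)
-/

set_option autoImplicit false
set_option linter.style.haveILetI false
set_option linter.unusedSectionVars false
universe u

open AlgebraicGeometry CategoryTheory Opposite TopologicalSpace

namespace Groth.Agent.Lib.Helper64.SecOrd

open Groth.Agent.Lib.Lead.QCohAff
open Groth.Agent.Lib.Helper64.RefExt Groth.Agent.Lib.Helper64.RefS2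
open Groth.Agent.Lib.Helper64.HomSh

variable {X : Scheme.{u}} [IsIntegral X] [IsLocallyNoetherian X]

theorem isReflexiveAt_of_isInvertible {L : X.Modules} (hL : PicF.IsInvertible L) (x : X) :
    RefHull.IsReflexiveAt L x := by
  obtain ⟨U, hxU, e, he⟩ := (Groth.Agent.Lib.Lead.Inv.isInvertible_iff_exists_isGen.1 hL) x
  have hb := bijective_stalk_of_isGen he x hxU
  exact Module.equiv (LinearEquiv.ofBijective
    (LinearMap.toSpanSingleton (X.presheaf.stalk x) (L.presheaf.stalk x)
      (L.presheaf.germ U x hxU e)) hb)

/-- invertible modules are rank one coherent reflexive -/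
theorem isRef1_of_isInvertible {L : X.Modules} (hL : PicF.IsInvertible L) : RefHull.IsRef1 L := by
  have hc := Groth.Agent.Lib.Lead.Inv.isCoh_of_isInvertible hL
  refine ⟨hc, ?_, ⟨⊤, by simp, Groth.Agent.Lib.Helper35.ModRestrict.isInvertible_restrict
    (⊤ : X.Opens).ι L hL⟩⟩
  rw [isReflexive_iff_forall_isReflexiveAt hc]
  exact isReflexiveAt_of_isInvertible hL

end Groth.Agent.Lib.Helper64.SecOrd
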