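import Groth.Agent.Lib.Helper64.SecDivCartier
import Groth.Agent.S5103
import Groth.Agent.S2877

/-!
# Schemes whose prime cycles of codimension one are principal (helper64)

* `PrimePrincipal X`: every prime cycle of codimension one is the divisor of a rational function.
* `exists_ord_eq`: every finitely supported cycle of codimension one is principal.
* `picTrivial_of_primePrincipal`, `ufd_of_primePrincipal`, `primePrincipal_of_ufd_of_picTrivial`.
-/

set_option autoImplicit false
set_option linter.style.haveILetI false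
set_option linter.unusedSectionVars false
universe u

open AlgebraicGeometry CategoryTheory Opposite TopologicalSpace

namespace Groth.Agent.Lib.Helper64.PrimeCyc

open Groth.Agent.Lib.Lead.QCohAff
open Groth.Agent.Lib.Helper64.RefExt Groth.Agent.Lib.Helper64.SecOrd
open Groth.Agent.Lib.Helper64.WeilSheaf Groth.Agent.Lib.Helper64.Ref1Grp

variable {X : Scheme.{u}} [IsIntegral X] [IsLocallyNoetherian X]

/-- every prime cycle of codimension one is principal -/
def PrimePrincipal (X : Scheme.{u}) [IsIntegral X] [IsLocallyNoetherian X] : Prop :=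
  ∀ x₀ : X, Order.coheight x₀ = 1 → ∃ f : X.functionField, f ≠ 0 ∧
    Scheme.ord f x₀ = 1 ∧ ∀ x : X, x ≠ x₀ → Order.coheight x = 1 → Scheme.ord f x = 0

theorem ord_prod {ι : Type*} (s : Finset ι) (g : ι → X.functionField) (hg : ∀ i ∈ s, g i ≠ 0)
    (y : X) : Scheme.ord (∏ i ∈ s, g i) y = ∑ i ∈ s, Scheme.ord (g i) y := by
  classical
  induction s using Finset.induction_on with
  | empty => rw [Finset.prod_empty, Finset.sum_empty, ord_one]
  | insert a s ha ih =>
    rw [Finset.prod_insert ha, Finset.sum_insert ha,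
      Scheme.ord_mul (hg a (Finset.mem_insert_self a s))
        (Finset.prod_ne_zero_iff.2 fun i hi => hg i (Finset.mem_insert_of_mem hi)),
      ih fun i hi => hg i (Finset.mem_insert_of_mem hi)]

/-- a finitely supported cycle of codimension one is principal when the prime cycles are -/
theorem exists_ord_eq (H : PrimePrincipal X) (Z : X → ℤ) (hZ : ∀ x, Order.coheight x ≠ 1 → Z x = 0)
    (hfin : {x : X | Z x ≠ 0}.Finite) :
    ∃ F : X.functionField, F ≠ 0 ∧ ∀ y : X, Order.coheight y = 1 → Scheme.ord F y = Z y := by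
  classical
  have H' : ∀ x : X, ∃ f : X.functionField, f ≠ 0 ∧ (Order.coheight x = 1 →
      Scheme.ord f x = 1 ∧ ∀ y : X, y ≠ x → Order.coheight y = 1 → Scheme.ord f y = 0) := by
    intro x
    by_cases hx : Order.coheight x = 1
    · obtain ⟨f, hf, h1, h2⟩ := H x hx
      exact ⟨f, hf, fun _ => ⟨h1, h2⟩⟩
    · exact ⟨1, one_ne_zero, fun h => absurd h hx⟩
  choose f hf0 hf using H'
  refine ⟨∏ x ∈ hfin.toFinset, f x ^ Z x, ?_, fun y hy => ?_⟩
  · exact Finset.prod_ne_zero_iff.2 fun x _ => zpow_ne_zero _ (hf0 x)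
  · rw [ord_prod _ _ (fun x _ => zpow_ne_zero _ (hf0 x))]
    have hterm : ∀ x ∈ hfin.toFinset, Scheme.ord (f x ^ Z x) y = if x = y then Z y else 0 := by
      intro x hx
      have hx1 : Order.coheight x = 1 := by
        by_contra h
        exact (hfin.mem_toFinset.1 hx) (hZ x h)
      rw [ord_zpow _ (hf0 x)]
      by_cases hxy : x = y
      · subst hxy
        rw [(hf x hx1).1, mul_one, if_pos rfl]
      · rw [(hf x hx1).2 y (Ne.symm hxy) hy, mul_zero, if_neg hxy]
    rw [Finset.sum_congr rfl hterm, Finset.sum_ite_eq' hfin.toFinset y]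
    by_cases hy' : y ∈ hfin.toFinset
    · rw [if_pos hy']
    · rw [if_neg hy']
      have : ¬ Z y ≠ 0 := fun h => hy' (hfin.mem_toFinset.2 h)
      push Not at this
      exact this.symm

/-- the divisor of a rational section of a generically invertible module is locally finite -/
theorem locFinSupp_secOrd (hX : Pi1.IsNormalScheme X) {L : X.Modules}
    (hgen : RefHull.GenInvertible L) (v : L.presheaf.stalk (genericPoint X)) (hv : v ≠ 0) :
    LocFinSupp (fun x => if Order.coheight x = 1 then
      Cyc.secOrdAt L (genericPoint X) x (spη x)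
        (Submodule.Quotient.mk v : Cyc.secFibre L (genericPoint X)) else 0) := by
  intro z
  obtain ⟨_, ⟨U, hU : IsAffineOpen U, rfl⟩, hzU, -⟩ :=
    (X.isBasis_affineOpens).exists_subset_of_mem_open (Set.mem_univ z) isOpen_univ
  refine ⟨U, hzU, (finite_secOrd_ne_zero hX hgen v hv hU).subset ?_⟩
  rintro x ⟨hxU, hx⟩
  by_cases h1 : Order.coheight x = 1
  · refine ⟨hxU, h1, ?_⟩
    simpa [h1] using hx
  · simp [h1] at hx

/-- if the prime cycles of codimension one are principal, every invertible module is trivial -/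
theorem picTrivial_of_primePrincipal [CompactSpace X] (hX : Pi1.IsNormalScheme X)
    (H : PrimePrincipal X) (L : X.Modules) (hL : PicF.IsInvertible L) :
    Nonempty (L ≅ Coh.structureModule X) := by
  have hR := isRef1_of_isInvertible hL
  obtain ⟨v, hv⟩ := exists_ne_zero_generic (genRankOne_of_genInvertible hR.2.2)
  have hLF := locFinSupp_secOrd hX hR.2.2 v hv
  have hfin := finite_supp_of_isCompact hLF ⊤ isCompact_univ
  obtain ⟨F, hF0, hF⟩ := exists_ord_eq H _ (fun x hx => if_neg hx)
    (hfin.subset fun x hx => ⟨trivial, hx⟩)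
  refine Groth.Agent.S5103.result X hX L hL (Submodule.Quotient.mk v) ?_ F hF0 (fun x hx => ?_)
  · intro h0
    exact hv ((mk_eq_zero_iff L v).1 h0)
  · rw [hF x hx, if_pos hx]

/-- if the prime cycles of codimension one are principal, the local rings are factorial -/
theorem ufd_of_primePrincipal (hX : Pi1.IsNormalScheme X) (H : PrimePrincipal X) (x : X) :
    UniqueFactorizationMonoid (X.presheaf.stalk x) := by
  refine (Groth.Agent.S2877.result X hX).2 (fun x₀ hx₀ => ?_) x
  obtain ⟨f, hf, h1, h2⟩ := H x₀ hx₀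
  refine ⟨CDiv.div (Units.mk0 f hf), fun g hg => ?_, fun y hne hy g hg => ?_⟩
  · rw [Groth.Agent.Lib.Helper64.LocFact.ord_eq_of_germOf_eq x₀ (Units.mk0 f hf) g hg]
    exact h1
  · rw [Groth.Agent.Lib.Helper64.LocFact.ord_eq_of_germOf_eq y (Units.mk0 f hf) g hg]
    exact h2 y hne hy

end Groth.Agent.Lib.Helper64.PrimeCyc
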