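import Groth.Agent.Lib.Helper64.PrimeCyc1
import Groth.Agent.Lib.Helper64.OrdOpen

/-!
# Principal prime cycles: converse statements and open subschemes (helper64)
-/

set_option autoImplicit false
set_option linter.style.haveILetI false
set_option linter.unusedSectionVars false
universe u

open AlgebraicGeometry CategoryTheory Opposite TopologicalSpace

namespace Groth.Agent.Lib.Helper64.PrimeCyc

open Groth.Agent.Lib.Lead.QCohAff
open Groth.Agent.Lib.Helper64.RefExt Groth.Agent.Lib.Helper64.SecOrd
open Groth.Agent.Lib.Helper64.WeilSheaf Groth.Agent.Lib.Helper64.Ref1Grp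
open Groth.Agent.Lib.Helper64.StalkGen

variable {X : Scheme.{u}} [IsIntegral X] [IsLocallyNoetherian X]

theorem isNormalScheme_of_ufd (hufd : ∀ x : X, UniqueFactorizationMonoid (X.presheaf.stalk x)) :
    Pi1.IsNormalScheme X := by
  intro x
  haveI := hufd x
  exact ⟨inferInstance, inferInstance⟩

/-- the prime cycle at a point, as a function -/
noncomputable def primeCyc (x₀ : X) : X → ℤ := fun x => by
  classical exact if x = x₀ then 1 else 0

theorem primeCyc_self (x₀ : X) : primeCyc x₀ x₀ = 1 := by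
  classical
  exact if_pos rfl

theorem primeCyc_ne {x₀ x : X} (h : x ≠ x₀) : primeCyc x₀ x = 0 := by
  classical
  exact if_neg h

theorem locFinSupp_primeCyc (x₀ : X) : LocFinSupp (primeCyc x₀) := by
  intro z
  refine ⟨⊤, trivial, (Set.finite_singleton x₀).subset ?_⟩
  rintro w ⟨-, hw⟩
  by_contra h
  exact hw (primeCyc_ne h)

/-- factorial local rings and trivial Picard group imply that prime cycles are principal -/
theorem primePrincipal_of_ufd_of_picTrivial
    (hufd : ∀ x : X, UniqueFactorizationMonoid (X.presheaf.stalk x))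
    (hpic : ∀ L : X.Modules, PicF.IsInvertible L → Nonempty (L ≅ Coh.structureModule X)) :
    PrimePrincipal X := by
  have hX := isNormalScheme_of_ufd hufd
  intro x₀ hx₀
  have hLF := locFinSupp_primeCyc x₀
  have hR := isRef1 (hX := hX) hLF
  obtain ⟨e⟩ := hpic _ (Groth.Agent.Lib.Helper64.RegInv.isInvertible_of_isRef1_of_ufd hR hufd)
  obtain ⟨v, hv⟩ := exists_stalkVal_generic (hX := hX) hLF 1
  have hv0 : v ≠ 0 := by
    rintro rfl
    rw [stalkVal_zero] at hv
    exact zero_ne_one hv
  have hdiv : HasDiv (OD hX (primeCyc x₀)) (primeCyc x₀) :=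
    ⟨v, hv0, fun x hx => WeilSheaf.secOrdAt_one hLF v hv x hx⟩
  obtain ⟨f, hf, h⟩ := linEq_of_iso hX hR isRef1_structureModule hdiv hasDiv_one e
  refine ⟨f, hf, ?_, fun x hne hx => ?_⟩
  · have := h x₀ hx₀
    rw [primeCyc_self, Pi.zero_apply, zero_add] at this
    exact this.symm
  · have := h x hx
    rw [primeCyc_ne hne, Pi.zero_apply, zero_add] at this
    exact this.symm

/-- normality passes to open subschemes -/
theorem isNormalScheme_of_isOpenImmersion {Y : Scheme.{u}} (f : Y ⟶ X) [IsOpenImmersion f]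
    (hX : Pi1.IsNormalScheme X) : Pi1.IsNormalScheme Y := by
  intro y
  let e : X.presheaf.stalk (f y) ≃+* Y.presheaf.stalk y :=
    (asIso (f.stalkMap y)).commRingCatIsoToRingEquiv
  haveI := (hX (f y)).1
  haveI := (hX (f y)).2
  haveI : IsDomain (Y.presheaf.stalk y) := e.symm.toMulEquiv.isDomain
  exact ⟨inferInstance, IsIntegrallyClosed.of_equiv e⟩

/-- principality of prime cycles passes to open subschemes -/
theorem primePrincipal_of_isOpenImmersion {Y : Scheme.{u}} [IsIntegral Y] [IsLocallyNoetherian Y]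
    (f : Y ⟶ X) [IsOpenImmersion f] (H : PrimePrincipal X) : PrimePrincipal Y := by
  intro y₀ hy₀
  have hco : ∀ y : Y, Order.coheight (f y) = Order.coheight y :=
    fun y => coheight_eq_of_isOpenImmersion f
  obtain ⟨g, hg, h1, h2⟩ := H (f y₀) ((hco y₀).trans hy₀)
  refine ⟨Groth.Agent.Lib.Helper64.OrdOpen.functionFieldEquiv f g, ?_, ?_, fun y hne hy => ?_⟩
  · intro h0
    exact hg ((Groth.Agent.Lib.Helper64.OrdOpen.functionFieldEquiv f).injective
      (h0.trans (map_zero _).symm))
  · rw [Groth.Agent.Lib.Helper64.OrdOpen.ord_functionFieldEquiv]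
    exact h1
  · rw [Groth.Agent.Lib.Helper64.OrdOpen.ord_functionFieldEquiv]
    refine h2 (f y) (fun h => hne ?_) ((hco y).trans hy)
    exact f.isOpenEmbedding.injective h

/-- modules on the empty open subscheme are trivial -/
theorem picTrivial_bot (Y : Scheme.{u}) (L : ((⊥ : Y.Opens) : Scheme.{u}).Modules) :
    Nonempty (L ≅ Coh.structureModule ((⊥ : Y.Opens) : Scheme.{u})) := by
  set M := (Scheme.Modules.pushforward (⊥ : Y.Opens).ι).obj L with hM
  have he := Groth.Agent.Lib.Helper64.UfdPic.isGen_bot (M := M) (0 : Γ(M, ⊥))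
  obtain ⟨i⟩ := Groth.Agent.Lib.Lead.Inv.nonempty_iso_of_isGen he
  exact ⟨(asIso ((Scheme.Modules.restrictAdjunction (⊥ : Y.Opens).ι).counit.app L)).symm ≪≫ i⟩

end Groth.Agent.Lib.Helper64.PrimeCyc
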