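import Groth.Agent.Lib.Helper64.PrimeCyc2

/-!
# Principal prime cycles from triviality of the Picard groups of the open subschemes (helper64)
-/

set_option autoImplicit false
set_option linter.style.haveILetI false
set_option linter.unusedSectionVars false
universe u

open AlgebraicGeometry CategoryTheory Opposite TopologicalSpace

namespace Groth.Agent.Lib.Helper64.PrimeCyc

open Groth.Agent.Lib.Lead.QCohAff
open Groth.Agent.Lib.Helper64.RefExt Groth.Agent.Lib.Helper64.SecOrd
open Groth.Agent.Lib.Helper64.WeilSheaf Groth.Agent.Lib.Helper64.Ref1Grp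
open Groth.Agent.Lib.Helper64.StalkGen

variable {X : Scheme.{u}} [IsIntegral X] [IsLocallyNoetherian X]

/-- the points of codimension one lie in the locus where a rank one reflexive module is invertible -/
theorem exists_isGen_codim_one (hX : Pi1.IsNormalScheme X) {F : X.Modules} (hF : RefHull.IsRef1 F)
    (x : X) (hx : Order.coheight x = 1) :
    ∃ (V : X.Opens) (e : Γ(F, V)), x ∈ V ∧ Groth.Agent.Lib.Lead.Inv.IsGen F V e := by
  obtain ⟨g, hg, hsp⟩ := exists_generator_codim_one hX hF x hx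
  obtain ⟨U, hxU, e, rfl⟩ := TopCat.Presheaf.exists_germ_eq F.presheaf g
  rw [sp_germ] at hsp
  obtain ⟨V, hVU, hxV, hV⟩ := exists_isGen_of_span F hF.1.2 e x hxU hg hsp
  exact ⟨V, _, hxV, hV⟩

/-- if the invertible modules on all open subschemes are trivial, prime cycles are principal -/
theorem primePrincipal_of_picTrivial_opens (hX : Pi1.IsNormalScheme X)
    (hpic : ∀ (U : X.Opens) (L : (U : Scheme.{u}).Modules), PicF.IsInvertible L →
      Nonempty (L ≅ Coh.structureModule (U : Scheme.{u}))) : PrimePrincipal X := by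
  intro x₀ hx₀
  have hLF := locFinSupp_primeCyc x₀
  have hR := isRef1 (hX := hX) hLF
  let W : X.Opens := sSup {V | ∃ e : Γ(OD hX (primeCyc x₀), V),
    Groth.Agent.Lib.Lead.Inv.IsGen (OD hX (primeCyc x₀)) V e}
  have hW : ∀ x ∈ W, ∃ (V : X.Opens) (e : Γ(OD hX (primeCyc x₀), V)), x ∈ V ∧
      Groth.Agent.Lib.Lead.Inv.IsGen (OD hX (primeCyc x₀)) V e := by
    intro x hxW
    obtain ⟨V, ⟨e, he⟩, hxV⟩ := TopologicalSpace.Opens.mem_sSup.1 hxW
    exact ⟨V, e, hxV, he⟩
  have hinv := isInvertible_restrict_of_isGen (OD hX (primeCyc x₀)) W hW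
  obtain ⟨ε⟩ := hpic W _ hinv
  obtain ⟨e, he⟩ := Groth.Agent.Lib.Lead.Inv.exists_isGen_of_iso ε
  have hmem : ∀ x : X, Order.coheight x = 1 → x ∈ W := by
    intro x hx
    obtain ⟨V, e', hxV, he'⟩ := exists_isGen_codim_one hX hR x hx
    exact (le_sSup ⟨e', he'⟩ : V ≤ W) hxV
  have hηW : genericPoint X ∈ W := genericPoint_mem (hmem x₀ hx₀)
  obtain ⟨v, hv⟩ := exists_stalkVal_generic (hX := hX) hLF 1
  set c := stalkVal hX (primeCyc x₀) (genericPoint X)
    ((OD hX (primeCyc x₀)).presheaf.germ W (genericPoint X) hηW e) with hc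
  have hc0 : c ≠ 0 := by
    intro h0
    apply germ_ne_zero_of_isGen (OD hX (primeCyc x₀)) he (genericPoint X) hηW
    exact stalkVal_injective _ (h0.trans (stalkVal_zero _).symm)
  have hvc : v = c⁻¹ • (OD hX (primeCyc x₀)).presheaf.germ W (genericPoint X) hηW e := by
    apply stalkVal_injective
    rw [stalkVal_smul, algebraMap_generic, hv, ← hc, inv_mul_cancel₀ hc0]
  have key : ∀ x : X, Order.coheight x = 1 → Scheme.ord c⁻¹ x = primeCyc x₀ x := by
    intro x hx
    rw [← WeilSheaf.secOrdAt_one hLF v hv x hx]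
    symm
    have hxW := hmem x hx
    refine secOrdAt_mk (OD hX (primeCyc x₀)) x hx
      ((OD hX (primeCyc x₀)).presheaf.germ W x hxW e) ?_ ?_ v c⁻¹ ?_
    · rw [eq_top_iff]
      intro m _
      obtain ⟨a, ha⟩ := (Groth.Agent.Lib.Helper64.RefS2.bijective_stalk_of_isGen he x hxW).2 m
      exact Submodule.mem_span_singleton.2 ⟨a, ha⟩
    · rw [sp_germ]
      exact germ_ne_zero_of_isGen _ he _ _
    · rw [sp_germ]
      exact hvc
  refine ⟨c⁻¹, inv_ne_zero hc0, ?_, fun x hne hx => ?_⟩
  · rw [key x₀ hx₀, primeCyc_self]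
  · rw [key x hx, primeCyc_ne hne]

end Groth.Agent.Lib.Helper64.PrimeCyc
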