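import Groth.Agent.Lib.Helper64.PrimeCyc3

/-!
# Principal prime cycles and global equations of irreducible hypersurfaces (helper64)
-/

set_option autoImplicit false
set_option linter.style.haveILetI false
set_option linter.unusedSectionVars false
universe u

open AlgebraicGeometry CategoryTheory Opposite TopologicalSpace IsLocalRing

namespace Groth.Agent.Lib.Helper64.PrimeCyc

open Groth.Agent.Lib.Lead.QCohAff CDiv
open Groth.Agent.Lib.Helper64.RefExt Groth.Agent.Lib.Helper64.SecOrd
open Groth.Agent.Lib.Helper64.WeilSheaf Groth.Agent.Lib.Helper64.Ref1Grp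
open Groth.Agent.Lib.Helper64.StalkGen Groth.Agent.Lib.Helper64.CDivLocal
open Groth.Agent.Lib.Helper64.StalkFrac

variable {X : Scheme.{u}} [IsIntegral X] [IsLocallyNoetherian X]

/-- the global section `g` cuts out the closure of `ζ` with its reduced structure -/
def CutsOut (X : Scheme.{u}) (ζ : X) (g : Γ(X, ⊤)) : Prop :=
  (∀ (x : X) (h : ζ ⤳ x),
    (IsLocalRing.maximalIdeal (X.presheaf.stalk ζ)).comap (X.presheaf.stalkSpecializes h).hom =
      Ideal.span {X.presheaf.germ ⊤ x trivial g}) ∧
  ∀ x : X, ¬ ζ ⤳ x → IsUnit (X.presheaf.germ ⊤ x trivial g)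

/-- if the prime cycle of `ζ` is principal, its closure has a global equation -/
theorem exists_cutsOut_of_primePrincipal (hX : Pi1.IsNormalScheme X) (H : PrimePrincipal X) (ζ : X)
    (hζ : Order.coheight ζ = 1) : ∃ g : Γ(X, ⊤), CutsOut X ζ g := by
  obtain ⟨f, hf0, hf1, hf2⟩ := H ζ hζ
  have hdvr := dvr_of_coheight_one hX ζ hζ
  have hnonneg : ∀ y : X, Order.coheight y = 1 → 0 ≤ Scheme.ord f y := by
    intro y hy
    by_cases hyζ : y = ζ
    · rw [hyζ, hf1]; exact zero_le_one
    · rw [hf2 y hyζ hy]
  obtain ⟨g, hg⟩ := exists_section_of_forall_ord_nonneg hX ⊤ trivial f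
    (fun _ y _ hy => hnonneg y hy)
  have hgK : ∀ x : X, algebraMap (X.presheaf.stalk x) X.functionField
      (X.presheaf.germ ⊤ x trivial g) = f := by
    intro x
    rw [algebraMap_germ, hg]
  refine ⟨g, fun x h => ?_, fun x h => ?_⟩
  · apply le_antisymm
    · intro a ha
      rw [Ideal.mem_comap] at ha
      rw [Ideal.mem_span_singleton']
      by_cases ha0 : a = 0
      · exact ⟨0, by rw [ha0, zero_mul]⟩
      have haK : algebraMap (X.presheaf.stalk x) X.functionField a ≠ 0 := by
        rwa [Ne, map_eq_zero_iff _ (IsFractionRing.injective (X.presheaf.stalk x) X.functionField)]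
      have hβ : algebraMap (X.presheaf.stalk x) X.functionField a * f⁻¹ ∈
          Set.range (algebraMap (X.presheaf.stalk x) X.functionField) := by
        refine mem_range_of_forall_ord_nonneg hX x _ (mul_ne_zero haK (inv_ne_zero hf0))
          (fun z hzx hz => ?_)
        rw [Scheme.ord_mul haK (inv_ne_zero hf0), ord_inv' z f hf0]
        have hαz : algebraMap (X.presheaf.stalk x) X.functionField a ∈
            Set.range (algebraMap (X.presheaf.stalk z) X.functionField) :=
          range_algebraMap_subset_of_specializes hzx ⟨a, rfl⟩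
        by_cases hzζ : z = ζ
        · subst hzζ
          have : 1 ≤ Scheme.ord (algebraMap (X.presheaf.stalk x) X.functionField a) z :=
            one_le_ord_of_mem_maximalIdeal hdvr hz (Units.mk0 _ haK)
              ⟨_, ha, algebraMap_stalkSpecializes h a⟩
          rw [hf1]; omega
        · rw [hf2 z hzζ hz]
          have := Groth.Agent.S2876.ord_nonneg_of_mem_range hz (Units.mk0 _ haK) hαz
          simp only [Units.val_mk0] at this
          omega
      obtain ⟨b, hb⟩ := hβ
      refine ⟨b, ?_⟩
      apply IsFractionRing.injective (X.presheaf.stalk x) X.functionField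
      rw [map_mul, hb, hgK x]
      field_simp
    · rw [Ideal.span_singleton_le_iff_mem, Ideal.mem_comap]
      have h1 : f ∈ algebraMap (X.presheaf.stalk ζ) X.functionField ''
          (maximalIdeal (X.presheaf.stalk ζ)) :=
        mem_image_maximalIdeal_of_one_le_ord (Units.mk0 f hf0)
          ⟨X.presheaf.germ ⊤ ζ trivial g, hgK ζ⟩ hf1.ge
      obtain ⟨c, hc, hcf⟩ := h1
      have : c = (X.presheaf.stalkSpecializes h).hom (X.presheaf.germ ⊤ x trivial g) := by
        apply IsFractionRing.injective (X.presheaf.stalk ζ) X.functionField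
        rw [hcf, algebraMap_stalkSpecializes, hgK]
      rw [← this]
      exact hc
  · have hβ : f⁻¹ ∈ Set.range (algebraMap (X.presheaf.stalk x) X.functionField) := by
      refine mem_range_of_forall_ord_nonneg hX x _ (inv_ne_zero hf0) (fun z hzx hz => ?_)
      rw [ord_inv' z f hf0]
      have hzζ : z ≠ ζ := by
        rintro rfl
        exact h hzx
      rw [hf2 z hzζ hz]
      simp
    obtain ⟨b, hb⟩ := hβ
    refine IsUnit.of_mul_eq_one b ?_
    apply IsFractionRing.injective (X.presheaf.stalk x) X.functionField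
    rw [map_mul, hb, hgK, map_one]
    exact mul_inv_cancel₀ hf0

/-- global equations of the irreducible hypersurfaces make the local rings factorial -/
theorem ufd_of_cutsOut (H : ∀ ζ : X, Order.coheight ζ = 1 → ∃ g : Γ(X, ⊤), CutsOut X ζ g) (x : X) :
    UniqueFactorizationMonoid (X.presheaf.stalk x) := by
  rw [UniqueFactorizationMonoid.iff_forall_isPrincipal_of_height_eq_one]
  intro p hp hht
  obtain ⟨x₀, hx₀x, hdim, hchar⟩ := exists_point_of_prime x p
  have hx₀ : Order.coheight x₀ = 1 := by
    rw [hht, AlgebraicGeometry.ringKrullDim_stalk_eq_coheight] at hdim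
    exact_mod_cast hdim
  obtain ⟨g, hg, -⟩ := H x₀ hx₀
  refine ⟨X.presheaf.germ ⊤ x trivial g, ?_⟩
  rw [Ideal.submodule_span_eq, ← hg x hx₀x]
  ext c
  rw [hchar c, Ideal.mem_comap]
  constructor
  · rintro ⟨d, hd, hdc⟩
    have : d = (X.presheaf.stalkSpecializes hx₀x).hom c := by
      apply IsFractionRing.injective (X.presheaf.stalk x₀) X.functionField
      rw [hdc, algebraMap_stalkSpecializes]
    rw [← this]
    exact hd
  · intro hc
    exact ⟨_, hc, algebraMap_stalkSpecializes hx₀x c⟩

/-- global equations of the irreducible hypersurfaces make the prime cycles principal -/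
theorem primePrincipal_of_cutsOut
    (H : ∀ ζ : X, Order.coheight ζ = 1 → ∃ g : Γ(X, ⊤), CutsOut X ζ g) : PrimePrincipal X := by
  have hX : Pi1.IsNormalScheme X := isNormalScheme_of_ufd (ufd_of_cutsOut H)
  intro ζ hζ
  obtain ⟨g, hg1, hg2⟩ := H ζ hζ
  have hdvr := dvr_of_coheight_one hX ζ hζ
  have hgK : ∀ x : X, algebraMap (X.presheaf.stalk x) X.functionField
      (X.presheaf.germ ⊤ x trivial g) = X.presheaf.germ ⊤ (genericPoint X) trivial g := by
    intro x
    rw [algebraMap_germ]
  have hnsp : ¬ ζ ⤳ genericPoint X := by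
    intro h
    exact ne_genericPoint_of_coheight_one ζ hζ (h.antisymm (spη ζ)).eq
  have hf0 : X.presheaf.germ ⊤ (genericPoint X) trivial g ≠ 0 := (hg2 _ hnsp).ne_zero
  refine ⟨X.presheaf.germ ⊤ (genericPoint X) trivial g, hf0, ?_, fun x hne hx => ?_⟩
  · refine ord_eq_one_of_span_eq hdvr hζ (Units.mk0 _ hf0) (X.presheaf.germ ⊤ ζ trivial g) ?_ (hgK ζ)
    rw [← hg1 ζ specializes_rfl]
    ext c
    rw [Ideal.mem_comap, TopCat.Presheaf.stalkSpecializes_refl]
    rfl
  · have hnot : ¬ ζ ⤳ x := by
      intro h
      exact hne (eq_of_specializes_of_coheight_one h hx hζ).symm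
    have hu := hg2 x hnot
    exact ord_eq_zero_of_mem_stalkUnits (Units.mk0 _ hf0)
      ((Groth.Agent.Lib.Helper64.CDivLib.mem_stalkUnits_iff x _).mpr ⟨hu.unit, by
        rw [hu.unit_spec]; exact hgK x⟩)

end Groth.Agent.Lib.Helper64.PrimeCyc
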