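import Groth.Agent.Lib.Helper64.PrimeCyc4

/-!
# Principal prime cycles: the Picard groups of the open subschemes are trivial (helper64)
-/

set_option autoImplicit false
set_option linter.style.haveILetI false
set_option linter.unusedSectionVars false
universe u

open AlgebraicGeometry CategoryTheory Opposite TopologicalSpace IsLocalRing

namespace Groth.Agent.Lib.Helper64.PrimeCyc

variable {X : Scheme.{u}} [IsIntegral X] [IsLocallyNoetherian X]

/-- if the prime cycles of codimension one of a Noetherian normal integral scheme are principal,
the invertible modules on its open subschemes are trivial -/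
theorem picTrivial_opens_of_primePrincipal [CompactSpace X] (hX : Pi1.IsNormalScheme X)
    (H : PrimePrincipal X) (U : X.Opens) (L : (U : Scheme.{u}).Modules)
    (hL : PicF.IsInvertible L) : Nonempty (L ≅ Coh.structureModule (U : Scheme.{u})) := by
  by_cases hU : U = ⊥
  · subst hU
    exact picTrivial_bot X L
  have hne : Nonempty (U : Scheme.{u}) := by
    by_contra hemp
    apply hU
    ext x
    simp only [SetLike.mem_coe]
    constructor
    · intro hx
      exact absurd ⟨⟨x, hx⟩⟩ hemp
    · intro hx
      exact absurd hx (by simp)
  haveI : IsIntegral (U : Scheme.{u}) := inferInstance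
  haveI : IsLocallyNoetherian (U : Scheme.{u}) := inferInstance
  haveI : IsNoetherian X := {}
  haveI : CompactSpace (U : Scheme.{u}) :=
    isCompact_iff_compactSpace.1 ((TopologicalSpace.NoetherianSpace.isCompact (U : Set X)))
  exact picTrivial_of_primePrincipal (isNormalScheme_of_isOpenImmersion U.ι hX)
    (primePrincipal_of_isOpenImmersion U.ι H) L hL

end Groth.Agent.Lib.Helper64.PrimeCyc
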