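import Groth.Agent.Lib.Helper64.SecOrd8
import Groth.Agent.Lib.Helper64.StalkGen
import Groth.Agent.Lib.Helper35.TwistExt

/-!
# Rank one reflexive modules: generic invertibility criteria and duals (helper64)

* `isInvertible_restrict_of_isGen`, `genInvertible_of_isGen`, `genInvertible_of_generic`: a finite type
  module on an integral scheme whose generic stalk is free of rank one is invertible on a dense open.
* `evalStalk_sp`: evaluation of germs of the sheaf Hom commutes with specialization.
* `genInvertible_dual`, `isRef1_dual`, `isRef1_ddual_tensor`.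
-/

set_option autoImplicit false
set_option linter.style.haveILetI false
set_option linter.unusedSectionVars false
universe u

open AlgebraicGeometry CategoryTheory Opposite TopologicalSpace TensorProduct

namespace Groth.Agent.Lib.Helper64.Ref1Grp

open Groth.Agent.Lib.Lead.QCohAff
open Groth.Agent.Lib.Helper64.RefExt Groth.Agent.Lib.Helper64.RefS2
open Groth.Agent.Lib.Helper64.HomSh Groth.Agent.Lib.Helper64.SecOrd
open Groth.Agent.Lib.Helper64.StalkGen

variable {X : Scheme.{u}}

/-- a module with local generators around the points of `U` restricts to an invertible module -/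
theorem isInvertible_restrict_of_isGen (L : X.Modules) (U : X.Opens)
    (h : ∀ x ∈ U, ∃ (W : X.Opens) (e : Γ(L, W)), x ∈ W ∧ Groth.Agent.Lib.Lead.Inv.IsGen L W e) :
    PicF.IsInvertible (L.restrict U.ι) := by
  rw [Groth.Agent.Lib.Lead.Inv.isInvertible_iff_exists_isGen]
  intro u
  obtain ⟨W, e, hxW, he⟩ := h u.1 u.2
  let G : (U : Scheme.{u}).Opens := U.ι ⁻¹ᵁ W
  have hle : U.ι ''ᵁ G ≤ W := by
    rw [Scheme.Hom.image_preimage_eq_opensRange_inf]
    exact inf_le_right
  refine ⟨G, hxW, (show Γ(L.restrict U.ι, G) from L.presheaf.map (homOfLE hle).op e), ?_⟩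
  exact Groth.Agent.Lib.Helper35.TwistExt.isGen_restrict_of_isGen L U G _ (he.res hle)

/-- the two biduality maps at a point where the stalk is free of rank one -/
theorem evalStalk_sp (F G : X.Modules) {x y : X} (h : y ⤳ x)
    (γ : (RefHull.homSh F G).presheaf.stalk x) (m : F.presheaf.stalk x) :
    RefHull.evalStalk F G y (((RefHull.homSh F G).presheaf.stalkSpecializes h).hom γ)
        ((F.presheaf.stalkSpecializes h).hom m) =
      (G.presheaf.stalkSpecializes h).hom (RefHull.evalStalk F G x γ m) := by
  obtain ⟨U, hxU, θ, rfl⟩ := TopCat.Presheaf.exists_germ_eq (RefHull.homSh F G).presheaf γ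
  obtain ⟨V, hxV, μ, rfl⟩ := TopCat.Presheaf.exists_germ_eq F.presheaf m
  rw [sp_germ, sp_germ, RefHull.evalStalk_germ, RefHull.evalStalk_germ]
  have hxUV : x ∈ U ⊓ V := ⟨hxU, hxV⟩
  obtain ⟨W, hxW, j, n, hW⟩ := RefHull.isLocSect_of_mem θ (U ⊓ V) (homOfLE inf_le_left)
    (F.presheaf.map (homOfLE (inf_le_right : U ⊓ V ≤ V)).op μ) ⟨x, hxUV⟩
  have hyW : y ∈ W := h.mem_open W.isOpen hxW
  have h1 := hW ⟨x, hxW⟩
  have h2 := hW ⟨y, hyW⟩
  simp only [germ_res] at h1 h2
  rw [h1, h2, sp_germ]

variable [IsIntegral X]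

theorem genInvertible_of_isGen (M : X.Modules) {V : X.Opens} (hη : genericPoint X ∈ V)
    (e : Γ(M, V)) (he : Groth.Agent.Lib.Lead.Inv.IsGen M V e) : RefHull.GenInvertible M :=
  ⟨V, V.isOpen.dense ⟨genericPoint X, hη⟩,
    isInvertible_restrict_of_isGen M V fun x hx => ⟨V, e, hx, he⟩⟩

/-- a finite type module whose generic stalk is free of rank one is invertible on a dense open -/
theorem genInvertible_of_generic (M : X.Modules)
    (hM : SheafOfModules.IsFiniteType (R := X.ringCatSheaf) M)
    (g : M.presheaf.stalk (genericPoint X))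
    (hspan : Submodule.span (X.presheaf.stalk (genericPoint X)) {g} = ⊤) (hne : g ≠ 0) :
    RefHull.GenInvertible M := by
  obtain ⟨U, hηU, e, rfl⟩ := TopCat.Presheaf.exists_germ_eq M.presheaf g
  obtain ⟨V, hVU, hηV, he⟩ := exists_isGen_of_span M hM e (genericPoint X) hηU hspan hne
  exact genInvertible_of_isGen M hηV _ he

end Groth.Agent.Lib.Helper64.Ref1Grp
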