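import Groth.Agent.Lib.Helper64.Ref1Grp1
import Groth.Agent.Lib.Helper64.SecOrd6
import Groth.Agent.Lib.Helper35.InvPush

/-!
# Rank one reflexive modules: duals and their divisors (helper64)

* `exists_dual_generator`: the dual generator of the stalk of the dual at a point where the stalk is free
  of rank one.
* `genInvertible_dual`, `isRef1_dual`, `isRef1_ddual_tensor`.
* `exists_section_dual`: the divisor of the dual is the opposite divisor.
-/

set_option autoImplicit false
set_option linter.style.haveILetI false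
set_option linter.unusedSectionVars false
universe u

open AlgebraicGeometry CategoryTheory Opposite TopologicalSpace TensorProduct

namespace Groth.Agent.Lib.Helper64.Ref1Grp

open Groth.Agent.Lib.Lead.QCohAff
open Groth.Agent.Lib.Helper64.RefExt Groth.Agent.Lib.Helper64.RefS2
open Groth.Agent.Lib.Helper64.HomSh Groth.Agent.Lib.Helper64.SecOrd
open Groth.Agent.Lib.Helper64.StalkGen
open Groth.Agent.Lib.Helper29.QCohLoc

variable {X : Scheme.{u}}

theorem oneGerm_ne_zero (z : X) : oneGerm X z ≠ 0 := by
  intro h0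
  have h1 : stalkEquiv X z 1 = stalkEquiv X z 0 := by
    rw [map_zero]
    change (1 : X.presheaf.stalk z) • oneGerm X z = 0
    rw [h0, smul_zero]
  exact one_ne_zero ((stalkEquiv X z).injective h1)

theorem smul_oneGerm_injective (z : X) :
    Function.Injective fun a : X.presheaf.stalk z => a • oneGerm X z :=
  (stalkEquiv X z).injective

theorem exists_smul_oneGerm (z : X) (m : (Coh.structureModule X).presheaf.stalk z) :
    ∃ a : X.presheaf.stalk z, a • oneGerm X z = m :=
  (stalkEquiv X z).surjective m

theorem sp_oneGerm {x y : X} (h : y ⤳ x) :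
    ((Coh.structureModule X).presheaf.stalkSpecializes h).hom (oneGerm X x) = oneGerm X y := by
  unfold oneGerm
  rw [sp_germ]

/-- the dual generator of the stalk of the dual at a point where the stalk is free of rank one -/
theorem exists_dual_generator {F : X.Modules} (hFP : CohB1.IsFP F) (z : X)
    (g : F.presheaf.stalk z)
    (hg : Function.Bijective fun a : X.presheaf.stalk z => a • g) :
    ∃ γ : (RefHull.dual F).presheaf.stalk z,
      RefHull.evalStalk F (Coh.structureModule X) z γ g = oneGerm X z ∧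
      Submodule.span (X.presheaf.stalk z) {γ} = ⊤ := by
  let E : X.presheaf.stalk z ≃ₗ[X.presheaf.stalk z] F.presheaf.stalk z :=
    LinearEquiv.ofBijective (LinearMap.toSpanSingleton (X.presheaf.stalk z) _ g) hg
  have hE1 : E 1 = g := by
    change (1 : X.presheaf.stalk z) • g = g
    rw [one_smul]
  let φ : RefHull.StalkHom F (Coh.structureModule X) z :=
    (stalkEquiv X z).toLinearMap.comp E.symm.toLinearMap
  have hφg : φ g = oneGerm X z := by
    change stalkEquiv X z (E.symm g) = _
    rw [← hE1, LinearEquiv.symm_apply_apply]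
    change (1 : X.presheaf.stalk z) • oneGerm X z = _
    rw [one_smul]
  obtain ⟨γ, hγ⟩ := (evalStalk_bijective (G := Coh.structureModule X) hFP z).2 φ
  refine ⟨γ, by rw [hγ, hφg], ?_⟩
  rw [eq_top_iff]
  intro θ _
  obtain ⟨c, hc⟩ := exists_smul_oneGerm z (RefHull.evalStalk F (Coh.structureModule X) z θ g)
  refine Submodule.mem_span_singleton.2 ⟨c, ?_⟩
  apply (evalStalk_bijective (G := Coh.structureModule X) hFP z).1
  rw [map_smul, hγ]
  apply LinearMap.ext
  intro m
  obtain ⟨a, rfl⟩ := hg.2 m
  rw [LinearMap.smul_apply, map_smul, map_smul, hφg, ← hc, smul_comm]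

variable [IsIntegral X] [IsLocallyNoetherian X]

theorem genInvertible_dual {F : X.Modules} (hF : Coh.IsCoh F) (hgen : RefHull.GenInvertible F) :
    RefHull.GenInvertible (RefHull.dual F) := by
  obtain ⟨W, hηW, e, he⟩ := exists_isGen_of_genInvertible hgen
  have hb := bijective_stalk_of_isGen he (genericPoint X) hηW
  obtain ⟨γ, hγ, hspan⟩ := exists_dual_generator (isFP_of_isCoh hF) (genericPoint X) _ hb
  refine genInvertible_of_generic _ (isCoh_dual hF).2 γ hspan ?_
  rintro rfl
  rw [map_zero, LinearMap.zero_apply] at hγ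
  exact oneGerm_ne_zero _ hγ.symm

theorem isRef1_dual {F : X.Modules} (hF : RefHull.IsRef1 F) : RefHull.IsRef1 (RefHull.dual F) :=
  ⟨isCoh_dual hF.1, isReflexive_dual hF.1, genInvertible_dual hF.1 hF.2.2⟩

theorem genInvertible_tensorMod {F G : X.Modules} (hF : RefHull.GenInvertible F)
    (hG : RefHull.GenInvertible G) : RefHull.GenInvertible (CohB1.tensorMod F G) := by
  obtain ⟨W₁, hηW₁, e₁', he₁'⟩ := exists_isGen_of_genInvertible hF
  obtain ⟨W₂, hηW₂, e₂', he₂'⟩ := exists_isGen_of_genInvertible hG
  have hηW₀ : genericPoint X ∈ W₁ ⊓ W₂ := ⟨hηW₁, hηW₂⟩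
  have he₁ := he₁'.res (inf_le_left : W₁ ⊓ W₂ ≤ W₁)
  have he₂ := he₂'.res (inf_le_right : W₁ ⊓ W₂ ≤ W₂)
  exact genInvertible_of_isGen _ hηW₀ _ (Groth.Agent.Lib.Helper35.Gen.IsGen.tm he₁ he₂)

theorem isRef1_ddual_tensor {F G : X.Modules} (hF : RefHull.IsRef1 F) (hG : RefHull.IsRef1 G) :
    RefHull.IsRef1 (RefHull.ddual (CohB1.tensorMod F G)) := by
  have hH : Coh.IsCoh (CohB1.tensorMod F G) := isCoh_tensorMod hF.1 hG.1
  exact ⟨isCoh_ddual hH, isReflexive_dual (isCoh_dual hH),
    genInvertible_dual (isCoh_dual hH) (genInvertible_dual hH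
      (genInvertible_tensorMod hF.2.2 hG.2.2))⟩

theorem isRef1_structureModule : RefHull.IsRef1 (Coh.structureModule X) :=
  isRef1_of_isInvertible (Groth.Agent.Lib.Helper35.InvPush.isInvertible_structureModule X)

end Groth.Agent.Lib.Helper64.Ref1Grp
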