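import Groth.Agent.Lib.Helper64.Ref1Grp2

/-!
# The divisor of the dual of a rank one reflexive module (helper64)

* `exists_section_dual`: the dual of a rank one reflexive module has a rational section whose divisor is
  the opposite of the divisor of a given rational section.
* `secOrdAt_one`: the divisor of the unit section of the structure module is zero.
-/

set_option autoImplicit false
set_option linter.style.haveILetI false
set_option linter.unusedSectionVars false
universe u

open AlgebraicGeometry CategoryTheory Opposite TopologicalSpace TensorProduct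

namespace Groth.Agent.Lib.Helper64.Ref1Grp

open Groth.Agent.Lib.Lead.QCohAff
open Groth.Agent.Lib.Helper64.RefExt Groth.Agent.Lib.Helper64.RefS2
open Groth.Agent.Lib.Helper64.HomSh Groth.Agent.Lib.Helper64.SecOrd
open Groth.Agent.Lib.Helper64.StalkGen
open Groth.Agent.Lib.Helper29.QCohLoc

variable {X : Scheme.{u}} [IsIntegral X] [IsLocallyNoetherian X]

/-- a nonzero element of the generic stalk of a generically rank one module is a free generator -/
theorem bijective_smul_generic {F : X.Modules} (hF1 : GenRankOne F)
    {v : F.presheaf.stalk (genericPoint X)} (hv : v ≠ 0) :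
    Function.Bijective fun a : X.presheaf.stalk (genericPoint X) => a • v := by
  constructor
  · intro a b hab
    have h0 : (a - b) • v = 0 := by
      rw [sub_smul]
      exact sub_eq_zero.2 hab
    by_contra hne
    have hne' : (a - b : X.functionField) ≠ 0 := sub_ne_zero.2 hne
    exact smul_ne_zero_generic hne' hv h0
  · intro m
    obtain ⟨c, hc⟩ := hF1.exists_eq_smul hv m
    exact ⟨c, hc.symm⟩

theorem exists_ne_zero_generic {F : X.Modules} (hF1 : GenRankOne F) :
    ∃ v : F.presheaf.stalk (genericPoint X), v ≠ 0 := by
  obtain ⟨w, hw, -⟩ := hF1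
  exact ⟨w, hw⟩

/-- the dual of a rank one reflexive module has a rational section whose divisor is the opposite of
the divisor of a given rational section -/
theorem exists_section_dual (hX : Pi1.IsNormalScheme X) {F : X.Modules} (hF : RefHull.IsRef1 F)
    {v : F.presheaf.stalk (genericPoint X)} (hv : v ≠ 0) :
    ∃ w : (RefHull.dual F).presheaf.stalk (genericPoint X), w ≠ 0 ∧
      ∀ x : X, Order.coheight x = 1 →
        Cyc.secOrdAt (RefHull.dual F) (genericPoint X) x (spη x)
          (Submodule.Quotient.mk w : Cyc.secFibre (RefHull.dual F) (genericPoint X)) =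
        - Cyc.secOrdAt F (genericPoint X) x (spη x)
          (Submodule.Quotient.mk v : Cyc.secFibre F (genericPoint X)) := by
  have hFP := isFP_of_isCoh hF.1
  have hF1 := genRankOne_of_genInvertible hF.2.2
  have hD := isRef1_dual hF
  have hD1 := genRankOne_of_genInvertible hD.2.2
  obtain ⟨w, hwv, hwspan⟩ := exists_dual_generator hFP (genericPoint X) v
    (bijective_smul_generic hF1 hv)
  have hw0 : w ≠ 0 := by
    rintro rfl
    rw [map_zero, LinearMap.zero_apply] at hwv
    exact oneGerm_ne_zero _ hwv.symm
  refine ⟨w, hw0, ?_⟩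
  intro x hx
  obtain ⟨g, hg, hspg⟩ := exists_generator_codim_one hX hF x hx
  haveI := noZeroSMulDivisors_of_isRef1 hF x
  have hg0 : g ≠ 0 := by
    rintro rfl
    exact hspg (map_zero _)
  have hgb : Function.Bijective fun a : X.presheaf.stalk x => a • g := by
    constructor
    · intro a b hab
      exact smul_left_injective _ hg0 hab
    · intro m
      have : m ∈ Submodule.span (X.presheaf.stalk x) {g} := by rw [hg]; trivial
      exact Submodule.mem_span_singleton.1 this
  obtain ⟨γ, hγg, hγspan⟩ := exists_dual_generator hFP x g hgb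
  have hspγg : RefHull.evalStalk F (Coh.structureModule X) (genericPoint X)
      (((RefHull.dual F).presheaf.stalkSpecializes (spη x)).hom γ)
      ((F.presheaf.stalkSpecializes (spη x)).hom g) = oneGerm X (genericPoint X) := by
    rw [evalStalk_sp, hγg, sp_oneGerm]
  have hspγ : ((RefHull.dual F).presheaf.stalkSpecializes (spη x)).hom γ ≠ 0 := by
    intro h0
    rw [h0, map_zero, LinearMap.zero_apply] at hspγg
    exact oneGerm_ne_zero _ hspγg.symm
  obtain ⟨φ, hφ⟩ := hF1.exists_eq_smul hspg v
  obtain ⟨ψ, hψ⟩ := hD1.exists_eq_smul hspγ w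
  have hφ0 : φ ≠ 0 := by
    rintro rfl
    rw [zero_smul] at hφ
    exact hv hφ
  have hψφ : ψ * φ = 1 := by
    have key : RefHull.evalStalk F (Coh.structureModule X) (genericPoint X) w v =
        (ψ * φ) • oneGerm X (genericPoint X) := by
      rw [hψ, hφ, map_smul, map_smul, LinearMap.smul_apply, hspγg, smul_smul, mul_comm]
    apply smul_oneGerm_injective (genericPoint X)
    change (ψ * φ) • oneGerm X (genericPoint X) = (1 : X.presheaf.stalk (genericPoint X)) • _
    rw [one_smul, ← key, hwv]
  have hψ' : ψ = φ⁻¹ := eq_inv_of_mul_eq_one_left hψφ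
  rw [secOrdAt_mk (RefHull.dual F) x hx γ hγspan hspγ w ψ hψ, secOrdAt_mk F x hx g hg hspg v φ hφ,
    hψ', ord_inv' x φ hφ0]

/-- the divisor of the unit section of the structure module is zero -/
theorem secOrdAt_one (x : X) (hx : Order.coheight x = 1) :
    Cyc.secOrdAt (Coh.structureModule X) (genericPoint X) x (spη x)
      (Submodule.Quotient.mk (oneGerm X (genericPoint X)) :
        Cyc.secFibre (Coh.structureModule X) (genericPoint X)) = 0 := by
  have hgen : Groth.Agent.Lib.Lead.Inv.IsGen (Coh.structureModule X) ⊤
      ((1 : Γ(X, ⊤)) : Γ(Coh.structureModule X, ⊤)) :=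
    Groth.Agent.Lib.Helper35.Gen.isGen_one ⊤
  have h0 := secOrdAt_of_isGen (Coh.structureModule X) hgen x trivial hx (spη x) 1
  rw [one_smul, ord_one] at h0
  exact h0

end Groth.Agent.Lib.Helper64.Ref1Grp
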