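import Groth.Agent.Lib.Helper64.Ref1Grp3

/-!
# The group law on rank one reflexive modules, through divisors (helper64)

* `LinEq`: linear equivalence of integer valued functions at the points of codimension one.
* `HasDiv F D`: `D` is the divisor of a nonzero rational section of `F`.
* `nonempty_iso_iff_linEq`, `hasDiv_ddual_tensor`, `hasDiv_dual`, `hasDiv_one`.
-/

set_option autoImplicit false
set_option linter.style.haveILetI false
set_option linter.unusedSectionVars false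
universe u

open AlgebraicGeometry CategoryTheory Opposite TopologicalSpace TensorProduct

namespace Groth.Agent.Lib.Helper64.Ref1Grp

open Groth.Agent.Lib.Lead.QCohAff
open Groth.Agent.Lib.Helper64.RefExt Groth.Agent.Lib.Helper64.RefS2
open Groth.Agent.Lib.Helper64.HomSh Groth.Agent.Lib.Helper64.SecOrd
open Groth.Agent.Lib.Helper64.StalkGen
open Groth.Agent.Lib.Helper29.QCohLoc

variable {X : Scheme.{u}} [IsIntegral X] [IsLocallyNoetherian X]

/-- linear equivalence of integer valued functions, compared at the points of codimension one -/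
def LinEq (D D' : X → ℤ) : Prop :=
  ∃ f : X.functionField, f ≠ 0 ∧ ∀ x : X, Order.coheight x = 1 → D x = D' x + Scheme.ord f x

theorem LinEq.refl (D : X → ℤ) : LinEq D D :=
  ⟨1, one_ne_zero, fun x _ => by rw [ord_one, add_zero]⟩

theorem LinEq.of_eq {D D' : X → ℤ} (h : ∀ x : X, Order.coheight x = 1 → D x = D' x) :
    LinEq D D' :=
  ⟨1, one_ne_zero, fun x hx => by rw [ord_one, add_zero, h x hx]⟩

theorem LinEq.symm {D D' : X → ℤ} (h : LinEq D D') : LinEq D' D := by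
  obtain ⟨f, hf, h⟩ := h
  refine ⟨f⁻¹, inv_ne_zero hf, fun x hx => ?_⟩
  rw [h x hx, ord_inv' x f hf]
  ring

theorem LinEq.trans {D D' D'' : X → ℤ} (h : LinEq D D') (h' : LinEq D' D'') : LinEq D D'' := by
  obtain ⟨f, hf, h⟩ := h
  obtain ⟨g, hg, h'⟩ := h'
  refine ⟨g * f, mul_ne_zero hg hf, fun x hx => ?_⟩
  rw [h x hx, h' x hx, Scheme.ord_mul hg hf]
  ring

theorem LinEq.add {D₁ D₁' D₂ D₂' : X → ℤ} (h₁ : LinEq D₁ D₁') (h₂ : LinEq D₂ D₂') :
    LinEq (D₁ + D₂) (D₁' + D₂') := by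
  obtain ⟨f, hf, h⟩ := h₁
  obtain ⟨g, hg, h'⟩ := h₂
  refine ⟨f * g, mul_ne_zero hf hg, fun x hx => ?_⟩
  rw [Pi.add_apply, Pi.add_apply, h x hx, h' x hx, Scheme.ord_mul hf hg]
  ring

theorem LinEq.neg {D D' : X → ℤ} (h : LinEq D D') : LinEq (-D) (-D') := by
  obtain ⟨f, hf, h⟩ := h
  refine ⟨f⁻¹, inv_ne_zero hf, fun x hx => ?_⟩
  rw [Pi.neg_apply, Pi.neg_apply, h x hx, ord_inv' x f hf]
  ring

/-- `D` is the divisor of a nonzero rational section of `F` (at the points of codimension one) -/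
def HasDiv (F : X.Modules) (D : X → ℤ) : Prop :=
  ∃ v : F.presheaf.stalk (genericPoint X), v ≠ 0 ∧ ∀ x : X, Order.coheight x = 1 →
    Cyc.secOrdAt F (genericPoint X) x (spη x)
      (Submodule.Quotient.mk v : Cyc.secFibre F (genericPoint X)) = D x

theorem exists_hasDiv {F : X.Modules} (hF : RefHull.IsRef1 F) : ∃ D : X → ℤ, HasDiv F D := by
  obtain ⟨v, hv⟩ := exists_ne_zero_generic (genRankOne_of_genInvertible hF.2.2)
  exact ⟨_, v, hv, fun x _ => rfl⟩

theorem nonempty_iso_of_linEq (hX : Pi1.IsNormalScheme X) {F G : X.Modules}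
    (hF : RefHull.IsRef1 F) (hG : RefHull.IsRef1 G) {D D' : X → ℤ} (hD : HasDiv F D)
    (hD' : HasDiv G D') (h : LinEq D D') : Nonempty (F ≅ G) := by
  obtain ⟨v, hv, hvD⟩ := hD
  obtain ⟨v', hv', hvD'⟩ := hD'
  obtain ⟨f, hf, h⟩ := h
  exact nonempty_iso_of_ord hX hF hG hv hv' f hf fun x hx => by
    rw [hvD x hx, hvD' x hx, h x hx]

theorem linEq_of_iso (hX : Pi1.IsNormalScheme X) {F G : X.Modules}
    (hF : RefHull.IsRef1 F) (hG : RefHull.IsRef1 G) {D D' : X → ℤ} (hD : HasDiv F D)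
    (hD' : HasDiv G D') (e : F ≅ G) : LinEq D D' := by
  obtain ⟨v, hv, hvD⟩ := hD
  obtain ⟨v', hv', hvD'⟩ := hD'
  obtain ⟨f, hf, h⟩ := exists_ord_of_iso hX hF hG e hv hv'
  exact ⟨f, hf, fun x hx => by rw [← hvD x hx, ← hvD' x hx, h x hx]⟩

theorem hasDiv_ddual_tensor (hX : Pi1.IsNormalScheme X) {F G : X.Modules}
    (hF : RefHull.IsRef1 F) (hG : RefHull.IsRef1 G) {D D' : X → ℤ} (hD : HasDiv F D)
    (hD' : HasDiv G D') : HasDiv (RefHull.ddual (CohB1.tensorMod F G)) (D + D') := by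
  obtain ⟨v, hv, hvD⟩ := hD
  obtain ⟨v', hv', hvD'⟩ := hD'
  obtain ⟨w, hw, h⟩ := exists_section_ddual_tensor hX hF hG hv hv'
  exact ⟨w, hw, fun x hx => by rw [h x hx, hvD x hx, hvD' x hx, Pi.add_apply]⟩

theorem hasDiv_dual (hX : Pi1.IsNormalScheme X) {F : X.Modules}
    (hF : RefHull.IsRef1 F) {D : X → ℤ} (hD : HasDiv F D) : HasDiv (RefHull.dual F) (-D) := by
  obtain ⟨v, hv, hvD⟩ := hD
  obtain ⟨w, hw, h⟩ := exists_section_dual hX hF hv
  exact ⟨w, hw, fun x hx => by rw [h x hx, hvD x hx, Pi.neg_apply]⟩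

theorem hasDiv_one : HasDiv (Coh.structureModule X) 0 :=
  ⟨oneGerm X (genericPoint X), oneGerm_ne_zero _, fun x hx => by
    rw [secOrdAt_one x hx, Pi.zero_apply]⟩

theorem cl_eq_iff {F G : X.Modules} : PicF.cl F = PicF.cl G ↔ Nonempty (F ≅ G) := by
  constructor
  · intro h
    have h1 := Quot.eqvGen_exact h
    clear h
    induction h1 with
    | rel A B h => exact h
    | refl A => exact ⟨Iso.refl A⟩
    | symm A B _ ih => exact ⟨ih.some.symm⟩
    | trans A B C _ _ ih1 ih2 => exact ⟨ih1.some ≪≫ ih2.some⟩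
  · intro h
    exact Quot.sound h

end Groth.Agent.Lib.Helper64.Ref1Grp
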