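import Mathlib

/-!
# Reflexive modules of rank one over a UFD are free (helper64)

* `exists_dual_generator`: the dual of a nonzero f.g. ideal of a UFD is free of rank one.
* `exists_generator_of_isReflexive`: a f.g. reflexive module over a UFD which embeds into the fraction
  field is generated by one element.
-/

set_option autoImplicit false
set_option linter.style.haveILetI false
universe u

namespace Groth.Agent.Lib.Helper64.UfdRefl

open scoped nonZeroDivisors

/-- the dual of a nonzero finitely generated ideal of a UFD is free of rank one -/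
theorem exists_dual_generator {R : Type*} [CommRing R] [IsDomain R] [UniqueFactorizationMonoid R]
    (I : Ideal R) (hI : I.FG) (hI0 : I ≠ ⊥) :
    ∃ l₀ : Module.Dual R I, l₀ ≠ 0 ∧ ∀ φ : Module.Dual R I, ∃ e : R, φ = e • l₀ := by
  classical
  letI := UniqueFactorizationMonoid.strongNormalizationMonoid (α := R)
  letI := UniqueFactorizationMonoid.toNormalizedGCDMonoid R
  obtain ⟨S, hS⟩ := hI
  let d : R := S.gcd id
  have hd : ∀ a ∈ S, d ∣ a := fun a ha => Finset.gcd_dvd ha
  have hId : ∀ x ∈ I, d ∣ x := by
    intro x hx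
    rw [← hS] at hx
    refine Submodule.span_induction (p := fun x _ => d ∣ x) ?_ ?_ ?_ ?_ hx
    · intro a ha; exact hd a ha
    · exact dvd_zero d
    · intro a b _ _ ha hb; exact dvd_add ha hb
    · intro r a _ ha; exact Dvd.dvd.mul_left ha r
  have hd0 : d ≠ 0 := by
    intro h0
    apply hI0
    rw [eq_bot_iff]
    intro x hx
    have := hId x hx
    rw [h0, zero_dvd_iff] at this
    exact this
  -- the functional `x ↦ x / d`
  have hq : ∀ x : I, ∃ q : R, (x : R) = d * q := fun x => hId x x.2
  choose q hq using hq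
  let l₀ : Module.Dual R I :=
    { toFun := q
      map_add' := by
        intro x y
        apply mul_left_cancel₀ hd0
        rw [mul_add, ← hq, ← hq, ← hq]
        rfl
      map_smul' := by
        intro r x
        apply mul_left_cancel₀ hd0
        simp only [RingHom.id_apply, smul_eq_mul]
        rw [← hq, mul_left_comm, ← hq]
        rfl }
  have hl₀ : ∀ x : I, (x : R) = d * l₀ x := hq
  refine ⟨l₀, ?_, ?_⟩
  · intro h0
    apply hI0
    rw [eq_bot_iff]
    intro x hx
    have := hl₀ ⟨x, hx⟩
    rw [h0] at this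
    simpa using this
  · intro φ
    -- a nonzero element
    obtain ⟨x₀, hx₀I, hx₀⟩ : ∃ x₀ ∈ I, x₀ ≠ 0 := by
      by_contra hcon
      push Not at hcon
      exact hI0 (eq_bot_iff.2 fun x hx => hcon x hx)
    have hprop : ∀ x : I, x₀ * φ x = (x : R) * φ ⟨x₀, hx₀I⟩ := by
      intro x
      have h1 : x₀ • x = (x : R) • (⟨x₀, hx₀I⟩ : I) := by
        apply Subtype.ext
        simp [mul_comm]
      have := congrArg φ h1
      rw [map_smul, map_smul] at this
      exact this
    -- reduced fraction of `φ x₀ / x₀`
    by_cases hφ0 : φ ⟨x₀, hx₀I⟩ = 0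
    · refine ⟨0, ?_⟩
      rw [zero_smul]
      apply LinearMap.ext
      intro x
      have := hprop x
      rw [hφ0, mul_zero] at this
      rcases mul_eq_zero.1 this with h | h
      · exact absurd h hx₀
      · exact h
    obtain ⟨p, qq, hrel, hpq⟩ := IsFractionRing.exists_reduced_fraction (A := R)
      (K := FractionRing R) (algebraMap R (FractionRing R) (φ ⟨x₀, hx₀I⟩) /
        algebraMap R (FractionRing R) x₀)
    have hqq0 : (qq : R) ≠ 0 := nonZeroDivisors.ne_zero qq.2
    have hx₀K : algebraMap R (FractionRing R) x₀ ≠ 0 := by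
      rwa [Ne, map_eq_zero_iff _ (IsFractionRing.injective R (FractionRing R))]
    have hqqK : algebraMap R (FractionRing R) (qq : R) ≠ 0 := by
      rwa [Ne, map_eq_zero_iff _ (IsFractionRing.injective R (FractionRing R))]
    -- `p * x₀ = qq * φ x₀`
    have h1 : p * x₀ = qq * φ ⟨x₀, hx₀I⟩ := by
      apply IsFractionRing.injective R (FractionRing R)
      rw [map_mul, map_mul]
      rw [IsFractionRing.mk'_eq_div] at hpq
      field_simp at hpq
      rw [hpq]
    -- hence `qq * φ x = p * x` for all `x`
    have h2 : ∀ x : I, (qq : R) * φ x = p * (x : R) := by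
      intro x
      apply mul_left_cancel₀ hx₀
      calc x₀ * (qq * φ x) = qq * (x₀ * φ x) := by ring
        _ = qq * ((x : R) * φ ⟨x₀, hx₀I⟩) := by rw [hprop x]
        _ = (x : R) * (qq * φ ⟨x₀, hx₀I⟩) := by ring
        _ = (x : R) * (p * x₀) := by rw [h1]
        _ = x₀ * (p * x) := by ring
    -- `qq ∣ a` for all generators, hence `qq ∣ d`
    have h3 : ∀ a ∈ S, (qq : R) ∣ a := by
      intro a ha
      have haI : a ∈ I := by rw [← hS]; exact Submodule.subset_span ha
      have h4 : (qq : R) ∣ p * a := ⟨φ ⟨a, haI⟩, (h2 ⟨a, haI⟩).symm⟩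
      exact hrel.symm.dvd_of_dvd_mul_left h4
    have h5 : (qq : R) ∣ d := Finset.dvd_gcd h3
    obtain ⟨d', hd'⟩ := h5
    refine ⟨p * d', ?_⟩
    apply LinearMap.ext
    intro x
    apply mul_left_cancel₀ hqq0
    rw [h2 x, LinearMap.smul_apply, smul_eq_mul, hl₀ x, hd']
    ring


/-- a finitely generated reflexive module of rank one over a UFD is generated by one element -/
theorem exists_generator_of_isReflexive {R K M : Type*} [CommRing R] [IsDomain R]
    [UniqueFactorizationMonoid R] [Field K] [Algebra R K] [IsFractionRing R K] [AddCommGroup M]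
    [Module R M] [Module.Finite R M] [Module.IsReflexive R M] [Nontrivial M]
    (c : M →ₗ[R] K) (hc : Function.Injective c) :
    ∃ g : M, Submodule.span R {g} = ⊤ := by
  classical
  obtain ⟨S, hS⟩ := (Module.Finite.fg_top : (⊤ : Submodule R M).FG)
  obtain ⟨b, hb⟩ := IsLocalization.exist_integer_multiples_of_finset R⁰ (S.image c)
  have hb0 : (b : R) ≠ 0 := nonZeroDivisors.ne_zero b.2
  have hbK : algebraMap R K (b : R) ≠ 0 := by
    rwa [Ne, map_eq_zero_iff _ (IsFractionRing.injective R K)]
  let N : Submodule R K := LinearMap.range (Algebra.linearMap R K)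
  have hN : ∀ m : M, (b : R) • c m ∈ N := by
    intro m
    have hm : m ∈ Submodule.span R (S : Set M) := by rw [hS]; trivial
    refine Submodule.span_induction (p := fun m _ => (b : R) • c m ∈ N) ?_ ?_ ?_ ?_ hm
    · intro a ha
      obtain ⟨r, hr⟩ := hb (c a) (Finset.mem_image_of_mem c ha)
      exact ⟨r, hr⟩
    · rw [map_zero, smul_zero]; exact Submodule.zero_mem _
    · intro x y _ _ hx hy
      rw [map_add, smul_add]; exact Submodule.add_mem _ hx hy
    · intro r x _ hx
      rw [map_smul, smul_comm]; exact Submodule.smul_mem _ _ hx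
  have hinjK : Function.Injective (Algebra.linearMap R K) := IsFractionRing.injective R K
  let c' : M →ₗ[R] R :=
    (LinearEquiv.ofInjective (Algebra.linearMap R K) hinjK).symm.toLinearMap.comp
      (LinearMap.codRestrict N ((b : R) • c) hN)
  have hc' : ∀ m, algebraMap R K (c' m) = (b : R) • c m := by
    intro m
    have := (LinearEquiv.ofInjective (Algebra.linearMap R K) hinjK).apply_symm_apply
      (LinearMap.codRestrict N ((b : R) • c) hN m)
    exact congrArg Subtype.val this
  have hc'inj : Function.Injective c' := by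
    intro m m' h
    apply hc
    have h1 := (hc' m).symm.trans ((congrArg (algebraMap R K) h).trans (hc' m'))
    rw [Algebra.smul_def, Algebra.smul_def] at h1
    exact mul_left_cancel₀ hbK h1
  let I : Ideal R := LinearMap.range c'
  let e1 : M ≃ₗ[R] I := LinearEquiv.ofInjective c' hc'inj
  have hIfg : I.FG := by
    rw [show I = Submodule.map c' ⊤ from (Submodule.map_top c').symm]
    exact Submodule.FG.map c' Module.Finite.fg_top
  have hI0 : I ≠ ⊥ := by
    intro h0
    obtain ⟨m, hm⟩ := exists_ne (0 : M)
    apply hm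
    apply hc'inj
    have : c' m ∈ I := ⟨m, rfl⟩
    rw [h0] at this
    rw [(Submodule.mem_bot R).1 this, map_zero]
  haveI : Module.IsReflexive R I := Module.equiv e1
  obtain ⟨l₀, hl₀, hgen⟩ := exists_dual_generator I hIfg hI0
  have hΘ : Function.Bijective (LinearMap.toSpanSingleton R (Module.Dual R I) l₀) := by
    constructor
    · rw [injective_iff_map_eq_zero]
      intro e he
      obtain ⟨x, hx⟩ : ∃ x : I, l₀ x ≠ 0 := by
        by_contra hcon
        push Not at hcon
        exact hl₀ (LinearMap.ext hcon)
      have h1 : e * l₀ x = 0 := by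
        have := congrArg (fun φ : Module.Dual R I => φ x) he
        simpa using this
      rcases mul_eq_zero.1 h1 with h | h
      · exact h
      · exact absurd h hx
    · intro φ
      obtain ⟨e, he⟩ := hgen φ
      exact ⟨e, he.symm⟩
  let Θ : R ≃ₗ[R] Module.Dual R I := LinearEquiv.ofBijective _ hΘ
  let E : M ≃ₗ[R] R :=
    e1 ≪≫ₗ (Module.evalEquiv R I) ≪≫ₗ Θ.dualMap ≪≫ₗ (LinearMap.ringLmapEquivSelf R R R)
  refine ⟨E.symm 1, ?_⟩
  rw [eq_top_iff]
  intro m _
  refine Submodule.mem_span_singleton.2 ⟨E m, ?_⟩
  rw [← map_smul, smul_eq_mul, mul_one, LinearEquiv.symm_apply_apply]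

end Groth.Agent.Lib.Helper64.UfdRefl
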