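import Groth.Agent.Lib.Helper64.StalkGen
import Groth.Agent.Lib.Helper64.UfdRefl

/-!
# Reflexive modules of rank one on locally factorial schemes are invertible (helper64)
-/

set_option autoImplicit false
set_option linter.style.haveILetI false
set_option linter.unusedSectionVars false
universe u

open AlgebraicGeometry CategoryTheory Opposite TopologicalSpace

namespace Groth.Agent.Lib.Helper64.RegInv

open Groth.Agent.Lib.Lead.QCohAff Groth.Agent.Lib.Lead.SheafGlue
open Groth.Agent.Lib.Helper64.HomSh Groth.Agent.Lib.Helper64.SecOrd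
open Groth.Agent.Lib.Helper64.RefExt Groth.Agent.Lib.Helper64.RefS2
open Groth.Agent.Lib.Helper64.StalkGen

variable {X : Scheme.{u}} [IsIntegral X] [IsLocallyNoetherian X]

/-- the stalk of a rank one coherent reflexive module at a point with factorial local ring is
generated by one element -/
theorem exists_stalk_generator_of_ufd {F : X.Modules} (hF : RefHull.IsRef1 F) (x : X)
    [UniqueFactorizationMonoid (X.presheaf.stalk x)] :
    ∃ g : F.presheaf.stalk x, Submodule.span (X.presheaf.stalk x) {g} = ⊤ ∧
      (F.presheaf.stalkSpecializes (spη x)).hom g ≠ 0 := by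
  classical
  haveI : F.IsQuasicoherent := hF.1.1
  have htf := fun y => noZeroSMulDivisors_stalk_of_isReflexive hF.1 hF.2.1 y
  have hspinj := sp_injective F htf x
  obtain ⟨w, hw0, hw⟩ := genRankOne_of_genInvertible hF.2.2
  haveI : Module.Finite (X.presheaf.stalk x) (F.presheaf.stalk x) :=
    Groth.Agent.Lib.Helper64.FinTypeStalk.finite_stalk F hF.1.2 x
  haveI : Module.IsReflexive (X.presheaf.stalk x) (F.presheaf.stalk x) :=
    (isReflexive_iff_forall_isReflexiveAt hF.1).1 hF.2.1 x
  haveI : Nontrivial (F.presheaf.stalk x) := by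
    obtain ⟨a, m, ha, ham⟩ := exists_smul_eq_sp F x w
    refine ⟨⟨m, 0, ?_⟩⟩
    rintro rfl
    rw [map_zero] at ham
    have ha' : algebraMap (X.presheaf.stalk x) X.functionField a ≠ 0 := by
      intro h
      exact ha (IsFractionRing.injective (X.presheaf.stalk x) X.functionField
        (h.trans (map_zero _).symm))
    exact smul_ne_zero_generic' ha' hw0 ham
  -- the coefficient map
  choose cf hcf using hw
  let c : F.presheaf.stalk x →ₗ[X.presheaf.stalk x] X.functionField :=
    { toFun := fun m => cf ((F.presheaf.stalkSpecializes (spη x)).hom m)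
      map_add' := by
        intro m m'
        apply smul_injective_generic (F := F) hw0
        rw [add_smul, ← hcf, ← hcf, ← hcf, map_add]
      map_smul' := by
        intro a m
        apply smul_injective_generic (F := F) hw0
        simp only [RingHom.id_apply]
        rw [Algebra.smul_def, mul_smul, ← hcf, ← hcf, sp_smul, sp_algebraMap] }
  have hc : Function.Injective c := by
    rw [injective_iff_map_eq_zero]
    intro m hm
    apply hspinj
    rw [map_zero, hcf ((F.presheaf.stalkSpecializes (spη x)).hom m)]
    have : cf ((F.presheaf.stalkSpecializes (spη x)).hom m) = 0 := hm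
    rw [this, zero_smul]
  obtain ⟨g, hg⟩ := Groth.Agent.Lib.Helper64.UfdRefl.exists_generator_of_isReflexive c hc
  refine ⟨g, hg, ?_⟩
  intro h0
  have hg0 : g = 0 := hspinj (h0.trans (map_zero _).symm)
  obtain ⟨m, hm⟩ := exists_ne (0 : F.presheaf.stalk x)
  apply hm
  have : m ∈ Submodule.span (X.presheaf.stalk x) {g} := by rw [hg]; trivial
  obtain ⟨a, rfl⟩ := Submodule.mem_span_singleton.1 this
  rw [hg0, smul_zero]

/-- **a rank one coherent reflexive module on a locally factorial scheme is invertible** -/
theorem isInvertible_of_isRef1_of_ufd {F : X.Modules} (hF : RefHull.IsRef1 F)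
    (hufd : ∀ x : X, UniqueFactorizationMonoid (X.presheaf.stalk x)) : PicF.IsInvertible F := by
  rw [Groth.Agent.Lib.Lead.Inv.isInvertible_iff_exists_isGen]
  intro x
  haveI := hufd x
  obtain ⟨g, hg, hsp⟩ := exists_stalk_generator_of_ufd hF x
  obtain ⟨U, hxU, e, rfl⟩ := TopCat.Presheaf.exists_germ_eq F.presheaf g
  rw [sp_germ] at hsp
  obtain ⟨V, hVU, hxV, hV⟩ := exists_isGen_of_span F hF.1.2 e x hxU hg hsp
  exact ⟨V, hxV, _, hV⟩

end Groth.Agent.Lib.Helper64.RegInv
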