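import Groth.Agent.Lib.Helper64.StalkIso
import Groth.Agent.Lib.Helper64.HartogsGlue2
import Groth.Agent.Lib.Helper21.IsoLocusGen
import Groth.Agent.Lib.Helper60.TensorMod

/-!
# Reflexive = torsion-free + normal on normal schemes (helper64)

* `bijective_res_of_isReflexive`: Hartogs for reflexive coherent modules, relative form.
* `isReflexive_of_torsionFree_of_normal`.
-/

set_option autoImplicit false
set_option linter.style.haveILetI false
set_option linter.unusedSectionVars false
universe u

open AlgebraicGeometry CategoryTheory Opposite TopologicalSpace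

namespace Groth.Agent.Lib.Helper64.RegRefl

open Groth.Agent.Lib.Lead.QCohAff Groth.Agent.Lib.Lead.SheafGlue
open Groth.Agent.Lib.Helper64.HomSh Groth.Agent.Lib.Helper64.StalkIso
open Groth.Agent.Lib.Helper64.RefS2 Groth.Agent.Lib.Helper64.RefExt

variable {X : Scheme.{u}} [IsIntegral X] [IsLocallyNoetherian X]

theorem not_le_one_of_two_le {d : WithBot ℕ∞} (h : (2 : WithBot ℕ∞) ≤ d) : ¬ d ≤ 1 := by
  intro h1
  have h2 : (2 : WithBot ℕ∞) ≤ 1 := h.trans h1
  exact absurd h2 (by decide)

theorem two_le_of_not_le_one (x : X) (h : ¬ ringKrullDim (X.presheaf.stalk x) ≤ 1) :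
    (2 : WithBot ℕ∞) ≤ ringKrullDim (X.presheaf.stalk x) := by
  rw [AlgebraicGeometry.ringKrullDim_stalk_eq_coheight] at h ⊢
  have h1 : ¬ Order.coheight x ≤ 1 := by
    intro h2
    apply h
    have : ((Order.coheight x : ℕ∞) : WithBot ℕ∞) ≤ ((1 : ℕ∞) : WithBot ℕ∞) :=
      WithBot.coe_le_coe.2 h2
    exact this
  rw [not_le] at h1
  have h2 : (2 : ℕ∞) ≤ Order.coheight x := by
    have : (2 : ℕ∞) = 1 + 1 := by norm_num
    rw [this]
    exact Order.add_one_le_of_lt h1
  have : ((2 : ℕ∞) : WithBot ℕ∞) ≤ ((Order.coheight x : ℕ∞) : WithBot ℕ∞) :=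
    WithBot.coe_le_coe.2 h2
  exact this

/-- Hartogs for reflexive coherent modules on a normal scheme, relative form -/
theorem bijective_res_of_isReflexive (hX : Pi1.IsNormalScheme X) {H : X.Modules}
    (hH : Coh.IsCoh H) (hr : RefHull.IsReflexive H) {U V : X.Opens} (hVU : V ≤ U)
    (hdim : ∀ x : X, x ∈ U → x ∉ V → (2 : WithBot ℕ∞) ≤ ringKrullDim (X.presheaf.stalk x)) :
    Function.Bijective (H.presheaf.map (homOfLE hVU).op) := by
  haveI : H.IsQuasicoherent := hH.1
  apply Groth.Agent.Lib.Helper64.HartogsMod.bijective_res_rel H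
    (fun V hV => Groth.Agent.Lib.Helper29.QCohLoc.LocAt.of_isQuasicoherent H hV) hVU
  intro x hxU hxV
  exact hasRegPairMod_stalk_of_isReflexive hX hH hr x (not_le_one_of_two_le (hdim x hxU hxV))

/-- a finitely generated torsion-free module over the local ring of a point of codimension `≤ 1` of a
normal scheme is reflexive -/
theorem isReflexiveAt_of_torsionFree_of_dim_le_one (hX : Pi1.IsNormalScheme X) {F : X.Modules}
    (hF : Coh.IsCoh F) (x : X)
    (htf : Module.IsTorsionFree (X.presheaf.stalk x) (F.presheaf.stalk x))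
    (hx : ringKrullDim (X.presheaf.stalk x) ≤ 1) : RefHull.IsReflexiveAt F x := by
  haveI : Module.Finite (X.presheaf.stalk x) (F.presheaf.stalk x) :=
    Groth.Agent.Lib.Helper64.FinTypeStalk.finite_stalk F hF.2 x
  haveI : IsDomain (X.presheaf.stalk x) := (hX x).1
  haveI : IsIntegrallyClosed (X.presheaf.stalk x) := (hX x).2
  haveI : IsPrincipalIdealRing (X.presheaf.stalk x) := by
    by_cases h1 : ringKrullDim (X.presheaf.stalk x) = 1
    · haveI : Ring.KrullDimLE 1 (X.presheaf.stalk x) := Ring.krullDimLE_iff.mpr h1.le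
      haveI : Ring.DimensionLEOne (X.presheaf.stalk x) :=
        ⟨fun hp hprime => hprime.isMaximal_of_ne_bot hp⟩
      haveI : IsDedekindDomain (X.presheaf.stalk x) := {}
      have hnf : ¬ IsField (X.presheaf.stalk x) := by
        intro hf
        letI := hf.toField
        rw [ringKrullDim_eq_zero_of_field] at h1
        exact zero_ne_one h1
      haveI : IsDiscreteValuationRing (X.presheaf.stalk x) :=
        ((IsDiscreteValuationRing.TFAE (X.presheaf.stalk x) hnf).out 2 0).mp ‹_›
      infer_instance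
    · have h0 := withBot_enat_le_zero_of_le_one _ hx h1
      have hbot := maximalIdeal_eq_bot_of_ringKrullDim_le_zero (X.presheaf.stalk x) h0
      have hfld : IsField (X.presheaf.stalk x) := IsLocalRing.isField_iff_maximalIdeal_eq.2 hbot
      letI := hfld.toField
      infer_instance
  haveI : Module.Free (X.presheaf.stalk x) (F.presheaf.stalk x) :=
    Module.free_of_finite_type_torsion_free'
  exact inferInstanceAs (Module.IsReflexive (X.presheaf.stalk x) (F.presheaf.stalk x))

/-- **a torsion-free coherent module satisfying Hartogs' extension property is reflexive** -/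
theorem isReflexive_of_torsionFree_of_normal (hX : Pi1.IsNormalScheme X) {F : X.Modules}
    (hF : Coh.IsCoh F) (htf : TorSh.IsTorsionFree F)
    (hnorm : ∀ (U V : X.Opens) (hVU : V ≤ U),
      (∀ x : X, x ∈ U → x ∉ V → (2 : WithBot ℕ∞) ≤ ringKrullDim (X.presheaf.stalk x)) →
        Function.Bijective (F.presheaf.map (homOfLE hVU).op)) :
    RefHull.IsReflexive F := by
  have hD : Coh.IsCoh (RefHull.ddual F) := isCoh_ddual hF
  have hDr : RefHull.IsReflexive (RefHull.ddual F) := isReflexive_dual (isCoh_dual hF)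
  haveI : F.IsQuasicoherent := hF.1
  haveI : SheafOfModules.IsFiniteType (R := X.ringCatSheaf) F := hF.2
  haveI : (RefHull.ddual F).IsQuasicoherent := hD.1
  haveI : SheafOfModules.IsFiniteType (R := X.ringCatSheaf) (RefHull.ddual F) := hD.2
  have hopen := Groth.Agent.Lib.Helper21.IsoLocusGen.isOpen_bijLocus F (RefHull.ddual F)
    (RefHull.bidualMap F)
  let W₁ : X.Opens := ⟨_, hopen⟩
  have hW₁ : ∀ x : X, x ∉ W₁ → (2 : WithBot ℕ∞) ≤ ringKrullDim (X.presheaf.stalk x) := by
    intro x hx
    apply two_le_of_not_le_one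
    intro h1
    apply hx
    exact (bijective_stalkMap_bidualMap_iff (isFP_of_isCoh hF) (isFP_of_isCoh (isCoh_dual hF)) x).2
      (isReflexiveAt_of_torsionFree_of_dim_le_one hX hF x (htf x) h1)
  unfold RefHull.IsReflexive
  apply Groth.Agent.Lib.Helper60.TensorLib.isIso_of_app_bijective
  intro U
  have hres1 := hnorm U (U ⊓ W₁) inf_le_left (fun x _ hx => hW₁ x (fun h => hx ⟨‹x ∈ U›, h⟩))
  have hres2 := bijective_res_of_isReflexive hX hD hDr (inf_le_left : U ⊓ W₁ ≤ U)
    (fun x _ hx => hW₁ x (fun h => hx ⟨‹x ∈ U›, h⟩))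
  have hb := bijective_app_of_stalk (RefHull.bidualMap F) (U ⊓ W₁) (fun x hx => hx.2)
  have hcomm : ∀ s : Γ(F, U), (RefHull.ddual F).presheaf.map (homOfLE (inf_le_left : U ⊓ W₁ ≤ U)).op
      ((RefHull.bidualMap F).app U s) =
      (RefHull.bidualMap F).app (U ⊓ W₁) (F.presheaf.map (homOfLE inf_le_left).op s) :=
    fun s => (hom_res (RefHull.bidualMap F) inf_le_left s).symm
  constructor
  · intro s s' hss
    apply hres1.1
    apply hb.1
    rw [← hcomm, ← hcomm, hss]
  · intro t
    obtain ⟨s', hs'⟩ := hb.2 ((RefHull.ddual F).presheaf.map (homOfLE inf_le_left).op t)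
    obtain ⟨s, rfl⟩ := hres1.2 s'
    refine ⟨s, ?_⟩
    apply hres2.1
    rw [hcomm, hs']

end Groth.Agent.Lib.Helper64.RegRefl
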