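import Groth.Agent.Lib.Helper64.FlatGys3

/-!
# Relative effective Cartier divisors: commutative algebra (helper64)

* `mem_map_of_mul_mem_of_flat`: if `A → B = A/(f)` with `f` a nonzerodivisor and `B` flat over `R`,
  then `f` is a nonzerodivisor modulo `I A` for every ideal `I` of `R` (equational criterion);
* `length_quotient_sup_eq`: `length_B (B / 𝔪 B) = length_A (A / (𝔪 A + (f)))`.
-/

set_option autoImplicit false
set_option linter.style.haveILetI false
set_option linter.unusedSectionVars false
set_option linter.unusedVariables false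
universe u

open IsLocalRing

namespace Groth.Agent.Lib.Helper64.RelCart

open Groth.Agent.Lib.Helper64.GysPb

theorem mem_map_of_mul_mem_of_flat {R A B : Type u} [CommRing R] [CommRing A] [CommRing B]
    (φA : R →+* A) (φB : R →+* B) (π : A →+* B) (hπ : Function.Surjective π)
    (hcomm : π.comp φA = φB) (hflat : @Module.Flat R B _ _ φB.toAlgebra.toModule)
    (f₁ : A) (hker : RingHom.ker π = Ideal.span {f₁}) (hf₁ : ∀ a : A, f₁ * a = 0 → a = 0)
    (I : Ideal R) (a : A) (ha : f₁ * a ∈ I.map φA) : a ∈ I.map φA := by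
  classical
  letI : Module R B := φB.toAlgebra.toModule
  haveI : Module.Flat R B := hflat
  have hsmul : ∀ (r : R) (x : B), r • x = φB r * x := fun r x => rfl
  have ha' : f₁ * a ∈ Submodule.span A (φA '' (I : Set R)) := ha
  obtain ⟨n, c, g, hsum⟩ := Submodule.mem_span_set'.1 ha'
  choose m hmI hmg using fun j : Fin n => (g j).2
  have hsum' : ∑ j, c j * φA (m j) = f₁ * a := by
    rw [← hsum]
    apply Finset.sum_congr rfl
    intro j _
    rw [smul_eq_mul, ← hmg j]
  -- the relation in `B`
  have hrel : ∑ j, m j • π (c j) = 0 := by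
    have h1 : π (f₁ * a) = 0 := by
      rw [map_mul]
      have : f₁ ∈ RingHom.ker π := by
        rw [hker]
        exact Ideal.mem_span_singleton_self f₁
      rw [(RingHom.mem_ker).1 this, zero_mul]
    rw [← hsum', map_sum] at h1
    rw [← h1]
    apply Finset.sum_congr rfl
    intro j _
    rw [hsmul, map_mul, mul_comm, ← hcomm]
    rfl
  obtain ⟨k, rr, y, hy1, hy2⟩ := Module.Flat.isTrivialRelation_of_sum_smul_eq_zero hrel
  choose b hb using fun l : Fin k => hπ (y l)
  have hmemker : ∀ j, c j - ∑ l, φA (rr j l) * b l ∈ RingHom.ker π := by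
    intro j
    have hy1j : π (c j) = ∑ l, rr j l • y l := hy1 j
    rw [RingHom.mem_ker, map_sub, map_sum, hy1j, sub_eq_zero]
    apply Finset.sum_congr rfl
    intro l _
    rw [map_mul, hb l, hsmul, ← hcomm]
    rfl
  choose e he using fun j => Ideal.mem_span_singleton'.1 (hker ▸ hmemker j)
  have hc : ∀ j, c j = ∑ l, φA (rr j l) * b l + e j * f₁ := by
    intro j
    rw [he j]
    ring
  have hzero : ∑ j, (∑ l, φA (rr j l) * b l) * φA (m j) = 0 := by
    have h1 : ∑ j, (∑ l, φA (rr j l) * b l) * φA (m j) =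
        ∑ l, φA (∑ j, m j * rr j l) * b l := by
      simp_rw [Finset.sum_mul, map_sum, map_mul]
      rw [Finset.sum_comm]
      apply Finset.sum_congr rfl
      intro l _
      rw [Finset.sum_mul]
      apply Finset.sum_congr rfl
      intro j _
      ring
    rw [h1]
    apply Finset.sum_eq_zero
    intro l _
    rw [hy2 l, map_zero, zero_mul]
  have hfin : f₁ * a = f₁ * ∑ j, e j * φA (m j) := by
    rw [← hsum', Finset.mul_sum]
    have h2 : ∀ j, c j * φA (m j) =
        (∑ l, φA (rr j l) * b l) * φA (m j) + f₁ * (e j * φA (m j)) := by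
      intro j
      rw [hc j]
      ring
    rw [Finset.sum_congr rfl (fun j _ => h2 j), Finset.sum_add_distrib, hzero, zero_add]
  have ha2 : a = ∑ j, e j * φA (m j) := by
    have h3 : f₁ * (a - ∑ j, e j * φA (m j)) = 0 := by
      rw [mul_sub, hfin, sub_self]
    exact sub_eq_zero.1 (hf₁ _ h3)
  rw [ha2]
  apply Ideal.sum_mem
  intro j _
  exact Ideal.mul_mem_left _ _ (Ideal.mem_map_of_mem _ (hmI j))

theorem length_quotient_sup_eq {A B : Type u} [CommRing A] [CommRing B] (π : A →+* B)
    (hπ : Function.Surjective π) (J : Ideal A) (f₁ : A) (hker : RingHom.ker π = Ideal.span {f₁}) :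
    Module.length B (B ⧸ J.map π) = Module.length A (A ⧸ (J ⊔ Ideal.span {f₁})) := by
  have hcomap : Ideal.comap π (J.map π) = J ⊔ Ideal.span {f₁} := by
    rw [Ideal.comap_map_of_surjective π hπ, ← hker]
    rfl
  have e1 := length_quotient_eq_of_surjective ((Ideal.Quotient.mk (J.map π)).comp π)
    (Ideal.Quotient.mk_surjective.comp hπ) (J ⊔ Ideal.span {f₁}) (by
      rw [← hcomap]
      ext a
      rw [RingHom.mem_ker, Ideal.mem_comap, RingHom.comp_apply, Ideal.Quotient.eq_zero_iff_mem])
  have e2 := length_quotient_eq_of_surjective (Ideal.Quotient.mk (J.map π))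
    Ideal.Quotient.mk_surjective (J.map π) Ideal.mk_ker
  rw [e1, e2]

end Groth.Agent.Lib.Helper64.RelCart
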