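import Groth.Agent.Lib.Helper64.RelCart1

/-!
# Relative effective Cartier divisors: the fibre ring (helper64)

For `p : X → Y` flat with dimension functions shifted by `c` and a point `x'` of `X` of codimension
one in its fibre: the fibre ring `O_{X,x'}/𝔪_{p x'} O_{X,x'}` has dimension at most one
(`krullDimLE_one_fibre`); if `x' = i d` for the zero scheme `i : D → X` of a section with `D → Y`
flat, the local equation is a nonzerodivisor on the fibre ring (`fibre_regular`) and the fibre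
multiplicity of `d` is the length of the fibre ring modulo the equation (`mult_comp_eq`).
-/

set_option autoImplicit false
set_option linter.style.haveILetI false
set_option linter.unusedSectionVars false
set_option linter.unusedVariables false
universe u

open AlgebraicGeometry CategoryTheory TopologicalSpace IsLocalRing CycAlg Limits

namespace Groth.Agent.Lib.Helper64.RelCart

open Groth.Agent.Lib.Helper64.StalkSpec Groth.Agent.Lib.Helper64.StalkIdeal
open Groth.Agent.Lib.Helper90.RelOrd Groth.Agent.Lib.Helper90.CycPull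
open Groth.Agent.Lib.Helper90

variable {X Y D : Scheme.{u}}

theorem krullDimLE_one_of_bound (δ' : X → ℤ) (hδ' : Cyc.IsDimFun X δ') {x' : X}
    (J : Ideal (X.presheaf.stalk x')) (hJm : J ≤ maximalIdeal (X.presheaf.stalk x'))
    (bound : ∀ (ζ : X) (hζ : ζ ⤳ x'), J ≤ primeOf hζ → δ' ζ ≤ δ' x' + 1) :
    Ring.KrullDimLE 1 (X.presheaf.stalk x' ⧸ J) := by
  have hJtop : J ≠ ⊤ := fun ht => (maximalIdeal.isMaximal _).ne_top (top_le_iff.mp (ht ▸ hJm))
  haveI : Nontrivial (X.presheaf.stalk x' ⧸ J) := Ideal.Quotient.nontrivial_iff.mpr hJtop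
  haveI : IsLocalRing (X.presheaf.stalk x' ⧸ J) :=
    IsLocalRing.of_surjective' (Ideal.Quotient.mk J) Ideal.Quotient.mk_surjective
  apply Ring.KrullDimLE.mk₁
  intro I hI
  haveI := hI
  have hJI : J ≤ I.comap (Ideal.Quotient.mk J) := by
    intro a ha
    rw [Ideal.mem_comap, Ideal.Quotient.eq_zero_iff_mem.mpr ha]
    exact zero_mem _
  obtain ⟨ζ, hζ, hζe⟩ := exists_specializes_primeOf_eq x' (I.comap (Ideal.Quotient.mk J))
  by_cases hzx : ζ = x'
  · right
    have h3 : I.comap (Ideal.Quotient.mk J) = maximalIdeal (X.presheaf.stalk x') := by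
      rw [← hζe, primeOf_congr hzx hζ (specializes_refl x'), primeOf_refl]
    have h4 : maximalIdeal (X.presheaf.stalk x' ⧸ J) ≤ I := by
      rw [← Ideal.comap_le_comap_iff_of_surjective (Ideal.Quotient.mk J)
        Ideal.Quotient.mk_surjective, h3]
      exact le_maximalIdeal (Ideal.comap_ne_top _ (maximalIdeal.isMaximal _).ne_top)
    have h5 : I = maximalIdeal (X.presheaf.stalk x' ⧸ J) :=
      le_antisymm (le_maximalIdeal hI.ne_top) h4
    rw [h5]
    exact maximalIdeal.isMaximal _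
  · left
    have h3 := (hδ' ζ x' hζ hzx).1
    have h4 := bound ζ hζ (hζe ▸ hJI)
    refine ⟨⟨hI, bot_le⟩, ?_⟩
    rintro I₂ ⟨hI₂, -⟩ hI₂I
    haveI := hI₂
    have hJI₂ : J ≤ I₂.comap (Ideal.Quotient.mk J) := by
      intro a ha
      rw [Ideal.mem_comap, Ideal.Quotient.eq_zero_iff_mem.mpr ha]
      exact zero_mem _
    obtain ⟨ζ₂, hζ₂, hζ₂e⟩ := exists_specializes_primeOf_eq x' (I₂.comap (Ideal.Quotient.mk J))
    have h5 : primeOf hζ₂ ≤ primeOf hζ := by
      rw [hζ₂e, hζe]
      exact Ideal.comap_mono hI₂I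
    have hsp : ζ₂ ⤳ ζ := CycOne.specializes_of_primeOf_le hζ₂ hζ h5
    by_cases he : ζ₂ = ζ
    · have h6 : I₂.comap (Ideal.Quotient.mk J) = I.comap (Ideal.Quotient.mk J) := by
        rw [← hζ₂e, ← hζe]
        exact primeOf_congr he _ _
      exact (Ideal.comap_injective_of_surjective _ Ideal.Quotient.mk_surjective h6).ge
    · exfalso
      have h6 := (hδ' ζ₂ ζ hsp he).1
      have h7 := bound ζ₂ hζ₂ (hζ₂e ▸ hJI₂)
      omega

theorem krullDimLE_one_fibre (p : X ⟶ Y) (δX : X → ℤ) (δY : Y → ℤ) (hδX : Cyc.IsDimFun X δX)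
    (c : ℤ) (hc : ∀ x : X, (∀ y, p y = p x → y ⤳ x → y = x) → δX x = δY (p x) + c) (x' : X)
    (hx' : δX x' + 1 = δY (p x') + c) :
    Ring.KrullDimLE 1 (X.presheaf.stalk x' ⧸
      (maximalIdeal (Y.presheaf.stalk (p x'))).map (p.stalkMap x').hom) := by
  apply krullDimLE_one_of_bound δX hδX _ (IsLocalRing.map_maximalIdeal_le (p.stalkMap x').hom)
  intro ζ hζ hJζ
  have h3 : primeOf (specializes_refl (p x')) ≤ primeOf (hζ.map p.continuous) := by
    rw [primeOf_refl, ← CycPull.comap_stalkMap_primeOf p hζ]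
    exact Ideal.map_le_iff_le_comap.mp hJζ
  have hsp : p x' ⤳ p ζ :=
    CycOne.specializes_of_primeOf_le (specializes_refl (p x')) (hζ.map p.continuous) h3
  have heq : p ζ = p x' := ((hζ.map p.continuous).antisymm hsp).eq
  have h5 := CycPull.delta_le p δY δX c hδX hc ζ
  rw [heq] at h5
  omega

theorem fibre_regular (p : X ⟶ Y) (i : D ⟶ X) [IsClosedImmersion i] [Flat (i ≫ p)] (d : D)
    (f₁ : X.presheaf.stalk (i d)) (hker : RingHom.ker (i.stalkMap d).hom = Ideal.span {f₁})
    (hf₁ : ∀ a : X.presheaf.stalk (i d), f₁ * a = 0 → a = 0) :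
    Ideal.Quotient.mk ((maximalIdeal (Y.presheaf.stalk (p (i d)))).map (p.stalkMap (i d)).hom) f₁ ∈
      nonZeroDivisors (X.presheaf.stalk (i d) ⧸
        (maximalIdeal (Y.presheaf.stalk (p (i d)))).map (p.stalkMap (i d)).hom) := by
  have hcomm : (i.stalkMap d).hom.comp (p.stalkMap (i d)).hom = ((i ≫ p).stalkMap d).hom := by
    rw [Scheme.Hom.stalkMap_comp]
    rfl
  have key := mem_map_of_mul_mem_of_flat (p.stalkMap (i d)).hom ((i ≫ p).stalkMap d).hom
    (i.stalkMap d).hom (i.stalkMap_surjective d) hcomm (Flat.stalkMap (i ≫ p) d) f₁ hker hf₁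
    (maximalIdeal (Y.presheaf.stalk (p (i d))))
  rw [mem_nonZeroDivisors_iff_right]
  intro x hx
  obtain ⟨a, rfl⟩ := Ideal.Quotient.mk_surjective x
  rw [← map_mul, Ideal.Quotient.eq_zero_iff_mem] at hx
  rw [Ideal.Quotient.eq_zero_iff_mem]
  apply key a
  rw [mul_comm]
  exact hx

theorem mult_comp_eq (p : X ⟶ Y) (i : D ⟶ X) [IsClosedImmersion i] (d : D)
    (f₁ : X.presheaf.stalk (i d)) (hker : RingHom.ker (i.stalkMap d).hom = Ideal.span {f₁}) :
    mult (i ≫ p) d = ((Module.length (X.presheaf.stalk (i d)) (X.presheaf.stalk (i d) ⧸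
      ((maximalIdeal (Y.presheaf.stalk (p (i d)))).map (p.stalkMap (i d)).hom ⊔
        Ideal.span {f₁}))).toNat : ℤ) := by
  have hcomm : (i.stalkMap d).hom.comp (p.stalkMap (i d)).hom = ((i ≫ p).stalkMap d).hom := by
    rw [Scheme.Hom.stalkMap_comp]
    rfl
  have key := length_quotient_sup_eq (i.stalkMap d).hom (i.stalkMap_surjective d)
    ((maximalIdeal (Y.presheaf.stalk (p (i d)))).map (p.stalkMap (i d)).hom) f₁ hker
  rw [Ideal.map_map, hcomm] at key
  unfold mult
  rw [← key]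
  rfl

end Groth.Agent.Lib.Helper64.RelCart
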