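import Groth.Agent.Lib.Helper64.RelCart2

/-!
# Relative effective Cartier divisors: the Gysin pullback of a flat pullback (helper64)

`relCartier_gysin`: for `p : X → Y` flat of relative dimension `r + 1` and `i : D → X` the zero
scheme of a regular section with `D → Y` flat of relative dimension `r`:
`i^*(p^* α) = (p|_D)^* α` (equality of coefficients, hence rational equivalence).
-/

set_option autoImplicit false
set_option linter.style.haveILetI false
set_option linter.unusedSectionVars false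
set_option linter.unusedVariables false
universe u

open AlgebraicGeometry CategoryTheory TopologicalSpace IsLocalRing CycAlg Limits

namespace Groth.Agent.Lib.Helper64.RelCart

open Groth.Agent.Lib.Helper64.CycOrd Groth.Agent.Lib.Helper64.CycLen
open Groth.Agent.Lib.Helper64.CycExc Groth.Agent.Lib.Helper64.CycTens
open Groth.Agent.Lib.Helper64.CycCl Groth.Agent.Lib.Helper64.RelKey
open Groth.Agent.Lib.Helper64.RefExt Groth.Agent.Lib.Helper64.RefS2
open Groth.Agent.Lib.Helper64.SecOrd Groth.Agent.Lib.Helper64.GysPb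
open Groth.Agent.Lib.Helper64.GysSq Groth.Agent.Lib.Helper64.FlatC1
open Groth.Agent.Lib.Helper64.StalkSpec Groth.Agent.Lib.Helper64.StalkIdeal
open Groth.Agent.Lib.Lead.Inv Groth.Agent.Lib.Lead.QCohAff
open Groth.Agent.Lib.Helper90.RelOrd Groth.Agent.Lib.Helper90.CycPull
open Groth.Agent.Lib.Helper73

theorem delta_mono {X : Scheme.{u}} {δ : X → ℤ} (hδ : Cyc.IsDimFun X δ) {x y : X} (h : x ⤳ y) :
    δ y ≤ δ x := by
  by_cases he : x = y
  · rw [he]
  · exact (hδ x y h he).1.le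

theorem eq_of_delta_eq {X : Scheme.{u}} {δ : X → ℤ} (hδ : Cyc.IsDimFun X δ) {x y : X} (h : x ⤳ y)
    (he : δ x = δ y) : x = y := by
  by_contra hne
  have := (hδ x y h hne).1
  omega

theorem relCartier_gysin (X Y D : Scheme.{u}) (δX : X → ℤ) (δY : Y → ℤ) (hX : Cyc.IsSetup X δX)
    (hY : Cyc.IsSetup Y δY) (p : X ⟶ Y) [Flat p] [LocallyOfFiniteType p] (r : ℕ)
    (hr : Cyc.HasRelDim p (r + 1)) (hδ : Cyc.DeltaCompat p δX δY) (L : X.Modules)
    (hL : PicF.IsInvertible L) (s : L.presheaf.obj (Opposite.op ⊤))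
    (hreg : ∀ x : X, Function.Injective
      (fun a : X.presheaf.stalk x => a • (L.presheaf.germ ⊤ x trivial) s))
    (i : D ⟶ X) [IsClosedImmersion i] (hD : Cyc.IsZeroSchemeOf i L s) [Flat (i ≫ p)]
    (hrD : Cyc.HasRelDim (i ≫ p) r) (k : ℤ) (α : AlgebraicCycle Y ℤ)
    (hα : α ∈ Cyc.Zk Y δY (k + 1)) (w : (ξ : X) → Cyc.secFibre L ξ) (hw : ∀ ξ, w ξ ≠ 0)
    (γ ζ : AlgebraicCycle D ℤ)
    (hγ : ∀ d, γ d = Cyc.c1CapFun δX L (Cyc.pullFun p δX δY (r + 1) ⇑α)
      (Cyc.gysinChoice L s w) (i d))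
    (hζ : ⇑ζ = Cyc.pullFun (i ≫ p) (fun d => δX (i d)) δY r ⇑α) :
    Cyc.RatEquiv (fun d => δX (i d)) (k + r + 1) γ ζ := by
  classical
  haveI : IsLocallyNoetherian X := hX.1
  haveI : IsLocallyNoetherian Y := hY.1
  have hδX : Cyc.IsDimFun X δX := hX.2.2
  have hδY : Cyc.IsDimFun Y δY := hY.2.2
  have hSD := isSetup_closedImmersion i hX
  haveI : IsLocallyNoetherian D := hSD.1
  have hδD : Cyc.IsDimFun D (fun d => δX (i d)) := hSD.2.2
  have hresf : ∀ y : X, δX y = δY (p y) + resTrdegNat p y := by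
    intro x
    obtain ⟨n, hn, hx⟩ := hδ x
    have h1 : resTrdeg p x = (n : Cardinal.{u}) := hn
    rw [resTrdeg_eq_resTrdegNat] at h1
    have : resTrdegNat p x = n := by exact_mod_cast h1
    rw [hx, this]
  have hr' := (hasRelDim_iff_forall_maximal p (r + 1)).1 hr
  have hcf : ∀ y : X, (∀ z, p z = p y → z ⤳ y → z = y) → δX y = δY (p y) + ((r : ℤ) + 1) := by
    intro y hy
    rw [hresf y, hr' y (fun t ht hgt => hy t hgt ht)]
    push_cast
    ring
  haveI : LocallyOfFiniteType (i ≫ p) := inferInstance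
  have hrD' := (hasRelDim_iff_forall_maximal (i ≫ p) r).1 hrD
  have hcD : ∀ d : D, (∀ z, (i ≫ p) z = (i ≫ p) d → z ⤳ d → z = d) →
      δX (i d) = δY ((i ≫ p) d) + (r : ℤ) := by
    intro d hd
    have h1 := hrD' d (fun t ht hgt => hd t hgt ht)
    have h2 : resTrdeg (i ≫ p) d = resTrdeg p (i d) :=
      resTrdeg_comp_of_bijective_left i p d (residueFieldMap_bijective i d)
    have h3 : resTrdegNat (i ≫ p) d = resTrdegNat p (i d) := by
      unfold resTrdegNat
      rw [h2]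
    rw [hresf (i d), ← h3, h1]
    rfl
  have hleD : ∀ d : D, δX (i d) ≤ δY ((i ≫ p) d) + (r : ℤ) :=
    delta_le (i ≫ p) δY (fun d => δX (i d)) (r : ℤ) hδD hcD
  have hltD : ∀ d : D, ¬ IsFibMax (i ≫ p) d → δX (i d) < δY ((i ≫ p) d) + (r : ℤ) := by
    intro d hd
    obtain ⟨y, hy1, hy2, hy3⟩ := exists_isFibMax_specializes (i ≫ p) d
    have hne : y ≠ d := fun h => hd (h ▸ hy3)
    have h1 := hcD y hy3
    have h2 := (hδD y d hy2 hne).1
    rw [hy1] at h1
    have h2' : δX (i d) < δX (i y) := h2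
    omega
  obtain ⟨β, hβ⟩ : ∃ β : X → ℤ, β = Cyc.pullFun p δX δY ((r : ℤ) + 1) ⇑α := ⟨_, rfl⟩
  obtain ⟨G, hGdef⟩ : ∃ G : (ξ : X) → Cyc.secFibre L ξ, G = Cyc.gysinChoice L s w := ⟨_, rfl⟩
  have hβval : ∀ ξ, IsFibMax p ξ → β ξ = α (p ξ) * mult p ξ := by
    intro ξ hξ
    rw [hβ]
    exact pullFun_eq_of_isFibMax p δX δY _ hcf _ ξ hξ
  have hβzero : ∀ ξ, ¬ IsFibMax p ξ → β ξ = 0 := by
    intro ξ hξ
    rw [hβ]
    exact pullFun_eq_zero_of_not_isFibMax p δX δY _ _ ξ hξ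
  have hαk : ∀ η : Y, α η ≠ 0 → δY η = k + 1 := by
    intro η hne
    by_contra h
    exact hne (hα η h)
  have hmain : ∀ d, γ d = ζ d := by
    intro d
    rw [hγ d, congrFun hζ d, ← hβ, ← hGdef]
    obtain ⟨S, hS⟩ : ∃ S : X → ℤ, ∀ ξ, S ξ = Cyc.secDivFun δX L ξ (G ξ) (i d) := ⟨_, fun _ => rfl⟩
    have hLHS : Cyc.c1CapFun δX L β G (i d) = ∑ᶠ ξ, β ξ * S ξ := by
      unfold Cyc.c1CapFun
      apply finsum_congr
      intro ξ
      rw [hS]
    rw [hLHS]
    have hterm : ∀ ξ, β ξ * S ξ ≠ 0 → IsFibMax p ξ ∧ α (p ξ) ≠ 0 ∧ ξ ⤳ i d ∧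
        δX (i d) = k + r + 1 ∧ δY (p ξ) = k + 1 := by
      intro ξ hne
      have hb : β ξ ≠ 0 := left_ne_zero_of_mul hne
      have hs : S ξ ≠ 0 := right_ne_zero_of_mul hne
      have hfm : IsFibMax p ξ := by
        by_contra h
        exact hb (hβzero ξ h)
      have hα₀ : α (p ξ) ≠ 0 := by
        intro h0
        apply hb
        rw [hβval ξ hfm, h0, zero_mul]
      have hcnd : ξ ⤳ i d ∧ δX (i d) + 1 = δX ξ := by
        by_contra hc
        apply hs
        rw [hS]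
        unfold Cyc.secDivFun
        rw [dif_neg hc]
      have h1 := hαk (p ξ) hα₀
      have h2 := hcf ξ hfm
      refine ⟨hfm, hα₀, hcnd.1, ?_, h1⟩
      have := hcnd.2
      omega
    by_cases hfmd : IsFibMax (i ≫ p) d
    swap
    · rw [pullFun_eq_zero_of_not_isFibMax (i ≫ p) (fun d => δX (i d)) δY _ _ d hfmd]
      apply finsum_eq_zero_of_forall_eq_zero
      intro ξ
      by_contra hne
      obtain ⟨hfm, hα₀, hsp, hdim, hk⟩ := hterm ξ hne
      have h1 := hltD d hfmd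
      have h2 : δY ((i ≫ p) d) ≤ δY (p ξ) := delta_mono hδY (hsp.map p.continuous)
      omega
    have F1 := hcD d hfmd
    rw [pullFun_eq_of_isFibMax (i ≫ p) (fun d => δX (i d)) δY _ hcD _ d hfmd]
    have hpeq : ∀ ξ, β ξ * S ξ ≠ 0 → p ξ = p (i d) := by
      intro ξ hne
      obtain ⟨hfm, hα₀, hsp, hdim, hk⟩ := hterm ξ hne
      apply eq_of_delta_eq hδY (hsp.map p.continuous)
      have : δY ((i ≫ p) d) = δY (p (i d)) := rfl
      omega
    by_cases hαη : α ((i ≫ p) d) = 0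
    · rw [hαη, zero_mul]
      apply finsum_eq_zero_of_forall_eq_zero
      intro ξ
      by_contra hne
      obtain ⟨hfm, hα₀, hsp, hdim, hk⟩ := hterm ξ hne
      apply hα₀
      rw [hpeq ξ hne]
      exact hαη
    have hkη : δY (p (i d)) = k + 1 := hαk _ hαη
    have hdimd : δX (i d) = δY (p (i d)) + (r : ℤ) := F1
    -- reduce to the points over `η`
    rw [finsum_eq_subtype_of_support (fun ξ => β ξ * S ξ)
      (fun ξ => p ξ = p (i d) ∧ ∀ y, p y = p ξ → y ⤳ ξ → y = ξ)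
      (fun ξ hne => ⟨hpeq ξ hne, (hterm ξ hne).1⟩)]
    have e1 : ∀ ξ' : Over p (p (i d)), β ξ'.1 * S ξ'.1 =
        α ((i ≫ p) d) * (mult p ξ'.1 * S ξ'.1) := by
      intro ξ'
      rw [hβval ξ'.1 ξ'.2.2, ξ'.2.1]
      have : α ((i ≫ p) d) = α (p (i d)) := rfl
      rw [this]
      ring
    have e1' : ∑ᶠ ξ' : {ξ : X // p ξ = p (i d) ∧ ∀ y, p y = p ξ → y ⤳ ξ → y = ξ},
        β ξ'.1 * S ξ'.1 = ∑ᶠ ξ' : Over p (p (i d)), α ((i ≫ p) d) * (mult p ξ'.1 * S ξ'.1) :=
      finsum_congr e1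
    rw [e1', ← mul_finsum]
    congr 1
    -- the local equation
    obtain ⟨t, f₁, hspan, hgerm, hker⟩ := hD.2 d
    obtain ⟨U, hU, e, he⟩ := (isInvertible_iff_exists_isGen.1 hL) (i d)
    obtain ⟨c, hcu, hc⟩ := exists_unit_smul_germ L he (i d) hU t hspan
    obtain ⟨fe, hfe⟩ : ∃ fe : X.presheaf.stalk (i d), fe = f₁ * c := ⟨_, rfl⟩
    have hgerm' : L.presheaf.germ ⊤ (i d) trivial s = fe • L.presheaf.germ U (i d) hU e := by
      rw [hgerm, hc, smul_smul, hfe]
    have hker' : RingHom.ker (i.stalkMap d).hom = Ideal.span {fe} := by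
      rw [hker, hfe, Ideal.span_singleton_mul_right_unit hcu]
    have hfe0 : ∀ a : X.presheaf.stalk (i d), fe * a = 0 → a = 0 := by
      intro a ha
      apply hreg (i d)
      show a • (L.presheaf.germ ⊤ (i d) trivial) s = (0 : X.presheaf.stalk (i d)) •
        (L.presheaf.germ ⊤ (i d) trivial) s
      rw [zero_smul, hgerm', smul_smul, mul_comm, ha, zero_smul]
    have hnu : ¬ IsUnit fe := by
      intro hu
      have h1 : (1 : X.presheaf.stalk (i d)) ∈ RingHom.ker (i.stalkMap d).hom := by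
        rw [hker']
        exact (Ideal.span_singleton_eq_top.2 hu) ▸ Submodule.mem_top
      have h2 : (i.stalkMap d).hom 1 = 0 := h1
      rw [map_one] at h2
      exact one_ne_zero h2
    obtain ⟨J, hJdef⟩ : ∃ J : Ideal (X.presheaf.stalk (i d)),
        J = (maximalIdeal (Y.presheaf.stalk (p (i d)))).map (p.stalkMap (i d)).hom := ⟨_, rfl⟩
    have hJ : J = (primeOf (specializes_refl (p (i d)))).map (p.stalkMap (i d)).hom := by
      rw [hJdef, primeOf_refl]
    haveI hKD : Ring.KrullDimLE 1 (X.presheaf.stalk (i d) ⧸ J) := by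
      rw [hJdef]
      apply krullDimLE_one_fibre p δX δY hδX _ hcf (i d)
      omega
    have hb : Ideal.Quotient.mk J fe ∈ nonZeroDivisors (X.presheaf.stalk (i d) ⧸ J) := by
      rw [hJdef]
      exact fibre_regular p i d fe hker' hfe0
    have key := finsum_relTerm_eq p (p (i d)) (i d) (specializes_refl _) J hJ fe hb hnu
    rw [mult_comp_eq p i d fe hker', ← hJdef, ← key]
    apply finsum_congr
    intro ξ'
    unfold relTerm
    by_cases h' : ξ'.1 ⤳ i d
    swap
    · rw [dif_neg h', hS, secDivFun_eq_zero_of_not_specializes _ _ _ _ _ h', mul_zero]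
    rw [dif_pos h']
    congr 1
    -- `ξ'` is not on `D`
    have hξD : ξ'.1 ∉ Set.range ⇑i := by
      rintro ⟨d₁, hd₁⟩
      have h1 := hleD d₁
      have h2 := hcf ξ'.1 ξ'.2.2
      have h3 : δY ((i ≫ p) d₁) = δY (p (i d₁)) := rfl
      rw [h3, hd₁, ξ'.2.1] at h1
      rw [ξ'.2.1] at h2
      omega
    have hsne : (Submodule.Quotient.mk (L.presheaf.germ ⊤ ξ'.1 trivial s) :
        Cyc.secFibre L ξ'.1) ≠ 0 := by
      intro h0
      apply hξD
      rw [hD.1]
      exact h0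
    have hGeq : G ξ'.1 = (Submodule.Quotient.mk (L.presheaf.germ ⊤ ξ'.1 trivial s) :
        Cyc.secFibre L ξ'.1) := by
      rw [hGdef]
      unfold Cyc.gysinChoice
      rw [if_pos hsne]
    have hcnd : ξ'.1 ⤳ i d ∧ δX (i d) + 1 = δX ξ'.1 := by
      refine ⟨h', ?_⟩
      have h2 := hcf ξ'.1 ξ'.2.2
      rw [ξ'.2.1] at h2
      omega
    have hξU : ξ'.1 ∈ U := h'.mem_open U.isOpen hU
    have F₂ : L.presheaf.germ ⊤ ξ'.1 trivial s =
        (X.presheaf.stalkSpecializes h').hom fe • L.presheaf.germ U ξ'.1 hξU e := by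
      have := congrArg (L.presheaf.stalkSpecializes h').hom hgerm'
      rw [sp_germ, sp_smul, sp_germ] at this
      exact this
    have hbij := bijective_stalk_of_isGen he ξ'.1 hξU
    have hspm : (X.presheaf.stalkSpecializes h').hom fe ∉ maximalIdeal (X.presheaf.stalk ξ'.1) := by
      intro hmem
      apply hsne
      rw [F₂]
      exact (smul_mk_eq_zero_iff L ξ'.1 _ hbij _).2 hmem
    have G₂ : (Submodule.Quotient.mk (L.presheaf.germ ⊤ ξ'.1 trivial s) : Cyc.secFibre L ξ'.1) =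
        (X.presheaf.stalkSpecializes h').hom fe •
          (Submodule.Quotient.mk (L.presheaf.germ U ξ'.1 hξU e) : Cyc.secFibre L ξ'.1) := by
      rw [F₂]
      rfl
    rw [hS, hGeq]
    unfold Cyc.secDivFun
    rw [dif_pos hcnd, G₂, secOrdAt_eq_of_isGen L he hcnd.1 hU _ hspm]
    rfl
  unfold Cyc.RatEquiv Cyc.RatEquivZero
  refine ⟨PEmpty, PEmpty.elim, fun j => j.elim, fun j => j.elim, fun j => j.elim, fun x => ?_,
    fun x => ?_⟩
  · refine ⟨Set.univ, isOpen_univ, Set.mem_univ x, ?_⟩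
    exact Set.toFinite _
  · rw [finsum_of_isEmpty]
    show γ x - ζ x = 0
    rw [hmain x, sub_self]

end Groth.Agent.Lib.Helper64.RelCart
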