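import Groth.Agent.Lib.Helper64.CycKey6
import Groth.Agent.Lib.Helper73.DimFormula.CycJacobson

/-!
# The tame symbol relative to a point: local rings of closures (helper64)

For a specialization `ξ₀ ⤳ ξ` the local ring `Cyc.LocQuot ξ ξ₀ h = O_ξ / 𝔭_{ξ₀}` of the closure of
`ξ₀` at `ξ` is a local domain with fraction field `κ(ξ₀)` and residue field `κ(ξ)`.
* instances on `Cyc.LocQuot`, `ringKrullDim_locQuot` (via helper73's codimension formula),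
* `rho h : κ(ξ) ≃+* ResidueField (LocQuot ξ ξ₀ h)`,
* `TKR h F G : κ(ξ)`: the tame symbol of `F, G ∈ κ(ξ₀)` along `ξ₀ ⤳ ξ`, `TKR_mul_units`,
  `UnitAtR`, `TKR_of_unitAtR`.
-/

set_option autoImplicit false
set_option linter.style.haveILetI false
set_option linter.unusedSectionVars false
universe u

open AlgebraicGeometry CategoryTheory TopologicalSpace IsLocalRing CycAlg

namespace Groth.Agent.Lib.Helper64.RelKey

open Groth.Agent.Lib.Helper64.CycOrd Groth.Agent.Lib.Helper64.CycLen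
open Groth.Agent.Lib.Helper64.StalkSpec Groth.Agent.Lib.Helper64.StalkIdeal
open Groth.Agent.Lib.Helper64.CycExc Groth.Agent.Lib.Helper64.CycTens
open Groth.Agent.Lib.Helper64.CycKey
open Groth.Agent.Lib.Helper29.Tame

attribute [local instance] RingHom.ker_isPrime

variable {X : Scheme.{u}}

instance locQuot_isDomain {x ξ : X} (h : ξ ⤳ x) : IsDomain (Cyc.LocQuot x ξ h) :=
  Ideal.Quotient.isDomain _

instance locQuot_isLocalRing {x ξ : X} (h : ξ ⤳ x) : IsLocalRing (Cyc.LocQuot x ξ h) :=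
  IsLocalRing.of_surjective' (Ideal.Quotient.mk _) Ideal.Quotient.mk_surjective

instance locQuot_isNoetherianRing [IsLocallyNoetherian X] {x ξ : X} (h : ξ ⤳ x) :
    IsNoetherianRing (Cyc.LocQuot x ξ h) :=
  Ideal.Quotient.isNoetherianRing _

instance locQuot_isFractionRing {x ξ : X} (h : ξ ⤳ x) :
    IsFractionRing (Cyc.LocQuot x ξ h) (X.residueField ξ) :=
  isFractionRing_locQuot h

instance locQuot_isLocalHom {x ξ : X} (h : ξ ⤳ x) :
    IsLocalHom (Ideal.Quotient.mk (RingHom.ker (Cyc.specMap x ξ h))) :=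
  IsLocalHom.of_surjective _ Ideal.Quotient.mk_surjective

/-- the dimension of the local ring of a closure from a dimension function -/
theorem ringKrullDim_locQuot {δ : X → ℤ} (hδ : Cyc.IsDimFun X δ) {x ξ : X} (h : ξ ⤳ x) (n : ℕ)
    (hn : δ ξ - δ x = n) : ringKrullDim (Cyc.LocQuot x ξ h) = n := by
  rw [Groth.Agent.Lib.Helper73.ringKrullDim_locQuot_eq_codim,
    Groth.Agent.Lib.Helper73.codim_eq_of_cycIsDimFun δ hδ ξ x h, hn]
  simp

/-- the residue field of the local ring of a closure -/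
noncomputable def rho {x ξ : X} (h : ξ ⤳ x) :
    X.residueField x ≃+* ResidueField (Cyc.LocQuot x ξ h) :=
  RingEquiv.ofBijective
    (ResidueField.map (Ideal.Quotient.mk (RingHom.ker (Cyc.specMap x ξ h))))
    ⟨RingHom.injective _, by
      intro y
      obtain ⟨b, rfl⟩ := IsLocalRing.residue_surjective y
      obtain ⟨a, rfl⟩ := Ideal.Quotient.mk_surjective b
      exact ⟨IsLocalRing.residue _ a, rfl⟩⟩

theorem rho_residue {x ξ : X} (h : ξ ⤳ x) (a : X.presheaf.stalk x) :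
    rho h (X.residue x a) = IsLocalRing.residue _ (Ideal.Quotient.mk _ a) := rfl

theorem rho_symm_residue {x ξ : X} (h : ξ ⤳ x) (a : X.presheaf.stalk x) :
    (rho h).symm (IsLocalRing.residue _ (Ideal.Quotient.mk _ a)) = X.residue x a := by
  rw [← rho_residue, RingEquiv.symm_apply_apply]

variable [IsLocallyNoetherian X]

/-- the tame symbol of two rational functions on the closure of `ξ₀` along `ξ₀ ⤳ ξ` -/
noncomputable def TKR {ξ ξ₀ : X} (h : ξ₀ ⤳ ξ) (F G : X.residueField ξ₀) : X.residueField ξ :=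
  (rho h).symm (TK (Cyc.LocQuot ξ ξ₀ h) (X.residueField ξ₀) F G)

theorem TKR_ne_zero {ξ ξ₀ : X} (h : ξ₀ ⤳ ξ) (F G : X.residueField ξ₀) : TKR h F G ≠ 0 := by
  unfold TKR
  rw [Ne, map_eq_zero_iff _ (rho h).symm.injective]
  exact TK_ne_zero F G

theorem algebraMap_locQuot_mk {ξ ξ₀ : X} (h : ξ₀ ⤳ ξ) (c : X.presheaf.stalk ξ) :
    algebraMap (Cyc.LocQuot ξ ξ₀ h) (X.residueField ξ₀) (Ideal.Quotient.mk _ c) =
      Cyc.specMap ξ ξ₀ h c := rfl

theorem TKR_mul_units {ξ ξ₀ : X} (h : ξ₀ ⤳ ξ) (hB : ringKrullDim (Cyc.LocQuot ξ ξ₀ h) = 1)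
    (c d : (X.presheaf.stalk ξ)ˣ) {F G : X.residueField ξ₀} (hF : F ≠ 0) (hG : G ≠ 0) :
    TKR h (F * Cyc.specMap ξ ξ₀ h (c : X.presheaf.stalk ξ))
        (G * Cyc.specMap ξ ξ₀ h (d : X.presheaf.stalk ξ)) =
      TKR h F G * ((X.residue ξ (d : X.presheaf.stalk ξ) : X.residueField ξ) ^
        (Cyc.ordAt ξ ξ₀ h F))⁻¹ *
        (X.residue ξ (c : X.presheaf.stalk ξ) : X.residueField ξ) ^ (Cyc.ordAt ξ ξ₀ h G) := by
  obtain ⟨c', hc'⟩ : ∃ c' : (Cyc.LocQuot ξ ξ₀ h)ˣ,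
      (c' : Cyc.LocQuot ξ ξ₀ h) = Ideal.Quotient.mk _ (c : X.presheaf.stalk ξ) :=
    ⟨Units.map (Ideal.Quotient.mk _ : _ →+* Cyc.LocQuot ξ ξ₀ h).toMonoidHom c, rfl⟩
  obtain ⟨d', hd'⟩ : ∃ d' : (Cyc.LocQuot ξ ξ₀ h)ˣ,
      (d' : Cyc.LocQuot ξ ξ₀ h) = Ideal.Quotient.mk _ (d : X.presheaf.stalk ξ) :=
    ⟨Units.map (Ideal.Quotient.mk _ : _ →+* Cyc.LocQuot ξ ξ₀ h).toMonoidHom d, rfl⟩
  have key := TK_mul_units (K := X.residueField ξ₀) hB c' d' hF hG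
  rw [hc', hd', algebraMap_locQuot_mk, algebraMap_locQuot_mk] at key
  unfold TKR
  rw [key, map_mul, map_mul, map_inv₀, map_zpow₀, map_zpow₀, rho_symm_residue, rho_symm_residue]
  rfl

/-- `f ∈ κ(ξ₀)` is the image of a unit of the local ring at `ξ` -/
def UnitAtR {ξ ξ₀ : X} (h : ξ₀ ⤳ ξ) (f : X.residueField ξ₀) : Prop :=
  ∃ c : (X.presheaf.stalk ξ)ˣ, Cyc.specMap ξ ξ₀ h (c : X.presheaf.stalk ξ) = f

theorem unitAtR_of_mul_unit {ξ ξ₀ : X} (h : ξ₀ ⤳ ξ) {f : X.residueField ξ₀}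
    {c : X.presheaf.stalk ξ} (hc : IsUnit c)
    (hf : UnitAtR h (f * Cyc.specMap ξ ξ₀ h c)) : UnitAtR h f := by
  obtain ⟨w, hw⟩ := hf
  obtain ⟨c, rfl⟩ := hc
  refine ⟨w * c⁻¹, ?_⟩
  rw [Units.val_mul, map_mul, hw, mul_assoc, ← map_mul, Units.mul_inv, map_one, mul_one]

theorem ordAt_of_unitAtR {ξ ξ₀ : X} (h : ξ₀ ⤳ ξ) {f : X.residueField ξ₀} (hf : UnitAtR h f) :
    Cyc.ordAt ξ ξ₀ h f = 0 := by
  obtain ⟨w, rfl⟩ := hf
  exact ordAt_specMap_unit ξ ξ₀ h w.isUnit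

theorem TKR_of_unitAtR {ξ ξ₀ : X} (h : ξ₀ ⤳ ξ) (hB : ringKrullDim (Cyc.LocQuot ξ ξ₀ h) = 1)
    {f g : X.residueField ξ₀} (hf : UnitAtR h f) (hg : UnitAtR h g) : TKR h f g = 1 := by
  obtain ⟨w, rfl⟩ := hf
  have hg0 : g ≠ 0 := by
    obtain ⟨w', rfl⟩ := hg
    exact (w'.isUnit.map (Cyc.specMap ξ ξ₀ h)).ne_zero
  obtain ⟨c', hc'⟩ : ∃ c' : (Cyc.LocQuot ξ ξ₀ h)ˣ,
      (c' : Cyc.LocQuot ξ ξ₀ h) = Ideal.Quotient.mk _ (w : X.presheaf.stalk ξ) :=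
    ⟨Units.map (Ideal.Quotient.mk _ : _ →+* Cyc.LocQuot ξ ξ₀ h).toMonoidHom w, rfl⟩
  have key := TK_unit_left (K := X.residueField ξ₀) hB c' hg0
  rw [hc', algebraMap_locQuot_mk] at key
  have h0 : CycAlg.ordFrac (Cyc.LocQuot ξ ξ₀ h) (X.residueField ξ₀) g = 0 := ordAt_of_unitAtR h hg
  unfold TKR
  rw [key, h0, zpow_zero, map_one]

end Groth.Agent.Lib.Helper64.RelKey
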