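import Groth.Agent.Lib.Helper64.RelKey9
import Groth.Agent.Lib.Helper64.CycCl2

/-!
# The Gysin map passes to rational equivalence (helper64)

`gysin_family`: for a global section `σ` of an invertible module `L` whose zero set is stable under
specialization and a `(k+1)`-cycle `α` rationally equivalent to zero, the cycle
`c₁(L) ∩ α` computed with the Gysin choice of rational sections is a locally finite sum of principal
divisors of rational functions on subvarieties of the zero set of `σ`.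
`gysin_ratEquivZero`: hence `i^* α` is rationally equivalent to zero on the zero scheme.
-/

set_option autoImplicit false
set_option linter.style.haveILetI false
set_option linter.unusedSectionVars false
set_option linter.unusedVariables false
universe u

open AlgebraicGeometry CategoryTheory TopologicalSpace IsLocalRing CycAlg

namespace Groth.Agent.Lib.Helper64.RelKey

open Groth.Agent.Lib.Helper64.CycOrd Groth.Agent.Lib.Helper64.CycLen
open Groth.Agent.Lib.Helper64.CycExc Groth.Agent.Lib.Helper64.CycTens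

variable {X : Scheme.{u}}

theorem gysin_family (δ : X → ℤ) (hX : Cyc.IsSetup X δ) (L : X.Modules)
    (hL : PicF.IsInvertible L) (σ : L.presheaf.obj (Opposite.op ⊤))
    (hZ : ∀ x y : X, x ⤳ y →
      (Submodule.Quotient.mk (L.presheaf.germ ⊤ x trivial σ) : Cyc.secFibre L x) = 0 →
      (Submodule.Quotient.mk (L.presheaf.germ ⊤ y trivial σ) : Cyc.secFibre L y) = 0)
    (k : ℤ) (α : AlgebraicCycle X ℤ)
    (h0 : Cyc.RatEquivZero δ (k + 1) α) (t : (ξ : X) → Cyc.secFibre L ξ) (ht : ∀ ξ, t ξ ≠ 0) :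
    ∃ (ι : Type u) (ξ : ι → X) (f : (i : ι) → X.residueField (ξ i)),
      (∀ i, δ (ξ i) = k + 1) ∧ (∀ i, f i ≠ 0) ∧
      (∀ x : X, ∃ U : Set X, IsOpen U ∧ x ∈ U ∧ {i | (closure {ξ i} ∩ U).Nonempty}.Finite) ∧
      (∀ i, (Submodule.Quotient.mk (L.presheaf.germ ⊤ (ξ i) trivial σ) :
        Cyc.secFibre L (ξ i)) = 0) ∧
      ∀ x : X, Cyc.c1CapFun δ L ⇑α (Cyc.gysinChoice L σ t) x =
        ∑ᶠ i, Cyc.divFun δ (ξ i) (f i) x := by
  classical
  obtain ⟨ι₀, pt, f, hdim, hf, hlf, hsum⟩ := h0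
  obtain ⟨s, hsdef⟩ : ∃ s : (ξ : X) → Cyc.secFibre L ξ, s = Cyc.gysinChoice L σ t := ⟨_, rfl⟩
  have hs : ∀ ξ, s ξ ≠ 0 := by
    intro ξ
    rw [hsdef]
    exact gysinChoice_ne_zero L σ t ht ξ
  rw [← hsdef]
  obtain ⟨Zσ, hZσ⟩ : ∃ Zσ : X → Prop, ∀ x, Zσ x ↔
      (Submodule.Quotient.mk (L.presheaf.germ ⊤ x trivial σ) : Cyc.secFibre L x) = 0 :=
    ⟨_, fun x => Iff.rfl⟩
  have hsZ : ∀ x, ¬ Zσ x →
      s x = (Submodule.Quotient.mk (L.presheaf.germ ⊤ x trivial σ) : Cyc.secFibre L x) := by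
    intro x hx
    rw [hZσ] at hx
    rw [hsdef]
    unfold Cyc.gysinChoice
    rw [if_pos hx]
  choose φ hφ using fun i => X.residue_surjective (pt i) (f i)
  have hφm : ∀ i, φ i ∉ IsLocalRing.maximalIdeal (X.presheaf.stalk (pt i)) := by
    intro i hmem
    apply hf i
    rw [← hφ i]
    exact (IsLocalRing.residue_eq_zero_iff _).2 hmem
  have hsO : ∀ i, φ i • oneFib (pt i) ≠ 0 := fun i h0 =>
    hφm i ((smul_oneFib_eq_zero_iff (pt i) (φ i)).1 h0)
  choose P hh hhne hhone hPdim hLF haP hbP hglob hform using fun i : ι₀ =>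
    relKeyFormula' δ hX (pt i) (Coh.structureModule X) L
      (Groth.Agent.Lib.Helper35.InvPush.isInvertible_structureModule X) hL
      (φ i • oneFib (pt i)) (hsO i) (s (pt i)) (hs (pt i)) s hs (fun ξ => oneFib ξ) oneFib_ne_zero
  have hhZ : ∀ i ζ, ¬ Zσ ζ → hh i ζ = 1 := by
    intro i ζ hζ
    by_cases hP : P i ζ
    swap
    · exact hhone i ζ hP
    have hsp : pt i ⤳ ζ := (hPdim i ζ hP).2
    have hZi : ¬ Zσ (pt i) := by
      intro hz
      apply hζ
      rw [hZσ] at hz ⊢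
      exact hZ _ _ hsp hz
    exact hglob i σ (hsZ _ hZi) ζ (hsZ _ hζ)
  have hO : ∀ (β : X → ℤ) (x : X),
      Cyc.c1CapFun δ (Coh.structureModule X) β (fun ξ => oneFib ξ) x = 0 := by
    intro β x
    unfold Cyc.c1CapFun
    rw [finsum_congr (fun ξ => by rw [secDivFun_oneFib δ ξ x, mul_zero])]
    exact finsum_zero
  have hsec : ∀ i, Cyc.secDivFun δ (Coh.structureModule X) (pt i) (φ i • oneFib (pt i)) =
      Cyc.divFun δ (pt i) (f i) := by
    intro i
    rw [secDivFun_structureModule δ (pt i) (φ i) (hφm i)]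
    congr 1
    exact hφ i
  have hform' : ∀ i x, Cyc.c1CapFun δ L (Cyc.divFun δ (pt i) (f i)) s x =
      ∑ᶠ ζ, Cyc.divFun δ ζ (hh i ζ) x := by
    intro i x
    have := hform i x
    rw [hO, sub_zero, hsec i] at this
    exact this
  have haP' : ∀ i ζ, Cyc.divFun δ (pt i) (f i) ζ ≠ 0 → P i ζ := by
    intro i ζ hne
    apply haP i ζ
    rw [hsec i]
    exact hne
  have hFx : ∀ x, {i : ι₀ | pt i ⤳ x}.Finite := by
    intro x
    obtain ⟨U, hUo, hxU, hfin⟩ := hlf x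
    apply hfin.subset
    intro i hi
    exact ⟨x, specializes_iff_mem_closure.1 hi, hxU⟩
  have hGx : ∀ x i, {ζ : X | ζ ⤳ x ∧ P i ζ}.Finite := by
    intro x i
    obtain ⟨V, hVo, hxV, hfin⟩ := hLF i x
    apply hfin.subset
    rintro ζ ⟨hsp, hζP⟩
    exact ⟨hsp.mem_open hVo hxV, hζP⟩
  refine ⟨{p : ι₀ × X // P p.1 p.2 ∧ Zσ p.2}, fun p => p.1.2, fun p => hh p.1.1 p.1.2,
    ?_, ?_, ?_, ?_, ?_⟩
  · intro p
    show δ p.1.2 = k + 1
    have h1 := (hPdim p.1.1 p.1.2 p.2.1).1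
    have h2 := hdim p.1.1
    omega
  · intro p
    exact hhne p.1.1 p.1.2
  · intro x
    obtain ⟨U₀, hU₀o, hxU₀, hU₀fin⟩ := hlf x
    choose V hVo hxV hVfin using fun i => hLF i x
    refine ⟨U₀ ∩ ⋂ i ∈ {i : ι₀ | (closure {pt i} ∩ U₀).Nonempty}, V i,
      hU₀o.inter (hU₀fin.isOpen_biInter fun i _ => hVo i),
      ⟨hxU₀, Set.mem_iInter₂.2 fun i _ => hxV i⟩, ?_⟩
    have hpairs : {p : ι₀ × X | (closure {pt p.1} ∩ U₀).Nonempty ∧
        (p.2 ∈ V p.1 ∧ P p.1 p.2)}.Finite := by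
      apply finite_prod_of_fibres hU₀fin (fun i => {ζ : X | ζ ∈ V i ∧ P i ζ})
        (fun i _ => hVfin i)
      rintro p hp
      exact hp
    apply (Set.Finite.preimage (Subtype.val_injective.injOn) hpairs).subset
    rintro p ⟨y, hy1, hy2⟩
    have hsp : p.1.2 ⤳ y := specializes_iff_mem_closure.2 hy1
    have hpU₀ : p.1.2 ∈ U₀ := hsp.mem_open hU₀o hy2.1
    have hsp0 : pt p.1.1 ⤳ p.1.2 := (hPdim p.1.1 p.1.2 p.2.1).2
    have hne : (closure {pt p.1.1} ∩ U₀).Nonempty :=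
      ⟨p.1.2, specializes_iff_mem_closure.1 hsp0, hpU₀⟩
    have hmem := Set.mem_iInter₂.1 hy2.2 p.1.1 hne
    exact ⟨hne, hsp.mem_open (hVo p.1.1) hmem, p.2.1⟩
  · intro p
    exact (hZσ p.1.2).1 p.2.2
  · intro x
    have hγ' : Cyc.c1CapFun δ L ⇑α s x =
        ∑ᶠ i, Cyc.c1CapFun δ L (Cyc.divFun δ (pt i) (f i)) s x := by
      unfold Cyc.c1CapFun
      have e1 : ∀ ζ, α ζ * Cyc.secDivFun δ L ζ (s ζ) x =
          (∑ᶠ i, Cyc.divFun δ (pt i) (f i) ζ) * Cyc.secDivFun δ L ζ (s ζ) x := by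
        intro ζ
        rw [hsum ζ]
      rw [finsum_congr e1]
      exact finsum_family_exchange x {i : ι₀ | pt i ⤳ x} (hFx x) P (hGx x)
        (fun i ζ => Cyc.divFun δ (pt i) (f i) ζ) (fun ζ => Cyc.secDivFun δ L ζ (s ζ) x)
        haP'
        (fun i ζ h1 h2 => by
          have k1 : pt i ⤳ ζ := by
            by_contra hns
            exact h1 (divFun_eq_zero_of_not_specializes δ (pt i) (f i) ζ hns)
          have k2 : ζ ⤳ x := by
            by_contra hns
            exact h2 (secDivFun_eq_zero_of_not_specializes δ L ζ (s ζ) x hns)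
          exact k1.trans k2)
        (fun ζ hne => by
          by_contra hns
          exact hne (secDivFun_eq_zero_of_not_specializes δ L ζ (s ζ) x hns))
    rw [hγ', finsum_congr (fun i => hform' i x)]
    obtain ⟨g, hg⟩ : ∃ g : ι₀ × X → ℤ, ∀ p, g p = Cyc.divFun δ p.2 (hh p.1 p.2) x :=
      ⟨_, fun p => rfl⟩
    have hgsupp : ∀ p, g p ≠ 0 → (P p.1 p.2 ∧ Zσ p.2) ∧ p.2 ⤳ x := by
      rintro ⟨i, ζ⟩ hne
      rw [hg] at hne
      refine ⟨⟨?_, ?_⟩, ?_⟩
      · by_contra hnP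
        apply hne
        show Cyc.divFun δ ζ (hh i ζ) x = 0
        rw [hhone i ζ hnP]
        exact divFun_one δ ζ x
      · by_contra hnZ
        apply hne
        show Cyc.divFun δ ζ (hh i ζ) x = 0
        rw [hhZ i ζ hnZ]
        exact divFun_one δ ζ x
      · by_contra hns
        exact hne (divFun_eq_zero_of_not_specializes δ ζ _ x hns)
    have hgfin : (Function.support g).Finite := by
      apply finite_prod_of_fibres (hFx x) (fun i => {ζ : X | ζ ⤳ x ∧ P i ζ})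
        (fun i _ => hGx x i)
      rintro ⟨i, ζ⟩ hp
      obtain ⟨h2, h3⟩ := hgsupp _ hp
      exact ⟨(hPdim i ζ h2.1).2.trans h3, h3, h2.1⟩
    have hRHS : ∑ᶠ p : {p : ι₀ × X // P p.1 p.2 ∧ Zσ p.2},
        Cyc.divFun δ p.1.2 (hh p.1.1 p.1.2) x = ∑ᶠ p : ι₀ × X, g p := by
      rw [finsum_eq_subtype_of_support g (fun p => P p.1 p.2 ∧ Zσ p.2)
        (fun p hp => (hgsupp p hp).1)]
      exact finsum_congr fun p => (hg p.1).symm
    rw [hRHS, finsum_curry g hgfin]
    exact finsum_congr fun i => finsum_congr fun ζ => (hg (i, ζ)).symm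

/-- **the Gysin map passes to rational equivalence** -/
theorem gysin_ratEquivZero {D : Scheme.{u}} (δ : X → ℤ) (hX : Cyc.IsSetup X δ) (L : X.Modules)
    (hL : PicF.IsInvertible L) (s : L.presheaf.obj (Opposite.op ⊤)) (i : D ⟶ X)
    [IsClosedImmersion i] (hD : Cyc.IsZeroSchemeOf i L s) (k : ℤ) (α : AlgebraicCycle X ℤ)
    (h0 : Cyc.RatEquivZero δ (k + 1) α) (t : (ξ : X) → Cyc.secFibre L ξ) (ht : ∀ ξ, t ξ ≠ 0)
    (γ : AlgebraicCycle D ℤ)
    (hγ : ∀ d : D, γ d = Cyc.c1CapFun δ L ⇑α (Cyc.gysinChoice L s t) (i d)) :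
    Cyc.RatEquivZero (fun d => δ (i d)) k γ := by
  have hcl : IsClosed (Set.range ⇑i) := i.isClosedEmbedding.isClosed_range
  have hZ : ∀ x y : X, x ⤳ y →
      (Submodule.Quotient.mk (L.presheaf.germ ⊤ x trivial s) : Cyc.secFibre L x) = 0 →
      (Submodule.Quotient.mk (L.presheaf.germ ⊤ y trivial s) : Cyc.secFibre L y) = 0 := by
    intro x y hxy hx
    have hx' : x ∈ Set.range ⇑i := by
      rw [hD.1]
      exact hx
    have hy' : y ∈ Set.range ⇑i := hxy.mem_closed hcl hx'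
    rw [hD.1] at hy'
    exact hy'
  obtain ⟨ι, ξ, f, hdim, hne, hlf, hmemZ, hsum⟩ := gysin_family δ hX L hL s hZ k α h0 t ht
  have hmem : ∀ j, ξ j ∈ Set.range ⇑i := by
    intro j
    rw [hD.1]
    exact hmemZ j
  obtain ⟨ζ, f', hdim', hne', hlf', hdiv⟩ :=
    Groth.Agent.Lib.Helper64.CycCl.exists_family_closedImmersion i δ k ξ f hmem hdim hne hlf
  refine ⟨ι, ζ, f', hdim', hne', hlf', fun d => ?_⟩
  rw [hγ d, hsum (i d)]
  exact finsum_congr fun j => (hdiv j d).symm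

end Groth.Agent.Lib.Helper64.RelKey
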