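import Groth.Agent.Lib.Helper64.RelKey1

/-!
# Codimension two points of the closure of a point (helper64)

Relative versions of `CycKey2`, `CycKey3`: for `ξ₀ ⤳ x` with `δ x + 2 = δ ξ₀` the local ring
`A = Cyc.LocQuot x ξ₀ h₀` has dimension two, its height one primes correspond to the points `ξ`
with `ξ₀ ⤳ ξ ⤳ x` of codimension one (`bijective_qRelH1`), and the order of the tame symbol at such a
prime is computed on `Cyc.LocQuot ξ ξ₀` (`ordFrac_tameSymbol_transport_rel`).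
-/

set_option autoImplicit false
set_option linter.style.haveILetI false
set_option linter.unusedSectionVars false
universe u

open AlgebraicGeometry CategoryTheory TopologicalSpace IsLocalRing CycAlg

namespace Groth.Agent.Lib.Helper64.RelKey

open Groth.Agent.Lib.Helper64.CycOrd Groth.Agent.Lib.Helper64.CycLen
open Groth.Agent.Lib.Helper64.StalkSpec Groth.Agent.Lib.Helper64.StalkIdeal
open Groth.Agent.Lib.Helper64.CycExc Groth.Agent.Lib.Helper64.CycTens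
open Groth.Agent.Lib.Helper64.CycKey
open Groth.Agent.Lib.Helper29.Tame

attribute [local instance] RingHom.ker_isPrime

variable {X : Scheme.{u}} {δ : X → ℤ}

theorem specMap_stalkSpecializes {x ξ ξ₀ : X} (h : ξ ⤳ x) (h₀ : ξ₀ ⤳ x) (h' : ξ₀ ⤳ ξ)
    (a : X.presheaf.stalk x) :
    Cyc.specMap ξ ξ₀ h' ((X.presheaf.stalkSpecializes h).hom a) = Cyc.specMap x ξ₀ h₀ a := by
  unfold Cyc.specMap
  simp only [CommRingCat.hom_comp, RingHom.comp_apply]
  congr 1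
  rw [← CommRingCat.comp_apply, TopCat.Presheaf.stalkSpecializes_comp]

theorem isUnit_sp_of_notMem {x ξ : X} (h : ξ ⤳ x) (a : X.presheaf.stalk x)
    (ha : a ∉ primeOf h) : IsUnit ((X.presheaf.stalkSpecializes h).hom a) := by
  by_contra hu
  apply ha
  unfold primeOf
  rw [Ideal.mem_comap, mem_maximalIdeal, mem_nonunits_iff]
  exact hu

theorem ker_specMap_le_of_specializes {x ξ ξ₀ : X} (h : ξ ⤳ x) (h₀ : ξ₀ ⤳ x) (h' : ξ₀ ⤳ ξ) :
    RingHom.ker (Cyc.specMap x ξ₀ h₀) ≤ RingHom.ker (Cyc.specMap x ξ h) := by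
  intro a ha
  rw [RingHom.mem_ker] at ha
  rw [ker_specMap h]
  by_contra hcon
  have hu := isUnit_sp_of_notMem h a hcon
  have hu' := hu.map (Cyc.specMap ξ ξ₀ h')
  rw [specMap_stalkSpecializes h h₀ h', ha] at hu'
  exact not_isUnit_zero hu'

/-- the prime of `ξ` in the local ring at `x` of the closure of `ξ₀` -/
noncomputable def qRel {x ξ ξ₀ : X} (h : ξ ⤳ x) (h₀ : ξ₀ ⤳ x) : Ideal (Cyc.LocQuot x ξ₀ h₀) :=
  (RingHom.ker (Cyc.specMap x ξ h)).map (Ideal.Quotient.mk (RingHom.ker (Cyc.specMap x ξ₀ h₀)))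

theorem isPrime_qRel {x ξ ξ₀ : X} (h : ξ ⤳ x) (h₀ : ξ₀ ⤳ x) (h' : ξ₀ ⤳ ξ) :
    (qRel h h₀).IsPrime := by
  unfold qRel
  apply Ideal.map_isPrime_of_surjective Ideal.Quotient.mk_surjective
  rw [Ideal.mk_ker]
  exact ker_specMap_le_of_specializes h h₀ h'

theorem comap_qRel {x ξ ξ₀ : X} (h : ξ ⤳ x) (h₀ : ξ₀ ⤳ x) (h' : ξ₀ ⤳ ξ) :
    (qRel h h₀).comap (Ideal.Quotient.mk (RingHom.ker (Cyc.specMap x ξ₀ h₀))) =
      RingHom.ker (Cyc.specMap x ξ h) := by
  unfold qRel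
  rw [Ideal.comap_map_of_surjective _ Ideal.Quotient.mk_surjective, ← RingHom.ker_eq_comap_bot,
    Ideal.mk_ker, sup_eq_left]
  exact ker_specMap_le_of_specializes h h₀ h'

theorem mk_mem_qRel_iff {x ξ ξ₀ : X} (h : ξ ⤳ x) (h₀ : ξ₀ ⤳ x) (h' : ξ₀ ⤳ ξ)
    (a : X.presheaf.stalk x) :
    (Ideal.Quotient.mk (RingHom.ker (Cyc.specMap x ξ₀ h₀)) a) ∈ qRel h h₀ ↔ a ∈ primeOf h := by
  rw [← ker_specMap h, ← comap_qRel h h₀ h', Ideal.mem_comap]

theorem comap_mk_maximalIdeal {x ξ₀ : X} (h₀ : ξ₀ ⤳ x) :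
    (maximalIdeal (Cyc.LocQuot x ξ₀ h₀)).comap
      (Ideal.Quotient.mk (RingHom.ker (Cyc.specMap x ξ₀ h₀))) =
      maximalIdeal (X.presheaf.stalk x) :=
  ((IsLocalRing.local_hom_TFAE (Ideal.Quotient.mk (RingHom.ker (Cyc.specMap x ξ₀ h₀)))).out
    0 4).1 (locQuot_isLocalHom h₀)

theorem height_eq_one_iff_of_dim_two {A : Type*} [CommRing A] [IsDomain A] [IsLocalRing A]
    [IsNoetherianRing A] (hA : ringKrullDim A = 2) (q : Ideal A) [q.IsPrime] :
    q.height = 1 ↔ q ≠ ⊥ ∧ q ≠ maximalIdeal A := by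
  have hm : (maximalIdeal A).height = 2 := by
    have h1 : ((maximalIdeal A).height : WithBot ℕ∞) = ((2 : ℕ∞) : WithBot ℕ∞) := by
      rw [IsLocalRing.maximalIdeal_height_eq_ringKrullDim, hA]
      rfl
    exact WithBot.coe_injective h1
  constructor
  · intro h1
    refine ⟨Ideal.ne_bot_of_height_eq_one h1, ?_⟩
    intro h2
    rw [h2, hm] at h1
    exact absurd h1 (by decide)
  · rintro ⟨h1, h2⟩
    apply le_antisymm
    · have hlt : q < maximalIdeal A :=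
        lt_of_le_of_ne (IsLocalRing.le_maximalIdeal (Ideal.IsPrime.ne_top inferInstance)) h2
      have h3 := Ideal.height_strict_mono_of_isPrime_of_isPrime hlt
      rw [hm] at h3
      exact Order.le_of_lt_add_one h3
    · rw [Order.one_le_iff_pos, pos_iff_ne_zero, Ne, Ideal.height_eq_zero_iff_eq_bot]
      exact h1

/-- the points of codimension one between `ξ₀` and `x` -/
abbrev RelGen1 (δ : X → ℤ) (ξ₀ x : X) : Type u := {ξ : X // ξ₀ ⤳ ξ ∧ ξ ⤳ x ∧ δ x + 1 = δ ξ}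

variable [IsLocallyNoetherian X]

theorem height_qRel (hδ : Cyc.IsDimFun X δ) {x ξ₀ : X} (h₀ : ξ₀ ⤳ x) (hx : δ x + 2 = δ ξ₀)
    (ξ : RelGen1 δ ξ₀ x) : (qRel ξ.2.2.1 h₀).height = 1 := by
  haveI := isPrime_qRel ξ.2.2.1 h₀ ξ.2.1
  have hA2 : ringKrullDim (Cyc.LocQuot x ξ₀ h₀) = 2 := by
    have := ringKrullDim_locQuot hδ h₀ 2 (by push_cast; omega)
    exact_mod_cast this
  rw [height_eq_one_iff_of_dim_two hA2]
  have hd := ξ.2.2.2
  constructor
  · intro h0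
    unfold qRel at h0
    rw [Ideal.map_eq_bot_iff_le_ker, Ideal.mk_ker] at h0
    have h1 := le_antisymm h0 (ker_specMap_le_of_specializes ξ.2.2.1 h₀ ξ.2.1)
    rw [ker_specMap ξ.2.2.1, ker_specMap h₀] at h1
    have h2 := eq_of_primeOf_eq h₀ ξ.2.2.1 h1
    rw [h2] at hd
    omega
  · intro h0
    have h1 := congrArg (Ideal.comap (Ideal.Quotient.mk (RingHom.ker (Cyc.specMap x ξ₀ h₀)))) h0
    rw [comap_qRel ξ.2.2.1 h₀ ξ.2.1, comap_mk_maximalIdeal h₀, ker_specMap ξ.2.2.1] at h1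
    have h2 : primeOf ξ.2.2.1 = primeOf (specializes_rfl : x ⤳ x) := by
      rw [h1, primeOf_self]
    have h3 := eq_of_primeOf_eq (specializes_rfl : x ⤳ x) ξ.2.2.1 h2
    rw [h3] at hd
    omega

/-- the map from codimension one points between `ξ₀` and `x` to height one primes -/
noncomputable def qRelH1 (hδ : Cyc.IsDimFun X δ) {x ξ₀ : X} (h₀ : ξ₀ ⤳ x) (hx : δ x + 2 = δ ξ₀)
    (ξ : RelGen1 δ ξ₀ x) :
    {q : PrimeSpectrum (Cyc.LocQuot x ξ₀ h₀) // q.asIdeal.height = 1} :=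
  ⟨⟨qRel ξ.2.2.1 h₀, isPrime_qRel ξ.2.2.1 h₀ ξ.2.1⟩, height_qRel hδ h₀ hx ξ⟩

theorem bijective_qRelH1 (hδ : Cyc.IsDimFun X δ) {x ξ₀ : X} (h₀ : ξ₀ ⤳ x)
    (hx : δ x + 2 = δ ξ₀) : Function.Bijective (qRelH1 hδ h₀ hx) := by
  have hA2 : ringKrullDim (Cyc.LocQuot x ξ₀ h₀) = 2 := by
    have := ringKrullDim_locQuot hδ h₀ 2 (by push_cast; omega)
    exact_mod_cast this
  constructor
  · intro ξ ξ' hq
    have h1 : qRel ξ.2.2.1 h₀ = qRel ξ'.2.2.1 h₀ := congrArg (fun q => q.1.asIdeal) hq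
    have h2 := congrArg (Ideal.comap (Ideal.Quotient.mk (RingHom.ker (Cyc.specMap x ξ₀ h₀)))) h1
    rw [comap_qRel ξ.2.2.1 h₀ ξ.2.1, comap_qRel ξ'.2.2.1 h₀ ξ'.2.1, ker_specMap ξ.2.2.1,
      ker_specMap ξ'.2.2.1] at h2
    exact Subtype.ext (eq_of_primeOf_eq ξ'.2.2.1 ξ.2.2.1 h2)
  · rintro ⟨q, hq⟩
    obtain ⟨Q, hQ⟩ : ∃ Q : Ideal (X.presheaf.stalk x),
        Q = q.asIdeal.comap (Ideal.Quotient.mk (RingHom.ker (Cyc.specMap x ξ₀ h₀))) := ⟨_, rfl⟩
    haveI : Q.IsPrime := by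
      rw [hQ]
      infer_instance
    obtain ⟨ξ, h, hξ⟩ := exists_specializes_primeOf_eq x Q
    have hK₀ : RingHom.ker (Cyc.specMap x ξ₀ h₀) ≤ Q := by
      rw [hQ]
      intro a ha
      rw [Ideal.mem_comap, Ideal.Quotient.eq_zero_iff_mem.2 ha]
      exact Ideal.zero_mem _
    have h' : ξ₀ ⤳ ξ := by
      apply specializes_of_primeOf_le h h₀
      rw [hξ, ← ker_specMap h₀]
      exact hK₀
    have hqmap : qRel h h₀ = q.asIdeal := by
      unfold qRel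
      rw [ker_specMap h, hξ, hQ, Ideal.map_comap_of_surjective _ Ideal.Quotient.mk_surjective]
    have hq1 := (height_eq_one_iff_of_dim_two hA2 q.asIdeal).1 hq
    have hne : ξ ≠ x := by
      intro hξx
      subst hξx
      apply hq1.2
      rw [← hqmap]
      unfold qRel
      have e1 : RingHom.ker (Cyc.specMap ξ ξ h) = maximalIdeal (X.presheaf.stalk ξ) :=
        (ker_specMap h).trans (primeOf_self h)
      rw [e1]
      rw [← comap_mk_maximalIdeal h₀, Ideal.map_comap_of_surjective _ Ideal.Quotient.mk_surjective]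
    have hne₀ : ξ ≠ ξ₀ := by
      intro hξξ₀
      subst hξξ₀
      apply hq1.1
      rw [← hqmap]
      unfold qRel
      rw [Ideal.map_eq_bot_iff_le_ker, Ideal.mk_ker]
    have h1 := (hδ _ _ h hne).1
    have h2 := (hδ _ _ h' (fun e => hne₀ e.symm)).1
    refine ⟨⟨ξ, h', h, by omega⟩, ?_⟩
    apply Subtype.ext
    apply PrimeSpectrum.ext
    exact hqmap

end Groth.Agent.Lib.Helper64.RelKey
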