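import Groth.Agent.Lib.Helper64.RelKey2

/-!
# The key lemma relative to a point (helper64)

* `phiRel`, `isLocalization_phiRel`: `O_ξ/𝔭_{ξ₀}` is the localization of `O_x/𝔭_{ξ₀}` at the prime
  of `ξ`.
* `ordFrac_tameSymbol_transport_rel`, `finsum_divFun_TKR_eq_zero`: helper29's key lemma S1851 on
  the two-dimensional local ring `O_x/𝔭_{ξ₀}`, in terms of the points of `X`.
-/

set_option autoImplicit false
set_option linter.style.haveILetI false
set_option linter.unusedSectionVars false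
universe u

open AlgebraicGeometry CategoryTheory TopologicalSpace IsLocalRing CycAlg

namespace Groth.Agent.Lib.Helper64.RelKey

open Groth.Agent.Lib.Helper64.CycOrd Groth.Agent.Lib.Helper64.CycLen
open Groth.Agent.Lib.Helper64.StalkSpec Groth.Agent.Lib.Helper64.StalkIdeal
open Groth.Agent.Lib.Helper64.CycExc Groth.Agent.Lib.Helper64.CycTens
open Groth.Agent.Lib.Helper64.CycKey
open Groth.Agent.Lib.Helper29.Tame

attribute [local instance] RingHom.ker_isPrime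

variable {X : Scheme.{u}} {δ : X → ℤ}

/-- the map of local rings of the closure of `ξ₀` induced by a generization -/
noncomputable def phiRel {x ξ ξ₀ : X} (h : ξ ⤳ x) (h₀ : ξ₀ ⤳ x) (h' : ξ₀ ⤳ ξ) :
    Cyc.LocQuot x ξ₀ h₀ →+* Cyc.LocQuot ξ ξ₀ h' :=
  Ideal.quotientMap _ (X.presheaf.stalkSpecializes h).hom (by
    intro a ha
    rw [Ideal.mem_comap, RingHom.mem_ker, specMap_stalkSpecializes h h₀ h']
    exact ha)

theorem phiRel_mk {x ξ ξ₀ : X} (h : ξ ⤳ x) (h₀ : ξ₀ ⤳ x) (h' : ξ₀ ⤳ ξ) (a : X.presheaf.stalk x) :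
    phiRel h h₀ h' (Ideal.Quotient.mk _ a) =
      Ideal.Quotient.mk _ ((X.presheaf.stalkSpecializes h).hom a) := rfl

theorem injective_phiRel {x ξ ξ₀ : X} (h : ξ ⤳ x) (h₀ : ξ₀ ⤳ x) (h' : ξ₀ ⤳ ξ) :
    Function.Injective (phiRel h h₀ h') := by
  rw [injective_iff_map_eq_zero]
  intro a ha
  obtain ⟨a, rfl⟩ := Ideal.Quotient.mk_surjective a
  rw [phiRel_mk, Ideal.Quotient.eq_zero_iff_mem, RingHom.mem_ker,
    specMap_stalkSpecializes h h₀ h'] at ha
  exact Ideal.Quotient.eq_zero_iff_mem.2 ha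

theorem algebraMap_phiRel {x ξ ξ₀ : X} (h : ξ ⤳ x) (h₀ : ξ₀ ⤳ x) (h' : ξ₀ ⤳ ξ)
    (a : Cyc.LocQuot x ξ₀ h₀) :
    algebraMap (Cyc.LocQuot ξ ξ₀ h') (X.residueField ξ₀) (phiRel h h₀ h' a) =
      algebraMap (Cyc.LocQuot x ξ₀ h₀) (X.residueField ξ₀) a := by
  obtain ⟨a, rfl⟩ := Ideal.Quotient.mk_surjective a
  exact specMap_stalkSpecializes h h₀ h' a

theorem isLocalization_phiRel {x ξ ξ₀ : X} (h : ξ ⤳ x) (h₀ : ξ₀ ⤳ x) (h' : ξ₀ ⤳ ξ) :
    @IsLocalization.AtPrime (Cyc.LocQuot x ξ₀ h₀) _ (Cyc.LocQuot ξ ξ₀ h') _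
      ((phiRel h h₀ h').toAlgebra) (qRel h h₀) (isPrime_qRel h h₀ h') := by
  letI : Algebra (Cyc.LocQuot x ξ₀ h₀) (Cyc.LocQuot ξ ξ₀ h') := (phiRel h h₀ h').toAlgebra
  haveI := isPrime_qRel h h₀ h'
  letI algx : Algebra (X.presheaf.stalk x) (X.presheaf.stalk ξ) :=
    (X.presheaf.stalkSpecializes h).hom.toAlgebra
  haveI := isLocalization_stalkSpecializes h
  unfold IsLocalization.AtPrime
  rw [isLocalization_iff]
  refine ⟨?_, ?_, ?_⟩
  · rintro ⟨y, hy⟩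
    obtain ⟨a, rfl⟩ := Ideal.Quotient.mk_surjective y
    have ha : a ∉ primeOf h := fun hmem => hy ((mk_mem_qRel_iff h h₀ h' a).2 hmem)
    exact (isUnit_sp_of_notMem h a ha).map (Ideal.Quotient.mk _)
  · intro z
    obtain ⟨w, rfl⟩ := Ideal.Quotient.mk_surjective z
    obtain ⟨⟨a, s⟩, hws⟩ := IsLocalization.surj (primeOf h).primeCompl w
    have hws' : w * (X.presheaf.stalkSpecializes h).hom s.1 =
        (X.presheaf.stalkSpecializes h).hom a := hws
    refine ⟨⟨Ideal.Quotient.mk _ a, ⟨Ideal.Quotient.mk _ s.1,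
      fun hmem => s.2 ((mk_mem_qRel_iff h h₀ h' s.1).1 hmem)⟩⟩, ?_⟩
    change Ideal.Quotient.mk _ w * Ideal.Quotient.mk _ ((X.presheaf.stalkSpecializes h).hom s.1) =
      Ideal.Quotient.mk _ ((X.presheaf.stalkSpecializes h).hom a)
    rw [← map_mul, hws']
  · intro a b hab
    refine ⟨1, ?_⟩
    rw [OneMemClass.coe_one, one_mul, one_mul]
    exact injective_phiRel h h₀ h' hab

variable [IsLocallyNoetherian X]

theorem ordFrac_tameSymbol_transport_rel (hδ : Cyc.IsDimFun X δ) {x ξ ξ₀ : X} (h : ξ ⤳ x)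
    (h₀ : ξ₀ ⤳ x) (h' : ξ₀ ⤳ ξ) (hξ : δ ξ + 1 = δ ξ₀) (Q : Ideal (Cyc.LocQuot x ξ₀ h₀))
    [Q.IsPrime] (hQ : Q = qRel h h₀) (a b : Cyc.LocQuot x ξ₀ h₀) (ha : a ≠ 0) (hb : b ≠ 0) :
    CycAlg.ordFrac (Cyc.LocQuot x ξ₀ h₀ ⧸ Q) Q.ResidueField
      (tameSymbol (Localization.AtPrime Q)
        (algebraMap (Cyc.LocQuot x ξ₀ h₀) (Localization.AtPrime Q) a)
        (algebraMap (Cyc.LocQuot x ξ₀ h₀) (Localization.AtPrime Q) b)) =
    Cyc.ordAt x ξ h ((rho h').symm (tameSymbol (Cyc.LocQuot ξ ξ₀ h') (phiRel h h₀ h' a)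
      (phiRel h h₀ h' b))) := by
  subst hQ
  letI algAB : Algebra (Cyc.LocQuot x ξ₀ h₀) (Cyc.LocQuot ξ ξ₀ h') := (phiRel h h₀ h').toAlgebra
  haveI hloc : IsLocalization.AtPrime (Cyc.LocQuot ξ ξ₀ h') (qRel h h₀) :=
    isLocalization_phiRel h h₀ h'
  obtain ⟨e, he⟩ : ∃ e : Localization.AtPrime (qRel h h₀) ≃ₐ[Cyc.LocQuot x ξ₀ h₀]
      Cyc.LocQuot ξ ξ₀ h', e = IsLocalization.algEquiv (qRel h h₀).primeCompl _ _ := ⟨_, rfl⟩
  have hcomm : ∀ r : Cyc.LocQuot x ξ₀ h₀,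
      e (algebraMap _ (Localization.AtPrime (qRel h h₀)) r) = phiRel h h₀ h' r :=
    fun r => e.commutes r
  have hB1 : ringKrullDim (Cyc.LocQuot ξ ξ₀ h') = 1 := by
    have := ringKrullDim_locQuot hδ h' 1 (by push_cast; omega)
    exact_mod_cast this
  have hAP1 : ringKrullDim (Localization.AtPrime (qRel h h₀)) = 1 :=
    (ringKrullDim_eq_of_ringEquiv e.toRingEquiv).trans hB1
  haveI : IsDomain (Localization.AtPrime (qRel h h₀)) :=
    e.toRingEquiv.injective.isDomain e.toRingEquiv.toRingHom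
  have hnz : ∀ r : Cyc.LocQuot x ξ₀ h₀, r ≠ 0 →
      algebraMap _ (Localization.AtPrime (qRel h h₀)) r ∈
        nonZeroDivisors (Localization.AtPrime (qRel h h₀)) := by
    intro r hr
    apply mem_nonZeroDivisors_of_ne_zero
    intro h0
    have h1 := hcomm r
    rw [h0, map_zero] at h1
    exact hr (injective_phiRel h h₀ h' (h1.symm.trans (map_zero _).symm))
  have key := tameSymbol_ringEquiv e.toRingEquiv hAP1 _ _ (hnz a ha) (hnz b hb)
  have e1 : e.toRingEquiv (algebraMap _ (Localization.AtPrime (qRel h h₀)) a) =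
      phiRel h h₀ h' a := hcomm a
  have e2 : e.toRingEquiv (algebraMap _ (Localization.AtPrime (qRel h h₀)) b) =
      phiRel h h₀ h' b := hcomm b
  rw [e1, e2] at key
  obtain ⟨E, hE⟩ : ∃ E : (qRel h h₀).ResidueField ≃+* X.residueField ξ,
      E = (IsLocalRing.ResidueField.mapEquiv e.toRingEquiv).trans (rho h').symm := ⟨_, rfl⟩
  obtain ⟨e', he'⟩ : ∃ e' : (Cyc.LocQuot x ξ₀ h₀ ⧸ qRel h h₀) ≃+* Cyc.LocQuot x ξ h,
      e' = DoubleQuot.quotQuotEquivQuotOfLE (ker_specMap_le_of_specializes h h₀ h') := ⟨_, rfl⟩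
  have hcomp : ∀ r, E (algebraMap (Cyc.LocQuot x ξ₀ h₀ ⧸ qRel h h₀)
      (qRel h h₀).ResidueField r) = algebraMap (Cyc.LocQuot x ξ h) (X.residueField ξ) (e' r) := by
    intro r
    obtain ⟨r₁, rfl⟩ := Ideal.Quotient.mk_surjective r
    obtain ⟨r₀, rfl⟩ := Ideal.Quotient.mk_surjective r₁
    rw [he', hE]
    change (rho h').symm (IsLocalRing.ResidueField.map (e.toRingEquiv : _ →+* _)
      (residue _ (algebraMap _ (Localization.AtPrime (qRel h h₀)) (Ideal.Quotient.mk _ r₀)))) =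
        (X.residue ξ).hom ((X.presheaf.stalkSpecializes h).hom r₀)
    rw [IsLocalRing.ResidueField.map_residue]
    have : (e.toRingEquiv : Localization.AtPrime (qRel h h₀) →+* Cyc.LocQuot ξ ξ₀ h')
        (algebraMap (Cyc.LocQuot x ξ₀ h₀) (Localization.AtPrime (qRel h h₀))
        (Ideal.Quotient.mk (RingHom.ker (Cyc.specMap x ξ₀ h₀)) r₀)) =
        Ideal.Quotient.mk (RingHom.ker (Cyc.specMap ξ ξ₀ h'))
          ((X.presheaf.stalkSpecializes h).hom r₀) := hcomm _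
    rw [this, rho_symm_residue]
  unfold Cyc.ordAt
  have h3 := cycOrdFrac_ringEquiv e' E hcomp
    (tameSymbol (Localization.AtPrime (qRel h h₀))
        (algebraMap (Cyc.LocQuot x ξ₀ h₀) (Localization.AtPrime (qRel h h₀)) a)
        (algebraMap (Cyc.LocQuot x ξ₀ h₀) (Localization.AtPrime (qRel h h₀)) b))
  have key' : E (tameSymbol (Localization.AtPrime (qRel h h₀))
        (algebraMap (Cyc.LocQuot x ξ₀ h₀) (Localization.AtPrime (qRel h h₀)) a)
        (algebraMap (Cyc.LocQuot x ξ₀ h₀) (Localization.AtPrime (qRel h h₀)) b)) =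
      (rho h').symm (tameSymbol (Cyc.LocQuot ξ ξ₀ h') (phiRel h h₀ h' a)
        (phiRel h h₀ h' b)) := by
    subst hE
    change (rho h').symm (IsLocalRing.ResidueField.mapEquiv e.toRingEquiv _) = _
    rw [key]
  rw [← h3, key']

end Groth.Agent.Lib.Helper64.RelKey
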