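import Groth.Agent.Lib.Helper64.RelKey3

/-!
# The key lemma relative to a point, in terms of divisors (helper64)

* `finsum_eq_subtype_of_support`: a finsum over a type as a finsum over a subtype containing the
  support.
* `TKR'`: the tame symbol along `ξ₀ ⤳ ξ` as a total function of `ξ` (value `1` if `ξ` is not in the
  closure of `ξ₀`).
* `finsum_divFun_TKR_eq_zero`: for `F, G ∈ κ(ξ₀)^*` and `x` of codimension two in the closure of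
  `ξ₀`, the divisors of the tame symbols of `F, G` at the codimension one points add up to zero at
  `x`.
-/

set_option autoImplicit false
set_option linter.style.haveILetI false
set_option linter.unusedSectionVars false
universe u

open AlgebraicGeometry CategoryTheory TopologicalSpace IsLocalRing CycAlg

namespace Groth.Agent.Lib.Helper64.RelKey

open Groth.Agent.Lib.Helper64.CycOrd Groth.Agent.Lib.Helper64.CycLen
open Groth.Agent.Lib.Helper64.StalkSpec Groth.Agent.Lib.Helper64.StalkIdeal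
open Groth.Agent.Lib.Helper64.CycExc Groth.Agent.Lib.Helper64.CycTens
open Groth.Agent.Lib.Helper64.CycKey
open Groth.Agent.Lib.Helper29.Tame

attribute [local instance] RingHom.ker_isPrime

variable {X : Scheme.{u}} {δ : X → ℤ}

theorem finsum_eq_subtype_of_support {α : Type*} (D : α → ℤ) (p : α → Prop)
    (h : ∀ a, D a ≠ 0 → p a) : ∑ᶠ a, D a = ∑ᶠ a : {a // p a}, D a.1 := by
  have h2 := finsum_subtype_eq_finsum_cond (f := D) p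
  rw [h2]
  have h4 : ∑ᶠ a, D a = ∑ᶠ a ∈ (Set.univ : Set α), D a := (finsum_mem_univ D).symm
  rw [h4]
  exact finsum_mem_inter_support_eq' D Set.univ {a : α | p a}
    (fun a ha => ⟨fun _ => h a ha, fun _ => Set.mem_univ _⟩)

theorem ordAt_one' (x ξ : X) (h : ξ ⤳ x) : Cyc.ordAt x ξ h 1 = 0 :=
  ordFrac_one _ _

theorem ordAt_quad' (x ξ : X) (h : ξ ⤳ x) {p q r s : X.residueField ξ} (hp : p ≠ 0) (hq : q ≠ 0)
    (hr : r ≠ 0) (hs : s ≠ 0) :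
    Cyc.ordAt x ξ h (p * q / (r * s)) =
      Cyc.ordAt x ξ h p + Cyc.ordAt x ξ h q - (Cyc.ordAt x ξ h r + Cyc.ordAt x ξ h s) := by
  rw [ordAt_div x ξ h (mul_ne_zero hp hq) (mul_ne_zero hr hs), ordAt_mul x ξ h hp hq,
    ordAt_mul x ξ h hr hs]

variable [IsLocallyNoetherian X]

open Classical in
/-- the tame symbol along `ξ₀ ⤳ ξ` as a total function of `ξ` -/
noncomputable def TKR' (ξ₀ ξ : X) (F G : X.residueField ξ₀) : X.residueField ξ :=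
  if h : ξ₀ ⤳ ξ then TKR h F G else 1

theorem TKR'_ne_zero (ξ₀ ξ : X) (F G : X.residueField ξ₀) : TKR' ξ₀ ξ F G ≠ 0 := by
  unfold TKR'
  split_ifs with h
  · exact TKR_ne_zero h F G
  · exact one_ne_zero

theorem TKR'_eq {ξ₀ ξ : X} (h : ξ₀ ⤳ ξ) (F G : X.residueField ξ₀) :
    TKR' ξ₀ ξ F G = TKR h F G := by
  unfold TKR'
  rw [dif_pos h]

/-- the term of the relative key lemma for a pair of elements of `O_x/𝔭_{ξ₀}` -/
noncomputable def keyTermR {x ξ₀ : X} (h₀ : ξ₀ ⤳ x) (a b : Cyc.LocQuot x ξ₀ h₀)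
    (ξ : RelGen1 δ ξ₀ x) : ℤ :=
  Cyc.ordAt x ξ.1 ξ.2.2.1 ((rho ξ.2.1).symm (tameSymbol (Cyc.LocQuot ξ.1 ξ₀ ξ.2.1)
    (phiRel ξ.2.2.1 h₀ ξ.2.1 a) (phiRel ξ.2.2.1 h₀ ξ.2.1 b)))

theorem finite_relGen1_mem (hδ : Cyc.IsDimFun X δ) {x ξ₀ : X} (h₀ : ξ₀ ⤳ x)
    (hx : δ x + 2 = δ ξ₀) (c : Cyc.LocQuot x ξ₀ h₀) (hc : c ≠ 0) :
    {ξ : RelGen1 δ ξ₀ x | c ∈ qRel ξ.2.2.1 h₀}.Finite := by
  have hfin := Ideal.finite_minimalPrimes_of_isNoetherianRing (Cyc.LocQuot x ξ₀ h₀)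
    (Ideal.span {c})
  have hsub : {ξ : RelGen1 δ ξ₀ x | c ∈ qRel ξ.2.2.1 h₀} ⊆
      (fun ξ : RelGen1 δ ξ₀ x => qRel ξ.2.2.1 h₀) ⁻¹' (Ideal.span {c}).minimalPrimes := by
    intro ξ hξ
    have hh := height_qRel hδ h₀ hx ξ
    haveI := isPrime_qRel ξ.2.2.1 h₀ ξ.2.1
    apply Ideal.mem_minimalPrimes_of_height_le
    · rw [Ideal.span_singleton_le_iff_mem]
      exact hξ
    · rw [hh, Order.one_le_iff_pos, pos_iff_ne_zero, Ne, Ideal.height_eq_zero_iff_eq_bot,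
        Ideal.span_singleton_eq_bot]
      exact hc
  apply (Set.Finite.preimage ?_ hfin).subset hsub
  intro ξ _ ξ' _ h
  have h1 : qRelH1 hδ h₀ hx ξ = qRelH1 hδ h₀ hx ξ' := by
    apply Subtype.ext
    apply PrimeSpectrum.ext
    exact h
  exact (bijective_qRelH1 hδ h₀ hx).1 h1

theorem finite_support_keyTermR (hδ : Cyc.IsDimFun X δ) {x ξ₀ : X} (h₀ : ξ₀ ⤳ x)
    (hx : δ x + 2 = δ ξ₀) (a b : Cyc.LocQuot x ξ₀ h₀) (ha : a ≠ 0) (hb : b ≠ 0) :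
    (Function.support (keyTermR (δ := δ) h₀ a b)).Finite := by
  apply (finite_relGen1_mem hδ h₀ hx (a * b) (mul_ne_zero ha hb)).subset
  intro ξ hξ
  by_contra hcon
  apply hξ
  have hcon' : a * b ∉ qRel ξ.2.2.1 h₀ := hcon
  have h1 : a ∉ qRel ξ.2.2.1 h₀ := fun h => hcon' (Ideal.mul_mem_right _ _ h)
  have h2 : b ∉ qRel ξ.2.2.1 h₀ := fun h => hcon' (Ideal.mul_mem_left _ _ h)
  letI : Algebra (Cyc.LocQuot x ξ₀ h₀) (Cyc.LocQuot ξ.1 ξ₀ ξ.2.1) :=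
    (phiRel ξ.2.2.1 h₀ ξ.2.1).toAlgebra
  haveI := isPrime_qRel ξ.2.2.1 h₀ ξ.2.1
  haveI : IsLocalization.AtPrime (Cyc.LocQuot ξ.1 ξ₀ ξ.2.1) (qRel ξ.2.2.1 h₀) :=
    isLocalization_phiRel ξ.2.2.1 h₀ ξ.2.1
  have u1 : IsUnit (phiRel ξ.2.2.1 h₀ ξ.2.1 a) :=
    IsLocalization.map_units (Cyc.LocQuot ξ.1 ξ₀ ξ.2.1)
      (⟨a, h1⟩ : (qRel ξ.2.2.1 h₀).primeCompl)
  have u2 : IsUnit (phiRel ξ.2.2.1 h₀ ξ.2.1 b) :=
    IsLocalization.map_units (Cyc.LocQuot ξ.1 ξ₀ ξ.2.1)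
      (⟨b, h2⟩ : (qRel ξ.2.2.1 h₀).primeCompl)
  unfold keyTermR
  rw [tameSymbol_eq_one_of_isUnit u1 u2, map_one]
  exact ordAt_one' _ _ _

theorem finsum_keyTermR_eq_zero (hδ : Cyc.IsDimFun X δ) {x ξ₀ : X} (h₀ : ξ₀ ⤳ x)
    (hx : δ x + 2 = δ ξ₀) (a b : Cyc.LocQuot x ξ₀ h₀) (ha : a ≠ 0) (hb : b ≠ 0) :
    ∑ᶠ ξ : RelGen1 δ ξ₀ x, keyTermR h₀ a b ξ = 0 := by
  have hdim : ringKrullDim (Cyc.LocQuot x ξ₀ h₀) = 2 := by
    have := ringKrullDim_locQuot hδ h₀ 2 (by push_cast; omega)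
    exact_mod_cast this
  have key := Groth.Agent.S1851.result (Cyc.LocQuot x ξ₀ h₀) hdim a b
    (mem_nonZeroDivisors_of_ne_zero ha) (mem_nonZeroDivisors_of_ne_zero hb)
  rw [← finsum_subtype_eq_finsum_cond (f := fun q : PrimeSpectrum (Cyc.LocQuot x ξ₀ h₀) =>
    CycAlg.ordFrac (Cyc.LocQuot x ξ₀ h₀ ⧸ q.asIdeal) q.asIdeal.ResidueField
      (tameSymbol (Localization.AtPrime q.asIdeal)
        (algebraMap (Cyc.LocQuot x ξ₀ h₀) (Localization.AtPrime q.asIdeal) a)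
        (algebraMap (Cyc.LocQuot x ξ₀ h₀) (Localization.AtPrime q.asIdeal) b)))
    (fun q : PrimeSpectrum (Cyc.LocQuot x ξ₀ h₀) => q.asIdeal.height = 1)] at key
  rw [← key]
  apply finsum_eq_of_bijective (qRelH1 hδ h₀ hx) (bijective_qRelH1 hδ h₀ hx)
  intro ξ
  unfold keyTermR
  exact (ordFrac_tameSymbol_transport_rel hδ ξ.2.2.1 h₀ ξ.2.1 (by have := ξ.2.2.2; omega)
    (qRelH1 hδ h₀ hx ξ).1.asIdeal rfl a b ha hb).symm

/-- **the key lemma relative to a point** -/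
theorem finsum_divFun_TKR_eq_zero (hδ : Cyc.IsDimFun X δ) {x ξ₀ : X} (h₀ : ξ₀ ⤳ x)
    (hx : δ x + 2 = δ ξ₀) (F G : X.residueField ξ₀) (hF : F ≠ 0) (hG : G ≠ 0) :
    ∑ᶠ ξ : X, Cyc.divFun δ ξ (TKR' ξ₀ ξ F G) x = 0 := by
  have hsupp : ∀ ξ : X, Cyc.divFun δ ξ (TKR' ξ₀ ξ F G) x ≠ 0 →
      (ξ₀ ⤳ ξ ∧ ξ ⤳ x ∧ δ x + 1 = δ ξ) := by
    intro ξ hne
    have hG1 : ξ ⤳ x ∧ δ x + 1 = δ ξ := by
      by_contra hcon
      apply hne
      unfold Cyc.divFun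
      rw [dif_neg hcon]
    refine ⟨?_, hG1.1, hG1.2⟩
    by_contra hcon
    apply hne
    unfold Cyc.divFun TKR'
    rw [dif_pos hG1, dif_neg hcon]
    exact ordAt_one' _ _ _
  rw [finsum_eq_subtype_of_support _ _ hsupp]
  obtain ⟨a₁, a₂, ha₁, ha₂, rfl⟩ := exists_frac (B := Cyc.LocQuot x ξ₀ h₀) hF
  obtain ⟨b₁, b₂, hb₁, hb₂, rfl⟩ := exists_frac (B := Cyc.LocQuot x ξ₀ h₀) hG
  have hterm : ∀ ξ : RelGen1 δ ξ₀ x, Cyc.divFun δ ξ.1 (TKR' ξ₀ ξ.1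
        (algebraMap (Cyc.LocQuot x ξ₀ h₀) (X.residueField ξ₀) a₁ /
          algebraMap (Cyc.LocQuot x ξ₀ h₀) (X.residueField ξ₀) a₂)
        (algebraMap (Cyc.LocQuot x ξ₀ h₀) (X.residueField ξ₀) b₁ /
          algebraMap (Cyc.LocQuot x ξ₀ h₀) (X.residueField ξ₀) b₂)) x =
      keyTermR h₀ a₁ b₁ ξ + keyTermR h₀ a₂ b₂ ξ - (keyTermR h₀ a₁ b₂ ξ + keyTermR h₀ a₂ b₁ ξ) := by
    intro ξ
    have hB : ringKrullDim (Cyc.LocQuot ξ.1 ξ₀ ξ.2.1) = 1 := by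
      have h1 := ξ.2.2.2
      have := ringKrullDim_locQuot hδ ξ.2.1 1 (by push_cast; omega)
      exact_mod_cast this
    have hinj := injective_phiRel ξ.2.2.1 h₀ ξ.2.1
    have nz : ∀ {r : Cyc.LocQuot x ξ₀ h₀}, r ≠ 0 → phiRel ξ.2.2.1 h₀ ξ.2.1 r ≠ 0 :=
      fun {r} hr h0 => hr (hinj (h0.trans (map_zero _).symm))
    unfold Cyc.divFun
    rw [dif_pos ⟨ξ.2.2.1, ξ.2.2.2⟩, TKR'_eq ξ.2.1]
    unfold TKR
    rw [← algebraMap_phiRel ξ.2.2.1 h₀ ξ.2.1 a₁, ← algebraMap_phiRel ξ.2.2.1 h₀ ξ.2.1 a₂,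
      ← algebraMap_phiRel ξ.2.2.1 h₀ ξ.2.1 b₁, ← algebraMap_phiRel ξ.2.2.1 h₀ ξ.2.1 b₂,
      TK_mk hB (nz ha₁) (nz ha₂) (nz hb₁) (nz hb₂)]
    unfold quad
    rw [map_div₀, map_mul, map_mul]
    have tn : ∀ r s : Cyc.LocQuot ξ.1 ξ₀ ξ.2.1,
        (rho ξ.2.1).symm (tameSymbol (Cyc.LocQuot ξ.1 ξ₀ ξ.2.1) r s) ≠ 0 := by
      intro r s
      rw [Ne, map_eq_zero_iff _ (rho ξ.2.1).symm.injective]
      exact tameSymbol_ne_zero _ _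
    exact ordAt_quad' x ξ.1 ξ.2.2.1 (tn _ _) (tn _ _) (tn _ _) (tn _ _)
  rw [finsum_congr hterm]
  have f11 := finite_support_keyTermR hδ h₀ hx a₁ b₁ ha₁ hb₁
  have f22 := finite_support_keyTermR hδ h₀ hx a₂ b₂ ha₂ hb₂
  have f12 := finite_support_keyTermR hδ h₀ hx a₁ b₂ ha₁ hb₂
  have f21 := finite_support_keyTermR hδ h₀ hx a₂ b₁ ha₂ hb₁
  have fA : (Function.support fun ξ : RelGen1 δ ξ₀ x =>
      keyTermR h₀ a₁ b₁ ξ + keyTermR h₀ a₂ b₂ ξ).Finite :=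
    (f11.union f22).subset (Function.support_add _ _)
  have fB : (Function.support fun ξ : RelGen1 δ ξ₀ x =>
      keyTermR h₀ a₁ b₂ ξ + keyTermR h₀ a₂ b₁ ξ).Finite :=
    (f12.union f21).subset (Function.support_add _ _)
  rw [finsum_sub_distrib fA fB, finsum_add_distrib f11 f22, finsum_add_distrib f12 f21,
    finsum_keyTermR_eq_zero hδ h₀ hx a₁ b₁ ha₁ hb₁, finsum_keyTermR_eq_zero hδ h₀ hx a₂ b₂ ha₂ hb₂,
    finsum_keyTermR_eq_zero hδ h₀ hx a₁ b₂ ha₁ hb₂, finsum_keyTermR_eq_zero hδ h₀ hx a₂ b₁ ha₂ hb₁]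
  rfl

end Groth.Agent.Lib.Helper64.RelKey
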