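import Groth.Agent.Lib.Helper64.RelKey4

/-!
# Rational functions on a closure are units at almost all codimension one points (helper64)

`finite_not_unitAtR_inter_affine`: for `F ∈ κ(ξ₀)^*` and a Noetherian affine open `V`, all but
finitely many codimension one points `ξ ∈ V` of the closure of `ξ₀` have `F` in the image of the
units of `O_ξ`.
-/

set_option autoImplicit false
set_option linter.style.haveILetI false
set_option linter.unusedSectionVars false
universe u

open AlgebraicGeometry CategoryTheory TopologicalSpace IsLocalRing CycAlg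

namespace Groth.Agent.Lib.Helper64.RelKey

open Groth.Agent.Lib.Helper64.CycOrd Groth.Agent.Lib.Helper64.CycLen
open Groth.Agent.Lib.Helper64.StalkSpec Groth.Agent.Lib.Helper64.StalkIdeal
open Groth.Agent.Lib.Helper64.CycExc Groth.Agent.Lib.Helper64.CycTens
open Groth.Agent.Lib.Helper64.CycKey
open Groth.Agent.Lib.Helper64.AssReg
open Groth.Agent.Lib.Helper29.QCohLoc

variable {X : Scheme.{u}} {δ : X → ℤ} [IsLocallyNoetherian X]

theorem finite_not_unitAtR_inter_affine (hδ : Cyc.IsDimFun X δ) {V : X.Opens}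
    (hV : IsAffineOpen V) [IsNoetherianRing Γ(X, V)] (ξ₀ : X) (F : X.residueField ξ₀)
    (hF : F ≠ 0) :
    {ξ : X | ξ ∈ V ∧ δ ξ + 1 = δ ξ₀ ∧ ∃ h : ξ₀ ⤳ ξ, ¬ UnitAtR h F}.Finite := by
  classical
  by_cases hξV : ξ₀ ∈ V
  swap
  · convert Set.finite_empty
    rw [Set.eq_empty_iff_forall_notMem]
    rintro ξ ⟨hξ, -, h, -⟩
    exact hξV (h.mem_open V.isOpen hξ)
  obtain ⟨φ, hφ⟩ := X.residue_surjective ξ₀ F
  letI : Algebra Γ(X, V) (X.presheaf.stalk ξ₀) :=
    TopCat.Presheaf.algebra_section_stalk X.presheaf ⟨ξ₀, hξV⟩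
  haveI : IsLocalization.AtPrime (X.presheaf.stalk ξ₀) (hV.primeIdealOf ⟨ξ₀, hξV⟩).asIdeal :=
    hV.isLocalization_stalk ⟨ξ₀, hξV⟩
  obtain ⟨⟨a, b⟩, hab⟩ := IsLocalization.surj (hV.primeIdealOf ⟨ξ₀, hξV⟩).asIdeal.primeCompl φ
  have hab' : φ * X.presheaf.germ V ξ₀ hξV (b : Γ(X, V)) = X.presheaf.germ V ξ₀ hξV a := hab
  have hfab : F * (X.residue ξ₀).hom (X.presheaf.germ V ξ₀ hξV (b : Γ(X, V))) =
      (X.residue ξ₀).hom (X.presheaf.germ V ξ₀ hξV a) := by
    rw [← hab', map_mul]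
    congr 1
    exact hφ.symm
  have hbP : (b : Γ(X, V)) ∉ (hV.primeIdealOf ⟨ξ₀, hξV⟩).asIdeal := b.2
  have hξb : ξ₀ ∈ X.basicOpen (b : Γ(X, V)) := by
    by_contra hc
    exact hbP ((mem_primeIdealOf_iff hV ξ₀ hξV _).2 hc)
  have hub : IsUnit (X.presheaf.germ V ξ₀ hξV (b : Γ(X, V))) :=
    (Scheme.mem_basicOpen X _ ξ₀ hξV).1 hξb
  have hφu : IsUnit φ := by
    by_contra hc
    apply hF
    rw [← hφ]
    have : φ ∈ maximalIdeal (X.presheaf.stalk ξ₀) := hc
    exact (Ideal.Quotient.eq_zero_iff_mem).2 this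
  have hua : IsUnit (X.presheaf.germ V ξ₀ hξV a) := by
    rw [← hab']
    exact hφu.mul hub
  have hξa : ξ₀ ∈ X.basicOpen a := (Scheme.mem_basicOpen X _ ξ₀ hξV).2 hua
  have haP : a ∉ (hV.primeIdealOf ⟨ξ₀, hξV⟩).asIdeal := fun hc =>
    (mem_primeIdealOf_iff hV ξ₀ hξV _).1 hc hξa
  have habP : a * (b : Γ(X, V)) ∉ (hV.primeIdealOf ⟨ξ₀, hξV⟩).asIdeal := fun hc =>
    ((hV.primeIdealOf ⟨ξ₀, hξV⟩).isPrime.mem_or_mem hc).elim haP hbP
  have hresb : (X.residue ξ₀).hom (X.presheaf.germ V ξ₀ hξV (b : Γ(X, V))) ≠ 0 :=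
    (hub.map (X.residue ξ₀).hom).ne_zero
  let Φ : X → Ideal Γ(X, V) := fun y =>
    if hy : y ∈ V then (hV.primeIdealOf ⟨y, hy⟩).asIdeal else ⊤
  apply Set.Finite.of_finite_image (f := Φ)
  · apply (Ideal.finite_minimalPrimes_of_isNoetherianRing Γ(X, V)
      ((hV.primeIdealOf ⟨ξ₀, hξV⟩).asIdeal ⊔ Ideal.span {a * (b : Γ(X, V))})).subset
    rintro _ ⟨x, ⟨hxV, hxδ, hsp, hxu⟩, rfl⟩
    simp only [Φ, dif_pos hxV]
    have hmem : a * (b : Γ(X, V)) ∈ (hV.primeIdealOf ⟨x, hxV⟩).asIdeal := by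
      by_contra hnot
      apply hxu
      have hxab : x ∈ X.basicOpen (a * (b : Γ(X, V))) := by
        by_contra hc'
        exact hnot ((mem_primeIdealOf_iff hV x hxV _).2 hc')
      rw [Scheme.basicOpen_mul] at hxab
      have hua' : IsUnit (X.presheaf.germ V x hxV a) := (Scheme.mem_basicOpen X a x hxV).1 hxab.1
      have hub' : IsUnit (X.presheaf.germ V x hxV (b : Γ(X, V))) :=
        (Scheme.mem_basicOpen X _ x hxV).1 hxab.2
      obtain ⟨ua, hua''⟩ := hua'
      obtain ⟨ub, hub''⟩ := hub'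
      refine ⟨ua * ub⁻¹, ?_⟩
      have e1 : Cyc.specMap x ξ₀ hsp (ua : X.presheaf.stalk x) =
          (X.residue ξ₀).hom (X.presheaf.germ V ξ₀ hξV a) := by
        rw [hua'']
        exact specMap_germ hsp hxV a
      have e2 : Cyc.specMap x ξ₀ hsp (ub : X.presheaf.stalk x) =
          (X.residue ξ₀).hom (X.presheaf.germ V ξ₀ hξV (b : Γ(X, V))) := by
        rw [hub'']
        exact specMap_germ hsp hxV _
      have e3 : Cyc.specMap x ξ₀ hsp ((ub⁻¹ : (X.presheaf.stalk x)ˣ) : X.presheaf.stalk x) *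
          Cyc.specMap x ξ₀ hsp (ub : X.presheaf.stalk x) = 1 := by
        rw [← map_mul, Units.inv_mul, map_one]
      rw [Units.val_mul, map_mul, e1, ← hfab]
      rw [e2] at e3
      rw [mul_assoc, mul_comm ((X.residue ξ₀).hom _) _, e3, mul_one]
    have hle : (hV.primeIdealOf ⟨ξ₀, hξV⟩).asIdeal ≤ (hV.primeIdealOf ⟨x, hxV⟩).asIdeal :=
      primeIdealOf_le_of_specializes hV hxV hξV hsp
    refine ⟨⟨(hV.primeIdealOf ⟨x, hxV⟩).isPrime, sup_le hle ?_⟩, ?_⟩
    · rw [Ideal.span_le]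
      intro t ht
      rw [Set.mem_singleton_iff.1 ht]
      exact hmem
    · rintro q ⟨hqp, hqle⟩ hqx
      haveI := hqp
      obtain ⟨y, hyV, hy⟩ := exists_point_of_prime hV q
      have hξy : ξ₀ ⤳ y := by
        apply specializes_of_primeIdealOf_le hV hyV hξV
        rw [hy]
        exact le_trans le_sup_left hqle
      have hyx : y ⤳ x := by
        apply specializes_of_primeIdealOf_le hV hxV hyV
        rw [hy]
        exact hqx
      have hyξ : ξ₀ ≠ y := by
        intro he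
        apply habP
        have : a * (b : Γ(X, V)) ∈ q :=
          hqle (Ideal.mem_sup_right (Ideal.subset_span (Set.mem_singleton _)))
        rw [← hy] at this
        subst he
        exact this
      have hyx' : y = x := by
        by_contra hne
        have h1 := (hδ ξ₀ y hξy hyξ).1
        have h2 := (hδ y x hyx hne).1
        omega
      subst hyx'
      rw [hy]
  · rintro y ⟨hy, -⟩ y' ⟨hy', -⟩ h
    simp only [Φ, dif_pos hy, dif_pos hy'] at h
    exact primeIdealOf_inj hV hy hy' h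

end Groth.Agent.Lib.Helper64.RelKey
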