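import Groth.Agent.Lib.Helper64.RelKey6

/-!
# Commutativity of first Chern classes (helper64)

`c1Cap_c1Cap_comm`: `c₁(L) ∩ (c₁(N) ∩ α) ∼ c₁(N) ∩ (c₁(L) ∩ α)` for a `(k+2)`-cycle `α`, from the
relative key formula `relKeyFormula` applied to every point of the support of `α`.
-/

set_option autoImplicit false
set_option linter.style.haveILetI false
set_option linter.unusedSectionVars false
set_option linter.unusedVariables false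
universe u

open AlgebraicGeometry CategoryTheory TopologicalSpace IsLocalRing CycAlg

namespace Groth.Agent.Lib.Helper64.RelKey

open Groth.Agent.Lib.Helper64.CycOrd Groth.Agent.Lib.Helper64.CycLen
open Groth.Agent.Lib.Helper64.CycExc Groth.Agent.Lib.Helper64.CycTens

variable {X : Scheme.{u}}

theorem finsum_comm' {α β : Type*} (f : α → β → ℤ)
    (hf : (Function.support (Function.uncurry f)).Finite) :
    ∑ᶠ a, ∑ᶠ b, f a b = ∑ᶠ b, ∑ᶠ a, f a b := by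
  have h1 := finsum_curry (Function.uncurry f) hf
  have hf' : (Function.support (fun p : β × α => f p.2 p.1)).Finite := by
    have : Function.support (fun p : β × α => f p.2 p.1) =
        Prod.swap '' Function.support (Function.uncurry f) := by
      ext ⟨b, a⟩
      simp only [Function.mem_support, Set.mem_image, Prod.exists, Function.uncurry_apply_pair,
        Prod.swap_prod_mk, Prod.mk.injEq]
      constructor
      · intro h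
        exact ⟨a, b, h, rfl, rfl⟩
      · rintro ⟨a', b', h, rfl, rfl⟩
        exact h
    rw [this]
    exact hf.image _
  have h2 := finsum_curry (fun p : β × α => f p.2 p.1) hf'
  have h3 : ∑ᶠ p : β × α, Function.uncurry f (Equiv.prodComm β α p) =
      ∑ᶠ p : α × β, Function.uncurry f p :=
    finsum_comp_equiv (Equiv.prodComm β α) (f := Function.uncurry f)
  have h4 : ∑ᶠ p : β × α, Function.uncurry f (Equiv.prodComm β α p) =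
      ∑ᶠ p : β × α, f p.2 p.1 := rfl
  rw [h4, h2, h1] at h3
  exact h3.symm

theorem exists_ne_zero_of_finsum_ne_zero' {α : Type*} {f : α → ℤ} (h : ∑ᶠ a, f a ≠ 0) :
    ∃ a, f a ≠ 0 := by
  by_contra hcon
  push Not at hcon
  apply h
  rw [finsum_congr hcon]
  exact finsum_zero

theorem finite_prod_of_fibres {α β : Type*} {S : Set (α × β)} {F : Set α} (hF : F.Finite)
    (G : α → Set β) (hG : ∀ a ∈ F, (G a).Finite)
    (hS : ∀ p ∈ S, p.1 ∈ F ∧ p.2 ∈ G p.1) : S.Finite := by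
  apply (Set.Finite.biUnion hF (fun a ha => ((hG a ha).image (fun b => (a, b))))).subset
  intro p hp
  obtain ⟨h1, h2⟩ := hS p hp
  simp only [Set.mem_iUnion, Set.mem_image]
  exact ⟨p.1, h1, p.2, h2, rfl⟩

theorem divFun_one (δ : X → ℤ) (ξ x : X) : Cyc.divFun δ ξ (1 : X.residueField ξ) x = 0 := by
  unfold Cyc.divFun
  split_ifs
  · exact ordAt_one' _ _ _
  · rfl

/-- exchanging the order of summation in an iterated cap product -/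
theorem finsum_cap_exchange (α : AlgebraicCycle X ℤ) (x : X) (P : X → X → Prop)
    (hG : ∀ ξ₀, {ξ : X | ξ ⤳ x ∧ P ξ₀ ξ}.Finite) (B : X → X → ℤ) (S : X → ℤ)
    (hB : ∀ ξ₀ ξ, B ξ₀ ξ ≠ 0 → ξ₀ ⤳ ξ ∧ P ξ₀ ξ) (hS : ∀ ξ, S ξ ≠ 0 → ξ ⤳ x) :
    ∑ᶠ ξ, (∑ᶠ ξ₀, α ξ₀ * B ξ₀ ξ) * S ξ = ∑ᶠ ξ₀, α ξ₀ * ∑ᶠ ξ, B ξ₀ ξ * S ξ := by
  have hFx : {ξ₀ : X | α ξ₀ ≠ 0 ∧ ξ₀ ⤳ x}.Finite := by
    obtain ⟨t, ht, hfin⟩ := α.supportLocallyFiniteWithinDomain' x (Set.mem_univ x)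
    apply hfin.subset
    rintro ξ₀ ⟨h1, h3⟩
    exact ⟨interior_subset (h3.mem_open isOpen_interior (mem_interior_iff_mem_nhds.2 ht)), h1⟩
  have e1 : ∀ ξ, (∑ᶠ ξ₀, α ξ₀ * B ξ₀ ξ) * S ξ = ∑ᶠ ξ₀, α ξ₀ * B ξ₀ ξ * S ξ :=
    fun ξ => finsum_mul _ _
  rw [finsum_congr e1]
  have hfin : (Function.support (Function.uncurry fun ξ₀ ξ => α ξ₀ * B ξ₀ ξ * S ξ)).Finite := by
    apply finite_prod_of_fibres hFx (fun ξ₀ => {ξ : X | ξ ⤳ x ∧ P ξ₀ ξ}) (fun ξ₀ _ => hG ξ₀)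
    rintro ⟨ξ₀, ξ⟩ hp
    rw [Function.mem_support, Function.uncurry_apply_pair] at hp
    have h1 : α ξ₀ ≠ 0 := left_ne_zero_of_mul (left_ne_zero_of_mul hp)
    have h2 : B ξ₀ ξ ≠ 0 := right_ne_zero_of_mul (left_ne_zero_of_mul hp)
    have h3 : S ξ ≠ 0 := right_ne_zero_of_mul hp
    exact ⟨⟨h1, (hB ξ₀ ξ h2).1.trans (hS ξ h3)⟩, hS ξ h3, (hB ξ₀ ξ h2).2⟩
  rw [← finsum_comm' (fun ξ₀ ξ => α ξ₀ * B ξ₀ ξ * S ξ) hfin]
  apply finsum_congr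
  intro ξ₀
  rw [mul_finsum]
  apply finsum_congr
  intro ξ
  ring

theorem c1Cap_c1Cap_comm (δ : X → ℤ) (hX : Cyc.IsSetup X δ) (L N : X.Modules)
    (hL : PicF.IsInvertible L) (hN : PicF.IsInvertible N) (k : ℤ) (α : AlgebraicCycle X ℤ)
    (hα : α ∈ Cyc.Zk X δ (k + 2)) (sL sL' : (ξ : X) → Cyc.secFibre L ξ)
    (sN sN' : (ξ : X) → Cyc.secFibre N ξ) (hsL : ∀ ξ, sL ξ ≠ 0) (hsL' : ∀ ξ, sL' ξ ≠ 0)
    (hsN : ∀ ξ, sN ξ ≠ 0) (hsN' : ∀ ξ, sN' ξ ≠ 0) (γ₁ γ₂ : AlgebraicCycle X ℤ)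
    (h₁ : ⇑γ₁ = Cyc.c1CapFun δ L (Cyc.c1CapFun δ N ⇑α sN) sL)
    (h₂ : ⇑γ₂ = Cyc.c1CapFun δ N (Cyc.c1CapFun δ L ⇑α sL') sN') :
    Cyc.RatEquiv δ k γ₁ γ₂ := by
  classical
  choose P hh hhne hhone hPdim hLF haP hbP hform using fun ξ₀ : X =>
    relKeyFormula δ hX ξ₀ L N hL hN (sL' ξ₀) (hsL' ξ₀) (sN ξ₀) (hsN ξ₀) sN' hsN' sL hsL
  have hFx : ∀ x, {ξ₀ : X | α ξ₀ ≠ 0 ∧ ξ₀ ⤳ x}.Finite := by
    intro x
    obtain ⟨t, ht, hfin⟩ := α.supportLocallyFiniteWithinDomain' x (Set.mem_univ x)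
    apply hfin.subset
    rintro ξ₀ ⟨h1, h3⟩
    exact ⟨interior_subset (h3.mem_open isOpen_interior (mem_interior_iff_mem_nhds.2 ht)), h1⟩
  have hGx : ∀ x ξ₀, {ξ : X | ξ ⤳ x ∧ P ξ₀ ξ}.Finite := by
    intro x ξ₀
    obtain ⟨V, hVo, hxV, hfin⟩ := hLF ξ₀ x
    apply hfin.subset
    rintro ξ ⟨hsp, hξP⟩
    exact ⟨hsp.mem_open hVo hxV, hξP⟩
  unfold Cyc.RatEquiv
  refine ⟨{p : X × X // α p.1 ≠ 0 ∧ P p.1 p.2}, fun p => p.1.2,
    fun p => (hh p.1.1 p.1.2) ^ (- α p.1.1), ?_, ?_, ?_, ?_⟩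
  · intro p
    show δ p.1.2 = k + 1
    have h1 := (hPdim p.1.1 p.1.2 p.2.2).1
    have h2 : δ p.1.1 = k + 2 := by
      by_contra hne
      exact p.2.1 (hα p.1.1 hne)
    omega
  · intro p
    exact zpow_ne_zero _ (hhne p.1.1 p.1.2)
  · intro x
    obtain ⟨U₀, hU₀o, hxU₀, hU₀fin⟩ := locallyFinite_support_closure α x
    -- the points of the support of `α` in `U₀`
    have hF' : {ξ₀ : X | α ξ₀ ≠ 0 ∧ ξ₀ ∈ U₀}.Finite := by
      have := Set.Finite.image (fun i : {ξ : X // α ξ ≠ 0} => i.1) hU₀fin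
      apply this.subset
      rintro ξ₀ ⟨h1, h2⟩
      exact ⟨⟨ξ₀, h1⟩, ⟨ξ₀, subset_closure rfl, h2⟩, rfl⟩
    choose V hVo hxV hVfin using fun ξ₀ => hLF ξ₀ x
    refine ⟨U₀ ∩ ⋂ ξ₀ ∈ {ξ₀ : X | α ξ₀ ≠ 0 ∧ ξ₀ ∈ U₀}, V ξ₀,
      hU₀o.inter (hF'.isOpen_biInter fun ξ₀ _ => hVo ξ₀),
      ⟨hxU₀, Set.mem_iInter₂.2 fun ξ₀ _ => hxV ξ₀⟩, ?_⟩
    have hpairs : {p : X × X | (α p.1 ≠ 0 ∧ p.1 ∈ U₀) ∧ (p.2 ∈ V p.1 ∧ P p.1 p.2)}.Finite := by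
      apply finite_prod_of_fibres hF' (fun ξ₀ => {ξ : X | ξ ∈ V ξ₀ ∧ P ξ₀ ξ})
        (fun ξ₀ _ => hVfin ξ₀)
      rintro p hp
      exact hp
    apply (Set.Finite.preimage (Subtype.val_injective.injOn) hpairs).subset
    rintro p ⟨y, hy1, hy2⟩
    have hsp : p.1.2 ⤳ y := specializes_iff_mem_closure.2 hy1
    have hpU₀ : p.1.2 ∈ U₀ := hsp.mem_open hU₀o hy2.1
    have hsp0 : p.1.1 ⤳ p.1.2 := (hPdim p.1.1 p.1.2 p.2.2).2
    have hp0U₀ : p.1.1 ∈ U₀ := hsp0.mem_open hU₀o hpU₀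
    have hmem := Set.mem_iInter₂.1 hy2.2 p.1.1 ⟨p.2.1, hp0U₀⟩
    exact ⟨⟨p.2.1, hp0U₀⟩, hsp.mem_open (hVo p.1.1) hmem, p.2.2⟩
  · intro x
    have e0 : (γ₁ - γ₂) x = γ₁ x - γ₂ x := rfl
    rw [e0, congrFun h₁ x, congrFun h₂ x]
    -- the two iterated cap products as sums over the support of `α`
    have hγ₁ : Cyc.c1CapFun δ L (Cyc.c1CapFun δ N ⇑α sN) sL x =
        ∑ᶠ ξ₀, α ξ₀ * Cyc.c1CapFun δ L (Cyc.secDivFun δ N ξ₀ (sN ξ₀)) sL x := by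
      unfold Cyc.c1CapFun
      exact finsum_cap_exchange α x P (hGx x) (fun ξ₀ ξ => Cyc.secDivFun δ N ξ₀ (sN ξ₀) ξ)
        (fun ξ => Cyc.secDivFun δ L ξ (sL ξ) x)
        (fun ξ₀ ξ hne => ⟨by
          by_contra hns
          exact hne (secDivFun_eq_zero_of_not_specializes δ N ξ₀ (sN ξ₀) ξ hns), hbP ξ₀ ξ hne⟩)
        (fun ξ hne => by
          by_contra hns
          exact hne (secDivFun_eq_zero_of_not_specializes δ L ξ (sL ξ) x hns))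
    have hγ₂ : Cyc.c1CapFun δ N (Cyc.c1CapFun δ L ⇑α sL') sN' x =
        ∑ᶠ ξ₀, α ξ₀ * Cyc.c1CapFun δ N (Cyc.secDivFun δ L ξ₀ (sL' ξ₀)) sN' x := by
      unfold Cyc.c1CapFun
      exact finsum_cap_exchange α x P (hGx x) (fun ξ₀ ξ => Cyc.secDivFun δ L ξ₀ (sL' ξ₀) ξ)
        (fun ξ => Cyc.secDivFun δ N ξ (sN' ξ) x)
        (fun ξ₀ ξ hne => ⟨by
          by_contra hns
          exact hne (secDivFun_eq_zero_of_not_specializes δ L ξ₀ (sL' ξ₀) ξ hns), haP ξ₀ ξ hne⟩)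
        (fun ξ hne => by
          by_contra hns
          exact hne (secDivFun_eq_zero_of_not_specializes δ N ξ (sN' ξ) x hns))
    rw [hγ₁, hγ₂]
    -- supports in `ξ₀`
    have hC₁ : ∀ ξ₀, Cyc.c1CapFun δ L (Cyc.secDivFun δ N ξ₀ (sN ξ₀)) sL x ≠ 0 → ξ₀ ⤳ x := by
      intro ξ₀ hne
      unfold Cyc.c1CapFun at hne
      obtain ⟨ξ, hξ⟩ := exists_ne_zero_of_finsum_ne_zero' hne
      have h1 : ξ₀ ⤳ ξ := by
        by_contra hns
        exact left_ne_zero_of_mul hξ (secDivFun_eq_zero_of_not_specializes δ N ξ₀ (sN ξ₀) ξ hns)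
      have h2 : ξ ⤳ x := by
        by_contra hns
        exact right_ne_zero_of_mul hξ (secDivFun_eq_zero_of_not_specializes δ L ξ (sL ξ) x hns)
      exact h1.trans h2
    have hC₂ : ∀ ξ₀, Cyc.c1CapFun δ N (Cyc.secDivFun δ L ξ₀ (sL' ξ₀)) sN' x ≠ 0 → ξ₀ ⤳ x := by
      intro ξ₀ hne
      unfold Cyc.c1CapFun at hne
      obtain ⟨ξ, hξ⟩ := exists_ne_zero_of_finsum_ne_zero' hne
      have h1 : ξ₀ ⤳ ξ := by
        by_contra hns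
        exact left_ne_zero_of_mul hξ (secDivFun_eq_zero_of_not_specializes δ L ξ₀ (sL' ξ₀) ξ hns)
      have h2 : ξ ⤳ x := by
        by_contra hns
        exact right_ne_zero_of_mul hξ (secDivFun_eq_zero_of_not_specializes δ N ξ (sN' ξ) x hns)
      exact h1.trans h2
    have f₁ : (Function.support fun ξ₀ =>
        α ξ₀ * Cyc.c1CapFun δ L (Cyc.secDivFun δ N ξ₀ (sN ξ₀)) sL x).Finite := by
      apply (hFx x).subset
      intro ξ₀ hξ₀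
      rw [Function.mem_support] at hξ₀
      exact ⟨left_ne_zero_of_mul hξ₀, hC₁ ξ₀ (right_ne_zero_of_mul hξ₀)⟩
    have f₂ : (Function.support fun ξ₀ =>
        α ξ₀ * Cyc.c1CapFun δ N (Cyc.secDivFun δ L ξ₀ (sL' ξ₀)) sN' x).Finite := by
      apply (hFx x).subset
      intro ξ₀ hξ₀
      rw [Function.mem_support] at hξ₀
      exact ⟨left_ne_zero_of_mul hξ₀, hC₂ ξ₀ (right_ne_zero_of_mul hξ₀)⟩
    rw [← finsum_sub_distrib f₁ f₂]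
    -- the double sum
    obtain ⟨g, hg⟩ : ∃ g : X × X → ℤ, ∀ p, g p =
        Cyc.divFun δ p.2 ((hh p.1 p.2) ^ (- α p.1)) x := ⟨_, fun p => rfl⟩
    have hgval : ∀ ξ₀ ξ, g (ξ₀, ξ) = (- α ξ₀) * Cyc.divFun δ ξ (hh ξ₀ ξ) x := by
      intro ξ₀ ξ
      rw [hg]
      exact divFun_zpow δ ξ (hhne ξ₀ ξ) (- α ξ₀) x
    have hgsupp : ∀ p, g p ≠ 0 → (α p.1 ≠ 0 ∧ P p.1 p.2) ∧ p.2 ⤳ x := by
      rintro ⟨ξ₀, ξ⟩ hne
      rw [hgval] at hne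
      have h1 : α ξ₀ ≠ 0 := by
        intro h0
        rw [h0, neg_zero, zero_mul] at hne
        exact hne rfl
      have h2 : Cyc.divFun δ ξ (hh ξ₀ ξ) x ≠ 0 := right_ne_zero_of_mul hne
      refine ⟨⟨h1, ?_⟩, ?_⟩
      · by_contra hnP
        apply h2
        rw [hhone ξ₀ ξ hnP]
        exact divFun_one δ ξ x
      · by_contra hns
        exact h2 (divFun_eq_zero_of_not_specializes δ ξ _ x hns)
    have hgfin : (Function.support g).Finite := by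
      apply finite_prod_of_fibres (hFx x) (fun ξ₀ => {ξ : X | ξ ⤳ x ∧ P ξ₀ ξ})
        (fun ξ₀ _ => hGx x ξ₀)
      rintro ⟨ξ₀, ξ⟩ hp
      obtain ⟨⟨h1, h2⟩, h3⟩ := hgsupp _ hp
      exact ⟨⟨h1, (hPdim ξ₀ ξ h2).2.trans h3⟩, h3, h2⟩
    have hRHS : ∑ᶠ p : {p : X × X // α p.1 ≠ 0 ∧ P p.1 p.2},
        Cyc.divFun δ p.1.2 ((hh p.1.1 p.1.2) ^ (- α p.1.1)) x = ∑ᶠ p : X × X, g p := by
      rw [finsum_eq_subtype_of_support g (fun p => α p.1 ≠ 0 ∧ P p.1 p.2)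
        (fun p hp => (hgsupp p hp).1)]
      exact finsum_congr fun p => (hg p.1).symm
    rw [hRHS, finsum_curry g hgfin]
    apply finsum_congr
    intro ξ₀
    have e1 : ∑ᶠ ξ, g (ξ₀, ξ) = (- α ξ₀) * ∑ᶠ ξ, Cyc.divFun δ ξ (hh ξ₀ ξ) x := by
      rw [mul_finsum]
      exact finsum_congr fun ξ => hgval ξ₀ ξ
    rw [e1, ← hform ξ₀ x]
    ring

end Groth.Agent.Lib.Helper64.RelKey
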