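import Groth.Agent.Lib.Helper64.RelKey7
import Groth.Agent.Lib.Helper35.InvPush

/-!
# The first Chern class passes to rational equivalence (helper64)

`c1Cap_ratEquivZero`: if a `(k+1)`-cycle `α` is rationally equivalent to zero then so is
`c₁(L) ∩ α`. The relative key formula is applied to `O_X`, `L` at the generic points of the
subvarieties carrying the rational functions whose divisors add up to `α`.
-/

set_option autoImplicit false
set_option linter.style.haveILetI false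
set_option linter.unusedSectionVars false
set_option linter.unusedVariables false
universe u

open AlgebraicGeometry CategoryTheory TopologicalSpace IsLocalRing CycAlg

namespace Groth.Agent.Lib.Helper64.RelKey

open Groth.Agent.Lib.Helper64.CycOrd Groth.Agent.Lib.Helper64.CycLen
open Groth.Agent.Lib.Helper64.CycExc Groth.Agent.Lib.Helper64.CycTens

variable {X : Scheme.{u}}

theorem oneFib_ne_zero (ξ : X) : oneFib ξ ≠ 0 := by
  intro h0
  have h1 : (1 : X.presheaf.stalk ξ) • oneFib ξ = 0 := by rw [one_smul, h0]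
  rw [smul_oneFib_eq_zero_iff] at h1
  exact (Ideal.ne_top_iff_one _).1 (IsLocalRing.maximalIdeal.isMaximal _).ne_top h1

theorem secDivFun_oneFib (δ : X → ℤ) (ξ x : X) :
    Cyc.secDivFun δ (Coh.structureModule X) ξ (oneFib ξ) x = 0 := by
  have h1 : (1 : X.presheaf.stalk ξ) ∉ IsLocalRing.maximalIdeal (X.presheaf.stalk ξ) :=
    (Ideal.ne_top_iff_one _).1 (IsLocalRing.maximalIdeal.isMaximal _).ne_top
  have := secDivFun_structureModule δ ξ 1 h1
  rw [one_smul] at this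
  rw [this, map_one]
  exact divFun_one δ ξ x

/-- exchanging the order of summation, for a family of coefficient functions -/
theorem finsum_family_exchange {ι : Type*} (x : X) (F : Set ι) (hF : F.Finite)
    (P : ι → X → Prop) (hG : ∀ i, {ζ : X | ζ ⤳ x ∧ P i ζ}.Finite) (B : ι → X → ℤ) (S : X → ℤ)
    (hB : ∀ i ζ, B i ζ ≠ 0 → P i ζ) (hBS : ∀ i ζ, B i ζ ≠ 0 → S ζ ≠ 0 → i ∈ F)
    (hS : ∀ ζ, S ζ ≠ 0 → ζ ⤳ x) :
    ∑ᶠ ζ, (∑ᶠ i, B i ζ) * S ζ = ∑ᶠ i, ∑ᶠ ζ, B i ζ * S ζ := by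
  have e1 : ∀ ζ, (∑ᶠ i, B i ζ) * S ζ = ∑ᶠ i, B i ζ * S ζ := fun ζ => finsum_mul _ _
  rw [finsum_congr e1]
  have hfin : (Function.support (Function.uncurry fun i ζ => B i ζ * S ζ)).Finite := by
    apply finite_prod_of_fibres hF (fun i => {ζ : X | ζ ⤳ x ∧ P i ζ}) (fun i _ => hG i)
    rintro ⟨i, ζ⟩ hp
    rw [Function.mem_support, Function.uncurry_apply_pair] at hp
    have h2 : B i ζ ≠ 0 := left_ne_zero_of_mul hp
    have h3 : S ζ ≠ 0 := right_ne_zero_of_mul hp
    exact ⟨hBS i ζ h2 h3, hS ζ h3, hB i ζ h2⟩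
  rw [← finsum_comm' (fun i ζ => B i ζ * S ζ) hfin]

theorem c1Cap_ratEquivZero (δ : X → ℤ) (hX : Cyc.IsSetup X δ) (L : X.Modules)
    (hL : PicF.IsInvertible L) (k : ℤ) (α : AlgebraicCycle X ℤ) (hα : α ∈ Cyc.Zk X δ (k + 1))
    (h0 : Cyc.RatEquivZero δ (k + 1) α) (s : (ξ : X) → Cyc.secFibre L ξ) (hs : ∀ ξ, s ξ ≠ 0)
    (γ : AlgebraicCycle X ℤ) (hγ : ⇑γ = Cyc.c1CapFun δ L ⇑α s) : Cyc.RatEquivZero δ k γ := by
  classical
  obtain ⟨ι₀, pt, f, hdim, hf, hlf, hsum⟩ := h0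
  choose φ hφ using fun i => X.residue_surjective (pt i) (f i)
  have hφm : ∀ i, φ i ∉ IsLocalRing.maximalIdeal (X.presheaf.stalk (pt i)) := by
    intro i hmem
    apply hf i
    rw [← hφ i]
    exact (IsLocalRing.residue_eq_zero_iff _).2 hmem
  have hsO : ∀ i, φ i • oneFib (pt i) ≠ 0 := fun i h0 =>
    hφm i ((smul_oneFib_eq_zero_iff (pt i) (φ i)).1 h0)
  choose P hh hhne hhone hPdim hLF haP hbP hform using fun i : ι₀ =>
    relKeyFormula δ hX (pt i) (Coh.structureModule X) L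
      (Groth.Agent.Lib.Helper35.InvPush.isInvertible_structureModule X) hL
      (φ i • oneFib (pt i)) (hsO i) (s (pt i)) (hs (pt i)) s hs (fun ξ => oneFib ξ) oneFib_ne_zero
  have hO : ∀ (β : X → ℤ) (x : X),
      Cyc.c1CapFun δ (Coh.structureModule X) β (fun ξ => oneFib ξ) x = 0 := by
    intro β x
    unfold Cyc.c1CapFun
    rw [finsum_congr (fun ξ => by rw [secDivFun_oneFib δ ξ x, mul_zero])]
    exact finsum_zero
  have hsec : ∀ i, Cyc.secDivFun δ (Coh.structureModule X) (pt i) (φ i • oneFib (pt i)) =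
      Cyc.divFun δ (pt i) (f i) := by
    intro i
    rw [secDivFun_structureModule δ (pt i) (φ i) (hφm i)]
    congr 1
    exact hφ i
  have hform' : ∀ i x, Cyc.c1CapFun δ L (Cyc.divFun δ (pt i) (f i)) s x =
      ∑ᶠ ζ, Cyc.divFun δ ζ (hh i ζ) x := by
    intro i x
    have := hform i x
    rw [hO, sub_zero, hsec i] at this
    exact this
  have haP' : ∀ i ζ, Cyc.divFun δ (pt i) (f i) ζ ≠ 0 → P i ζ := by
    intro i ζ hne
    apply haP i ζ
    rw [hsec i]
    exact hne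
  have hFx : ∀ x, {i : ι₀ | pt i ⤳ x}.Finite := by
    intro x
    obtain ⟨U, hUo, hxU, hfin⟩ := hlf x
    apply hfin.subset
    intro i hi
    exact ⟨x, specializes_iff_mem_closure.1 hi, hxU⟩
  have hGx : ∀ x i, {ζ : X | ζ ⤳ x ∧ P i ζ}.Finite := by
    intro x i
    obtain ⟨V, hVo, hxV, hfin⟩ := hLF i x
    apply hfin.subset
    rintro ζ ⟨hsp, hζP⟩
    exact ⟨hsp.mem_open hVo hxV, hζP⟩
  refine ⟨{p : ι₀ × X // P p.1 p.2}, fun p => p.1.2, fun p => hh p.1.1 p.1.2, ?_, ?_, ?_, ?_⟩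
  · intro p
    show δ p.1.2 = k + 1
    have h1 := (hPdim p.1.1 p.1.2 p.2).1
    have h2 := hdim p.1.1
    omega
  · intro p
    exact hhne p.1.1 p.1.2
  · intro x
    obtain ⟨U₀, hU₀o, hxU₀, hU₀fin⟩ := hlf x
    choose V hVo hxV hVfin using fun i => hLF i x
    refine ⟨U₀ ∩ ⋂ i ∈ {i : ι₀ | (closure {pt i} ∩ U₀).Nonempty}, V i,
      hU₀o.inter (hU₀fin.isOpen_biInter fun i _ => hVo i),
      ⟨hxU₀, Set.mem_iInter₂.2 fun i _ => hxV i⟩, ?_⟩
    have hpairs : {p : ι₀ × X | (closure {pt p.1} ∩ U₀).Nonempty ∧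
        (p.2 ∈ V p.1 ∧ P p.1 p.2)}.Finite := by
      apply finite_prod_of_fibres hU₀fin (fun i => {ζ : X | ζ ∈ V i ∧ P i ζ})
        (fun i _ => hVfin i)
      rintro p hp
      exact hp
    apply (Set.Finite.preimage (Subtype.val_injective.injOn) hpairs).subset
    rintro p ⟨y, hy1, hy2⟩
    have hsp : p.1.2 ⤳ y := specializes_iff_mem_closure.2 hy1
    have hpU₀ : p.1.2 ∈ U₀ := hsp.mem_open hU₀o hy2.1
    have hsp0 : pt p.1.1 ⤳ p.1.2 := (hPdim p.1.1 p.1.2 p.2).2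
    have hne : (closure {pt p.1.1} ∩ U₀).Nonempty :=
      ⟨p.1.2, specializes_iff_mem_closure.1 hsp0, hpU₀⟩
    have hmem := Set.mem_iInter₂.1 hy2.2 p.1.1 hne
    exact ⟨hne, hsp.mem_open (hVo p.1.1) hmem, p.2⟩
  · intro x
    rw [congrFun hγ x]
    have hγ' : Cyc.c1CapFun δ L ⇑α s x =
        ∑ᶠ i, Cyc.c1CapFun δ L (Cyc.divFun δ (pt i) (f i)) s x := by
      unfold Cyc.c1CapFun
      have e1 : ∀ ζ, α ζ * Cyc.secDivFun δ L ζ (s ζ) x =
          (∑ᶠ i, Cyc.divFun δ (pt i) (f i) ζ) * Cyc.secDivFun δ L ζ (s ζ) x := by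
        intro ζ
        rw [hsum ζ]
      rw [finsum_congr e1]
      exact finsum_family_exchange x {i : ι₀ | pt i ⤳ x} (hFx x) P (hGx x)
        (fun i ζ => Cyc.divFun δ (pt i) (f i) ζ) (fun ζ => Cyc.secDivFun δ L ζ (s ζ) x)
        haP'
        (fun i ζ h1 h2 => by
          have k1 : pt i ⤳ ζ := by
            by_contra hns
            exact h1 (divFun_eq_zero_of_not_specializes δ (pt i) (f i) ζ hns)
          have k2 : ζ ⤳ x := by
            by_contra hns
            exact h2 (secDivFun_eq_zero_of_not_specializes δ L ζ (s ζ) x hns)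
          exact k1.trans k2)
        (fun ζ hne => by
          by_contra hns
          exact hne (secDivFun_eq_zero_of_not_specializes δ L ζ (s ζ) x hns))
    rw [hγ', finsum_congr (fun i => hform' i x)]
    obtain ⟨g, hg⟩ : ∃ g : ι₀ × X → ℤ, ∀ p, g p = Cyc.divFun δ p.2 (hh p.1 p.2) x :=
      ⟨_, fun p => rfl⟩
    have hgsupp : ∀ p, g p ≠ 0 → P p.1 p.2 ∧ p.2 ⤳ x := by
      rintro ⟨i, ζ⟩ hne
      rw [hg] at hne
      refine ⟨?_, ?_⟩
      · by_contra hnP
        apply hne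
        show Cyc.divFun δ ζ (hh i ζ) x = 0
        rw [hhone i ζ hnP]
        exact divFun_one δ ζ x
      · by_contra hns
        exact hne (divFun_eq_zero_of_not_specializes δ ζ _ x hns)
    have hgfin : (Function.support g).Finite := by
      apply finite_prod_of_fibres (hFx x) (fun i => {ζ : X | ζ ⤳ x ∧ P i ζ})
        (fun i _ => hGx x i)
      rintro ⟨i, ζ⟩ hp
      obtain ⟨h2, h3⟩ := hgsupp _ hp
      exact ⟨(hPdim i ζ h2).2.trans h3, h3, h2⟩
    have hRHS : ∑ᶠ p : {p : ι₀ × X // P p.1 p.2}, Cyc.divFun δ p.1.2 (hh p.1.1 p.1.2) x =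
        ∑ᶠ p : ι₀ × X, g p := by
      rw [finsum_eq_subtype_of_support g (fun p => P p.1 p.2) (fun p hp => (hgsupp p hp).1)]
      exact finsum_congr fun p => (hg p.1).symm
    rw [hRHS, finsum_curry g hgfin]
    exact finsum_congr fun i => finsum_congr fun ζ => (hg (i, ζ)).symm

end Groth.Agent.Lib.Helper64.RelKey
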