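import Groth.Agent.Lib.Helper64.RelKey8

/-!
# The relative key formula with a global section (helper64)

`relKeyFormula'`: the relative key formula `relKeyFormula` with the extra information that the
rational functions are `1` at the points where the rational sections of `N` are the restrictions of
one global section which generates `N` there (the tame symbol against a unit section is absorbed).
-/

set_option autoImplicit false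
set_option linter.style.haveILetI false
set_option linter.unusedSectionVars false
set_option linter.unusedVariables false
universe u

open AlgebraicGeometry CategoryTheory TopologicalSpace IsLocalRing CycAlg

namespace Groth.Agent.Lib.Helper64.RelKey

open Groth.Agent.Lib.Helper64.CycOrd Groth.Agent.Lib.Helper64.CycLen
open Groth.Agent.Lib.Helper64.StalkSpec Groth.Agent.Lib.Helper64.StalkIdeal
open Groth.Agent.Lib.Helper64.CycExc Groth.Agent.Lib.Helper64.CycTens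
open Groth.Agent.Lib.Helper64.CycKey
open Groth.Agent.Lib.Helper64.SecOrd
open Groth.Agent.Lib.Helper64.RefExt Groth.Agent.Lib.Helper64.RefS2
open Groth.Agent.Lib.Lead.Inv

variable {X : Scheme.{u}}

theorem TKR_unit_right [IsLocallyNoetherian X] {ξ ξ₀ : X} (h : ξ₀ ⤳ ξ)
    (hB : ringKrullDim (Cyc.LocQuot ξ ξ₀ h) = 1)
    (d : (X.presheaf.stalk ξ)ˣ) {F : X.residueField ξ₀} (hF : F ≠ 0) :
    TKR h F (Cyc.specMap ξ ξ₀ h (d : X.presheaf.stalk ξ)) =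
      ((X.residue ξ (d : X.presheaf.stalk ξ) : X.residueField ξ) ^ (Cyc.ordAt ξ ξ₀ h F))⁻¹ := by
  obtain ⟨d', hd'⟩ : ∃ d' : (Cyc.LocQuot ξ ξ₀ h)ˣ,
      (d' : Cyc.LocQuot ξ ξ₀ h) = Ideal.Quotient.mk _ (d : X.presheaf.stalk ξ) :=
    ⟨Units.map (Ideal.Quotient.mk _ : _ →+* Cyc.LocQuot ξ ξ₀ h).toMonoidHom d, rfl⟩
  have key := TK_unit_right (K := X.residueField ξ₀) hB d' hF
  rw [hd', algebraMap_locQuot_mk] at key
  unfold TKR
  rw [key, map_inv₀, map_zpow₀, rho_symm_residue]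
  rfl

theorem relKeyFormula' (δ : X → ℤ) (hX : Cyc.IsSetup X δ) (ξ₀ : X) (L N : X.Modules)
    (hL : PicF.IsInvertible L) (hN : PicF.IsInvertible N) (s : Cyc.secFibre L ξ₀) (hs : s ≠ 0)
    (t : Cyc.secFibre N ξ₀) (ht : t ≠ 0) (u : (ξ : X) → Cyc.secFibre N ξ)
    (hu : ∀ ξ, u ξ ≠ 0) (v : (ξ : X) → Cyc.secFibre L ξ) (hv : ∀ ξ, v ξ ≠ 0) :
    ∃ (P : X → Prop) (hh : ∀ ξ : X, X.residueField ξ),
      (∀ ξ, hh ξ ≠ 0) ∧ (∀ ξ, ¬ P ξ → hh ξ = 1) ∧ (∀ ξ, P ξ → δ ξ + 1 = δ ξ₀ ∧ ξ₀ ⤳ ξ) ∧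
      (∀ x : X, ∃ V : Set X, IsOpen V ∧ x ∈ V ∧ {ξ : X | ξ ∈ V ∧ P ξ}.Finite) ∧
      (∀ ξ, Cyc.secDivFun δ L ξ₀ s ξ ≠ 0 → P ξ) ∧ (∀ ξ, Cyc.secDivFun δ N ξ₀ t ξ ≠ 0 → P ξ) ∧
      (∀ σ : N.presheaf.obj (Opposite.op ⊤),
        t = (Submodule.Quotient.mk (N.presheaf.germ ⊤ ξ₀ trivial σ) : Cyc.secFibre N ξ₀) →
        ∀ ξ, u ξ = (Submodule.Quotient.mk (N.presheaf.germ ⊤ ξ trivial σ) : Cyc.secFibre N ξ) →
          hh ξ = 1) ∧
      ∀ x : X, Cyc.c1CapFun δ N (Cyc.secDivFun δ L ξ₀ s) u x -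
        Cyc.c1CapFun δ L (Cyc.secDivFun δ N ξ₀ t) v x = ∑ᶠ ξ, Cyc.divFun δ ξ (hh ξ) x := by
  classical
  haveI : IsLocallyNoetherian X := hX.1
  have hδ : Cyc.IsDimFun X δ := hX.2.2
  have hgenL : ∀ ξ : X, ∃ (V : X.Opens) (_ : ξ ∈ V) (g : Γ(L, V)), IsGen L V g := by
    intro ξ
    obtain ⟨U, hU, e, he⟩ := (isInvertible_iff_exists_isGen.1 hL) ξ
    exact ⟨U, hU, e, he⟩
  have hgenN : ∀ ξ : X, ∃ (V : X.Opens) (_ : ξ ∈ V) (g : Γ(N, V)), IsGen N V g := by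
    intro ξ
    obtain ⟨U, hU, e, he⟩ := (isInvertible_iff_exists_isGen.1 hN) ξ
    exact ⟨U, hU, e, he⟩
  choose VL hξVL gL hgL using hgenL
  choose VN hξVN gN hgN using hgenN
  choose φ hφ1 hφ2 using fun ξ => exists_coeff_fibre N ξ (hξVN ξ) (hgN ξ) (u ξ) (hu ξ)
  choose ψ hψ1 hψ2 using fun ξ => exists_coeff_fibre L ξ (hξVL ξ) (hgL ξ) (v ξ) (hv ξ)
  -- coefficients of `s`, `t` with respect to the generators at `ξ`
  have hfKex : ∀ ξ : X, ∃ f : X.residueField ξ₀, f ≠ 0 ∧ ∀ h : ξ₀ ⤳ ξ,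
      ∃ φ₀ : X.presheaf.stalk ξ₀, φ₀ ∉ maximalIdeal (X.presheaf.stalk ξ₀) ∧
        φ₀ • (Submodule.Quotient.mk (L.presheaf.germ (VL ξ) ξ₀ (h.mem_open (VL ξ).isOpen (hξVL ξ))
          (gL ξ)) : Cyc.secFibre L ξ₀) = s ∧ f = X.residue ξ₀ φ₀ := by
    intro ξ
    by_cases h : ξ₀ ⤳ ξ
    · obtain ⟨φ₀, h1, h2⟩ := exists_coeff_fibre L ξ₀ (h.mem_open (VL ξ).isOpen (hξVL ξ)) (hgL ξ) s hs
      exact ⟨X.residue ξ₀ φ₀, residue_ne_zero h1, fun _ => ⟨φ₀, h1, h2, rfl⟩⟩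
    · exact ⟨1, one_ne_zero, fun h' => absurd h' h⟩
  have hgKex : ∀ ξ : X, ∃ f : X.residueField ξ₀, f ≠ 0 ∧ ∀ h : ξ₀ ⤳ ξ,
      ∃ φ₀ : X.presheaf.stalk ξ₀, φ₀ ∉ maximalIdeal (X.presheaf.stalk ξ₀) ∧
        φ₀ • (Submodule.Quotient.mk (N.presheaf.germ (VN ξ) ξ₀ (h.mem_open (VN ξ).isOpen (hξVN ξ))
          (gN ξ)) : Cyc.secFibre N ξ₀) = t ∧ f = X.residue ξ₀ φ₀ := by
    intro ξ
    by_cases h : ξ₀ ⤳ ξ
    · obtain ⟨φ₀, h1, h2⟩ := exists_coeff_fibre N ξ₀ (h.mem_open (VN ξ).isOpen (hξVN ξ)) (hgN ξ) t ht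
      exact ⟨X.residue ξ₀ φ₀, residue_ne_zero h1, fun _ => ⟨φ₀, h1, h2, rfl⟩⟩
    · exact ⟨1, one_ne_zero, fun h' => absurd h' h⟩
  choose fK hfK0 hfK using hfKex
  choose gK hgK0 hgK using hgKex
  obtain ⟨a, ha⟩ : ∃ a : X → ℤ, a = Cyc.secDivFun δ L ξ₀ s := ⟨_, rfl⟩
  obtain ⟨b, hb⟩ : ∃ b : X → ℤ, b = Cyc.secDivFun δ N ξ₀ t := ⟨_, rfl⟩
  rw [← ha, ← hb]
  have haval : ∀ (ξ : X) (h : ξ₀ ⤳ ξ), δ ξ + 1 = δ ξ₀ → a ξ = Cyc.ordAt ξ ξ₀ h (fK ξ) := by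
    intro ξ h hc
    rw [ha]
    unfold Cyc.secDivFun
    rw [dif_pos ⟨h, hc⟩]
    obtain ⟨φ₀, h1, h2, h3⟩ := hfK ξ h
    rw [h3, ← h2]
    exact secOrdAt_eq_of_isGen L (hgL ξ) h (hξVL ξ) φ₀ h1
  have hbval : ∀ (ξ : X) (h : ξ₀ ⤳ ξ), δ ξ + 1 = δ ξ₀ → b ξ = Cyc.ordAt ξ ξ₀ h (gK ξ) := by
    intro ξ h hc
    rw [hb]
    unfold Cyc.secDivFun
    rw [dif_pos ⟨h, hc⟩]
    obtain ⟨φ₀, h1, h2, h3⟩ := hgK ξ h
    rw [h3, ← h2]
    exact secOrdAt_eq_of_isGen N (hgN ξ) h (hξVN ξ) φ₀ h1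
  have hazero : ∀ ξ, ¬ (ξ₀ ⤳ ξ ∧ δ ξ + 1 = δ ξ₀) → a ξ = 0 := by
    intro ξ hc
    rw [ha]
    unfold Cyc.secDivFun
    rw [dif_neg hc]
  have hbzero : ∀ ξ, ¬ (ξ₀ ⤳ ξ ∧ δ ξ + 1 = δ ξ₀) → b ξ = 0 := by
    intro ξ hc
    rw [hb]
    unfold Cyc.secDivFun
    rw [dif_neg hc]
  obtain ⟨P, hP⟩ : ∃ P : X → Prop, ∀ ξ, P ξ ↔ (δ ξ + 1 = δ ξ₀ ∧
      ∃ h : ξ₀ ⤳ ξ, ¬ (UnitAtR h (fK ξ) ∧ UnitAtR h (gK ξ))) := ⟨_, fun ξ => Iff.rfl⟩
  have haP : ∀ ξ, a ξ ≠ 0 → P ξ := by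
    intro ξ hne
    rw [hP]
    have hc : ξ₀ ⤳ ξ ∧ δ ξ + 1 = δ ξ₀ := by
      by_contra hc
      exact hne (hazero ξ hc)
    refine ⟨hc.2, hc.1, fun hU => hne ?_⟩
    rw [haval ξ hc.1 hc.2]
    exact ordAt_of_unitAtR hc.1 hU.1
  have hbP : ∀ ξ, b ξ ≠ 0 → P ξ := by
    intro ξ hne
    rw [hP]
    have hc : ξ₀ ⤳ ξ ∧ δ ξ + 1 = δ ξ₀ := by
      by_contra hc
      exact hne (hbzero ξ hc)
    refine ⟨hc.2, hc.1, fun hU => hne ?_⟩
    rw [hbval ξ hc.1 hc.2]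
    exact ordAt_of_unitAtR hc.1 hU.2
  have hcompL : ∀ (x ξ : X) (hξ : ξ ∈ VL x) (h : ξ₀ ⤳ ξ) (h₀ : ξ₀ ⤳ x),
      ∃ c : X.presheaf.stalk ξ, IsUnit c ∧
      L.presheaf.germ (VL ξ) ξ (hξVL ξ) (gL ξ) = c • L.presheaf.germ (VL x) ξ hξ (gL x) ∧
      fK x = fK ξ * Cyc.specMap ξ ξ₀ h c := by
    intro x ξ hξ h h₀
    obtain ⟨c, hcu, hcg⟩ := exists_unit_germ_eq L (hgL ξ) (hgL x) ξ (hξVL ξ) hξ
    refine ⟨c, hcu, hcg, ?_⟩
    obtain ⟨φξ, h1, h2, h3⟩ := hfK ξ h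
    obtain ⟨φx, k1, k2, k3⟩ := hfK x h₀
    rw [h3, k3]
    exact coeff_rel_comparison L (hgL x) (hξVL ξ) hξ h c hcg φξ φx (h2.trans k2.symm)
  have hcompN : ∀ (x ξ : X) (hξ : ξ ∈ VN x) (h : ξ₀ ⤳ ξ) (h₀ : ξ₀ ⤳ x),
      ∃ d : X.presheaf.stalk ξ, IsUnit d ∧
      N.presheaf.germ (VN ξ) ξ (hξVN ξ) (gN ξ) = d • N.presheaf.germ (VN x) ξ hξ (gN x) ∧
      gK x = gK ξ * Cyc.specMap ξ ξ₀ h d := by
    intro x ξ hξ h h₀
    obtain ⟨d, hdu, hdg⟩ := exists_unit_germ_eq N (hgN ξ) (hgN x) ξ (hξVN ξ) hξ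
    refine ⟨d, hdu, hdg, ?_⟩
    obtain ⟨φξ, h1, h2, h3⟩ := hgK ξ h
    obtain ⟨φx, k1, k2, k3⟩ := hgK x h₀
    rw [h3, k3]
    exact coeff_rel_comparison N (hgN x) (hξVN ξ) hξ h d hdg φξ φx (h2.trans k2.symm)
  have hLF : ∀ x : X, ∃ V : Set X, IsOpen V ∧ x ∈ V ∧ {ξ : X | ξ ∈ V ∧ P ξ}.Finite := by
    intro x
    by_cases h₀ : ξ₀ ⤳ x
    swap
    · refine ⟨(closure {ξ₀})ᶜ, isClosed_closure.isOpen_compl,
        fun hx => h₀ (specializes_iff_mem_closure.2 hx), ?_⟩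
      convert Set.finite_empty
      rw [Set.eq_empty_iff_forall_notMem]
      rintro ξ ⟨hξ, hξP⟩
      rw [hP] at hξP
      obtain ⟨-, h, -⟩ := hξP
      exact hξ (specializes_iff_mem_closure.1 h)
    obtain ⟨_, ⟨W, hW : IsAffineOpen W, rfl⟩, hxW, hWsub⟩ :=
      X.isBasis_affineOpens.exists_subset_of_mem_open
        (show x ∈ ((VL x ⊓ VN x : X.Opens) : Set X) from ⟨hξVL x, hξVN x⟩) (VL x ⊓ VN x).isOpen
    haveI : IsNoetherianRing Γ(X, W) := IsLocallyNoetherian.component_noetherian ⟨W, hW⟩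
    refine ⟨W, W.isOpen, hxW, ?_⟩
    have f1 := finite_not_unitAtR_inter_affine hδ hW ξ₀ (fK x) (hfK0 x)
    have f2 := finite_not_unitAtR_inter_affine hδ hW ξ₀ (gK x) (hgK0 x)
    apply (f1.union f2).subset
    rintro ξ ⟨hξW, hξP⟩
    rw [hP] at hξP
    obtain ⟨hc, h, hnot⟩ := hξP
    have hξVLx : ξ ∈ VL x := (hWsub hξW).1
    have hξVNx : ξ ∈ VN x := (hWsub hξW).2
    obtain ⟨c, hcu, -, hcF⟩ := hcompL x ξ hξVLx h h₀
    obtain ⟨d, hdu, -, hdG⟩ := hcompN x ξ hξVNx h h₀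
    by_cases hUf : UnitAtR h (fK x)
    · right
      refine ⟨hξW, hc, h, fun hUg => hnot ⟨?_, ?_⟩⟩
      · rw [hcF] at hUf
        exact unitAtR_of_mul_unit h hcu hUf
      · rw [hdG] at hUg
        exact unitAtR_of_mul_unit h hdu hUg
    · left
      exact ⟨hξW, hc, h, hUf⟩
  -- the rational functions
  obtain ⟨hh0, hh0def⟩ : ∃ hh0 : ∀ ξ : X, X.residueField ξ, ∀ ξ, hh0 ξ =
      (X.residue ξ (φ ξ) : X.residueField ξ) ^ (a ξ) *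
        ((X.residue ξ (ψ ξ) : X.residueField ξ) ^ (b ξ))⁻¹ * TKR' ξ₀ ξ (fK ξ) (gK ξ) :=
    ⟨_, fun ξ => rfl⟩
  obtain ⟨hh, hhdef⟩ : ∃ hh : ∀ ξ : X, X.residueField ξ, ∀ ξ, hh ξ =
      if δ ξ + 1 = δ ξ₀ then hh0 ξ else 1 := ⟨_, fun ξ => rfl⟩
  have hh0ne : ∀ ξ, hh0 ξ ≠ 0 := by
    intro ξ
    rw [hh0def]
    exact mul_ne_zero (mul_ne_zero (zpow_ne_zero _ (residue_ne_zero (hφ1 ξ)))
      (inv_ne_zero (zpow_ne_zero _ (residue_ne_zero (hψ1 ξ))))) (TKR'_ne_zero _ _ _ _)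
  have hhne : ∀ ξ, hh ξ ≠ 0 := by
    intro ξ
    rw [hhdef]
    split_ifs
    · exact hh0ne ξ
    · exact one_ne_zero
  have hhone : ∀ ξ, ¬ P ξ → hh ξ = 1 := by
    intro ξ hnP
    rw [hhdef]
    split_ifs with hc
    swap
    · rfl
    rw [hP] at hnP
    push Not at hnP
    have hU := hnP hc
    by_cases h : ξ₀ ⤳ ξ
    · have hB : ringKrullDim (Cyc.LocQuot ξ ξ₀ h) = 1 := by
        have := ringKrullDim_locQuot hδ h 1 (by push_cast; omega)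
        exact_mod_cast this
      have hUU := hU h
      rw [hh0def, haval ξ h hc, hbval ξ h hc, ordAt_of_unitAtR h hUU.1, ordAt_of_unitAtR h hUU.2,
        TKR'_eq h, TKR_of_unitAtR h hB hUU.1 hUU.2, zpow_zero, zpow_zero, inv_one, mul_one, mul_one]
    · have hz : ¬ (ξ₀ ⤳ ξ ∧ δ ξ + 1 = δ ξ₀) := fun hcon => h hcon.1
      have e1 : TKR' ξ₀ ξ (fK ξ) (gK ξ) = 1 := by
        unfold TKR'
        rw [dif_neg h]
      rw [hh0def, hazero ξ hz, hbzero ξ hz, e1, zpow_zero, zpow_zero, inv_one, mul_one, mul_one]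
  have hglob : ∀ σ : N.presheaf.obj (Opposite.op ⊤),
      t = (Submodule.Quotient.mk (N.presheaf.germ ⊤ ξ₀ trivial σ) : Cyc.secFibre N ξ₀) →
      ∀ ξ, u ξ = (Submodule.Quotient.mk (N.presheaf.germ ⊤ ξ trivial σ) : Cyc.secFibre N ξ) →
        hh ξ = 1 := by
    intro σ hσt ξ hσu
    by_cases hξP : P ξ
    swap
    · exact hhone ξ hξP
    rw [hP] at hξP
    obtain ⟨hc, h, -⟩ := hξP
    have hB : ringKrullDim (Cyc.LocQuot ξ ξ₀ h) = 1 := by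
      have := ringKrullDim_locQuot hδ h 1 (by push_cast; omega)
      exact_mod_cast this
    have hbij := bijective_stalk_of_isGen (hgN ξ) ξ (hξVN ξ)
    obtain ⟨e, he⟩ := hbij.2 (N.presheaf.germ ⊤ ξ trivial σ)
    have he' : N.presheaf.germ ⊤ ξ trivial σ =
        e • N.presheaf.germ (VN ξ) ξ (hξVN ξ) (gN ξ) := he.symm
    have hmk : (Submodule.Quotient.mk (N.presheaf.germ ⊤ ξ trivial σ) : Cyc.secFibre N ξ) =
        e • (Submodule.Quotient.mk (N.presheaf.germ (VN ξ) ξ (hξVN ξ) (gN ξ)) :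
          Cyc.secFibre N ξ) := by
      rw [he']
      rfl
    have hem : e ∉ maximalIdeal (X.presheaf.stalk ξ) := by
      intro hmem
      apply hu ξ
      rw [hσu, hmk]
      exact (smul_mk_eq_zero_iff N ξ _ hbij e).2 hmem
    have heu : IsUnit e := by
      by_contra hne
      exact hem ((IsLocalRing.mem_maximalIdeal _).2 hne)
    have e1 : (X.residue ξ (φ ξ) : X.residueField ξ) = X.residue ξ e := by
      have h2 : (φ ξ - e) • (Submodule.Quotient.mk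
          (N.presheaf.germ (VN ξ) ξ (hξVN ξ) (gN ξ)) : Cyc.secFibre N ξ) = 0 := by
        rw [sub_smul, hφ2 ξ, hσu, hmk]
        exact sub_self _
      rw [smul_mk_eq_zero_iff N ξ _ hbij, ← IsLocalRing.residue_eq_zero_iff] at h2
      have h3 : (X.residue ξ).hom (φ ξ - e) = 0 := h2
      rw [map_sub, sub_eq_zero] at h3
      exact h3
    have e2 : gK ξ = Cyc.specMap ξ ξ₀ h e := by
      obtain ⟨φ₀, k1, k2, k3⟩ := hgK ξ h
      rw [k3]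
      have key := coeff_rel_comparison N (hgN ξ) (V := ⊤) (g := σ) trivial (hξVN ξ) h e he' 1 φ₀
        (by rw [one_smul, k2, hσt])
      rw [key, map_one, one_mul]
    obtain ⟨eu, rfl⟩ := heu
    rw [hhdef ξ, if_pos hc, hh0def ξ, e1, haval ξ h hc, hbval ξ h hc, e2,
      ordAt_specMap_unit ξ ξ₀ h eu.isUnit, zpow_zero, inv_one, mul_one, TKR'_eq h,
      TKR_unit_right h hB eu (hfK0 ξ)]
    exact mul_inv_cancel₀ (zpow_ne_zero _ (residue_ne_zero hem))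
  refine ⟨P, hh, hhne, hhone, fun ξ hξ => ?_, hLF, haP, hbP, hglob, ?_⟩
  · rw [hP] at hξ
    obtain ⟨hc, h, -⟩ := hξ
    exact ⟨hc, h⟩
  intro x
  unfold Cyc.c1CapFun
  have hSx : {ξ : X | ξ ⤳ x ∧ P ξ}.Finite := by
    obtain ⟨V, hVo, hxV, hfin⟩ := hLF x
    apply hfin.subset
    rintro ξ ⟨hsp, hξP⟩
    exact ⟨hsp.mem_open hVo hxV, hξP⟩
  have fA₁ : (Function.support fun ξ => a ξ * Cyc.secDivFun δ N ξ (u ξ) x).Finite := by
    apply hSx.subset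
    intro ξ hξ
    rw [Function.mem_support] at hξ
    refine ⟨?_, haP ξ (left_ne_zero_of_mul hξ)⟩
    by_contra hns
    exact right_ne_zero_of_mul hξ (secDivFun_eq_zero_of_not_specializes δ N ξ (u ξ) x hns)
  have fA₂ : (Function.support fun ξ => b ξ * Cyc.secDivFun δ L ξ (v ξ) x).Finite := by
    apply hSx.subset
    intro ξ hξ
    rw [Function.mem_support] at hξ
    refine ⟨?_, hbP ξ (left_ne_zero_of_mul hξ)⟩
    by_contra hns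
    exact right_ne_zero_of_mul hξ (secDivFun_eq_zero_of_not_specializes δ L ξ (v ξ) x hns)
  have hPdim : ∀ ξ, P ξ → δ ξ + 1 = δ ξ₀ ∧ ξ₀ ⤳ ξ := by
    intro ξ hξ
    rw [hP] at hξ
    obtain ⟨hc, h, -⟩ := hξ
    exact ⟨hc, h⟩
  by_cases hx : ξ₀ ⤳ x ∧ δ x + 2 = δ ξ₀
  swap
  · have z1 : ∀ ξ, a ξ * Cyc.secDivFun δ N ξ (u ξ) x = 0 := by
      intro ξ
      by_cases hc : ξ₀ ⤳ ξ ∧ δ ξ + 1 = δ ξ₀
      · have : Cyc.secDivFun δ N ξ (u ξ) x = 0 := by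
          unfold Cyc.secDivFun
          rw [dif_neg]
          intro h
          apply hx
          refine ⟨hc.1.trans h.1, ?_⟩
          have := h.2
          omega
        rw [this, mul_zero]
      · rw [hazero ξ hc, zero_mul]
    have z2 : ∀ ξ, b ξ * Cyc.secDivFun δ L ξ (v ξ) x = 0 := by
      intro ξ
      by_cases hc : ξ₀ ⤳ ξ ∧ δ ξ + 1 = δ ξ₀
      · have : Cyc.secDivFun δ L ξ (v ξ) x = 0 := by
          unfold Cyc.secDivFun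
          rw [dif_neg]
          intro h
          apply hx
          refine ⟨hc.1.trans h.1, ?_⟩
          have := h.2
          omega
        rw [this, mul_zero]
      · rw [hbzero ξ hc, zero_mul]
    have z3 : ∀ ξ : X, Cyc.divFun δ ξ (hh ξ) x = 0 := by
      intro ξ
      by_cases hξP : P ξ
      · unfold Cyc.divFun
        rw [dif_neg]
        intro h
        apply hx
        have h1 := hPdim ξ hξP
        refine ⟨h1.2.trans h.1, ?_⟩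
        have h2 := h.2
        omega
      · rw [hhone ξ hξP]
        unfold Cyc.divFun
        split_ifs
        · exact ordAt_one' _ _ _
        · rfl
    rw [finsum_congr z1, finsum_congr z2, finsum_congr z3]
    simp
  obtain ⟨h₀, hx⟩ := hx
  obtain ⟨D₁, hD₁⟩ : ∃ D₁ : X → ℤ, ∀ ξ, D₁ ξ = Cyc.divFun δ ξ (hh ξ) x := ⟨_, fun ξ => rfl⟩
  obtain ⟨D₂, hD₂⟩ : ∃ D₂ : X → ℤ, ∀ ξ, D₂ ξ = Cyc.divFun δ ξ (TKR' ξ₀ ξ (fK x) (gK x)) x :=
    ⟨_, fun ξ => rfl⟩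
  have hstar : ∀ ξ : X, a ξ * Cyc.secDivFun δ N ξ (u ξ) x -
      b ξ * Cyc.secDivFun δ L ξ (v ξ) x = D₁ ξ - D₂ ξ := by
    intro ξ
    rw [hD₁, hD₂]
    by_cases hG : ξ ⤳ x ∧ δ x + 1 = δ ξ
    swap
    · unfold Cyc.secDivFun Cyc.divFun
      rw [dif_neg hG, dif_neg hG, dif_neg hG, dif_neg hG]
      simp
    have hc : δ ξ + 1 = δ ξ₀ := by
      have := hG.2
      omega
    by_cases h' : ξ₀ ⤳ ξ
    swap
    · have hz : ¬ (ξ₀ ⤳ ξ ∧ δ ξ + 1 = δ ξ₀) := fun hcon => h' hcon.1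
      have hnP : ¬ P ξ := fun hξP => h' (hPdim ξ hξP).2
      have e1 : TKR' ξ₀ ξ (fK x) (gK x) = 1 := by
        unfold TKR'
        rw [dif_neg h']
      rw [hazero ξ hz, hbzero ξ hz, hhone ξ hnP, e1]
      unfold Cyc.divFun
      rw [dif_pos hG, ordAt_one']
      simp
    have hB : ringKrullDim (Cyc.LocQuot ξ ξ₀ h') = 1 := by
      have := ringKrullDim_locQuot hδ h' 1 (by push_cast; omega)
      exact_mod_cast this
    have hξVLx : ξ ∈ VL x := hG.1.mem_open (VL x).isOpen (hξVL x)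
    have hξVNx : ξ ∈ VN x := hG.1.mem_open (VN x).isOpen (hξVN x)
    obtain ⟨c, hcu, hcg, hcF⟩ := hcompL x ξ hξVLx h' h₀
    obtain ⟨d, hdu, hdg, hdG⟩ := hcompN x ξ hξVNx h' h₀
    have e1 : Cyc.secDivFun δ N ξ (u ξ) x =
        Cyc.ordAt x ξ hG.1 (X.residue ξ (φ ξ)) + Cyc.ordAt x ξ hG.1 (X.residue ξ d) := by
      unfold Cyc.secDivFun
      rw [dif_pos hG, ← hφ2 ξ]
      exact secOrdAt_change' N hG.1 (hgN x) (hξVN ξ) (hξVN x) (φ ξ) d (hφ1 ξ) hdu hdg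
    have e2 : Cyc.secDivFun δ L ξ (v ξ) x =
        Cyc.ordAt x ξ hG.1 (X.residue ξ (ψ ξ)) + Cyc.ordAt x ξ hG.1 (X.residue ξ c) := by
      unfold Cyc.secDivFun
      rw [dif_pos hG, ← hψ2 ξ]
      exact secOrdAt_change' L hG.1 (hgL x) (hξVL ξ) (hξVL x) (ψ ξ) c (hψ1 ξ) hcu hcg
    have e3 : TKR' ξ₀ ξ (fK x) (gK x) = TKR' ξ₀ ξ (fK ξ) (gK ξ) *
          ((X.residue ξ d : X.residueField ξ) ^ (a ξ))⁻¹ *
          (X.residue ξ c : X.residueField ξ) ^ (b ξ) := by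
      rw [hcF, hdG, haval ξ h' hc, hbval ξ h' hc, TKR'_eq h', TKR'_eq h']
      obtain ⟨cu, rfl⟩ := hcu
      obtain ⟨du, rfl⟩ := hdu
      exact TKR_mul_units h' hB cu du (hfK0 ξ) (hgK0 ξ)
    unfold Cyc.divFun
    rw [dif_pos hG, dif_pos hG, e1, e2, e3, hhdef ξ, if_pos hc, hh0def ξ]
    exact (ordAt_combo' x ξ hG.1 (residue_ne_zero (hφ1 ξ)) (residue_ne_zero (hψ1 ξ))
      (TKR'_ne_zero _ _ _ _) (residue_ne_zero (not_mem_maximalIdeal_of_isUnit hcu))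
      (residue_ne_zero (not_mem_maximalIdeal_of_isUnit hdu)) (a ξ) (b ξ)).symm
  have sD₁ : Function.support D₁ ⊆ {ξ : X | ξ ⤳ x ∧ P ξ} := by
    intro ξ hξ
    rw [Function.mem_support, hD₁] at hξ
    have hG : ξ ⤳ x ∧ δ x + 1 = δ ξ := by
      by_contra hG
      apply hξ
      unfold Cyc.divFun
      rw [dif_neg hG]
    refine ⟨hG.1, ?_⟩
    by_contra hnP
    apply hξ
    rw [hhone ξ hnP]
    unfold Cyc.divFun
    rw [dif_pos hG]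
    exact ordAt_one' _ _ _
  have fD₁ : (Function.support D₁).Finite := hSx.subset sD₁
  have fD₂ : (Function.support D₂).Finite := by
    apply ((fD₁.union fA₁).union fA₂).subset
    intro ξ hξ
    rw [Function.mem_support] at hξ
    by_contra hcon
    simp only [Set.mem_union, Function.mem_support, not_or, not_not] at hcon
    apply hξ
    have := hstar ξ
    rw [hcon.1.1, hcon.1.2, hcon.2] at this
    omega
  have key := finsum_divFun_TKR_eq_zero hδ h₀ hx (fK x) (gK x) (hfK0 x) (hgK0 x)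
  have sumD₂ : ∑ᶠ ξ, D₂ ξ = 0 := by
    rw [finsum_congr hD₂]
    exact key
  rw [← finsum_sub_distrib fA₁ fA₂, finsum_congr hstar, finsum_sub_distrib fD₁ fD₂,
    sumD₂, sub_zero]
  exact finsum_congr hD₁

end Groth.Agent.Lib.Helper64.RelKey
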