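import Groth.Agent.Lib.Helper64.WeilSheaf8
import Groth.Agent.Lib.Helper64.RegInv
import Groth.Agent.Lib.Helper64.UfdPicGen

/-!
# The Cartier divisor of a rational section of an invertible module (helper64)

* `exists_divisor_of_section`: a nonzero rational section of an invertible module on an integral
  locally Noetherian scheme defines a Cartier divisor (in the sense of the prelude `CDiv.Divisor`) whose
  representing functions have the orders of the section at the points of codimension one.
-/

set_option autoImplicit false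
set_option linter.style.haveILetI false
set_option linter.unusedSectionVars false
universe u

open AlgebraicGeometry CategoryTheory Opposite TopologicalSpace

namespace Groth.Agent.Lib.Helper64.SecDivCartier

open Groth.Agent.Lib.Lead.QCohAff
open Groth.Agent.Lib.Helper64.RefExt Groth.Agent.Lib.Helper64.SecOrd
open Groth.Agent.Lib.Helper64.RefS2 Groth.Agent.Lib.Helper64.CDivLib
open CDiv

variable {X : Scheme.{u}} [IsIntegral X] [IsLocallyNoetherian X]

theorem exists_divisor_of_section {L : X.Modules} (hL : PicF.IsInvertible L)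
    (v : L.presheaf.stalk (genericPoint X)) (hv : v ≠ 0) :
    ∃ D : CDiv.Divisor X, ∀ x : X, Order.coheight x = 1 → ∀ f : CDiv.KUnits X,
      D.1 x = CDiv.germOf X x f →
        Scheme.ord (f : X.functionField) x =
          Cyc.secOrdAt L (genericPoint X) x (spη x)
            (Submodule.Quotient.mk v : Cyc.secFibre L (genericPoint X)) := by
  have hgen := (Groth.Agent.Lib.Lead.Inv.isInvertible_iff_exists_isGen (M := L)).1 hL
  choose U hxU e he using hgen
  have hηU : ∀ x, genericPoint X ∈ U x := fun x => genericPoint_mem (hxU x)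
  have hcoef : ∀ x, ∃ φ : X.functionField, v = φ • L.presheaf.germ (U x) (genericPoint X) (hηU x) (e x) :=
    fun x => exists_coeff L (he x) (hηU x) v
  choose φ hφ using hcoef
  have hφ0 : ∀ x, φ x ≠ 0 := by
    intro x h0
    have := hφ x
    rw [h0, zero_smul] at this
    exact hv this
  -- comparison of the coefficients
  have hcmp : ∀ x y : X, y ∈ U x →
      (Units.mk0 (φ y) (hφ0 y) : KUnits X)⁻¹ * Units.mk0 (φ x) (hφ0 x) ∈ stalkUnits X y := by
    intro x y hyx
    have hyW : y ∈ U x ⊓ U y := ⟨hyx, hxU y⟩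
    have hηW : genericPoint X ∈ U x ⊓ U y := genericPoint_mem hyW
    have h1 := (he x).res (inf_le_left : U x ⊓ U y ≤ U x)
    have h2 := (he y).res (inf_le_right : U x ⊓ U y ≤ U y)
    obtain ⟨u, hu, hue⟩ := Groth.Agent.Lib.Helper64.UfdPicGen.IsGen.exists_unit h1 h2
    -- at the generic point
    have hgη := congrArg (L.presheaf.germ (U x ⊓ U y) (genericPoint X) hηW) hue
    rw [germ_smul, germ_res, germ_res] at hgη
    have hinj := (bijective_stalk_of_isGen (he x) (genericPoint X) (hηU x)).1
    have hrel : φ x = φ y * X.presheaf.germ (U x ⊓ U y) (genericPoint X) hηW u := by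
      apply hinj
      change φ x • _ = (φ y * _) • _
      rw [← hφ x, mul_smul, hgη, ← hφ y]
    rw [mem_stalkUnits_iff]
    refine ⟨(hu.map (X.presheaf.germ (U x ⊓ U y) y hyW).hom).unit, ?_⟩
    rw [IsUnit.unit_spec]
    have hA := Groth.Agent.Lib.Helper64.WeilSheaf.algebraMap_germ y hyW u
    rw [hA]
    simp only [Units.val_mul, Units.val_inv_eq_inv_val, Units.val_mk0]
    rw [hrel, ← mul_assoc, inv_mul_cancel₀ (hφ0 y), one_mul]
  refine ⟨⟨fun x => germOf X x (Units.mk0 (φ x) (hφ0 x)), fun x =>
    ⟨U x, Units.mk0 (φ x) (hφ0 x), hxU x, fun y hy => QuotientGroup.eq.2 (hcmp x y hy)⟩⟩, ?_⟩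
  intro x hx f hf
  have hb := bijective_stalk_of_isGen (he x) x (hxU x)
  have hspan : Submodule.span (X.presheaf.stalk x) {L.presheaf.germ (U x) x (hxU x) (e x)} = ⊤ := by
    rw [eq_top_iff]
    intro m _
    obtain ⟨c, hc⟩ := hb.2 m
    exact Submodule.mem_span_singleton.2 ⟨c, hc⟩
  have hsp : (L.presheaf.stalkSpecializes (spη x)).hom (L.presheaf.germ (U x) x (hxU x) (e x)) ≠ 0 := by
    rw [sp_germ]
    exact germ_ne_zero_of_isGen L (he x) _ _
  have hvφ : v = φ x • (L.presheaf.stalkSpecializes (spη x)).hom
      (L.presheaf.germ (U x) x (hxU x) (e x)) := by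
    rw [sp_germ]
    exact hφ x
  rw [secOrdAt_mk L x hx _ hspan hsp v (φ x) hvφ]
  exact Groth.Agent.Lib.Helper64.LocFact.ord_eq_of_germOf_eq x (Units.mk0 (φ x) (hφ0 x)) f hf

end Groth.Agent.Lib.Helper64.SecDivCartier
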