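import Mathlib
import Groth.Prelude.Def_C1
import Groth.Agent.Lib.Helper64.RefExt2
import Groth.Agent.Lib.Helper64.OrdOpen

/-!
# Orders of rational sections at the generic point (helper64)

Bridge between the prelude's `Cyc.secOrdAt L η x h s` (for `η` the generic point of an integral
locally Noetherian scheme) and Mathlib's `Scheme.ord`.

* `sp_smul`: specialization maps of module stalks are semilinear.
* `maximalIdeal_generic`, `mk_bijective`: `L_η → L(η)` is bijective.
* `ordAt_residue`: `Cyc.ordAt x η h (residue ψ) = Scheme.ord ψ x` at points of coheight one.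
* `secOrdAt_eq`: `secOrdAt L η x h (φ • mk (sp t)) = Scheme.ord φ x` for any generator `t` of `L_x`
  with `sp t ≠ 0`.
-/

set_option autoImplicit false
set_option linter.style.haveILetI false
universe u

open AlgebraicGeometry CategoryTheory Opposite TopologicalSpace

namespace Groth.Agent.Lib.Helper64.SecOrd

open Groth.Agent.Lib.Lead.QCohAff
open Groth.Agent.Lib.Helper64.RefExt

variable {X : Scheme.{u}}

/-- specialization maps of stalks of modules are semilinear -/
theorem sp_smul (F : X.Modules) {x y : X} (h : y ⤳ x) (a : X.presheaf.stalk x)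
    (v : F.presheaf.stalk x) :
    (F.presheaf.stalkSpecializes h).hom (a • v) =
      (X.presheaf.stalkSpecializes h).hom a • (F.presheaf.stalkSpecializes h).hom v := by
  obtain ⟨U, hxU, a', rfl⟩ := TopCat.Presheaf.exists_germ_eq X.presheaf a
  obtain ⟨V, hxV, v', rfl⟩ := TopCat.Presheaf.exists_germ_eq F.presheaf v
  have hxW : x ∈ U ⊓ V := ⟨hxU, hxV⟩
  have hyW : y ∈ U ⊓ V := h.mem_open (U ⊓ V).isOpen hxW
  rw [← germX_res (inf_le_left : U ⊓ V ≤ U) x hxW, ← germ_res F (inf_le_right : U ⊓ V ≤ V) x hxW,
    ← germ_smul, sp_germ, sp_germ, germ_smul]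
  congr 1
  exact (ConcreteCategory.congr_hom (X.presheaf.germ_stalkSpecializes hxW h) _).symm

variable [IsIntegral X]

theorem maximalIdeal_generic :
    IsLocalRing.maximalIdeal (X.presheaf.stalk (genericPoint X)) = ⊥ := by
  have hfld : IsField (X.presheaf.stalk (genericPoint X)) := Field.toIsField X.functionField
  exact IsLocalRing.isField_iff_maximalIdeal_eq.1 hfld

/-- the fibre at the generic point is the stalk -/
theorem mk_bijective (L : X.Modules) :
    Function.Bijective (Submodule.Quotient.mk : L.presheaf.stalk (genericPoint X) →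
      Cyc.secFibre L (genericPoint X)) := by
  refine ⟨?_, Submodule.Quotient.mk_surjective _⟩
  intro a b hab
  have h1 := (Submodule.Quotient.eq _).1 hab
  rw [maximalIdeal_generic, Submodule.bot_smul, Submodule.mem_bot] at h1
  exact sub_eq_zero.1 h1

theorem mk_eq_zero_iff (L : X.Modules) (v : L.presheaf.stalk (genericPoint X)) :
    (Submodule.Quotient.mk v : Cyc.secFibre L (genericPoint X)) = 0 ↔ v = 0 := by
  constructor
  · intro h
    exact (mk_bijective L).1 (h.trans (Submodule.Quotient.mk_zero _).symm)
  · rintro rfl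
    exact Submodule.Quotient.mk_zero _


theorem recZeroCoe_eq (v : WithZero (Multiplicative ℤ)) :
    WithZero.recZeroCoe (motive := fun _ => ℤ) 0 (fun z => Multiplicative.toAdd z) v =
      Multiplicative.toAdd (v.unzeroD 1) := by
  induction v using WithZero.recZeroCoe with
  | zero => simp [WithZero.unzeroD]
  | coe z => simp [WithZero.unzeroD]

theorem residue_bijective :
    Function.Bijective (X.residue (genericPoint X)).hom := by
  refine ⟨?_, Ideal.Quotient.mk_surjective⟩
  rw [injective_iff_map_eq_zero]
  intro a ha
  have : a ∈ IsLocalRing.maximalIdeal (X.presheaf.stalk (genericPoint X)) := by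
    rw [← IsLocalRing.residue_eq_zero_iff]
    exact ha
  rw [maximalIdeal_generic] at this
  exact this

theorem specMap_eq (x : X) (h : genericPoint X ⤳ x) (a : X.presheaf.stalk x) :
    Cyc.specMap x (genericPoint X) h a =
      (X.residue (genericPoint X)).hom (algebraMap (X.presheaf.stalk x) X.functionField a) := rfl

theorem specMap_injective (x : X) (h : genericPoint X ⤳ x) :
    Function.Injective (Cyc.specMap x (genericPoint X) h) := by
  intro a b hab
  rw [specMap_eq, specMap_eq] at hab
  exact IsFractionRing.injective (X.presheaf.stalk x) X.functionField (residue_bijective.1 hab)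

/-- `O_x ≃ O_x / 𝔭_η` -/
noncomputable def locQuotEquiv (x : X) (h : genericPoint X ⤳ x) :
    X.presheaf.stalk x ≃+* Cyc.LocQuot x (genericPoint X) h :=
  RingEquiv.ofBijective (Ideal.Quotient.mk _) ⟨by
    rw [injective_iff_map_eq_zero]
    intro a ha
    rw [Ideal.Quotient.eq_zero_iff_mem, RingHom.mem_ker] at ha
    exact specMap_injective x h (ha.trans (map_zero _).symm), Ideal.Quotient.mk_surjective⟩

/-- `K(X) ≃ κ(η)` -/
noncomputable def residueEquiv : X.functionField ≃+* X.residueField (genericPoint X) :=
  RingEquiv.ofBijective (X.residue (genericPoint X)).hom residue_bijective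

theorem residueEquiv_algebraMap (x : X) (h : genericPoint X ⤳ x) (a : X.presheaf.stalk x) :
    residueEquiv (algebraMap (X.presheaf.stalk x) X.functionField a) =
      algebraMap (Cyc.LocQuot x (genericPoint X) h) (X.residueField (genericPoint X))
        (locQuotEquiv x h a) := rfl

theorem isFractionRing_locQuot (x : X) (h : genericPoint X ⤳ x) :
    IsFractionRing (Cyc.LocQuot x (genericPoint X) h) (X.residueField (genericPoint X)) := by
  haveI : FaithfulSMul (Cyc.LocQuot x (genericPoint X) h) (X.residueField (genericPoint X)) := by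
    rw [faithfulSMul_iff_algebraMap_injective]
    intro a b hab
    obtain ⟨a, rfl⟩ := (locQuotEquiv x h).surjective a
    obtain ⟨b, rfl⟩ := (locQuotEquiv x h).surjective b
    rw [← residueEquiv_algebraMap, ← residueEquiv_algebraMap] at hab
    rw [IsFractionRing.injective (X.presheaf.stalk x) X.functionField (residueEquiv.injective hab)]
  apply IsFractionRing.of_field
  intro z
  obtain ⟨z, rfl⟩ := residueEquiv.surjective z
  obtain ⟨a, b, hb, rfl⟩ := IsFractionRing.div_surjective (A := X.presheaf.stalk x) z
  exact ⟨locQuotEquiv x h a, locQuotEquiv x h b, by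
    rw [map_div₀, residueEquiv_algebraMap x h, residueEquiv_algebraMap x h]⟩

theorem ordAt_residue [IsLocallyNoetherian X] (x : X) (hx : Order.coheight x = 1)
    (h : genericPoint X ⤳ x) (ψ : X.functionField) :
    Cyc.ordAt x (genericPoint X) h ((X.residue (genericPoint X)).hom ψ) = Scheme.ord ψ x := by
  haveI : Ring.KrullDimLE 1 (X.presheaf.stalk x) := krullDimLE_of_coheight_le hx.le
  haveI hN : IsNoetherianRing (Cyc.LocQuot x (genericPoint X) h) :=
    isNoetherianRing_of_ringEquiv _ (locQuotEquiv x h)
  haveI hD : Ring.KrullDimLE 1 (Cyc.LocQuot x (genericPoint X) h) := by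
    rw [Ring.krullDimLE_iff, ← ringKrullDim_eq_of_ringEquiv (locQuotEquiv x h),
      ← Ring.krullDimLE_iff]
    infer_instance
  haveI hdom : IsDomain (Cyc.LocQuot x (genericPoint X) h) :=
    (locQuotEquiv x h).symm.toMulEquiv.isDomain
  haveI hF := isFractionRing_locQuot x h
  have hcond : IsNoetherianRing (Cyc.LocQuot x (genericPoint X) h) ∧
      Ring.KrullDimLE 1 (Cyc.LocQuot x (genericPoint X) h) ∧
      Nontrivial (Cyc.LocQuot x (genericPoint X) h) ∧
      IsFractionRing (Cyc.LocQuot x (genericPoint X) h) (X.residueField (genericPoint X)) :=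
    ⟨hN, hD, inferInstance, hF⟩
  unfold Cyc.ordAt CycAlg.ordFrac
  rw [dif_pos hcond, recZeroCoe_eq, Scheme.ord_eq_ordHom_of_coheight_eq_one hx]
  congr 2
  exact OrdOpen.ordFrac_ringEquiv (locQuotEquiv x h) residueEquiv
    (fun r => residueEquiv_algebraMap x h r) ψ


theorem secOrdAt_eq [IsLocallyNoetherian X] (L : X.Modules) (x : X) (hx : Order.coheight x = 1)
    (h : genericPoint X ⤳ x)
    (t : L.presheaf.stalk x) (ht : Submodule.span (X.presheaf.stalk x) {t} = ⊤)
    (hsp : (L.presheaf.stalkSpecializes h).hom t ≠ 0)
    (φ : X.functionField) :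
    Cyc.secOrdAt L (genericPoint X) x h
      (φ • (Submodule.Quotient.mk ((L.presheaf.stalkSpecializes h).hom t) :
        Cyc.secFibre L (genericPoint X))) = Scheme.ord φ x := by
  have hex : ∃ t : L.presheaf.stalk x, Submodule.span (X.presheaf.stalk x) {t} = ⊤ := ⟨t, ht⟩
  -- compare `t` with the chosen generator
  set t₀ := Classical.choose hex with ht₀def
  have ht₀ : Submodule.span (X.presheaf.stalk x) {t₀} = ⊤ := Classical.choose_spec hex
  obtain ⟨a, ha⟩ : ∃ a : X.presheaf.stalk x, a • t₀ = t := by
    have : t ∈ Submodule.span (X.presheaf.stalk x) {t₀} := by rw [ht₀]; trivial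
    exact Submodule.mem_span_singleton.1 this
  obtain ⟨b, hb⟩ : ∃ b : X.presheaf.stalk x, b • t = t₀ := by
    have : t₀ ∈ Submodule.span (X.presheaf.stalk x) {t} := by rw [ht]; trivial
    exact Submodule.mem_span_singleton.1 this
  -- `a` is a unit
  have hab : a * b = 1 := by
    have h1 : (a * b - 1) • t = 0 := by
      rw [sub_smul, mul_smul, hb, ha, one_smul, sub_self]
    have h2 := congrArg (L.presheaf.stalkSpecializes h).hom h1
    rw [sp_smul, map_zero] at h2
    have h3 : (X.presheaf.stalkSpecializes h).hom (a * b - 1) = 0 := by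
      by_contra hne
      have hu : IsUnit ((X.presheaf.stalkSpecializes h).hom (a * b - 1)) :=
        (isUnit_iff_ne_zero (G₀ := X.functionField)).2 hne
      exact hsp ((hu.smul_eq_zero).1 h2)
    have h4 : a * b - 1 = 0 :=
      IsFractionRing.injective (X.presheaf.stalk x) X.functionField (h3.trans (map_zero _).symm)
    exact sub_eq_zero.1 h4
  have hau : IsUnit a := IsUnit.of_mul_eq_one _ hab
  -- rewrite `s`
  have hs : (φ • (Submodule.Quotient.mk ((L.presheaf.stalkSpecializes h).hom t) :
        Cyc.secFibre L (genericPoint X))) =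
      (φ * algebraMap (X.presheaf.stalk x) X.functionField a) •
        (Submodule.Quotient.mk ((L.presheaf.stalkSpecializes h).hom t₀) :
          Cyc.secFibre L (genericPoint X)) := by
    rw [← ha, sp_smul, Submodule.Quotient.mk_smul, mul_smul]
    rfl
  have hφex : ∃ φ' : X.presheaf.stalk (genericPoint X),
      (φ • (Submodule.Quotient.mk ((L.presheaf.stalkSpecializes h).hom t) :
        Cyc.secFibre L (genericPoint X))) =
      φ' • (Submodule.Quotient.mk ((L.presheaf.stalkSpecializes h) (Classical.choose hex)) :
          Cyc.secFibre L (genericPoint X)) := ⟨_, hs⟩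
  have hsp₀ : (L.presheaf.stalkSpecializes h).hom t₀ ≠ 0 := by
    intro h0
    apply hsp
    rw [← ha, sp_smul, h0, smul_zero]
  -- the chosen coefficient
  have hchoose : Classical.choose hφex = φ * algebraMap (X.presheaf.stalk x) X.functionField a := by
    have h1 := hs.symm.trans (Classical.choose_spec hφex)
    have h2 : ((φ * algebraMap (X.presheaf.stalk x) X.functionField a) - Classical.choose hφex) •
        (Submodule.Quotient.mk ((L.presheaf.stalkSpecializes h).hom t₀) :
          Cyc.secFibre L (genericPoint X)) = 0 := by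
      rw [sub_smul]
      exact sub_eq_zero.2 h1
    by_contra hne
    have hu : IsUnit ((φ * algebraMap (X.presheaf.stalk x) X.functionField a) -
        Classical.choose hφex) :=
      (isUnit_iff_ne_zero (G₀ := X.functionField)).2 (sub_ne_zero.2 (Ne.symm hne))
    have h3 := (hu.smul_eq_zero).1 h2
    exact hsp₀ ((mk_eq_zero_iff L _).1 h3)
  unfold Cyc.secOrdAt
  rw [dif_pos hex, dif_pos hφex, hchoose, ordAt_residue x hx h]
  by_cases hφ : φ = 0
  · rw [hφ, zero_mul]
  have ha0 : algebraMap (X.presheaf.stalk x) X.functionField a ≠ 0 := by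
    intro h0
    exact hau.ne_zero (IsFractionRing.injective (X.presheaf.stalk x) X.functionField
      (h0.trans (map_zero _).symm))
  rw [Scheme.ord_mul hφ ha0]
  have : Scheme.ord (algebraMap (X.presheaf.stalk x) X.functionField a) x = 0 := by
    rw [Scheme.ord_eq_iff hx ha0]
    haveI : Ring.KrullDimLE 1 (X.presheaf.stalk x) := krullDimLE_of_coheight_le hx.le
    have h1 : Ring.ordFrac (X.presheaf.stalk x)
        (algebraMap (X.presheaf.stalk x) X.functionField a) = 1 := Ring.ordFrac_of_isUnit hau
    have h' : Scheme.ordHom x hx (algebraMap (X.presheaf.stalk x) X.functionField a) = 1 := h1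
    simpa using h'
  rw [this, add_zero]

end Groth.Agent.Lib.Helper64.SecOrd
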