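import Groth.Agent.Lib.Helper64.SecOrd1

/-!
# Orders of rational sections: local generators and local finiteness (helper64)

* `secOrdAt_of_isGen`: `secOrdAt L η x h (φ • mk (germ_η e)) = Scheme.ord φ x` for a local generator `e`.
* `finite_height_one_primes_of_mem`, `finite_ord_ne_zero`.
-/

set_option autoImplicit false
set_option linter.style.haveILetI false
set_option linter.unusedSectionVars false
universe u

open AlgebraicGeometry CategoryTheory Opposite TopologicalSpace

namespace Groth.Agent.Lib.Helper64.SecOrd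

open Groth.Agent.Lib.Lead.QCohAff
open Groth.Agent.Lib.Helper64.RefExt Groth.Agent.Lib.Helper64.RefS2

variable {X : Scheme.{u}} [IsIntegral X]

theorem coheight_eq_one_iff (x : X) :
    Order.coheight x = 1 ↔ ringKrullDim (X.presheaf.stalk x) = 1 := by
  rw [ringKrullDim_stalk_eq_coheight x]
  constructor
  · intro h; rw [h]; rfl
  · intro h
    exact_mod_cast h

/-- the order of a rational section with respect to a local generator -/
theorem secOrdAt_of_isGen [IsLocallyNoetherian X] (L : X.Modules) {U : X.Opens} {e : Γ(L, U)}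
    (he : Groth.Agent.Lib.Lead.Inv.IsGen L U e) (x : X) (hxU : x ∈ U)
    (hx : Order.coheight x = 1) (h : genericPoint X ⤳ x) (φ : X.functionField) :
    Cyc.secOrdAt L (genericPoint X) x h
      (φ • (Submodule.Quotient.mk (L.presheaf.germ U (genericPoint X)
        (h.mem_open U.isOpen hxU) e) : Cyc.secFibre L (genericPoint X))) = Scheme.ord φ x := by
  have hb := bijective_stalk_of_isGen he x hxU
  have hbη := bijective_stalk_of_isGen he (genericPoint X) (h.mem_open U.isOpen hxU)
  have hspan : Submodule.span (X.presheaf.stalk x) {L.presheaf.germ U x hxU e} = ⊤ := by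
    rw [eq_top_iff]
    intro v _
    obtain ⟨a, ha⟩ := hb.2 v
    exact Submodule.mem_span_singleton.2 ⟨a, ha⟩
  have hne : L.presheaf.germ U (genericPoint X) (h.mem_open U.isOpen hxU) e ≠ 0 := by
    intro h0
    have := hbη.1 (a₁ := 1) (a₂ := 0) (by simp only [h0, smul_zero])
    exact one_ne_zero this
  have := secOrdAt_eq L x hx h (L.presheaf.germ U x hxU e) hspan
    (by rw [sp_germ]; exact hne) φ
  rw [sp_germ] at this
  exact this


/-- In a Noetherian ring only finitely many primes of height `≤ 1` contain a given nonzerodivisor. -/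
theorem finite_height_one_primes_of_mem {A : Type u} [CommRing A] [IsNoetherianRing A]
    (c : A) (hc : c ∈ nonZeroDivisors A) :
    {p : PrimeSpectrum A | c ∈ p.asIdeal ∧ p.asIdeal.height ≤ 1}.Finite := by
  have hfin := Ideal.finite_minimalPrimes_of_isNoetherianRing A (Ideal.span {c})
  have hinj : Set.InjOn (fun p : PrimeSpectrum A => p.asIdeal)
      {p : PrimeSpectrum A | c ∈ p.asIdeal ∧ p.asIdeal.height ≤ 1} :=
    fun p _ q _ h => PrimeSpectrum.ext h
  refine Set.Finite.of_finite_image (hfin.subset ?_) hinj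
  rintro _ ⟨p, ⟨hp, hht⟩, rfl⟩
  have hle : Ideal.span {c} ≤ p.asIdeal := (Ideal.span_singleton_le_iff_mem _).mpr hp
  exact Ideal.mem_minimalPrimes_of_height_le hle
    (hht.trans (Ideal.one_le_height_span_singleton_of_mem_nonZeroDivisors hc))

/-- On an affine open of a locally Noetherian integral scheme, a nonzero rational function has
nonzero order at only finitely many points of codimension one. -/
theorem finite_ord_ne_zero [IsLocallyNoetherian X] (f : X.functionField) (hf : f ≠ 0)
    {U : X.Opens} (hU : IsAffineOpen U) :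
    ((U : Set X) ∩ {y | Order.coheight y = 1 ∧ Scheme.ord f y ≠ 0}).Finite := by
  by_cases hne : Nonempty U
  swap
  · have : (U : Set X) = ∅ := by
      ext y
      simp only [SetLike.mem_coe, Set.mem_empty_iff_false, iff_false]
      exact fun hy => hne ⟨⟨y, hy⟩⟩
    rw [this, Set.empty_inter]
    exact Set.finite_empty
  haveI : IsNoetherianRing Γ(X, U) := IsLocallyNoetherian.component_noetherian ⟨U, hU⟩
  haveI := functionField_isFractionRing_of_isAffineOpen X U hU
  haveI : IsDomain Γ(X, U) := inferInstance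
  obtain ⟨a, b, hb, hab⟩ := IsFractionRing.div_surjective (A := Γ(X, U)) f
  have hb0 : b ≠ 0 := nonZeroDivisors.ne_zero hb
  have ha0 : a ≠ 0 := by
    rintro rfl
    rw [map_zero, zero_div] at hab
    exact hf hab.symm
  have hc : a * b ≠ 0 := mul_ne_zero ha0 hb0
  have hfin := finite_height_one_primes_of_mem (a * b) (mem_nonZeroDivisors_of_ne_zero hc)
  refine (hfin.image hU.fromSpec).subset ?_
  rintro y ⟨hyU, hy1, hy⟩
  have hyr : y ∈ Set.range hU.fromSpec := by rw [hU.range_fromSpec]; exact hyU
  obtain ⟨p, rfl⟩ := hyr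
  refine ⟨p, ⟨?_, ?_⟩, rfl⟩
  swap
  · -- height
    letI : Algebra Γ(X, U) (X.presheaf.stalk (hU.fromSpec p)) :=
      TopCat.Presheaf.algebra_section_stalk X.presheaf ⟨hU.fromSpec p, hyU⟩
    haveI : p.asIdeal.IsPrime := p.isPrime
    haveI : IsLocalization.AtPrime (X.presheaf.stalk (hU.fromSpec p)) p.asIdeal :=
      hU.isLocalization_stalk' p hyU
    have h1 := IsLocalization.AtPrime.ringKrullDim_eq_height p.asIdeal
      (X.presheaf.stalk (hU.fromSpec p))
    rw [ringKrullDim_stalk_eq_coheight, hy1] at h1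
    have : (p.asIdeal.height : WithBot ℕ∞) = ((1 : ℕ∞) : WithBot ℕ∞) := h1.symm
    exact (WithBot.coe_eq_coe.1 this).le
  by_contra hp
  apply hy
  -- `hU.fromSpec p` lies in the basic open of `a * b`
  have hpb : p ∈ PrimeSpectrum.basicOpen (a * b) := hp
  have hmem : hU.fromSpec p ∈ X.basicOpen (a * b) := by
    have := hU.fromSpec_preimage_basicOpen (a * b)
    have h2 : p ∈ hU.fromSpec ⁻¹ᵁ X.basicOpen (a * b) := by rw [this]; exact hpb
    exact h2
  have hunit := (X.mem_basicOpen (a * b) _ hyU).mp hmem
  rw [map_mul] at hunit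
  have hua : IsUnit (X.presheaf.germ U _ hyU a) := isUnit_of_mul_isUnit_left hunit
  have hub : IsUnit (X.presheaf.germ U _ hyU b) := isUnit_of_mul_isUnit_right hunit
  have hA : ∀ t : Γ(X, U), algebraMap (X.presheaf.stalk (hU.fromSpec p)) X.functionField
      (X.presheaf.germ U _ hyU t) = algebraMap Γ(X, U) X.functionField t := fun t =>
    Scheme.algebraMap_germ_eq_germToFunctionField X hyU t
  have hfu : f = algebraMap (X.presheaf.stalk (hU.fromSpec p)) X.functionField
      ((hua.unit * hub.unit⁻¹ : (X.presheaf.stalk (hU.fromSpec p))ˣ) :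
        X.presheaf.stalk (hU.fromSpec p)) := by
    rw [Units.val_mul, map_mul, IsUnit.unit_spec, ← hab, hA, div_eq_mul_inv]
    congr 1
    symm
    apply eq_inv_of_mul_eq_one_left
    rw [← hA b, ← map_mul]
    have : (↑hub.unit⁻¹ : X.presheaf.stalk (hU.fromSpec p)) * X.presheaf.germ U _ hyU b = 1 := by
      have h3 : (↑hub.unit⁻¹ : X.presheaf.stalk (hU.fromSpec p)) *
          (hub.unit : X.presheaf.stalk (hU.fromSpec p)) = 1 := Units.inv_mul _
      rwa [hub.unit_spec] at h3
    rw [this, map_one]
  rw [Scheme.ord_eq_iff hy1 hf]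
  haveI : Ring.KrullDimLE 1 (X.presheaf.stalk (hU.fromSpec p)) := krullDimLE_of_coheight_le hy1.le
  have h1 : Ring.ordFrac (X.presheaf.stalk (hU.fromSpec p))
      (algebraMap (X.presheaf.stalk (hU.fromSpec p)) X.functionField
        ((hua.unit * hub.unit⁻¹ : (X.presheaf.stalk (hU.fromSpec p))ˣ) :
        X.presheaf.stalk (hU.fromSpec p))) = 1 :=
    Ring.ordFrac_of_isUnit (Units.isUnit _)
  rw [← hfu] at h1
  have h' : Scheme.ordHom (hU.fromSpec p) hy1 f = 1 := h1
  simpa using h'

end Groth.Agent.Lib.Helper64.SecOrd
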