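import Groth.Agent.Lib.Helper64.SecOrd3
import Groth.Agent.Lib.Helper64.CDivLocal

/-!
# Rank one reflexive modules at points of codimension one (helper64)

* `exists_generator_of_rank_one` (algebra).
* `sp_injective`, `exists_smul_eq_sp`: the specialization map `F_x → F_η` of a torsion-free
  quasi-coherent module is injective and every element of `F_η` is a fraction of an element of `F_x`.
* `GenRankOne`, `genRankOne_of_genInvertible`.
* `exists_generator_codim_one`: a rank one coherent reflexive module on a normal scheme is generated by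
  one element at points of codimension one.
* `hom_ext_of_generic`.
-/

set_option autoImplicit false
set_option linter.style.haveILetI false
set_option linter.unusedSectionVars false
universe u

open AlgebraicGeometry CategoryTheory Opposite TopologicalSpace

namespace Groth.Agent.Lib.Helper64.SecOrd

open Groth.Agent.Lib.Lead.QCohAff
open Groth.Agent.Lib.Helper64.RefExt Groth.Agent.Lib.Helper64.RefS2
open Groth.Agent.Lib.Helper64.HomSh

/-- a finitely generated torsion-free module over a PID which embeds semilinearly into a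
one-dimensional vector space over the fraction field is generated by one element -/
theorem exists_generator_of_rank_one {R K M V : Type*} [CommRing R] [IsDomain R]
    [IsPrincipalIdealRing R] [Field K] [Algebra R K] [IsFractionRing R K] [AddCommGroup M]
    [Module R M] [Module.Finite R M] [Module.IsTorsionFree R M] [AddCommGroup V] [Module K V]
    (sp : M →+ V) (hsp : ∀ (a : R) (m : M), sp (a • m) = algebraMap R K a • sp m)
    (hinj : Function.Injective sp) (w : V) (hw : ∀ v : V, ∃ c : K, v = c • w)
    (hne : ∃ m : M, sp m ≠ 0) :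
    ∃ g : M, Submodule.span R {g} = ⊤ ∧ sp g ≠ 0 := by
  classical
  haveI : Module.Free R M := Module.free_of_finite_type_torsion_free'
  let b := Module.Free.chooseBasis R M
  have hb0 : ∀ i, b i ≠ 0 := fun i => b.ne_zero i
  have hspne : ∀ i, sp (b i) ≠ 0 := fun i h => hb0 i (hinj (h.trans (map_zero sp).symm))
  have hsub : ∀ i j : Module.Free.ChooseBasisIndex R M, i = j := by
    intro i j
    by_contra hij
    obtain ⟨ci, hci⟩ := hw (sp (b i))
    obtain ⟨cj, hcj⟩ := hw (sp (b j))
    obtain ⟨ai, di, hdi, rfl⟩ := IsFractionRing.div_surjective (A := R) ci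
    obtain ⟨aj, dj, hdj, rfl⟩ := IsFractionRing.div_surjective (A := R) cj
    have hdi0 : algebraMap R K di ≠ 0 := by
      intro h
      exact nonZeroDivisors.ne_zero hdi (IsFractionRing.injective R K (h.trans (map_zero _).symm))
    have hdj0 : algebraMap R K dj ≠ 0 := by
      intro h
      exact nonZeroDivisors.ne_zero hdj (IsFractionRing.injective R K (h.trans (map_zero _).symm))
    have h1 : sp ((di * aj) • b i) = sp ((dj * ai) • b j) := by
      rw [hsp, hsp, hci, hcj, ← mul_smul, ← mul_smul, map_mul, map_mul]
      congr 1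
      field_simp
    have h2 := hinj h1
    have h3 := congrArg (fun m => b.repr m i) h2
    simp only [map_smul, Module.Basis.repr_self, Finsupp.smul_apply, Finsupp.single_eq_same,
      smul_eq_mul, mul_one] at h3
    rw [Finsupp.single_eq_of_ne (Ne.symm hij |>.symm), mul_zero] at h3
    rcases mul_eq_zero.1 h3 with h4 | h4
    · exact nonZeroDivisors.ne_zero hdi h4
    · apply hspne j
      rw [hcj, h4, map_zero, zero_div, zero_smul]
  have hnonempty : Nonempty (Module.Free.ChooseBasisIndex R M) := by
    by_contra hemp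
    rw [not_nonempty_iff] at hemp
    obtain ⟨m, hm⟩ := hne
    apply hm
    have : m = 0 := by
      apply b.repr.injective
      ext i
      exact (hemp.false i).elim
    rw [this, map_zero]
  obtain ⟨i₀⟩ := hnonempty
  refine ⟨b i₀, ?_, hspne i₀⟩
  rw [← b.span_eq]
  congr 1
  ext m
  constructor
  · rintro rfl
    exact ⟨i₀, rfl⟩
  · rintro ⟨i, rfl⟩
    rw [hsub i i₀]
    rfl

variable {X : Scheme.{u}} [IsIntegral X]

theorem sp_algebraMap (x : X) (a : X.presheaf.stalk x) :
    (X.presheaf.stalkSpecializes (spη x)).hom a =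
      algebraMap (X.presheaf.stalk x) X.functionField a := rfl

/-- the specialization map to the generic stalk of a torsion-free quasi-coherent module is
injective -/
theorem sp_injective (F : X.Modules) [F.IsQuasicoherent]
    (htf : ∀ x : X, NoZeroSMulDivisors (X.presheaf.stalk x) (F.presheaf.stalk x)) (x : X) :
    Function.Injective (F.presheaf.stalkSpecializes (spη x)).hom := by
  rw [injective_iff_map_eq_zero]
  intro m hm
  obtain ⟨_, ⟨U, hU : IsAffineOpen U, rfl⟩, hxU, -⟩ :=
    (X.isBasis_affineOpens).exists_subset_of_mem_open (Set.mem_univ x) isOpen_univ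
  have hηU : genericPoint X ∈ U := genericPoint_mem hxU
  obtain ⟨r, s', hxr, hrs⟩ := exists_germ_smul_eq_germ F hU x hxU m
  have h1 : F.presheaf.germ U (genericPoint X) hηU s' = 0 := by
    rw [← sp_germ F (spη x) hxU, ← hrs, sp_smul, hm, smul_zero]
  obtain ⟨r', hηr', hr's'⟩ := (germ_eq_zero_iff F hU _ hηU _).1 h1
  have hr'0 : r' ≠ 0 := by
    rintro rfl
    rw [Scheme.basicOpen_zero] at hηr'
    exact hηr'
  haveI : Nonempty U := ⟨⟨x, hxU⟩⟩
  have hinj := AlgebraicGeometry.germ_injective_of_isIntegral X x hxU
  have hr'1 : X.presheaf.germ U x hxU r' ≠ 0 := by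
    intro h0
    exact hr'0 (hinj (h0.trans (map_zero _).symm))
  have hru : IsUnit (X.presheaf.germ U x hxU r) := isUnit_germ_of_mem_basicOpen r x hxU hxr
  have h2 : X.presheaf.germ U x hxU r' • (X.presheaf.germ U x hxU r • m) = 0 := by
    rw [hrs, ← germ_smul, hr's', map_zero]
  haveI := htf x
  rcases smul_eq_zero.1 h2 with h3 | h3
  · exact absurd h3 hr'1
  · exact (hru.smul_eq_zero).1 h3

/-- every element of the generic stalk of a quasi-coherent module is a fraction of an element of
the stalk at any given point -/
theorem exists_smul_eq_sp (F : X.Modules) [F.IsQuasicoherent] (x : X)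
    (w : F.presheaf.stalk (genericPoint X)) :
    ∃ (a : X.presheaf.stalk x) (m : F.presheaf.stalk x), a ≠ 0 ∧
      algebraMap (X.presheaf.stalk x) X.functionField a • w =
        (F.presheaf.stalkSpecializes (spη x)).hom m := by
  obtain ⟨_, ⟨U, hU : IsAffineOpen U, rfl⟩, hxU, -⟩ :=
    (X.isBasis_affineOpens).exists_subset_of_mem_open (Set.mem_univ x) isOpen_univ
  have hηU : genericPoint X ∈ U := genericPoint_mem hxU
  obtain ⟨r, s', hηr, hrs⟩ := exists_germ_smul_eq_germ F hU (genericPoint X) hηU w
  have hr0 : r ≠ 0 := by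
    rintro rfl
    rw [Scheme.basicOpen_zero] at hηr
    exact hηr
  haveI : Nonempty U := ⟨⟨x, hxU⟩⟩
  have hinj := AlgebraicGeometry.germ_injective_of_isIntegral X x hxU
  refine ⟨X.presheaf.germ U x hxU r, F.presheaf.germ U x hxU s', ?_, ?_⟩
  · intro h0
    exact hr0 (hinj (h0.trans (map_zero _).symm))
  · rw [sp_germ F (spη x) hxU, ← hrs, ← sp_algebraMap]
    congr 1
    exact ConcreteCategory.congr_hom (X.presheaf.germ_stalkSpecializes hxU (spη x)) r

/-- the generic stalk is one-dimensional -/
def GenRankOne (F : X.Modules) : Prop :=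
  ∃ w : F.presheaf.stalk (genericPoint X), w ≠ 0 ∧
    ∀ v : F.presheaf.stalk (genericPoint X), ∃ c : X.functionField, v = c • w

theorem genRankOne_of_genInvertible {F : X.Modules} (h : RefHull.GenInvertible F) :
    GenRankOne F := by
  obtain ⟨W, hηW, e, he⟩ := exists_isGen_of_genInvertible h
  exact ⟨_, germ_ne_zero_of_isGen F he _ hηW, fun v => exists_coeff F he hηW v⟩

theorem GenRankOne.exists_eq_smul {F : X.Modules} (h : GenRankOne F)
    {u : F.presheaf.stalk (genericPoint X)} (hu : u ≠ 0) (v : F.presheaf.stalk (genericPoint X)) :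
    ∃ φ : X.functionField, v = φ • u := by
  obtain ⟨w, -, hw⟩ := h
  obtain ⟨cu, hcu⟩ := hw u
  obtain ⟨cv, hcv⟩ := hw v
  have hcu0 : cu ≠ 0 := by
    rintro rfl
    rw [zero_smul] at hcu
    exact hu hcu
  refine ⟨cv * cu⁻¹, ?_⟩
  rw [hcu, ← mul_smul, mul_assoc, inv_mul_cancel₀ hcu0, mul_one, hcv]

theorem smul_injective_generic {F : X.Modules}
    {u : F.presheaf.stalk (genericPoint X)} (hu : u ≠ 0) {a b : X.functionField}
    (h : a • u = b • u) : a = b := by
  by_contra hne
  have h0 : (a - b) • u = 0 := by rw [sub_smul]; exact sub_eq_zero.2 h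
  have hunit : IsUnit (a - b) := (isUnit_iff_ne_zero (G₀ := X.functionField)).2 (sub_ne_zero.2 hne)
  exact hu ((hunit.smul_eq_zero).1 h0)

variable [IsLocallyNoetherian X]

/-- a rank one coherent reflexive module on a normal scheme is generated by one element at points of
codimension one -/
theorem exists_generator_codim_one (hX : Pi1.IsNormalScheme X) {F : X.Modules}
    (hF : RefHull.IsRef1 F) (x : X) (hx : Order.coheight x = 1) :
    ∃ g : F.presheaf.stalk x, Submodule.span (X.presheaf.stalk x) {g} = ⊤ ∧
      (F.presheaf.stalkSpecializes (spη x)).hom g ≠ 0 := by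
  haveI : F.IsQuasicoherent := hF.1.1
  haveI : IsDiscreteValuationRing (X.presheaf.stalk x) :=
    Groth.Agent.Lib.Helper64.CDivLocal.dvr_of_coheight_one hX x hx
  haveI : Module.Finite (X.presheaf.stalk x) (F.presheaf.stalk x) :=
    Groth.Agent.Lib.Helper64.FinTypeStalk.finite_stalk F hF.1.2 x
  have htf := fun y => noZeroSMulDivisors_stalk_of_isReflexive hF.1 hF.2.1 y
  haveI : Module.IsTorsionFree (X.presheaf.stalk x) (F.presheaf.stalk x) := by
    rw [Module.isTorsionFree_iff_smul_eq_zero]
    intro r m h
    haveI := htf x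
    exact smul_eq_zero.1 h
  obtain ⟨w, hw0, hw⟩ := genRankOne_of_genInvertible hF.2.2
  refine exists_generator_of_rank_one (R := X.presheaf.stalk x) (K := X.functionField)
    (F.presheaf.stalkSpecializes (spη x)).hom (fun a m => sp_smul F (spη x) a m)
    (sp_injective F htf x) w hw ?_
  obtain ⟨a, m, ha, ham⟩ := exists_smul_eq_sp F x w
  refine ⟨m, ?_⟩
  rw [← ham]
  intro h0
  have ha' : algebraMap (X.presheaf.stalk x) X.functionField a ≠ 0 := by
    intro h
    exact ha (IsFractionRing.injective (X.presheaf.stalk x) X.functionField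
      (h.trans (map_zero _).symm))
  have hunit : IsUnit (algebraMap (X.presheaf.stalk x) X.functionField a) :=
    (isUnit_iff_ne_zero (G₀ := X.functionField)).2 ha'
  exact hw0 ((hunit.smul_eq_zero).1 h0)

end Groth.Agent.Lib.Helper64.SecOrd
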