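import Groth.Agent.Lib.Helper64.SecOrd4

/-!
# Rank one reflexive modules are classified by the divisors of their rational sections (helper64)

* `hom_ext_of_generic`, `exists_linearMap_generic`, `exists_unit_of_ord_eq_zero`, `secOrdAt_mk`,
  `mapsTo_of_ord`, `exists_hom_of_mapsTo`.
* `nonempty_iso_of_ord`, `exists_ord_of_iso` (the two directions of S16086).
-/

set_option autoImplicit false
set_option linter.style.haveILetI false
set_option linter.unusedSectionVars false
universe u

open AlgebraicGeometry CategoryTheory Opposite TopologicalSpace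

namespace Groth.Agent.Lib.Helper64.SecOrd

open Groth.Agent.Lib.Lead.QCohAff
open Groth.Agent.Lib.Helper64.RefExt Groth.Agent.Lib.Helper64.RefS2
open Groth.Agent.Lib.Helper64.HomSh

section A
variable {X : Scheme.{u}} [IsIntegral X]

/-- morphisms into a torsion-free quasi-coherent module agreeing at the generic point are equal -/
theorem hom_ext_of_generic {A B : X.Modules} [B.IsQuasicoherent]
    (htf : ∀ x : X, NoZeroSMulDivisors (X.presheaf.stalk x) (B.presheaf.stalk x)) (α β : A ⟶ B)
    (h : RefHull.stalkMapₗ α (genericPoint X) = RefHull.stalkMapₗ β (genericPoint X)) :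
    α = β := by
  apply Scheme.Modules.hom_ext
  intro U
  ext m
  by_cases hU : Nonempty U
  · obtain ⟨⟨x, hx⟩⟩ := hU
    have hη : genericPoint X ∈ U := genericPoint_mem hx
    rw [← sub_eq_zero]
    apply eq_zero_of_germ_generic_eq_zero htf _ hη
    rw [map_sub, ← RefHull.stalkMapₗ_germ, ← RefHull.stalkMapₗ_germ, h, sub_self]
  · apply sec_ext
    intro x hx
    exact (hU ⟨⟨x, hx⟩⟩).elim

/-- a linear map out of a one-dimensional generic stalk with prescribed value on a nonzero vector -/
theorem exists_linearMap_generic {F G : X.Modules} (hF : GenRankOne F)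
    {v : F.presheaf.stalk (genericPoint X)} (hv : v ≠ 0) (u : G.presheaf.stalk (genericPoint X)) :
    ∃ T : F.presheaf.stalk (genericPoint X) →ₗ[X.presheaf.stalk (genericPoint X)]
      G.presheaf.stalk (genericPoint X), T v = u := by
  have hbij : Function.Bijective
      (LinearMap.toSpanSingleton (X.presheaf.stalk (genericPoint X))
        (F.presheaf.stalk (genericPoint X)) v) := by
    constructor
    · intro a b hab
      exact smul_injective_generic (F := F) hv hab
    · intro w
      obtain ⟨φ, hφ⟩ := hF.exists_eq_smul hv w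
      exact ⟨φ, hφ.symm⟩
  let e := LinearEquiv.ofBijective _ hbij
  refine ⟨(LinearMap.toSpanSingleton (X.presheaf.stalk (genericPoint X))
        (G.presheaf.stalk (genericPoint X)) u).comp e.symm.toLinearMap, ?_⟩
  have h1 : e 1 = v := by
    change (1 : X.presheaf.stalk (genericPoint X)) • v = v
    exact one_smul _ _
  have h2 : e.symm v = 1 := by rw [← h1, LinearEquiv.symm_apply_apply]
  rw [LinearMap.comp_apply]
  change LinearMap.toSpanSingleton _ _ u (e.symm v) = u
  rw [h2]
  change (1 : X.presheaf.stalk (genericPoint X)) • u = u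
  exact one_smul _ _

end A

section B
variable {X : Scheme.{u}} [IsIntegral X] [IsLocallyNoetherian X]

theorem ord_one (x : X) : Scheme.ord (1 : X.functionField) x = 0 := by
  haveI : Nonempty (⊤ : X.Opens) := ⟨⟨x, trivial⟩⟩
  have := Scheme.ord_of_isUnit (X := X) (U := ⊤) (f := 1) isUnit_one (x := x) trivial
  rwa [map_one] at this

theorem ord_inv' (x : X) (f : X.functionField) (hf : f ≠ 0) :
    Scheme.ord f⁻¹ x = - Scheme.ord f x := by
  have h1 : Scheme.ord f⁻¹ x + Scheme.ord f x = 0 := by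
    rw [← Scheme.ord_mul (inv_ne_zero hf) hf, inv_mul_cancel₀ hf, ord_one]
  omega

/-- a generic linear map preserving the stalks at points of codimension one extends to a morphism
of reflexive modules -/
theorem exists_hom_of_mapsTo (hX : Pi1.IsNormalScheme X) {F G : X.Modules} (hF : RefHull.IsRef1 F)
    (hG : RefHull.IsRef1 G)
    (T : G.presheaf.stalk (genericPoint X) →ₗ[X.presheaf.stalk (genericPoint X)]
      F.presheaf.stalk (genericPoint X))
    (hmaps : ∀ x : X, Order.coheight x = 1 →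
      Set.MapsTo T (Set.range (G.presheaf.stalkSpecializes (spη x)).hom)
        (Set.range (F.presheaf.stalkSpecializes (spη x)).hom)) :
    ∃ α : G ⟶ F, RefHull.stalkMapₗ α (genericPoint X) = T := by
  obtain ⟨ψ, hψ⟩ := exists_extension_of_mapsTo hX hF.1 hG.1 T
    (fun x hx => hmaps x ((coheight_eq_one_iff x).2 hx))
  haveI : IsIso (RefHull.bidualMap F) := hF.2.1
  refine ⟨ψ ≫ inv (RefHull.bidualMap F), ?_⟩
  rw [RefFun.stalkMapₗ_comp, hψ, ← LinearMap.comp_assoc, ← RefFun.stalkMapₗ_comp,
    IsIso.hom_inv_id, RefFun.stalkMapₗ_id, LinearMap.id_comp]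


theorem exists_unit_of_ord_eq_zero {x : X} (hdvr : IsDiscreteValuationRing (X.presheaf.stalk x))
    (hx : Order.coheight x = 1) (u : X.functionField) (hu : u ≠ 0) (h : Scheme.ord u x = 0) :
    ∃ u₀ : (X.presheaf.stalk x)ˣ, algebraMap (X.presheaf.stalk x) X.functionField u₀ = u := by
  have h1 := Groth.Agent.S2876.mem_stalkUnits_of_ord_eq_zero hdvr hx (Units.mk0 u hu) h
  obtain ⟨u₀, hu₀⟩ := (Groth.Agent.Lib.Helper64.CDivLib.mem_stalkUnits_iff x _).1 h1
  exact ⟨u₀, hu₀⟩

/-- the order of a nonzero rational section of a rank one reflexive module with respect to a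
generator of the stalk at a point of codimension one -/
theorem secOrdAt_mk (F : X.Modules) (x : X) (hx : Order.coheight x = 1)
    (g : F.presheaf.stalk x) (hg : Submodule.span (X.presheaf.stalk x) {g} = ⊤)
    (hsp : (F.presheaf.stalkSpecializes (spη x)).hom g ≠ 0)
    (v : F.presheaf.stalk (genericPoint X)) (φ : X.functionField)
    (hv : v = φ • (F.presheaf.stalkSpecializes (spη x)).hom g) :
    Cyc.secOrdAt F (genericPoint X) x (spη x)
      (Submodule.Quotient.mk v : Cyc.secFibre F (genericPoint X)) = Scheme.ord φ x := by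
  rw [hv]
  exact secOrdAt_eq F x hx (spη x) g hg hsp φ

/-- a generic linear map respecting the orders of rational sections maps the stalks at points of
codimension one into each other -/
theorem mapsTo_of_ord (hX : Pi1.IsNormalScheme X) {F G : X.Modules} (hF : RefHull.IsRef1 F)
    (hG : RefHull.IsRef1 G) {v : F.presheaf.stalk (genericPoint X)} (hv : v ≠ 0)
    {v' : G.presheaf.stalk (genericPoint X)} (hv' : v' ≠ 0) (c : X.functionField) (hc : c ≠ 0)
    (T : F.presheaf.stalk (genericPoint X) →ₗ[X.presheaf.stalk (genericPoint X)]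
      G.presheaf.stalk (genericPoint X)) (hT : T v = c • v') (x : X) (hx : Order.coheight x = 1)
    (hord : Cyc.secOrdAt F (genericPoint X) x (spη x)
        (Submodule.Quotient.mk v : Cyc.secFibre F (genericPoint X)) =
      Cyc.secOrdAt G (genericPoint X) x (spη x)
        (Submodule.Quotient.mk v' : Cyc.secFibre G (genericPoint X)) + Scheme.ord c x) :
    Set.MapsTo T (Set.range (F.presheaf.stalkSpecializes (spη x)).hom)
      (Set.range (G.presheaf.stalkSpecializes (spη x)).hom) := by
  have hdvr := Groth.Agent.Lib.Helper64.CDivLocal.dvr_of_coheight_one hX x hx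
  obtain ⟨g, hg, hspg⟩ := exists_generator_codim_one hX hF x hx
  obtain ⟨g', hg', hspg'⟩ := exists_generator_codim_one hX hG x hx
  obtain ⟨φ, hφ⟩ := (genRankOne_of_genInvertible hF.2.2).exists_eq_smul hspg v
  obtain ⟨ψ, hψ⟩ := (genRankOne_of_genInvertible hG.2.2).exists_eq_smul hspg' v'
  have hφ0 : φ ≠ 0 := by
    rintro rfl
    rw [zero_smul] at hφ
    exact hv hφ
  have hψ0 : ψ ≠ 0 := by
    rintro rfl
    rw [zero_smul] at hψ
    exact hv' hψ
  rw [secOrdAt_mk F x hx g hg hspg v φ hφ, secOrdAt_mk G x hx g' hg' hspg' v' ψ hψ] at hord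
  -- the ratio is a unit
  have hu0 : φ⁻¹ * c * ψ ≠ 0 := mul_ne_zero (mul_ne_zero (inv_ne_zero hφ0) hc) hψ0
  have hord0 : Scheme.ord (φ⁻¹ * c * ψ) x = 0 := by
    rw [Scheme.ord_mul (mul_ne_zero (inv_ne_zero hφ0) hc) hψ0, Scheme.ord_mul (inv_ne_zero hφ0) hc]
    have h1 : Scheme.ord φ⁻¹ x + Scheme.ord φ x = 0 := by
      rw [← Scheme.ord_mul (inv_ne_zero hφ0) hφ0, inv_mul_cancel₀ hφ0]
      haveI : Nonempty (⊤ : X.Opens) := ⟨⟨x, trivial⟩⟩
      have := Scheme.ord_of_isUnit (X := X) (U := ⊤) (f := 1) isUnit_one (x := x) trivial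
      rwa [map_one] at this
    omega
  obtain ⟨u₀, hu₀⟩ := exists_unit_of_ord_eq_zero hdvr hx _ hu0 hord0
  -- the value on the generator
  have hTg : T ((F.presheaf.stalkSpecializes (spη x)).hom g) =
      (G.presheaf.stalkSpecializes (spη x)).hom ((u₀ : X.presheaf.stalk x) • g') := by
    have h1 : (F.presheaf.stalkSpecializes (spη x)).hom g = φ⁻¹ • v := by
      rw [hφ, ← mul_smul, inv_mul_cancel₀ hφ0, one_smul]
    rw [h1, map_smul, hT, hψ, sp_smul, sp_algebraMap, hu₀, ← mul_smul, ← mul_smul]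
  rintro _ ⟨m, rfl⟩
  obtain ⟨a, rfl⟩ : ∃ a : X.presheaf.stalk x, a • g = m := by
    have : m ∈ Submodule.span (X.presheaf.stalk x) {g} := by rw [hg]; trivial
    exact Submodule.mem_span_singleton.1 this
  refine ⟨a • ((u₀ : X.presheaf.stalk x) • g'), ?_⟩
  rw [sp_smul G (spη x) a, sp_smul F (spη x) a g, LinearMap.map_smul, hTg]


theorem noZeroSMulDivisors_of_isRef1 {F : X.Modules} (hF : RefHull.IsRef1 F) (x : X) :
    NoZeroSMulDivisors (X.presheaf.stalk x) (F.presheaf.stalk x) :=
  noZeroSMulDivisors_stalk_of_isReflexive hF.1 hF.2.1 x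

/-- **S16086 (⟸)** -/
theorem nonempty_iso_of_ord (hX : Pi1.IsNormalScheme X) {F G : X.Modules} (hF : RefHull.IsRef1 F)
    (hG : RefHull.IsRef1 G) {v : F.presheaf.stalk (genericPoint X)} (hv : v ≠ 0)
    {v' : G.presheaf.stalk (genericPoint X)} (hv' : v' ≠ 0) (f : X.functionField) (hf : f ≠ 0)
    (h : ∀ x : X, Order.coheight x = 1 →
      Cyc.secOrdAt F (genericPoint X) x (spη x)
        (Submodule.Quotient.mk v : Cyc.secFibre F (genericPoint X)) =
      Cyc.secOrdAt G (genericPoint X) x (spη x)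
        (Submodule.Quotient.mk v' : Cyc.secFibre G (genericPoint X)) + Scheme.ord f x) :
    Nonempty (F ≅ G) := by
  have hF1 := genRankOne_of_genInvertible hF.2.2
  have hG1 := genRankOne_of_genInvertible hG.2.2
  obtain ⟨T', hT'⟩ := exists_linearMap_generic (G := G) hF1 hv (f • v')
  obtain ⟨T, hT⟩ := exists_linearMap_generic (G := F) hG1 hv' (f⁻¹ • v)
  obtain ⟨β, hβ⟩ := exists_hom_of_mapsTo hX hG hF T' (fun x hx =>
    mapsTo_of_ord hX hF hG hv hv' f hf T' hT' x hx (h x hx))
  obtain ⟨α, hα⟩ := exists_hom_of_mapsTo hX hF hG T (fun x hx =>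
    mapsTo_of_ord hX hG hF hv' hv f⁻¹ (inv_ne_zero hf) T hT x hx (by
      rw [h x hx, ord_inv' x f hf]; ring))
  haveI : F.IsQuasicoherent := hF.1.1
  haveI : G.IsQuasicoherent := hG.1.1
  have hTT' : T.comp T' = LinearMap.id := by
    apply LinearMap.ext
    intro w
    obtain ⟨φ, rfl⟩ := hF1.exists_eq_smul hv w
    rw [LinearMap.comp_apply, LinearMap.map_smul, hT', LinearMap.map_smul, LinearMap.map_smul, hT,
      ← mul_smul f, mul_inv_cancel₀ hf, one_smul]
    rfl
  have hT'T : T'.comp T = LinearMap.id := by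
    apply LinearMap.ext
    intro w
    obtain ⟨φ, rfl⟩ := hG1.exists_eq_smul hv' w
    rw [LinearMap.comp_apply, LinearMap.map_smul, hT, LinearMap.map_smul, LinearMap.map_smul, hT',
      ← mul_smul f⁻¹, inv_mul_cancel₀ hf, one_smul]
    rfl
  refine ⟨⟨β, α, ?_, ?_⟩⟩
  · apply hom_ext_of_generic (noZeroSMulDivisors_of_isRef1 hF)
    rw [RefFun.stalkMapₗ_comp, hα, hβ, hTT', RefFun.stalkMapₗ_id]
  · apply hom_ext_of_generic (noZeroSMulDivisors_of_isRef1 hG)
    rw [RefFun.stalkMapₗ_comp, hα, hβ, hT'T, RefFun.stalkMapₗ_id]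

/-- **S16086 (⟹)** -/
theorem exists_ord_of_iso (hX : Pi1.IsNormalScheme X) {F G : X.Modules} (hF : RefHull.IsRef1 F)
    (hG : RefHull.IsRef1 G) (e : F ≅ G) {v : F.presheaf.stalk (genericPoint X)} (hv : v ≠ 0)
    {v' : G.presheaf.stalk (genericPoint X)} (hv' : v' ≠ 0) :
    ∃ f : X.functionField, f ≠ 0 ∧ ∀ x : X, Order.coheight x = 1 →
      Cyc.secOrdAt F (genericPoint X) x (spη x)
        (Submodule.Quotient.mk v : Cyc.secFibre F (genericPoint X)) =
      Cyc.secOrdAt G (genericPoint X) x (spη x)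
        (Submodule.Quotient.mk v' : Cyc.secFibre G (genericPoint X)) + Scheme.ord f x := by
  have hF1 := genRankOne_of_genInvertible hF.2.2
  have hG1 := genRankOne_of_genInvertible hG.2.2
  have hinv : ∀ (y : X) (m : F.presheaf.stalk y),
      RefHull.stalkMapₗ e.inv y (RefHull.stalkMapₗ e.hom y m) = m := by
    intro y m
    rw [← LinearMap.comp_apply, ← RefFun.stalkMapₗ_comp, e.hom_inv_id, RefFun.stalkMapₗ_id]
    rfl
  have hinv' : ∀ (y : X) (m : G.presheaf.stalk y),
      RefHull.stalkMapₗ e.hom y (RefHull.stalkMapₗ e.inv y m) = m := by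
    intro y m
    rw [← LinearMap.comp_apply, ← RefFun.stalkMapₗ_comp, e.inv_hom_id, RefFun.stalkMapₗ_id]
    rfl
  have hEinj : ∀ y : X, Function.Injective (RefHull.stalkMapₗ e.hom y) := by
    intro y a b hab
    rw [← hinv y a, hab, hinv y b]
  obtain ⟨c, hc⟩ := hG1.exists_eq_smul hv' (RefHull.stalkMapₗ e.hom (genericPoint X) v)
  have hc0 : c ≠ 0 := by
    rintro rfl
    rw [zero_smul] at hc
    exact hv (hEinj _ (hc.trans (map_zero _).symm))
  refine ⟨c, hc0, ?_⟩
  intro x hx
  obtain ⟨g, hg, hspg⟩ := exists_generator_codim_one hX hF x hx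
  have hg' : Submodule.span (X.presheaf.stalk x) {RefHull.stalkMapₗ e.hom x g} = ⊤ := by
    rw [eq_top_iff]
    intro m' _
    have : RefHull.stalkMapₗ e.inv x m' ∈ Submodule.span (X.presheaf.stalk x) {g} := by
      rw [hg]; trivial
    obtain ⟨a, ha⟩ := Submodule.mem_span_singleton.1 this
    refine Submodule.mem_span_singleton.2 ⟨a, ?_⟩
    rw [← LinearMap.map_smul, ha, hinv']
  have hsp' : (G.presheaf.stalkSpecializes (spη x)).hom (RefHull.stalkMapₗ e.hom x g) =
      RefHull.stalkMapₗ e.hom (genericPoint X) ((F.presheaf.stalkSpecializes (spη x)).hom g) :=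
    sp_stalkMapₗ e.hom (spη x) g
  have hspg' : (G.presheaf.stalkSpecializes (spη x)).hom (RefHull.stalkMapₗ e.hom x g) ≠ 0 := by
    rw [hsp']
    intro h0
    exact hspg (hEinj _ (h0.trans (map_zero _).symm))
  obtain ⟨φ, hφ⟩ := hF1.exists_eq_smul hspg v
  obtain ⟨ψ, hψ⟩ := hG1.exists_eq_smul hspg' v'
  have hψ0 : ψ ≠ 0 := by
    rintro rfl
    rw [zero_smul] at hψ
    exact hv' hψ
  have hφψ : φ = c * ψ := by
    apply smul_injective_generic (F := G) hspg'
    rw [mul_smul, ← hψ, ← hc, hφ, LinearMap.map_smul, hsp']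
  rw [secOrdAt_mk F x hx g hg hspg v φ hφ, secOrdAt_mk G x hx _ hg' hspg' v' ψ hψ, hφψ,
    Scheme.ord_mul hc0 hψ0, add_comm]

end B

end Groth.Agent.Lib.Helper64.SecOrd
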