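import Groth.Agent.Lib.Helper64.SecOrd5

/-!
# Stalks of tensor products via germs of pure tensors (helper64)

* `germ_tensor_induction`, `span_germ_tm`.
-/

set_option autoImplicit false
set_option linter.style.haveILetI false
set_option linter.unusedSectionVars false
universe u

open AlgebraicGeometry CategoryTheory Opposite TopologicalSpace TensorProduct

namespace Groth.Agent.Lib.Helper64.SecOrd

open Groth.Agent.Lib.Lead.QCohAff
open Groth.Agent.Lib.Helper64.RefExt Groth.Agent.Lib.Helper64.RefS2
open Groth.Agent.Lib.Helper64.HomSh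
open Groth.Agent.Lib.Helper35.Gen Groth.Agent.Lib.Helper35.AbSheaf

variable {X : Scheme.{u}}

/-- stalks of the tensor product are generated by germs of pure tensors -/
theorem germ_tensor_induction (M N : X.Modules) (x : X)
    {motive : (CohB1.tensorMod M N).presheaf.stalk x → Prop} (zero : motive 0)
    (tmul : ∀ (U : X.Opens) (hx : x ∈ U) (m : Γ(M, U)) (n : Γ(N, U)),
      motive ((CohB1.tensorMod M N).presheaf.germ U x hx (tm M N m n)))
    (add : ∀ a b, motive a → motive b → motive (a + b))
    (ξ : (CohB1.tensorMod M N).presheaf.stalk x) : motive ξ := by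
  obtain ⟨U, hxU, ξ', rfl⟩ := TopCat.Presheaf.exists_germ_eq (CohB1.tensorMod M N).presheaf ξ
  let P : X.PresheafOfModules := CohB1.tensorPre M N
  let η : P.presheaf ⟶ (CohB1.tensorMod M N).presheaf :=
    (PresheafOfModules.toPresheaf _).map (SecTwist.toTensor M N)
  haveI : Presheaf.IsLocallySurjective (Opens.grothendieckTopology X) η := by
    change Presheaf.IsLocallySurjective (Opens.grothendieckTopology X)
      (CategoryTheory.toSheafify (Opens.grothendieckTopology X) P.presheaf)
    infer_instance
  obtain ⟨W, hW, hxW, p, hp⟩ := locSurj_of_isLocallySurjective η U ξ' x hxU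
  have h1 : (CohB1.tensorMod M N).presheaf.germ U x hxU ξ' =
      (CohB1.tensorMod M N).presheaf.germ W x hxW ((η.app (op W)).hom p) := by
    rw [hp]
    exact (germ_res (CohB1.tensorMod M N) hW x hxW ξ').symm
  rw [h1]
  clear h1 hp
  let g : P.presheaf.obj (op W) →+ (CohB1.tensorMod M N).presheaf.stalk x :=
    ((CohB1.tensorMod M N).presheaf.germ W x hxW).hom.comp (η.app (op W)).hom
  change motive (g p)
  induction p using TensorProduct.induction_on with
  | zero =>
    have h0 : g 0 = 0 := map_zero g
    exact Eq.mpr (congrArg motive h0) zero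
  | tmul m n => exact tmul W hxW m n
  | add a b ha hb =>
    have h0 : g (a + b) = g a + g b := map_add g a b
    exact Eq.mpr (congrArg motive h0) (add _ _ ha hb)

/-- the tensor of stalk generators generates the stalk of the tensor product -/
theorem span_germ_tm (M N : X.Modules) (x : X) {U : X.Opens} (hx : x ∈ U) (m₁ : Γ(M, U))
    (m₂ : Γ(N, U))
    (h₁ : Submodule.span (X.presheaf.stalk x) {M.presheaf.germ U x hx m₁} = ⊤)
    (h₂ : Submodule.span (X.presheaf.stalk x) {N.presheaf.germ U x hx m₂} = ⊤) :
    Submodule.span (X.presheaf.stalk x)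
      {(CohB1.tensorMod M N).presheaf.germ U x hx (tm M N m₁ m₂)} = ⊤ := by
  rw [eq_top_iff]
  intro ξ _
  clear * - h₁ h₂
  induction ξ using germ_tensor_induction with
  | zero => exact Submodule.zero_mem _
  | tmul V hxV m n =>
    obtain ⟨a, ha⟩ : ∃ a : X.presheaf.stalk x, a • M.presheaf.germ U x hx m₁ =
        M.presheaf.germ V x hxV m := by
      have : M.presheaf.germ V x hxV m ∈
          Submodule.span (X.presheaf.stalk x) {M.presheaf.germ U x hx m₁} := by rw [h₁]; trivial
      exact Submodule.mem_span_singleton.1 this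
    obtain ⟨b, hb⟩ : ∃ b : X.presheaf.stalk x, b • N.presheaf.germ U x hx m₂ =
        N.presheaf.germ V x hxV n := by
      have : N.presheaf.germ V x hxV n ∈
          Submodule.span (X.presheaf.stalk x) {N.presheaf.germ U x hx m₂} := by rw [h₂]; trivial
      exact Submodule.mem_span_singleton.1 this
    rw [germ_tm_eq M N x hxV hx m n m₁ m₂ a b ha.symm hb.symm]
    exact Submodule.smul_mem _ _ (Submodule.mem_span_singleton_self _)
  | add a b ha hb => exact Submodule.add_mem _ ha hb

end Groth.Agent.Lib.Helper64.SecOrd
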