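import Groth.Agent.Lib.Helper64.SecOrd7
import Groth.Agent.S2297

/-!
# The divisor of the reflexive tensor product (helper64)

* `isCoh_tensorMod`, `injective_bidual_generic`, `exists_section_ddual_tensor` (= S16090).
-/

set_option autoImplicit false
set_option linter.style.haveILetI false
set_option linter.unusedSectionVars false
universe u

open AlgebraicGeometry CategoryTheory Opposite TopologicalSpace TensorProduct

namespace Groth.Agent.Lib.Helper64.SecOrd

open Groth.Agent.Lib.Lead.QCohAff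
open Groth.Agent.Lib.Helper64.RefExt Groth.Agent.Lib.Helper64.RefS2
open Groth.Agent.Lib.Helper64.HomSh
open Groth.Agent.Lib.Helper35.Gen Groth.Agent.Lib.Helper35.AbSheaf

variable {X : Scheme.{u}}

theorem isCoh_tensorMod {F G : X.Modules} (hF : Coh.IsCoh F) (hG : Coh.IsCoh G) :
    Coh.IsCoh (CohB1.tensorMod F G) := by
  haveI : Coh.IsQCoh F := hF.1
  haveI : Coh.IsQCoh G := hG.1
  have h := Groth.Agent.S2297.result F G
  exact ⟨h.1, h.2 hF.2 hG.2⟩

variable [IsIntegral X] [IsLocallyNoetherian X]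

/-- the biduality map of a coherent module is injective at the generic point -/
theorem injective_bidual_generic {H : X.Modules} (hH : Coh.IsCoh H) :
    Function.Injective (RefHull.stalkMapₗ (RefHull.bidualMap H) (genericPoint X)) := by
  have hFP := isFP_of_isCoh hH
  have hDP := isFP_of_isCoh (isCoh_dual hH)
  have hfld : IsField (X.presheaf.stalk (genericPoint X)) := Field.toIsField _
  haveI : Module.Finite (X.presheaf.stalk (genericPoint X))
      (H.presheaf.stalk (genericPoint X)) :=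
    Groth.Agent.Lib.Helper64.FinTypeStalk.finite_stalk H hH.2 _
  have hrefl : RefHull.IsReflexiveAt H (genericPoint X) := by
    letI := hfld.toField
    exact inferInstanceAs (Module.IsReflexive (X.presheaf.stalk (genericPoint X))
      (H.presheaf.stalk (genericPoint X)))
  exact ((bijective_stalkMap_bidualMap_iff hFP hDP _).2 hrefl).1

theorem smul_ne_zero_generic {F : X.Modules} {c : X.functionField} (hc : c ≠ 0)
    {u : F.presheaf.stalk (genericPoint X)} (hu : u ≠ 0) : c • u ≠ 0 := by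
  intro h0
  have hunit : IsUnit c := (isUnit_iff_ne_zero (G₀ := X.functionField)).2 hc
  exact hu ((hunit.smul_eq_zero).1 h0)

/-- **S16090**: the reflexive hull of the tensor product of two rank one reflexive modules has a
rational section whose divisor is the sum of the divisors of given rational sections -/
theorem exists_section_ddual_tensor (hX : Pi1.IsNormalScheme X) {F G : X.Modules}
    (hF : RefHull.IsRef1 F) (hG : RefHull.IsRef1 G)
    {v : F.presheaf.stalk (genericPoint X)} (hv : v ≠ 0)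
    {v' : G.presheaf.stalk (genericPoint X)} (hv' : v' ≠ 0) :
    ∃ w : (RefHull.ddual (CohB1.tensorMod F G)).presheaf.stalk (genericPoint X), w ≠ 0 ∧
      ∀ x : X, Order.coheight x = 1 →
        Cyc.secOrdAt (RefHull.ddual (CohB1.tensorMod F G)) (genericPoint X) x (spη x)
          (Submodule.Quotient.mk w :
            Cyc.secFibre (RefHull.ddual (CohB1.tensorMod F G)) (genericPoint X)) =
        Cyc.secOrdAt F (genericPoint X) x (spη x)
          (Submodule.Quotient.mk v : Cyc.secFibre F (genericPoint X)) +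
        Cyc.secOrdAt G (genericPoint X) x (spη x)
          (Submodule.Quotient.mk v' : Cyc.secFibre G (genericPoint X)) := by
  have hH : Coh.IsCoh (CohB1.tensorMod F G) := isCoh_tensorMod hF.1 hG.1
  have hbinj := injective_bidual_generic hH
  have hF1 := genRankOne_of_genInvertible hF.2.2
  have hG1 := genRankOne_of_genInvertible hG.2.2
  -- generic generators
  obtain ⟨W₁, hηW₁, e₁', he₁'⟩ := exists_isGen_of_genInvertible hF.2.2
  obtain ⟨W₂, hηW₂, e₂', he₂'⟩ := exists_isGen_of_genInvertible hG.2.2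
  have hηW₀ : genericPoint X ∈ W₁ ⊓ W₂ := ⟨hηW₁, hηW₂⟩
  have he₁ := he₁'.res (inf_le_left : W₁ ⊓ W₂ ≤ W₁)
  have he₂ := he₂'.res (inf_le_right : W₁ ⊓ W₂ ≤ W₂)
  set e₁ := F.presheaf.map (homOfLE (inf_le_left : W₁ ⊓ W₂ ≤ W₁)).op e₁' with he₁def
  set e₂ := G.presheaf.map (homOfLE (inf_le_right : W₁ ⊓ W₂ ≤ W₂)).op e₂' with he₂def
  have he₁₂ : Groth.Agent.Lib.Lead.Inv.IsGen (CohB1.tensorMod F G) (W₁ ⊓ W₂) (tm F G e₁ e₂) :=
    IsGen.tm he₁ he₂
  have hw₀ := germ_ne_zero_of_isGen (CohB1.tensorMod F G) he₁₂ (genericPoint X) hηW₀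
  have hge₁ := germ_ne_zero_of_isGen F he₁ (genericPoint X) hηW₀
  have hge₂ := germ_ne_zero_of_isGen G he₂ (genericPoint X) hηW₀
  obtain ⟨φ₀, hφ₀⟩ := exists_coeff F he₁ hηW₀ v
  obtain ⟨ψ₀, hψ₀⟩ := exists_coeff G he₂ hηW₀ v'
  have hφ₀0 : φ₀ ≠ 0 := by
    rintro rfl
    rw [zero_smul] at hφ₀
    exact hv hφ₀
  have hψ₀0 : ψ₀ ≠ 0 := by
    rintro rfl
    rw [zero_smul] at hψ₀
    exact hv' hψ₀
  refine ⟨(φ₀ * ψ₀) • RefHull.stalkMapₗ (RefHull.bidualMap (CohB1.tensorMod F G)) (genericPoint X)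
    ((CohB1.tensorMod F G).presheaf.germ (W₁ ⊓ W₂) (genericPoint X) hηW₀ (tm F G e₁ e₂)), ?_, ?_⟩
  · apply smul_ne_zero_generic (mul_ne_zero hφ₀0 hψ₀0)
    intro h0
    exact hw₀ (hbinj (h0.trans (map_zero _).symm))
  · intro x hx
    obtain ⟨g₁, hg₁, hsp₁⟩ := exists_generator_codim_one hX hF x hx
    obtain ⟨g₂, hg₂, hsp₂⟩ := exists_generator_codim_one hX hG x hx
    obtain ⟨U₁, hxU₁, m₁', rfl⟩ := TopCat.Presheaf.exists_germ_eq F.presheaf g₁
    obtain ⟨U₂, hxU₂, m₂', rfl⟩ := TopCat.Presheaf.exists_germ_eq G.presheaf g₂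
    have hxU : x ∈ U₁ ⊓ U₂ := ⟨hxU₁, hxU₂⟩
    have hηU : genericPoint X ∈ U₁ ⊓ U₂ := genericPoint_mem hxU
    set m₁ := F.presheaf.map (homOfLE (inf_le_left : U₁ ⊓ U₂ ≤ U₁)).op m₁' with hm₁def
    set m₂ := G.presheaf.map (homOfLE (inf_le_right : U₁ ⊓ U₂ ≤ U₂)).op m₂' with hm₂def
    have hgm₁ : F.presheaf.germ (U₁ ⊓ U₂) x hxU m₁ = F.presheaf.germ U₁ x hxU₁ m₁' :=
      germ_res F inf_le_left x hxU m₁'
    have hgm₂ : G.presheaf.germ (U₁ ⊓ U₂) x hxU m₂ = G.presheaf.germ U₂ x hxU₂ m₂' :=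
      germ_res G inf_le_right x hxU m₂'
    have hspan : Submodule.span (X.presheaf.stalk x)
        {(CohB1.tensorMod F G).presheaf.germ (U₁ ⊓ U₂) x hxU (tm F G m₁ m₂)} = ⊤ :=
      span_germ_tm F G x hxU m₁ m₂ (by rw [hgm₁]; exact hg₁) (by rw [hgm₂]; exact hg₂)
    -- generic coefficients
    have hgη₁ : F.presheaf.germ (U₁ ⊓ U₂) (genericPoint X) hηU m₁ =
        (F.presheaf.stalkSpecializes (spη x)).hom (F.presheaf.germ U₁ x hxU₁ m₁') := by
      rw [← hgm₁, sp_germ]
    have hgη₂ : G.presheaf.germ (U₁ ⊓ U₂) (genericPoint X) hηU m₂ =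
        (G.presheaf.stalkSpecializes (spη x)).hom (G.presheaf.germ U₂ x hxU₂ m₂') := by
      rw [← hgm₂, sp_germ]
    obtain ⟨c₁, hc₁⟩ := exists_coeff F he₁ hηW₀ (F.presheaf.germ (U₁ ⊓ U₂) (genericPoint X) hηU m₁)
    obtain ⟨c₂, hc₂⟩ := exists_coeff G he₂ hηW₀ (G.presheaf.germ (U₁ ⊓ U₂) (genericPoint X) hηU m₂)
    have hc₁0 : c₁ ≠ 0 := by
      rintro rfl
      rw [zero_smul, hgη₁] at hc₁
      exact hsp₁ hc₁
    have hc₂0 : c₂ ≠ 0 := by
      rintro rfl
      rw [zero_smul, hgη₂] at hc₂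
      exact hsp₂ hc₂
    have hspt : ((CohB1.tensorMod F G).presheaf.stalkSpecializes (spη x)).hom
        ((CohB1.tensorMod F G).presheaf.germ (U₁ ⊓ U₂) x hxU (tm F G m₁ m₂)) =
        (c₁ * c₂) • (CohB1.tensorMod F G).presheaf.germ (W₁ ⊓ W₂) (genericPoint X) hηW₀
          (tm F G e₁ e₂) := by
      rw [sp_germ]
      exact germ_tm_eq F G (genericPoint X) hηU hηW₀ m₁ m₂ e₁ e₂ c₁ c₂ hc₁ hc₂
    have hspt0 : ((CohB1.tensorMod F G).presheaf.stalkSpecializes (spη x)).hom
        ((CohB1.tensorMod F G).presheaf.germ (U₁ ⊓ U₂) x hxU (tm F G m₁ m₂)) ≠ 0 := by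
      rw [hspt]
      exact smul_ne_zero_generic (mul_ne_zero hc₁0 hc₂0) hw₀
    -- freeness at `x`
    have hbij : Function.Bijective
        (LinearMap.toSpanSingleton (X.presheaf.stalk x) ((CohB1.tensorMod F G).presheaf.stalk x)
          ((CohB1.tensorMod F G).presheaf.germ (U₁ ⊓ U₂) x hxU (tm F G m₁ m₂))) := by
      constructor
      · intro a b hab
        have h0 : (a - b) • (CohB1.tensorMod F G).presheaf.germ (U₁ ⊓ U₂) x hxU (tm F G m₁ m₂) = 0 := by
          rw [sub_smul]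
          exact sub_eq_zero.2 hab
        have h1 := congrArg ((CohB1.tensorMod F G).presheaf.stalkSpecializes (spη x)).hom h0
        rw [sp_smul, map_zero, sp_algebraMap] at h1
        have h2 : algebraMap (X.presheaf.stalk x) X.functionField (a - b) = 0 := by
          by_contra hne
          exact smul_ne_zero_generic hne hspt0 h1
        exact sub_eq_zero.1 (IsFractionRing.injective (X.presheaf.stalk x) X.functionField
          (h2.trans (map_zero _).symm))
      · intro ξ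
        have : ξ ∈ Submodule.span (X.presheaf.stalk x)
            {(CohB1.tensorMod F G).presheaf.germ (U₁ ⊓ U₂) x hxU (tm F G m₁ m₂)} := by
          rw [hspan]; trivial
        obtain ⟨a, ha⟩ := Submodule.mem_span_singleton.1 this
        exact ⟨a, ha⟩
    have hrefl : RefHull.IsReflexiveAt (CohB1.tensorMod F G) x :=
      Module.equiv (LinearEquiv.ofBijective _ hbij)
    have hbx := (bijective_stalkMap_bidualMap_iff (isFP_of_isCoh hH)
      (isFP_of_isCoh (isCoh_dual hH)) x).2 hrefl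
    have hτspan : Submodule.span (X.presheaf.stalk x)
        {RefHull.stalkMapₗ (RefHull.bidualMap (CohB1.tensorMod F G)) x
          ((CohB1.tensorMod F G).presheaf.germ (U₁ ⊓ U₂) x hxU (tm F G m₁ m₂))} = ⊤ := by
      rw [eq_top_iff]
      intro ζ _
      obtain ⟨ξ, rfl⟩ := hbx.2 ζ
      have : ξ ∈ Submodule.span (X.presheaf.stalk x)
          {(CohB1.tensorMod F G).presheaf.germ (U₁ ⊓ U₂) x hxU (tm F G m₁ m₂)} := by
        rw [hspan]; trivial
      obtain ⟨a, rfl⟩ := Submodule.mem_span_singleton.1 this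
      rw [LinearMap.map_smul]
      exact Submodule.smul_mem _ _ (Submodule.mem_span_singleton_self _)
    have hspτ := sp_stalkMapₗ (RefHull.bidualMap (CohB1.tensorMod F G)) (spη x)
      ((CohB1.tensorMod F G).presheaf.germ (U₁ ⊓ U₂) x hxU (tm F G m₁ m₂))
    have hspτ0 : ((RefHull.ddual (CohB1.tensorMod F G)).presheaf.stalkSpecializes (spη x)).hom
        (RefHull.stalkMapₗ (RefHull.bidualMap (CohB1.tensorMod F G)) x
          ((CohB1.tensorMod F G).presheaf.germ (U₁ ⊓ U₂) x hxU (tm F G m₁ m₂))) ≠ 0 := by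
      rw [hspτ]
      intro h0
      exact hspt0 (hbinj (h0.trans (map_zero _).symm))
    -- coefficients of `v`, `v'`
    obtain ⟨φ, hφ⟩ := hF1.exists_eq_smul hsp₁ v
    obtain ⟨ψ, hψ⟩ := hG1.exists_eq_smul hsp₂ v'
    have hφ0 : φ ≠ 0 := by
      rintro rfl
      rw [zero_smul] at hφ
      exact hv hφ
    have hψ0 : ψ ≠ 0 := by
      rintro rfl
      rw [zero_smul] at hψ
      exact hv' hψ
    have h1 : φ₀ = φ * c₁ := by
      apply smul_injective_generic (F := F) hge₁
      rw [← hφ₀, hφ, ← hgη₁, hc₁, mul_smul]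
    have h2 : ψ₀ = ψ * c₂ := by
      apply smul_injective_generic (F := G) hge₂
      rw [← hψ₀, hψ, ← hgη₂, hc₂, mul_smul]
    have hw : (φ₀ * ψ₀) • RefHull.stalkMapₗ (RefHull.bidualMap (CohB1.tensorMod F G))
        (genericPoint X) ((CohB1.tensorMod F G).presheaf.germ (W₁ ⊓ W₂) (genericPoint X) hηW₀
          (tm F G e₁ e₂)) =
        (φ * ψ) • ((RefHull.ddual (CohB1.tensorMod F G)).presheaf.stalkSpecializes (spη x)).hom
          (RefHull.stalkMapₗ (RefHull.bidualMap (CohB1.tensorMod F G)) x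
            ((CohB1.tensorMod F G).presheaf.germ (U₁ ⊓ U₂) x hxU (tm F G m₁ m₂))) := by
      rw [hspτ, hspt, LinearMap.map_smul, ← mul_smul, h1, h2]
      congr 1
      ring
    rw [secOrdAt_mk F x hx _ hg₁ hsp₁ v φ hφ, secOrdAt_mk G x hx _ hg₂ hsp₂ v' ψ hψ,
      secOrdAt_mk (RefHull.ddual (CohB1.tensorMod F G)) x hx _ hτspan hspτ0 _ (φ * ψ) hw,
      Scheme.ord_mul hφ0 hψ0]

end Groth.Agent.Lib.Helper64.SecOrd
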