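import Groth.Agent.Lib.Helper64.SecOrd5
import Groth.Agent.Lib.Helper94.RegularUFD2
import Groth.Agent.Lib.Helper76.RegularLocal

/-!
# From stalks to sections (helper64)

* `isNormalScheme_of_regular`: a scheme with regular local rings is normal (via Auslander–Buchsbaum,
  Helper94).
* `bijective_app_of_stalk`: a morphism of modules which is bijective on the stalks at the points of
  an open `W` is bijective on the sections over `W`.
* `isGen_of_stalk`: a section generating freely all stalks over `V` is a generator over `V`.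
-/

set_option autoImplicit false
set_option linter.style.haveILetI false
set_option linter.unusedSectionVars false
universe u

open AlgebraicGeometry CategoryTheory Opposite TopologicalSpace

namespace Groth.Agent.Lib.Helper64.StalkIso

open Groth.Agent.Lib.Lead.QCohAff Groth.Agent.Lib.Lead.SheafGlue
open Groth.Agent.Lib.Helper64.HomSh

variable {X : Scheme.{u}}

theorem isNormalScheme_of_regular
    (hreg : ∀ x : X, IsRegularLocalRing (X.presheaf.stalk x)) : Pi1.IsNormalScheme X := by
  intro x
  haveI := hreg x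
  haveI : IsDomain (X.presheaf.stalk x) :=
    Groth.Agent.Lib.Helper76.isDomain_of_isRegularLocalRing _
  haveI : UniqueFactorizationMonoid (X.presheaf.stalk x) :=
    Groth.Agent.Lib.Helper94.RegularUFD.uniqueFactorizationMonoid_of_isRegularLocalRing _
  exact ⟨inferInstance, inferInstance⟩

theorem hom_res {F G : X.Modules} (φ : F ⟶ G) {U V : X.Opens} (h : V ≤ U) (s : Γ(F, U)) :
    φ.app V (F.presheaf.map (homOfLE h).op s) = G.presheaf.map (homOfLE h).op (φ.app U s) :=
  congr($(φ.mapPresheaf.naturality (homOfLE h).op) s)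

/-- a morphism which is injective on the stalks at the points of `W` is injective on the sections
over `W` -/
theorem injective_app_of_stalk {A B : X.Modules} (φ : A ⟶ B) (W : X.Opens)
    (h : ∀ x ∈ W, Function.Injective (RefHull.stalkMapₗ φ x)) :
    Function.Injective (φ.app W) := by
  intro s s' hss
  apply sec_ext
  intro x hx
  apply h x hx
  rw [RefHull.stalkMapₗ_germ, RefHull.stalkMapₗ_germ, hss]

/-- a morphism which is bijective on the stalks at the points of `W` is bijective on the sections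
over `W` -/
theorem bijective_app_of_stalk {A B : X.Modules} (φ : A ⟶ B) (W : X.Opens)
    (h : ∀ x ∈ W, Function.Bijective (RefHull.stalkMapₗ φ x)) :
    Function.Bijective (φ.app W) := by
  refine ⟨injective_app_of_stalk φ W (fun x hx => (h x hx).1), ?_⟩
  intro t
  -- local preimages
  have hloc : ∀ x : W, ∃ (V : X.Opens) (hV : V ≤ W) (_ : x.1 ∈ V) (s : Γ(A, V)),
      φ.app V s = B.presheaf.map (homOfLE hV).op t := by
    intro x
    obtain ⟨a, ha⟩ := (h x.1 x.2).2 (B.presheaf.germ W x.1 x.2 t)
    obtain ⟨V₀, hxV₀, s₀, rfl⟩ := TopCat.Presheaf.exists_germ_eq A.presheaf a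
    have hxV₁ : x.1 ∈ V₀ ⊓ W := ⟨hxV₀, x.2⟩
    have h1 : B.presheaf.germ (V₀ ⊓ W) x.1 hxV₁
        (φ.app (V₀ ⊓ W) (A.presheaf.map (homOfLE inf_le_left).op s₀)) =
        B.presheaf.germ (V₀ ⊓ W) x.1 hxV₁ (B.presheaf.map (homOfLE inf_le_right).op t) := by
      rw [← RefHull.stalkMapₗ_germ, germ_res A, ha, germ_res B]
    obtain ⟨V, hxV, i1, i2, heq⟩ := TopCat.Presheaf.germ_eq B.presheaf x.1 hxV₁ hxV₁ _ _ h1
    have hVW : V ≤ W := i1.le.trans inf_le_right
    refine ⟨V, hVW, hxV, A.presheaf.map (homOfLE (i1.le.trans inf_le_left)).op s₀, ?_⟩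
    have e1 : φ.app V (A.presheaf.map (homOfLE (i1.le.trans inf_le_left)).op s₀) =
        B.presheaf.map i1.op (φ.app (V₀ ⊓ W) (A.presheaf.map (homOfLE inf_le_left).op s₀)) := by
      rw [← res_res A (inf_le_left : V₀ ⊓ W ≤ V₀) i1.le]
      exact hom_res φ i1.le _
    rw [e1, heq]
    exact res_res B inf_le_right i1.le t
  choose V hV hxV s hs using hloc
  obtain ⟨r, hr⟩ := exists_glue_pts A V hV hxV s (by
    intro x y
    apply injective_app_of_stalk φ (V x ⊓ V y)
      (fun z hz => (h z (hV x hz.1)).1)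
    rw [hom_res, hom_res, hs, hs, res_res, res_res])
  refine ⟨r, ?_⟩
  apply eq_of_locally_eq_pts B
  intro x hx
  refine ⟨V ⟨x, hx⟩, hV ⟨x, hx⟩, hxV ⟨x, hx⟩, ?_⟩
  rw [← hs ⟨x, hx⟩, ← hr ⟨x, hx⟩]
  exact (hom_res φ (hV ⟨x, hx⟩) r).symm

end Groth.Agent.Lib.Helper64.StalkIso
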