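import Groth.Agent.Lib.Helper64.StalkFrac
import Groth.Agent.Lib.Helper64.CDivLocal
import Groth.Agent.Lib.Helper64.LocFact

/-!
# Weil divisors on an affine factorial scheme are principal (helper64)

`ordHomU z : KUnits X →* Multiplicative ℤ`, `secUnit`, `ord_secUnit_of_not_mem`,
`ord_secUnit_of_span_eq`, `exists_generator_of_coheight_one`, `exists_principal_of_ufd`.
-/

set_option autoImplicit false
set_option linter.style.haveILetI false
universe u

namespace Groth.Agent.Lib.Helper64.WeilPrincipal

open AlgebraicGeometry CategoryTheory TopologicalSpace IsLocalRing CDiv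
open Groth.Agent.Lib.Helper64.CDivLib Groth.Agent.Lib.Helper64.DepthOne
open Groth.Agent.Lib.Helper64.StalkFrac Groth.Agent.Lib.Helper64.CDivLocal
open Groth.Agent.Lib.Helper64.LocFact

variable {X : Scheme.{u}} [IsIntegral X] [IsLocallyNoetherian X]

/-- the order at `z` as a group homomorphism on nonzero rational functions -/
noncomputable def ordHomU (z : X) : KUnits X →* Multiplicative ℤ where
  toFun f := Multiplicative.ofAdd (Scheme.ord (f : X.functionField) z)
  map_one' := by
    rw [ord_eq_zero_of_mem_stalkUnits 1 (one_mem _)]; rfl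
  map_mul' f g := by
    rw [Units.val_mul, Scheme.ord_mul f.ne_zero g.ne_zero, ofAdd_add]

theorem ordHomU_apply (z : X) (f : KUnits X) :
    Multiplicative.toAdd (ordHomU z f) = Scheme.ord (f : X.functionField) z := rfl

section Affine

variable {U : X.Opens} (hU : IsAffineOpen U) [Nonempty U]

/-- the rational function of a nonzero section -/
noncomputable def secUnit (a : Γ(X, U)) (ha : a ≠ 0) : KUnits X :=
  haveI := functionField_isFractionRing_of_isAffineOpen X U hU
  Units.mk0 (algebraMap Γ(X, U) X.functionField a)
    (by rwa [Ne, map_eq_zero_iff _ (IsFractionRing.injective Γ(X, U) X.functionField)])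

/-- a section outside the prime of `z` has order zero at `z` -/
theorem ord_secUnit_of_not_mem (a : Γ(X, U)) (ha : a ≠ 0) (z : X) (hz : z ∈ U)
    (haz : a ∉ pr hU z hz) : Scheme.ord (secUnit hU a ha : X.functionField) z = 0 := by
  apply ord_eq_zero_of_mem_stalkUnits
  have hu : IsUnit (X.presheaf.germ U z hz a) :=
    (X.mem_basicOpen a z hz).mp ((not_mem_pr_iff hU z hz a).mp haz)
  exact mem_stalkUnits_of_germ a _ rfl z hz hu

/-- a generator of the prime of a codimension-one point `z` has order one at `z` -/
theorem ord_secUnit_of_span_eq (a : Γ(X, U)) (ha : a ≠ 0) (z : X) (hz : z ∈ U)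
    (hcz : Order.coheight z = 1) (haz : pr hU z hz = Ideal.span {a}) :
    Scheme.ord (secUnit hU a ha : X.functionField) z = 1 := by
  letI : Algebra Γ(X, U) (X.presheaf.stalk z) :=
    TopCat.Presheaf.algebra_section_stalk X.presheaf ⟨z, hz⟩
  haveI : IsLocalization.AtPrime (X.presheaf.stalk z) (pr hU z hz) :=
    hU.isLocalization_stalk ⟨z, hz⟩
  have hmax : maximalIdeal (X.presheaf.stalk z) =
      Ideal.span {algebraMap Γ(X, U) (X.presheaf.stalk z) a} := by
    rw [← IsLocalization.AtPrime.map_eq_maximalIdeal (pr hU z hz) (X.presheaf.stalk z), haz,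
      Ideal.map_span, Set.image_singleton]
  have hdim : ringKrullDim (X.presheaf.stalk z) = 1 := by
    rw [AlgebraicGeometry.ringKrullDim_stalk_eq_coheight, hcz]; rfl
  have hnf : ¬ IsField (X.presheaf.stalk z) := by
    intro hf
    letI := hf.toField
    rw [ringKrullDim_eq_zero_of_field] at hdim
    exact zero_ne_one hdim
  have hdvr : IsDiscreteValuationRing (X.presheaf.stalk z) :=
    ((IsDiscreteValuationRing.TFAE (X.presheaf.stalk z) hnf).out 4 0).mp
      (⟨_, hmax⟩ : (maximalIdeal (X.presheaf.stalk z)).IsPrincipal)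
  refine ord_eq_one_of_span_eq hdvr hcz _ _ hmax ?_
  exact Scheme.algebraMap_germ_eq_germToFunctionField X hz a

omit [IsLocallyNoetherian X] in
/-- on an affine open with factorial coordinate ring, the prime of a codimension-one point is
principal -/
theorem exists_generator_of_coheight_one [UniqueFactorizationMonoid Γ(X, U)] (y : X) (hy : y ∈ U)
    (hcy : Order.coheight y = 1) : ∃ a : Γ(X, U), a ≠ 0 ∧ pr hU y hy = Ideal.span {a} := by
  letI : Algebra Γ(X, U) (X.presheaf.stalk y) :=
    TopCat.Presheaf.algebra_section_stalk X.presheaf ⟨y, hy⟩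
  haveI : IsLocalization.AtPrime (X.presheaf.stalk y) (pr hU y hy) :=
    hU.isLocalization_stalk ⟨y, hy⟩
  have hht : (pr hU y hy).height = 1 := by
    have h := IsLocalization.AtPrime.ringKrullDim_eq_height (pr hU y hy) (X.presheaf.stalk y)
    rw [AlgebraicGeometry.ringKrullDim_stalk_eq_coheight, hcy] at h
    exact_mod_cast h.symm
  obtain ⟨a, ha⟩ := (UniqueFactorizationMonoid.isPrincipal_of_height_eq_one hht).principal
  rw [Ideal.submodule_span_eq] at ha
  refine ⟨a, ?_, ha⟩
  rintro rfl
  rw [Ideal.span_singleton_zero] at ha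
  rw [ha, Ideal.height_bot] at hht
  exact zero_ne_one hht

end Affine


/-- **Weil divisors on an affine factorial scheme are principal.** -/
theorem exists_principal_of_ufd (hX : IsAffineOpen (⊤ : X.Opens))
    [UniqueFactorizationMonoid Γ(X, ⊤)] (D : X → ℤ)
    (hD : ∀ x, Order.coheight x ≠ 1 → D x = 0) (hfin : {x | D x ≠ 0}.Finite) :
    ∃ f : X.functionField, f ≠ 0 ∧
      ∀ x : X, Order.coheight x = 1 → Scheme.ord f x = D x := by
  classical
  haveI : Nonempty (⊤ : X.Opens) := ⟨⟨genericPoint X, trivial⟩⟩
  have key : ∀ y : X, Order.coheight y = 1 →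
      ∃ a : Γ(X, ⊤), a ≠ 0 ∧ pr hX y trivial = Ideal.span {a} := fun y hy =>
    exists_generator_of_coheight_one hX y trivial hy
  let g : X → KUnits X := fun y =>
    if h : Order.coheight y = 1 then
      secUnit hX (Classical.choose (key y h)) (Classical.choose_spec (key y h)).1
    else 1
  have hg : ∀ y z : X, Order.coheight y = 1 → Order.coheight z = 1 →
      Scheme.ord (g y : X.functionField) z = if y = z then 1 else 0 := by
    intro y z hy hz
    simp only [g, dif_pos hy]
    have hspan := (Classical.choose_spec (key y hy)).2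
    split_ifs with hyz
    · subst hyz
      exact ord_secUnit_of_span_eq hX _ _ y trivial hy hspan
    · apply ord_secUnit_of_not_mem hX _ _ z trivial
      intro hmem
      have hle : pr hX y trivial ≤ pr hX z trivial := by
        rw [hspan, Ideal.span_singleton_le_iff_mem]; exact hmem
      have hsp : y ⤳ z := (specializes_iff_le hX z y trivial trivial).mpr hle
      have hlt : z < y := lt_of_le_not_ge hsp fun hge => hyz (Specializes.antisymm hsp hge).eq
      have := Order.coheight_strictAnti hlt (by rw [hy]; exact ENat.one_lt_top)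
      rw [hy, hz] at this
      exact lt_irrefl _ this
  refine ⟨((∏ y ∈ hfin.toFinset, g y ^ D y : KUnits X) : X.functionField), Units.ne_zero _,
    fun z hz => ?_⟩
  rw [← ordHomU_apply, map_prod]
  simp only [map_zpow]
  rw [toAdd_prod]
  simp only [toAdd_zpow, ordHomU_apply, smul_eq_mul]
  have hsum : ∀ y ∈ hfin.toFinset, D y * Scheme.ord (g y : X.functionField) z =
      if y = z then D z else 0 := by
    intro y hyS
    have hy : Order.coheight y = 1 := by
      by_contra hne
      exact (hfin.mem_toFinset.mp hyS) (hD y hne)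
    rw [hg y z hy hz]
    split_ifs with hyz
    · rw [hyz, mul_one]
    · rw [mul_zero]
  rw [Finset.sum_congr rfl hsum, Finset.sum_ite_eq']
  split_ifs with hzS
  · rfl
  · rw [hfin.mem_toFinset, Set.mem_ofPred_eq, not_not] at hzS
    exact hzS.symm

end Groth.Agent.Lib.Helper64.WeilPrincipal
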