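import Groth.Agent.Lib.Helper64.Ref1Grp4
import Groth.Agent.Lib.Helper64.RegRefl

/-!
# The sheaf `O_X(D)` of a Weil divisor on a normal integral scheme (helper64)

For an integer valued function `D` on the points of a normal integral locally Noetherian scheme `X`, the
module `OD hX D` has as sections over `U` the rational functions `c` with `c = 0` or
`0 ≤ ord_y c + D y` at all points `y ∈ U` of codimension one (as constant functions on `U`).
-/

set_option autoImplicit false
set_option linter.style.haveILetI false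
set_option linter.unusedSectionVars false
universe u

open AlgebraicGeometry CategoryTheory Opposite TopologicalSpace

namespace Groth.Agent.Lib.Helper64.WeilSheaf

open Groth.Agent.Lib.Lead.QCohAff
open Groth.Agent.Lib.Helper64.RefExt Groth.Agent.Lib.Helper64.SecOrd

variable {X : Scheme.{u}} [IsIntegral X] [IsLocallyNoetherian X]

/-- the order condition defining the sections of `O_X(D)` over `U` -/
def OrdCond (D : X → ℤ) (U : X.Opens) (c : X.functionField) : Prop :=
  c ≠ 0 → ∀ y : X, y ∈ U → Order.coheight y = 1 → 0 ≤ Scheme.ord c y + D y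

theorem OrdCond.mono {D : X → ℤ} {U V : X.Opens} (h : V ≤ U) {c : X.functionField}
    (hc : OrdCond D U c) : OrdCond D V c :=
  fun hc0 y hy hy1 => hc hc0 y (h hy) hy1

theorem ordCond_zero (D : X → ℤ) (U : X.Opens) : OrdCond D U 0 := fun h => absurd rfl h

theorem OrdCond.add (hX : Pi1.IsNormalScheme X) {D : X → ℤ} {U : X.Opens} {c c' : X.functionField}
    (hc : OrdCond D U c) (hc' : OrdCond D U c') : OrdCond D U (c + c') := by
  intro hne y hy hy1
  by_cases h0 : c = 0
  · rw [h0, zero_add] at hne ⊢
    exact hc' hne y hy hy1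
  by_cases h0' : c' = 0
  · rw [h0', add_zero] at hne ⊢
    exact hc hne y hy hy1
  haveI := Groth.Agent.Lib.Helper64.CDivLocal.dvr_of_coheight_one hX y hy1
  have h1 := Scheme.ord_add (x := y) hne
  have h2 := hc h0 y hy hy1
  have h3 := hc' h0' y hy hy1
  rcases min_le_iff.1 h1 with h | h <;> omega

/-- the germ of a function as a rational function -/
theorem algebraMap_germ {U : X.Opens} (x : X) (hx : x ∈ U) (r : Γ(X, U)) :
    algebraMap (X.presheaf.stalk x) X.functionField (X.presheaf.germ U x hx r) =
      X.presheaf.germ U (genericPoint X) (genericPoint_mem hx) r := by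
  rw [← sp_algebraMap]
  exact ConcreteCategory.congr_hom (X.presheaf.germ_stalkSpecializes hx (spη x)) r

theorem ord_germ_nonneg {U : X.Opens} (y : X) (hy : y ∈ U) (hy1 : Order.coheight y = 1)
    (r : Γ(X, U)) (hr : X.presheaf.germ U (genericPoint X) (genericPoint_mem hy) r ≠ 0) :
    0 ≤ Scheme.ord (X.presheaf.germ U (genericPoint X) (genericPoint_mem hy) r) y := by
  rw [← algebraMap_germ y hy r] at hr ⊢
  exact Groth.Agent.S2876.ord_nonneg_of_mem_range hy1 (Units.mk0 _ hr) ⟨_, rfl⟩

theorem OrdCond.smul {D : X → ℤ} {U : X.Opens} {c : X.functionField} (hc : OrdCond D U c)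
    (hη : genericPoint X ∈ U) (r : Γ(X, U)) :
    OrdCond D U (X.presheaf.germ U (genericPoint X) hη r * c) := by
  intro hne y hy hy1
  have hr0 : X.presheaf.germ U (genericPoint X) hη r ≠ 0 := left_ne_zero_of_mul hne
  have hc0 : c ≠ 0 := right_ne_zero_of_mul hne
  rw [Scheme.ord_mul hr0 hc0]
  have h1 := ord_germ_nonneg y hy hy1 r hr0
  have h2 := hc hc0 y hy hy1
  omega

/-- the local predicate defining `O_X(D)` -/
def predD (D : X → ℤ) : TopCat.LocalPredicate (fun _ : X => X.functionField) where
  pred {U} f := ∃ c : X.functionField, (∀ x, f x = c) ∧ OrdCond D U c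
  res {V U} i f := by
    rintro ⟨c, hc, hord⟩
    exact ⟨c, fun x => hc _, hord.mono i.le⟩
  locality {U} f h := by
    by_cases hη : genericPoint X ∈ U
    · refine ⟨f ⟨genericPoint X, hη⟩, fun x => ?_, fun hne y hy hy1 => ?_⟩
      · obtain ⟨V, hxV, i, c, hc, -⟩ := h x
        have hηV : genericPoint X ∈ V := genericPoint_mem hxV
        have h1 := hc ⟨x.1, hxV⟩
        have h2 := hc ⟨genericPoint X, hηV⟩
        exact h1.trans h2.symm
      · obtain ⟨V, hyV, i, c, hc, hord⟩ := h ⟨y, hy⟩
        have hηV : genericPoint X ∈ V := genericPoint_mem hyV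
        have h2 : f ⟨genericPoint X, hη⟩ = c := hc ⟨genericPoint X, hηV⟩
        rw [h2] at hne ⊢
        exact hord hne y hyV hy1
    · exact ⟨0, fun x => absurd (genericPoint_mem x.2) hη, ordCond_zero D U⟩

theorem isModPred (hX : Pi1.IsNormalScheme X) (D : X → ℤ) : Mero.IsModPred (predD D) where
  zero U := ⟨0, fun _ => rfl, ordCond_zero D U⟩
  add U f g := by
    rintro ⟨c, hc, hord⟩ ⟨c', hc', hord'⟩
    exact ⟨c + c', fun x => by rw [Pi.add_apply, hc, hc'], hord.add hX hord'⟩
  smul U r f := by
    rintro ⟨c, hc, hord⟩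
    by_cases hη : genericPoint X ∈ U
    · refine ⟨X.presheaf.germ U (genericPoint X) hη r * c, fun x => ?_, hord.smul hη r⟩
      change X.presheaf.germ U x.1 x.2 r • f x = _
      rw [hc, Algebra.smul_def, algebraMap_germ]
    · exact ⟨0, fun x => absurd (genericPoint_mem x.2) hη, ordCond_zero D U⟩

/-- the module `O_X(D)` -/
noncomputable abbrev OD (hX : Pi1.IsNormalScheme X) (D : X → ℤ) : X.Modules :=
  @Mero.modOf X (fun _ : X => X.functionField) _ _ (predD D) (isModPred hX D)

end Groth.Agent.Lib.Helper64.WeilSheaf
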