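import Groth.Agent.Lib.Helper64.WeilSheaf1

/-!
# Sections and germs of `O_X(D)` (helper64)
-/

set_option autoImplicit false
set_option linter.style.haveILetI false
set_option linter.unusedSectionVars false
universe u

open AlgebraicGeometry CategoryTheory Opposite TopologicalSpace

namespace Groth.Agent.Lib.Helper64.WeilSheaf

open Groth.Agent.Lib.Lead.QCohAff
open Groth.Agent.Lib.Helper64.RefExt Groth.Agent.Lib.Helper64.SecOrd

variable {X : Scheme.{u}} [IsIntegral X] [IsLocallyNoetherian X]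
variable (hX : Pi1.IsNormalScheme X) (D : X → ℤ)

/-- the value of a section of `O_X(D)` at a point -/
def val {U : X.Opens} (s : Γ(OD hX D, U)) (x : X) (hx : x ∈ U) : X.functionField := s.1 ⟨x, hx⟩

variable {hX D}

theorem val_const {U : X.Opens} (s : Γ(OD hX D, U)) (x y : X) (hx : x ∈ U) (hy : y ∈ U) :
    val hX D s x hx = val hX D s y hy := by
  obtain ⟨c, hc, -⟩ := s.2
  exact (hc _).trans (hc _).symm

theorem ordCond_val {U : X.Opens} (s : Γ(OD hX D, U)) (x : X) (hx : x ∈ U) :
    OrdCond D U (val hX D s x hx) := by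
  obtain ⟨c, hc, hord⟩ := s.2
  have : val hX D s x hx = c := hc _
  rw [this]
  exact hord

theorem sec_ext {U : X.Opens} (s t : Γ(OD hX D, U)) (x : X) (hx : x ∈ U)
    (h : val hX D s x hx = val hX D t x hx) : s = t := by
  apply Subtype.ext
  funext y
  have h1 := val_const s y.1 x y.2 hx
  have h2 := val_const t y.1 x y.2 hx
  exact h1.trans (h.trans h2.symm)

theorem sec_ext_of_empty {U : X.Opens} (s t : Γ(OD hX D, U)) (h : genericPoint X ∉ U) : s = t := by
  apply Subtype.ext
  funext y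
  exact absurd (genericPoint_mem y.2) h

variable (hX)

/-- the section with a given value -/
def mkSec {U : X.Opens} (c : X.functionField) (h : OrdCond D U c) : Γ(OD hX D, U) :=
  ⟨fun _ => c, c, fun _ => rfl, h⟩

variable {hX}

@[simp] theorem val_mkSec {U : X.Opens} (c : X.functionField) (h : OrdCond D U c) (x : X)
    (hx : x ∈ U) : val hX D (mkSec hX c h) x hx = c := rfl

theorem val_res {U V : X.Opens} (hVU : V ≤ U) (s : Γ(OD hX D, U)) (x : X) (hx : x ∈ V) :
    val hX D ((OD hX D).presheaf.map (homOfLE hVU).op s) x hx = val hX D s x (hVU hx) := rfl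

theorem val_smul {U : X.Opens} (r : Γ(X, U)) (s : Γ(OD hX D, U)) (x : X) (hx : x ∈ U) :
    val hX D (r • s) x hx =
      X.presheaf.germ U (genericPoint X) (genericPoint_mem hx) r * val hX D s x hx := by
  change X.presheaf.germ U x hx r • s.1 ⟨x, hx⟩ = _
  rw [Algebra.smul_def, algebraMap_germ]
  rfl

theorem val_add {U : X.Opens} (s t : Γ(OD hX D, U)) (x : X) (hx : x ∈ U) :
    val hX D (s + t) x hx = val hX D s x hx + val hX D t x hx := rfl

theorem val_zero {U : X.Opens} (x : X) (hx : x ∈ U) :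
    val hX D (0 : Γ(OD hX D, U)) x hx = 0 := rfl

/-- germs of sections of `O_X(D)` are determined by their values -/
theorem germ_eq_of_val_eq {U V : X.Opens} (x : X) (hxU : x ∈ U) (hxV : x ∈ V)
    (s : Γ(OD hX D, U)) (t : Γ(OD hX D, V)) (h : val hX D s x hxU = val hX D t x hxV) :
    (OD hX D).presheaf.germ U x hxU s = (OD hX D).presheaf.germ V x hxV t := by
  rw [← germ_res (OD hX D) (inf_le_left : U ⊓ V ≤ U) x ⟨hxU, hxV⟩,
    ← germ_res (OD hX D) (inf_le_right : U ⊓ V ≤ V) x ⟨hxU, hxV⟩]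
  congr 1
  exact sec_ext _ _ x ⟨hxU, hxV⟩ h

theorem val_eq_of_germ_eq {U V : X.Opens} (x : X) (hxU : x ∈ U) (hxV : x ∈ V)
    (s : Γ(OD hX D, U)) (t : Γ(OD hX D, V))
    (h : (OD hX D).presheaf.germ U x hxU s = (OD hX D).presheaf.germ V x hxV t) :
    val hX D s x hxU = val hX D t x hxV := by
  obtain ⟨W, hxW, iU, iV, hres⟩ := TopCat.Presheaf.germ_eq (OD hX D).presheaf x hxU hxV s t h
  have h1 : val hX D ((OD hX D).presheaf.map iU.op s) x hxW = val hX D s x hxU := rfl
  have h2 : val hX D ((OD hX D).presheaf.map iV.op t) x hxW = val hX D t x hxV := rfl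
  rw [← h1, ← h2, hres]

end Groth.Agent.Lib.Helper64.WeilSheaf
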