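import Groth.Agent.Lib.Helper64.WeilSheaf2

/-!
# Stalks of `O_X(D)`: the value map, torsion-freeness, the Hartogs property (helper64)
-/

set_option autoImplicit false
set_option linter.style.haveILetI false
set_option linter.unusedSectionVars false
universe u

open AlgebraicGeometry CategoryTheory Opposite TopologicalSpace

namespace Groth.Agent.Lib.Helper64.WeilSheaf

open Groth.Agent.Lib.Lead.QCohAff
open Groth.Agent.Lib.Helper64.RefExt Groth.Agent.Lib.Helper64.SecOrd

variable {X : Scheme.{u}} [IsIntegral X] [IsLocallyNoetherian X]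
variable (hX : Pi1.IsNormalScheme X) (D : X → ℤ)

/-- the value of an element of the stalk of `O_X(D)` -/
noncomputable def stalkVal (x : X) (m : (OD hX D).presheaf.stalk x) : X.functionField :=
  val hX D (TopCat.Presheaf.exists_germ_eq (OD hX D).presheaf m).choose_spec.choose_spec.choose x
    (TopCat.Presheaf.exists_germ_eq (OD hX D).presheaf m).choose_spec.choose

variable {hX D}

theorem stalkVal_germ {U : X.Opens} (x : X) (hx : x ∈ U) (s : Γ(OD hX D, U)) :
    stalkVal hX D x ((OD hX D).presheaf.germ U x hx s) = val hX D s x hx := by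
  have h := (TopCat.Presheaf.exists_germ_eq (OD hX D).presheaf
    ((OD hX D).presheaf.germ U x hx s)).choose_spec.choose_spec.choose_spec
  exact val_eq_of_germ_eq x _ hx _ s h

theorem stalkVal_injective (x : X) : Function.Injective (stalkVal hX D x) := by
  intro m m' h
  obtain ⟨U, hxU, s, rfl⟩ := TopCat.Presheaf.exists_germ_eq (OD hX D).presheaf m
  obtain ⟨V, hxV, t, rfl⟩ := TopCat.Presheaf.exists_germ_eq (OD hX D).presheaf m'
  rw [stalkVal_germ, stalkVal_germ] at h
  exact germ_eq_of_val_eq x hxU hxV s t h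

theorem stalkVal_smul (x : X) (a : X.presheaf.stalk x) (m : (OD hX D).presheaf.stalk x) :
    stalkVal hX D x (a • m) = algebraMap (X.presheaf.stalk x) X.functionField a * stalkVal hX D x m := by
  obtain ⟨U, hxU, s, rfl⟩ := TopCat.Presheaf.exists_germ_eq (OD hX D).presheaf m
  obtain ⟨V, hxV, r, rfl⟩ := TopCat.Presheaf.exists_germ_eq X.presheaf a
  have hxW : x ∈ V ⊓ U := ⟨hxV, hxU⟩
  rw [← germX_res (inf_le_left : V ⊓ U ≤ V) x hxW, ← germ_res (OD hX D) (inf_le_right : V ⊓ U ≤ U) x hxW,
    ← germ_smul, stalkVal_germ, stalkVal_germ, val_smul, algebraMap_germ]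

theorem stalkVal_add (x : X) (m m' : (OD hX D).presheaf.stalk x) :
    stalkVal hX D x (m + m') = stalkVal hX D x m + stalkVal hX D x m' := by
  obtain ⟨U, hxU, s, rfl⟩ := TopCat.Presheaf.exists_germ_eq (OD hX D).presheaf m
  obtain ⟨V, hxV, t, rfl⟩ := TopCat.Presheaf.exists_germ_eq (OD hX D).presheaf m'
  have hxW : x ∈ U ⊓ V := ⟨hxU, hxV⟩
  rw [← germ_res (OD hX D) (inf_le_left : U ⊓ V ≤ U) x hxW,
    ← germ_res (OD hX D) (inf_le_right : U ⊓ V ≤ V) x hxW, ← map_add, stalkVal_germ, stalkVal_germ,
    stalkVal_germ, val_add]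

theorem stalkVal_zero (x : X) : stalkVal hX D x 0 = 0 := by
  have h : (0 : (OD hX D).presheaf.stalk x) = (OD hX D).presheaf.germ ⊤ x trivial 0 := (map_zero _).symm
  rw [h, stalkVal_germ]
  rfl

theorem stalkVal_sp {x y : X} (h : y ⤳ x) (m : (OD hX D).presheaf.stalk x) :
    stalkVal hX D y (((OD hX D).presheaf.stalkSpecializes h).hom m) = stalkVal hX D x m := by
  obtain ⟨U, hxU, s, rfl⟩ := TopCat.Presheaf.exists_germ_eq (OD hX D).presheaf m
  rw [sp_germ, stalkVal_germ, stalkVal_germ]
  exact val_const s _ _ _ _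

theorem isTorsionFree : TorSh.IsTorsionFree (OD hX D) := by
  intro x
  refine ⟨fun r hr m m' h => ?_⟩
  apply stalkVal_injective x
  have h1 := congrArg (stalkVal hX D x) h
  simp only [stalkVal_smul] at h1
  have hr0 : algebraMap (X.presheaf.stalk x) X.functionField r ≠ 0 := by
    intro h0
    have : r = 0 := IsFractionRing.injective (X.presheaf.stalk x) X.functionField
      (h0.trans (map_zero _).symm)
    exact hr.ne_zero this
  exact mul_left_cancel₀ hr0 h1

theorem not_two_le_of_coheight_one (y : X) (hy : Order.coheight y = 1) :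
    ¬ (2 : WithBot ℕ∞) ≤ ringKrullDim (X.presheaf.stalk y) := by
  intro h
  refine Groth.Agent.Lib.Helper64.RegRefl.not_le_one_of_two_le h ?_
  rw [AlgebraicGeometry.ringKrullDim_stalk_eq_coheight, hy]
  rfl

theorem not_two_le_genericPoint :
    ¬ (2 : WithBot ℕ∞) ≤ ringKrullDim (X.presheaf.stalk (genericPoint X)) := by
  intro h
  refine Groth.Agent.Lib.Helper64.RegRefl.not_le_one_of_two_le h ?_
  have : ringKrullDim (X.presheaf.stalk (genericPoint X)) = 0 :=
    ringKrullDim_eq_zero_of_field X.functionField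
  rw [this]
  exact zero_le_one

/-- the Hartogs property of `O_X(D)` -/
theorem bijective_res {U V : X.Opens} (hVU : V ≤ U)
    (hdim : ∀ x : X, x ∈ U → x ∉ V → (2 : WithBot ℕ∞) ≤ ringKrullDim (X.presheaf.stalk x)) :
    Function.Bijective ((OD hX D).presheaf.map (homOfLE hVU).op) := by
  have hη : genericPoint X ∈ U → genericPoint X ∈ V := by
    intro h
    by_contra h'
    exact not_two_le_genericPoint (hdim _ h h')
  constructor
  · intro s t hst
    by_cases hηU : genericPoint X ∈ U
    · apply sec_ext s t _ hηU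
      have h1 := val_res hVU s _ (hη hηU)
      have h2 := val_res hVU t _ (hη hηU)
      rw [← h1, ← h2, hst]
    · exact sec_ext_of_empty s t hηU
  · intro t
    by_cases hηV : genericPoint X ∈ V
    · have hord : OrdCond D U (val hX D t _ hηV) := by
        intro hne y hy hy1
        have hyV : y ∈ V := by
          by_contra h'
          exact not_two_le_of_coheight_one y hy1 (hdim y hy h')
        exact ordCond_val t _ hηV hne y hyV hy1
      refine ⟨mkSec hX _ hord, ?_⟩
      apply sec_ext _ _ _ hηV
      rfl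
    · exact ⟨0, sec_ext_of_empty _ _ hηV⟩

end Groth.Agent.Lib.Helper64.WeilSheaf
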