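import Groth.Agent.Lib.Helper64.WeilSheaf3
import Groth.Agent.Lib.Helper64.LocFact
import Groth.Agent.Lib.Lead.SheafPts

/-!
# Algebraic Hartogs for rational functions and denominators for `O_X(D)` (helper64)
-/

set_option autoImplicit false
set_option linter.style.haveILetI false
set_option linter.unusedSectionVars false
universe u

open AlgebraicGeometry CategoryTheory Opposite TopologicalSpace

namespace Groth.Agent.Lib.Helper64.WeilSheaf

open Groth.Agent.Lib.Lead.QCohAff Groth.Agent.Lib.Lead.SheafGlue
open Groth.Agent.Lib.Helper64.RefExt Groth.Agent.Lib.Helper64.SecOrd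

variable {X : Scheme.{u}} [IsIntegral X] [IsLocallyNoetherian X]

/-- a rational function with nonnegative orders at the codimension one generizations of `x` is regular
at `x` -/
theorem mem_range_of_forall_ord_nonneg (hX : Pi1.IsNormalScheme X) (x : X) (c : X.functionField)
    (hc : c ≠ 0) (h : ∀ z : X, z ⤳ x → Order.coheight z = 1 → 0 ≤ Scheme.ord c z) :
    c ∈ Set.range (algebraMap (X.presheaf.stalk x) X.functionField) := by
  have heff := Groth.Agent.Lib.Helper64.CDivLocal.isEffectiveAt_of_forall_ord_nonneg hX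
    (CDiv.div (Units.mk0 c hc)) x (fun z hzx hz f hf => by
      rw [Groth.Agent.Lib.Helper64.LocFact.ord_eq_of_germOf_eq z (Units.mk0 c hc) f hf]
      exact h z hzx hz)
  exact Groth.Agent.S2876.coe_mem_range_of_isEffectiveAt _ x (Units.mk0 c hc) rfl heff

/-- a rational function with nonnegative orders at the points of codimension one of `U` is a regular
function on `U` -/
theorem exists_section_of_forall_ord_nonneg (hX : Pi1.IsNormalScheme X) (U : X.Opens)
    (hη : genericPoint X ∈ U) (c : X.functionField)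
    (h : c ≠ 0 → ∀ y : X, y ∈ U → Order.coheight y = 1 → 0 ≤ Scheme.ord c y) :
    ∃ a : Γ(X, U), X.presheaf.germ U (genericPoint X) hη a = c := by
  by_cases hc : c = 0
  · exact ⟨0, by rw [map_zero, hc]⟩
  have hloc : ∀ x : U, ∃ (V : X.Opens) (hVU : V ≤ U) (hxV : x.1 ∈ V) (r : Γ(X, V)),
      X.presheaf.germ V (genericPoint X) (genericPoint_mem hxV) r = c := by
    intro x
    obtain ⟨a, ha⟩ := mem_range_of_forall_ord_nonneg hX x.1 c hc (fun z hzx hz =>
      h hc z (hzx.mem_open U.isOpen x.2) hz)
    obtain ⟨V', hxV', r', rfl⟩ := TopCat.Presheaf.exists_germ_eq X.presheaf a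
    refine ⟨V' ⊓ U, inf_le_right, ⟨hxV', x.2⟩,
      X.presheaf.map (homOfLE (inf_le_left : V' ⊓ U ≤ V')).op r', ?_⟩
    rw [germX_res, ← ha, algebraMap_germ]
  choose V hVU hxV r hr using hloc
  obtain ⟨a, ha⟩ := exists_glue_ptsX V hVU hxV r (by
    intro x y
    have hηxy : genericPoint X ∈ V x ⊓ V y := ⟨genericPoint_mem (hxV x), genericPoint_mem (hxV y)⟩
    apply germ_injective_of_isIntegral X (genericPoint X) hηxy
    change X.presheaf.germ _ _ hηxy (X.presheaf.map (homOfLE inf_le_left).op (r x)) =
      X.presheaf.germ _ _ hηxy (X.presheaf.map (homOfLE inf_le_right).op (r y))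
    rw [germX_res, germX_res, hr, hr])
  refine ⟨a, ?_⟩
  rw [← hr ⟨genericPoint X, hη⟩, ← ha ⟨genericPoint X, hη⟩, germX_res]

theorem ord_pow (c : X.functionField) (hc : c ≠ 0) (y : X) (n : ℕ) :
    Scheme.ord (c ^ n) y = n * Scheme.ord c y := by
  induction n with
  | zero => rw [pow_zero, ord_one]; simp
  | succ n ih =>
    rw [pow_succ, Scheme.ord_mul (pow_ne_zero n hc) hc, ih]
    push_cast
    ring

end Groth.Agent.Lib.Helper64.WeilSheaf
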