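import Groth.Agent.Lib.Helper64.WeilSheaf4

/-!
# Denominators for `O_X(D)` on affine opens (helper64)
-/

set_option autoImplicit false
set_option linter.style.haveILetI false
set_option linter.unusedSectionVars false
universe u

open AlgebraicGeometry CategoryTheory Opposite TopologicalSpace

namespace Groth.Agent.Lib.Helper64.WeilSheaf

open Groth.Agent.Lib.Lead.QCohAff Groth.Agent.Lib.Lead.SheafGlue
open Groth.Agent.Lib.Helper64.RefExt Groth.Agent.Lib.Helper64.SecOrd

variable {X : Scheme.{u}} [IsIntegral X] [IsLocallyNoetherian X]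

/-- locally finite support -/
def LocFinSupp (D : X → ℤ) : Prop :=
  ∀ x : X, ∃ W : X.Opens, x ∈ W ∧ {z : X | z ∈ W ∧ D z ≠ 0}.Finite

theorem finite_supp_of_isCompact {D : X → ℤ} (hD : LocFinSupp D) (U : X.Opens)
    (hU : IsCompact (U : Set X)) : {z : X | z ∈ U ∧ D z ≠ 0}.Finite := by
  have key : ((U : Set X) ∩ {z | D z ≠ 0}).Finite := by
    refine hU.induction_on (p := fun S => (S ∩ {z | D z ≠ 0}).Finite) ?_ ?_ ?_ ?_
    · rw [Set.empty_inter]
      exact Set.finite_empty
    · intro s t hst ht
      exact ht.subset (Set.inter_subset_inter_left _ hst)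
    · intro s t hs ht
      rw [Set.union_inter_distrib_right]
      exact hs.union ht
    · intro x _
      obtain ⟨W, hxW, hW⟩ := hD x
      exact ⟨W, mem_nhdsWithin_of_mem_nhds (W.isOpen.mem_nhds hxW), hW⟩
  exact key

theorem ne_genericPoint_of_coheight_one (y : X) (hy : Order.coheight y = 1) :
    y ≠ genericPoint X := by
  rintro rfl
  have h1 : ringKrullDim (X.presheaf.stalk (genericPoint X)) = 0 :=
    ringKrullDim_eq_zero_of_field X.functionField
  rw [AlgebraicGeometry.ringKrullDim_stalk_eq_coheight, hy] at h1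
  exact absurd h1 (by decide)

/-- a nonzero function on an affine open vanishing at a given point of codimension one -/
theorem exists_vanishing {U : X.Opens} (hU : IsAffineOpen U) (y : X) (hyU : y ∈ U)
    (hy : Order.coheight y = 1) :
    ∃ a : Γ(X, U), genericPoint X ∈ X.basicOpen a ∧ y ∉ X.basicOpen a := by
  have hne := ne_genericPoint_of_coheight_one y hy
  have hns : ¬ y ⤳ genericPoint X := by
    intro h
    exact hne (h.antisymm (spη y)).eq
  obtain ⟨S, hS, hηS, hyS⟩ := not_specializes_iff_exists_open.1 hns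
  obtain ⟨a, haV, hηa⟩ := hU.exists_basicOpen_le (V := ⟨S, hS⟩) ⟨genericPoint X, hηS⟩
    (genericPoint_mem hyU)
  exact ⟨a, hηa, fun h => hyS (haV h)⟩

theorem germ_ne_zero_of_mem_basicOpen {U : X.Opens} (a : Γ(X, U)) (hη : genericPoint X ∈ U)
    (h : genericPoint X ∈ X.basicOpen a) : X.presheaf.germ U (genericPoint X) hη a ≠ 0 :=
  ((X.mem_basicOpen a (genericPoint X) hη).1 h).ne_zero

theorem one_le_ord_of_not_mem_basicOpen (hX : Pi1.IsNormalScheme X) {U : X.Opens} (a : Γ(X, U))
    (hη : genericPoint X ∈ U) (ha : X.presheaf.germ U (genericPoint X) hη a ≠ 0) (y : X)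
    (hyU : y ∈ U) (hy : Order.coheight y = 1) (hya : y ∉ X.basicOpen a) :
    1 ≤ Scheme.ord (X.presheaf.germ U (genericPoint X) hη a) y := by
  have hdvr := Groth.Agent.Lib.Helper64.CDivLocal.dvr_of_coheight_one hX y hy
  have hmem : X.presheaf.germ U y hyU a ∈ IsLocalRing.maximalIdeal (X.presheaf.stalk y) := by
    rw [IsLocalRing.mem_maximalIdeal, mem_nonunits_iff]
    intro hu
    exact hya ((X.mem_basicOpen a y hyU).2 hu)
  exact Groth.Agent.Lib.Helper64.CDivLocal.one_le_ord_of_mem_maximalIdeal hdvr hy (Units.mk0 _ ha)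
    ⟨_, hmem, algebraMap_germ y hyU a⟩

/-- a common denominator: a function on an affine open with large orders at finitely many points of
codimension one -/
theorem exists_denominator (hX : Pi1.IsNormalScheme X) {U : X.Opens} (hU : IsAffineOpen U)
    (hη : genericPoint X ∈ U) (S : Finset X)
    (hS : ∀ y ∈ S, y ∈ U ∧ Order.coheight y = 1) (N : ℕ) :
    ∃ d : Γ(X, U), X.presheaf.germ U (genericPoint X) hη d ≠ 0 ∧
      ∀ y ∈ S, (N : ℤ) ≤ Scheme.ord (X.presheaf.germ U (genericPoint X) hη d) y := by
  classical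
  induction S using Finset.induction_on with
  | empty =>
    refine ⟨1, ?_, fun y hy => absurd hy (Finset.notMem_empty y)⟩
    rw [map_one]
    exact one_ne_zero
  | insert y S' hyS' ih =>
    obtain ⟨d', hd', hord'⟩ := ih (fun z hz => hS z (Finset.mem_insert_of_mem hz))
    obtain ⟨hyU, hy1⟩ := hS y (Finset.mem_insert_self y S')
    obtain ⟨a, hηa, hya⟩ := exists_vanishing hU y hyU hy1
    have ha := germ_ne_zero_of_mem_basicOpen a hη hηa
    refine ⟨d' * a ^ N, ?_, ?_⟩
    · rw [map_mul, map_pow]
      exact mul_ne_zero hd' (pow_ne_zero N ha)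
    · intro z hz
      rw [map_mul, map_pow, Scheme.ord_mul hd' (pow_ne_zero N ha), ord_pow _ ha]
      rcases Finset.mem_insert.1 hz with rfl | hz'
      · have h1 := ord_germ_nonneg z hyU hy1 d' hd'
        have h2 := one_le_ord_of_not_mem_basicOpen hX a hη ha z hyU hy1 hya
        nlinarith
      · obtain ⟨hzU, hz1⟩ := hS z hz
        have h1 := hord' z hz'
        have h2 := ord_germ_nonneg z hzU hz1 a ha
        nlinarith

end Groth.Agent.Lib.Helper64.WeilSheaf
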