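import Groth.Agent.Lib.Helper64.WeilSheaf5
import Groth.Agent.Lib.Helper64.HomSh3

/-!
# `O_X(D)` is coherent and reflexive (helper64)
-/

set_option autoImplicit false
set_option linter.style.haveILetI false
set_option linter.unusedSectionVars false
universe u

open AlgebraicGeometry CategoryTheory Opposite TopologicalSpace

namespace Groth.Agent.Lib.Helper64.WeilSheaf

open Groth.Agent.Lib.Lead.QCohAff Groth.Agent.Lib.Lead.SheafGlue
open Groth.Agent.Lib.Helper64.RefExt Groth.Agent.Lib.Helper64.SecOrd

variable {X : Scheme.{u}} [IsIntegral X] [IsLocallyNoetherian X]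
variable {hX : Pi1.IsNormalScheme X} {D : X → ℤ}

theorem finite_bad {U : X.Opens} (hU : IsAffineOpen U) (hD : LocFinSupp D) (c : X.functionField)
    (hc : c ≠ 0) :
    {y : X | y ∈ U ∧ Order.coheight y = 1 ∧ Scheme.ord c y + D y < 0}.Finite := by
  have h1 := finite_ord_ne_zero c hc hU
  have h2 := finite_supp_of_isCompact hD U hU.isCompact
  refine (h1.union h2).subset ?_
  rintro y ⟨hyU, hy1, hlt⟩
  by_cases h : Scheme.ord c y = 0
  · right
    refine ⟨hyU, ?_⟩
    intro h0
    rw [h, h0] at hlt
    exact absurd hlt (by decide)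
  · left
    exact ⟨hyU, hy1, h⟩

theorem locOn (hD : LocFinSupp D) {U : X.Opens} (hU : IsAffineOpen U) : LocOn (OD hX D) U := by
  classical
  refine ⟨fun f s hs => ?_, fun f t => ?_⟩
  · by_cases hηf : genericPoint X ∈ X.basicOpen f
    · refine ⟨0, ?_⟩
      rw [pow_zero, one_smul]
      have hηU : genericPoint X ∈ U := X.basicOpen_le f hηf
      apply sec_ext s 0 _ hηU
      have h1 := val_res (X.basicOpen_le f) s _ hηf
      rw [← h1, hs]
      rfl
    · refine ⟨1, ?_⟩
      rw [pow_one]
      by_cases hηU : genericPoint X ∈ U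
      · apply sec_ext _ 0 _ hηU
        rw [val_smul]
        have h0 : X.presheaf.germ U (genericPoint X) (genericPoint_mem hηU) f = 0 := by
          by_contra hne
          exact hηf ((X.mem_basicOpen f (genericPoint X) hηU).2
            ((isUnit_iff_ne_zero (G₀ := X.functionField)).2 hne))
        rw [h0, zero_mul]
        rfl
      · exact sec_ext_of_empty _ _ hηU
  · by_cases hηf : genericPoint X ∈ X.basicOpen f
    · have hηU : genericPoint X ∈ U := X.basicOpen_le f hηf
      have hfη : X.presheaf.germ U (genericPoint X) hηU f ≠ 0 :=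
        germ_ne_zero_of_mem_basicOpen f hηU hηf
      by_cases hc : val hX D t _ hηf = 0
      · refine ⟨0, 0, ?_⟩
        rw [map_zero, pow_zero, one_smul]
        apply sec_ext _ _ _ hηf
        rw [hc]
        rfl
      · have hfin := finite_bad hU hD _ hc
        set c := val hX D t _ hηf with hcdef
        let N : ℕ := ∑ y ∈ hfin.toFinset, (-(Scheme.ord c y + D y)).toNat
        have hN : ∀ y : X, y ∈ U → Order.coheight y = 1 → Scheme.ord c y + D y < 0 →
            -(Scheme.ord c y + D y) ≤ (N : ℤ) := by
          intro y hyU hy1 hlt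
          have hmem : y ∈ hfin.toFinset := hfin.mem_toFinset.2 ⟨hyU, hy1, hlt⟩
          have h1 : (-(Scheme.ord c y + D y)).toNat ≤ N :=
            Finset.single_le_sum (f := fun y => (-(Scheme.ord c y + D y)).toNat)
              (fun _ _ => Nat.zero_le _) hmem
          have h2 := Int.self_le_toNat (-(Scheme.ord c y + D y))
          omega
        have hord : OrdCond D U (X.presheaf.germ U (genericPoint X) hηU f ^ N * c) := by
          intro _ y hy hy1
          rw [Scheme.ord_mul (pow_ne_zero N hfη) hc, ord_pow _ hfη]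
          have hnn := ord_germ_nonneg y hy hy1 f hfη
          by_cases hyf : y ∈ X.basicOpen f
          · have h3 := ordCond_val t _ hηf hc y hyf hy1
            nlinarith
          · have h1 := one_le_ord_of_not_mem_basicOpen hX f hηU hfη y hy hy1 hyf
            by_cases hlt : Scheme.ord c y + D y < 0
            · have h4 := hN y hy hy1 hlt
              nlinarith
            · push Not at hlt
              nlinarith
        refine ⟨N, mkSec hX _ hord, ?_⟩
        apply sec_ext _ _ _ hηf
        rw [val_res, val_mkSec, val_smul, map_pow, germX_res]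
    · refine ⟨0, 0, ?_⟩
      exact sec_ext_of_empty _ _ hηf

theorem isQuasicoherent (hD : LocFinSupp D) : (OD hX D).IsQuasicoherent :=
  (Groth.Agent.Lib.Lead.QCohCrit.isQuasicoherent_iff_locOn _).2 (fun _ hU => locOn hD hU)

theorem finite_sections (hD : LocFinSupp D) {U : X.Opens} (hU : IsAffineOpen U)
    (hη : genericPoint X ∈ U) : Module.Finite Γ(X, U) Γ(OD hX D, U) := by
  classical
  haveI : Nonempty U := ⟨⟨genericPoint X, hη⟩⟩
  haveI : IsNoetherianRing Γ(X, U) := IsLocallyNoetherian.component_noetherian ⟨U, hU⟩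
  -- the value map
  let valₗ : Γ(OD hX D, U) →ₗ[Γ(X, U)] X.functionField :=
    { toFun := fun s => val hX D s _ hη
      map_add' := fun s t => val_add s t _ hη
      map_smul' := fun r s => by
        rw [val_smul, RingHom.id_apply, Algebra.smul_def]
        rfl }
  have hinj : Function.Injective valₗ := fun s t h => sec_ext s t _ hη h
  -- the denominator
  have hfin := finite_supp_of_isCompact hD U hU.isCompact
  let S : Finset X := hfin.toFinset.filter fun y => Order.coheight y = 1
  let N : ℕ := ∑ y ∈ S, (D y).toNat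
  obtain ⟨d, hd, hdS⟩ := exists_denominator hX hU hη S (fun y hy => by
    have h1 := (Finset.mem_filter.1 hy)
    exact ⟨(hfin.mem_toFinset.1 h1.1).1, h1.2⟩) N
  have hdall : ∀ y : X, y ∈ U → Order.coheight y = 1 →
      D y ≤ Scheme.ord (X.presheaf.germ U (genericPoint X) hη d) y := by
    intro y hyU hy1
    by_cases hDy : D y = 0
    · rw [hDy]
      exact ord_germ_nonneg y hyU hy1 d hd
    · have hyS : y ∈ S := Finset.mem_filter.2 ⟨hfin.mem_toFinset.2 ⟨hyU, hDy⟩, hy1⟩
      have h1 : (D y).toNat ≤ N :=
        Finset.single_le_sum (f := fun y => (D y).toNat) (fun _ _ => Nat.zero_le _) hyS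
      have h2 := Int.self_le_toNat (D y)
      have h3 := hdS y hyS
      omega
  let N' : Submodule Γ(X, U) X.functionField :=
    Submodule.span Γ(X, U) {(X.presheaf.germ U (genericPoint X) hη d)⁻¹}
  haveI : IsNoetherian Γ(X, U) N' := isNoetherian_span_of_finite Γ(X, U) (Set.finite_singleton _)
  have hmem : ∀ s, valₗ s ∈ N' := by
    intro s
    change val hX D s _ hη ∈ N'
    by_cases hc : val hX D s _ hη = 0
    · rw [hc]
      exact N'.zero_mem
    obtain ⟨a, ha⟩ := exists_section_of_forall_ord_nonneg hX U hη
      (X.presheaf.germ U (genericPoint X) hη d * val hX D s _ hη) (by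
        intro _ y hyU hy1
        rw [Scheme.ord_mul hd hc]
        have h1 := hdall y hyU hy1
        have h2 := ordCond_val s _ hη hc y hyU hy1
        omega)
    refine Submodule.mem_span_singleton.2 ⟨a, ?_⟩
    rw [Algebra.smul_def]
    change X.presheaf.germ U (genericPoint X) _ a * _ = _
    rw [ha, mul_comm, ← mul_assoc, inv_mul_cancel₀ hd, one_mul]
  exact Module.Finite.of_injective (LinearMap.codRestrict N' valₗ hmem)
    (fun s t h => hinj (congrArg Subtype.val h))

theorem isCoh (hD : LocFinSupp D) : Coh.IsCoh (OD hX D) := by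
  have hq : (OD hX D).IsQuasicoherent := isQuasicoherent hD
  refine ⟨hq, Groth.Agent.Lib.Helper64.CohAffine.isFiniteType_of_finite_sections _ fun x => ?_⟩
  obtain ⟨_, ⟨U, hU : IsAffineOpen U, rfl⟩, hxU, -⟩ :=
    (X.isBasis_affineOpens).exists_subset_of_mem_open (Set.mem_univ x) isOpen_univ
  exact ⟨U, hxU, hU, finite_sections hD hU (genericPoint_mem hxU)⟩

theorem isReflexive (hD : LocFinSupp D) : RefHull.IsReflexive (OD hX D) :=
  Groth.Agent.Lib.Helper64.RegRefl.isReflexive_of_torsionFree_of_normal hX (isCoh hD)
    isTorsionFree (fun _ _ hVU hdim => bijective_res hVU hdim)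

end Groth.Agent.Lib.Helper64.WeilSheaf
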