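import Groth.Agent.Lib.Helper64.WeilSheaf6

/-!
# `O_X(D)` has rank one and the divisor of its unit rational section is `D` (helper64)
-/

set_option autoImplicit false
set_option linter.style.haveILetI false
set_option linter.unusedSectionVars false
universe u

open AlgebraicGeometry CategoryTheory Opposite TopologicalSpace

namespace Groth.Agent.Lib.Helper64.WeilSheaf

open Groth.Agent.Lib.Lead.QCohAff Groth.Agent.Lib.Lead.SheafGlue
open Groth.Agent.Lib.Helper64.RefExt Groth.Agent.Lib.Helper64.SecOrd

variable {X : Scheme.{u}} [IsIntegral X] [IsLocallyNoetherian X]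
variable {hX : Pi1.IsNormalScheme X} {D : X → ℤ}

theorem eq_of_specializes_of_coheight_one {x y : X} (h : y ⤳ x) (hx : Order.coheight x = 1)
    (hy : Order.coheight y = 1) : y = x := by
  by_contra hne
  have hlt : x < y := by
    refine lt_of_le_not_ge h fun hge => ?_
    exact hne (Specializes.antisymm h hge).eq
  have := Order.coheight_strictAnti hlt (by rw [hy]; exact ENat.one_lt_top)
  rw [hx, hy] at this
  exact lt_irrefl _ this

/-- a rational function satisfying the order condition at the codimension one generizations of `x`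
is a section of `O_X(D)` near `x` -/
theorem exists_open_ordCond (hD : LocFinSupp D) (x : X) (c : X.functionField) (hc : c ≠ 0)
    (h : ∀ y : X, y ⤳ x → Order.coheight y = 1 → 0 ≤ Scheme.ord c y + D y) :
    ∃ V : X.Opens, x ∈ V ∧ OrdCond D V c := by
  obtain ⟨_, ⟨U, hU : IsAffineOpen U, rfl⟩, hxU, -⟩ :=
    (X.isBasis_affineOpens).exists_subset_of_mem_open (Set.mem_univ x) isOpen_univ
  have hfin := finite_bad hU hD c hc
  set B := {y : X | y ∈ U ∧ Order.coheight y = 1 ∧ Scheme.ord c y + D y < 0} with hB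
  have hC : IsClosed (⋃ y ∈ B, closure ({y} : Set X)) :=
    hfin.isClosed_biUnion fun _ _ => isClosed_closure
  refine ⟨⟨(U : Set X) \ ⋃ y ∈ B, closure ({y} : Set X), U.isOpen.sdiff hC⟩, ⟨hxU, ?_⟩, ?_⟩
  · intro hx
    simp only [Set.mem_iUnion] at hx
    obtain ⟨y, hyB, hxy⟩ := hx
    have hsp : y ⤳ x := specializes_iff_mem_closure.2 hxy
    have := h y hsp hyB.2.1
    exact absurd hyB.2.2 (not_lt.2 this)
  · intro _ y hy hy1
    by_contra hlt
    push Not at hlt
    have hyB : y ∈ B := ⟨hy.1, hy1, hlt⟩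
    apply hy.2
    simp only [Set.mem_iUnion]
    exact ⟨y, hyB, subset_closure rfl⟩

theorem algebraMap_generic (a : X.presheaf.stalk (genericPoint X)) :
    @algebraMap (X.presheaf.stalk (genericPoint X)) X.functionField _ _
      (stalkFunctionFieldAlgebra X (genericPoint X)) a = a := by
  obtain ⟨U, hU, r, rfl⟩ := TopCat.Presheaf.exists_germ_eq X.presheaf a
  exact algebraMap_germ _ hU r

/-- every rational function is the value of an element of the generic stalk -/
theorem exists_stalkVal_generic (hD : LocFinSupp D) (k : X.functionField) :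
    ∃ m : (OD hX D).presheaf.stalk (genericPoint X), stalkVal hX D (genericPoint X) m = k := by
  by_cases hk : k = 0
  · exact ⟨0, by rw [stalkVal_zero, hk]⟩
  obtain ⟨V, hηV, hord⟩ := exists_open_ordCond hD (genericPoint X) k hk (fun y hy hy1 => by
    have : y = genericPoint X := (hy.antisymm (spη y)).eq
    exact absurd this (ne_genericPoint_of_coheight_one y hy1))
  exact ⟨(OD hX D).presheaf.germ V (genericPoint X) hηV (mkSec hX k hord), by
    rw [stalkVal_germ, val_mkSec]⟩

theorem genInvertible (hD : LocFinSupp D) : RefHull.GenInvertible (OD hX D) := by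
  obtain ⟨g, hg⟩ := exists_stalkVal_generic (hX := hX) hD 1
  refine Groth.Agent.Lib.Helper64.Ref1Grp.genInvertible_of_generic _ (isCoh hD).2 g ?_ ?_
  · rw [eq_top_iff]
    intro m _
    refine Submodule.mem_span_singleton.2 ⟨stalkVal hX D _ m, ?_⟩
    apply stalkVal_injective
    rw [stalkVal_smul, hg, mul_one, algebraMap_generic]
  · rintro rfl
    rw [stalkVal_zero] at hg
    exact zero_ne_one hg

theorem isRef1 (hD : LocFinSupp D) : RefHull.IsRef1 (OD hX D) :=
  ⟨isCoh hD, isReflexive hD, genInvertible hD⟩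

theorem ord_zpow (c : X.functionField) (hc : c ≠ 0) (y : X) (n : ℤ) :
    Scheme.ord (c ^ n) y = n * Scheme.ord c y := by
  obtain ⟨k, rfl | rfl⟩ := Int.eq_nat_or_neg n
  · rw [zpow_natCast, ord_pow c hc]
  · rw [zpow_neg, zpow_natCast, ord_inv' y _ (pow_ne_zero k hc), ord_pow c hc]
    ring

/-- a rational function of order one at a point of codimension one -/
theorem exists_uniformizer (hN : Pi1.IsNormalScheme X) (x : X) (hx : Order.coheight x = 1) :
    ∃ π : X.functionField, π ≠ 0 ∧ Scheme.ord π x = 1 := by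
  have hdvr := Groth.Agent.Lib.Helper64.CDivLocal.dvr_of_coheight_one hN x hx
  obtain ⟨ϖ, hϖ⟩ := IsDiscreteValuationRing.exists_irreducible (X.presheaf.stalk x)
  have hϖ0 : algebraMap (X.presheaf.stalk x) X.functionField ϖ ≠ 0 := by
    intro h0
    exact hϖ.ne_zero (IsFractionRing.injective (X.presheaf.stalk x) X.functionField
      (h0.trans (map_zero _).symm))
  refine ⟨_, hϖ0, ?_⟩
  exact Groth.Agent.Lib.Helper64.CDivLocal.ord_eq_one_of_span_eq hdvr hx (Units.mk0 _ hϖ0) ϖ
    hϖ.maximalIdeal_eq rfl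

/-- the divisor of the rational section `1` of `O_X(D)` is `D` -/
theorem secOrdAt_one (hD : LocFinSupp D) (v : (OD hX D).presheaf.stalk (genericPoint X))
    (hv : stalkVal hX D (genericPoint X) v = 1) (x : X) (hx : Order.coheight x = 1) :
    Cyc.secOrdAt (OD hX D) (genericPoint X) x (spη x)
      (Submodule.Quotient.mk v : Cyc.secFibre (OD hX D) (genericPoint X)) = D x := by
  have hdvr := Groth.Agent.Lib.Helper64.CDivLocal.dvr_of_coheight_one hX x hx
  obtain ⟨π, hπ0, hπ⟩ := exists_uniformizer hX x hx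
  have hc0 : π ^ (-D x) ≠ 0 := zpow_ne_zero _ hπ0
  have hcx : Scheme.ord (π ^ (-D x)) x = -D x := by
    rw [ord_zpow π hπ0, hπ, mul_one]
  obtain ⟨V, hxV, hord⟩ := exists_open_ordCond hD x (π ^ (-D x)) hc0 (fun y hy hy1 => by
    obtain rfl := eq_of_specializes_of_coheight_one hy hx hy1
    rw [hcx]
    omega)
  set γ := (OD hX D).presheaf.germ V x hxV (mkSec hX _ hord) with hγ
  have hγval : stalkVal hX D x γ = π ^ (-D x) := by rw [hγ, stalkVal_germ, val_mkSec]
  have hspan : Submodule.span (X.presheaf.stalk x) {γ} = ⊤ := by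
    rw [eq_top_iff]
    intro m _
    by_cases hm : stalkVal hX D x m = 0
    · have : m = 0 := stalkVal_injective x (hm.trans (stalkVal_zero x).symm)
      rw [this]
      exact Submodule.zero_mem _
    obtain ⟨W, hxW, s, rfl⟩ := TopCat.Presheaf.exists_germ_eq (OD hX D).presheaf m
    rw [stalkVal_germ] at hm
    have h1 := ordCond_val s x hxW hm x hxW hx
    have ha0 : val hX D s x hxW * (π ^ (-D x))⁻¹ ≠ 0 := mul_ne_zero hm (inv_ne_zero hc0)
    have hord_a : 0 ≤ Scheme.ord (val hX D s x hxW * (π ^ (-D x))⁻¹) x := by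
      rw [Scheme.ord_mul hm (inv_ne_zero hc0), ord_inv' x _ hc0, hcx]
      omega
    obtain ⟨a₀, ha₀⟩ := Groth.Agent.S2876.mem_range_of_ord_nonneg hdvr hx (Units.mk0 _ ha0) hord_a
    refine Submodule.mem_span_singleton.2 ⟨a₀, ?_⟩
    apply stalkVal_injective
    rw [stalkVal_smul, hγval, ha₀, stalkVal_germ]
    change val hX D s x hxW * (π ^ (-D x))⁻¹ * π ^ (-D x) = _
    rw [mul_assoc, inv_mul_cancel₀ hc0, mul_one]
  have hspval : stalkVal hX D (genericPoint X)
      (((OD hX D).presheaf.stalkSpecializes (spη x)).hom γ) = π ^ (-D x) := by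
    rw [stalkVal_sp, hγval]
  have hspγ : ((OD hX D).presheaf.stalkSpecializes (spη x)).hom γ ≠ 0 := by
    intro h0
    rw [h0, stalkVal_zero] at hspval
    exact hc0 hspval.symm
  have hvφ : v = ((π ^ (-D x))⁻¹ : X.functionField) •
      ((OD hX D).presheaf.stalkSpecializes (spη x)).hom γ := by
    apply stalkVal_injective
    rw [hv]
    have := stalkVal_smul (hX := hX) (D := D) (genericPoint X) ((π ^ (-D x))⁻¹ : X.functionField)
      (((OD hX D).presheaf.stalkSpecializes (spη x)).hom γ)
    rw [this, hspval, algebraMap_generic, inv_mul_cancel₀ hc0]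
  rw [secOrdAt_mk (OD hX D) x hx γ hspan hspγ v _ hvφ, ord_inv' x _ hc0, hcx]
  ring

end Groth.Agent.Lib.Helper64.WeilSheaf
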