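import Groth.Agent.Lib.Helper64.WeilSheaf7

/-!
# The divisor of a rational section of a rank one reflexive module is locally finite (helper64)
-/

set_option autoImplicit false
set_option linter.style.haveILetI false
set_option linter.unusedSectionVars false
universe u

open AlgebraicGeometry CategoryTheory Opposite TopologicalSpace

namespace Groth.Agent.Lib.Helper64.WeilSheaf

open Groth.Agent.Lib.Lead.QCohAff Groth.Agent.Lib.Lead.SheafGlue
open Groth.Agent.Lib.Helper64.RefExt Groth.Agent.Lib.Helper64.SecOrd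
open Groth.Agent.Lib.Helper64.RefS2

variable {X : Scheme.{u}} [IsIntegral X] [IsLocallyNoetherian X]

/-- on an affine open, a nonzero rational section of a generically invertible module has nonzero
order at only finitely many points of codimension one -/
theorem finite_secOrd_ne_zero (hX : Pi1.IsNormalScheme X) {F : X.Modules}
    (hgen : RefHull.GenInvertible F) (v : F.presheaf.stalk (genericPoint X)) (hv : v ≠ 0)
    {U : X.Opens} (hU : IsAffineOpen U) :
    {x : X | x ∈ U ∧ Order.coheight x = 1 ∧
      Cyc.secOrdAt F (genericPoint X) x (spη x)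
        (Submodule.Quotient.mk v : Cyc.secFibre F (genericPoint X)) ≠ 0}.Finite := by
  by_cases hηU : genericPoint X ∈ U
  swap
  · refine Set.finite_empty.subset ?_
    rintro x ⟨hxU, -, -⟩
    exact absurd (genericPoint_mem hxU) hηU
  obtain ⟨W₀, hηW₀, e, he⟩ := exists_isGen_of_genInvertible hgen
  obtain ⟨φ, hφ⟩ := exists_coeff F he hηW₀ v
  have hφ0 : φ ≠ 0 := by
    rintro rfl
    rw [zero_smul] at hφ
    exact hv hφ
  obtain ⟨a, haW, hηa⟩ := hU.exists_basicOpen_le (V := W₀) ⟨genericPoint X, hηW₀⟩ hηU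
  have ha := germ_ne_zero_of_mem_basicOpen a hηU hηa
  refine ((finite_ord_ne_zero φ hφ0 hU).union (finite_ord_ne_zero _ ha hU)).subset ?_
  rintro x ⟨hxU, hx1, hne⟩
  by_cases hxa : x ∈ X.basicOpen a
  · left
    refine ⟨hxU, hx1, ?_⟩
    have hxW : x ∈ W₀ := haW hxa
    have hb := bijective_stalk_of_isGen he x hxW
    have hspan : Submodule.span (X.presheaf.stalk x) {F.presheaf.germ W₀ x hxW e} = ⊤ := by
      rw [eq_top_iff]
      intro m _
      obtain ⟨c, hc⟩ := hb.2 m
      exact Submodule.mem_span_singleton.2 ⟨c, hc⟩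
    have hsp : (F.presheaf.stalkSpecializes (spη x)).hom (F.presheaf.germ W₀ x hxW e) ≠ 0 := by
      rw [sp_germ]
      exact germ_ne_zero_of_isGen F he _ _
    have hvφ : v = φ • (F.presheaf.stalkSpecializes (spη x)).hom (F.presheaf.germ W₀ x hxW e) := by
      rw [sp_germ]
      exact hφ
    rw [secOrdAt_mk F x hx1 _ hspan hsp v φ hvφ] at hne
    exact hne
  · right
    refine ⟨hxU, hx1, ?_⟩
    have := one_le_ord_of_not_mem_basicOpen hX a hηU ha x hxU hx1 hxa
    omega

/-- the locally finite support of an algebraic cycle -/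
theorem locFinSupp_of_cycle (D : AlgebraicCycle X ℤ) : LocFinSupp (fun x => D x) := by
  intro x
  obtain ⟨t, ht, hfin⟩ := D.supportLocallyFiniteWithinDomain' x (Set.mem_univ x)
  obtain ⟨W, hWt, hW, hxW⟩ := mem_nhds_iff.1 ht
  refine ⟨⟨W, hW⟩, hxW, hfin.subset ?_⟩
  rintro z ⟨hzW, hz⟩
  exact ⟨hWt hzW, hz⟩

end Groth.Agent.Lib.Helper64.WeilSheaf
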