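import Groth.Agent.Lib.Helper64.ZeroSch2
import Groth.Agent.Lib.Helper35.Gen3

/-!
# The zero scheme of a tensor product of sections (helper64)

* `isDivOfIdeal_mul_tmulHom`: `Z(s₁ ⊗ s₂) = Z(s₁) + Z(s₂)` for sections of invertible modules.
-/

set_option autoImplicit false
set_option linter.style.haveILetI false
set_option linter.unusedSectionVars false
universe u

open AlgebraicGeometry CategoryTheory Opposite TopologicalSpace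

namespace Groth.Agent.Lib.Helper64.ZeroSch

open Groth.Agent.Lib.Lead.Inv Groth.Agent.Lib.Lead.QCohAff
open Mero

variable {X : Scheme.{u}} {L₁ L₂ : X.Modules}

/-- a common affine chart for two sections -/
theorem exists_affine_chart₂ (hL₁ : PicF.IsInvertible L₁) (hL₂ : PicF.IsInvertible L₂)
    (s₁ : Coh.structureModule X ⟶ L₁) (s₂ : Coh.structureModule X ⟶ L₂) (x : X)
    (W : X.Opens) (hxW : x ∈ W) :
    ∃ U : X.affineOpens, x ∈ U.1 ∧ U.1 ≤ W ∧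
      ∃ (ε₁ : Γ(L₁, U.1)) (r₁ : Γ(X, U.1)) (ε₂ : Γ(L₂, U.1)) (r₂ : Γ(X, U.1)),
        IsGen L₁ U.1 ε₁ ∧ val s₁ U.1 = r₁ • ε₁ ∧ IsGen L₂ U.1 ε₂ ∧ val s₂ U.1 = r₂ • ε₂ := by
  obtain ⟨U₁, hxU₁, hU₁W, ε₁, r₁, hε₁, hr₁⟩ := exists_affine_chart hL₁ s₁ x W hxW
  obtain ⟨U, hxU, hUU₁, ε₂, r₂, hε₂, hr₂⟩ := exists_affine_chart hL₂ s₂ x U₁.1 hxU₁
  refine ⟨U, hxU, hUU₁.trans hU₁W, L₁.presheaf.map (homOfLE hUU₁).op ε₁,
    X.presheaf.map (homOfLE hUU₁).op r₁, ε₂, r₂, hε₁.res hUU₁, ?_, hε₂, hr₂⟩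
  rw [← val_res s₁ hUU₁, hr₁, res_smul]

/-- the ideal of an ideal sheaf on a smaller affine open, when principal -/
theorem ideal_eq_span_res (I : X.IdealSheafData) {U V : X.affineOpens} (h : U.1 ≤ V.1)
    (f : Γ(X, V.1)) (hf : I.ideal V = Ideal.span {f}) :
    I.ideal U = Ideal.span {X.presheaf.map (homOfLE h).op f} := by
  have h1 := I.map_ideal (show U ≤ V from h)
  rw [hf, Ideal.map_span, Set.image_singleton] at h1
  exact h1.symm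

theorem val_tmulHom (s₁ : Coh.structureModule X ⟶ L₁) (s₂ : Coh.structureModule X ⟶ L₂)
    (U : X.Opens) :
    val (SecTwist.tmulHom s₁ s₂) U =
      Groth.Agent.Lib.Helper35.Gen.tm L₁ L₂ (val s₁ U) (val s₂ U) :=
  SecTwist.val_tmulHom s₁ s₂ U

/-- **`Z(s₁ ⊗ s₂) = Z(s₁) + Z(s₂)`** -/
theorem isDivOfIdeal_mul_tmulHom (hL₁ : PicF.IsInvertible L₁) (hL₂ : PicF.IsInvertible L₂)
    (s₁ : Coh.structureModule X ⟶ L₁) (s₂ : Coh.structureModule X ⟶ L₂)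
    (D₁ D₂ : Mero.Divisor X) (hD₁ : Mero.IsDivOfIdeal D₁ (PicF2.zeroScheme L₁ s₁))
    (hD₂ : Mero.IsDivOfIdeal D₂ (PicF2.zeroScheme L₂ s₂)) :
    Mero.IsDivOfIdeal (D₁ * D₂)
      (PicF2.zeroScheme (CohB1.tensorMod L₁ L₂) (SecTwist.tmulHom s₁ s₂)) := by
  have hT : PicF.IsInvertible (CohB1.tensorMod L₁ L₂) := isInvertible_tensorMod hL₁ hL₂
  intro x
  obtain ⟨U₁, hxU₁, f₁, hf₁, hI₁, hDU₁⟩ := hD₁ x
  obtain ⟨U₂, hxU₂, f₂, hf₂, hI₂, hDU₂⟩ := hD₂ x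
  obtain ⟨U, hxU, hUle, ε₁, r₁, ε₂, r₂, hε₁, hr₁, hε₂, hr₂⟩ :=
    exists_affine_chart₂ hL₁ hL₂ s₁ s₂ x (U₁.1 ⊓ U₂.1) ⟨hxU₁, hxU₂⟩
  have hUU₁ : U.1 ≤ U₁.1 := hUle.trans inf_le_left
  have hUU₂ : U.1 ≤ U₂.1 := hUle.trans inf_le_right
  -- the two ideals on `U`
  have h1 : Ideal.span {r₁} = Ideal.span {X.presheaf.map (homOfLE hUU₁).op f₁} := by
    rw [← zI_eq_span s₁ hε₁ r₁ hr₁, ← zeroScheme_ideal hL₁ s₁ U]
    exact ideal_eq_span_res _ hUU₁ f₁ hI₁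
  have h2 : Ideal.span {r₂} = Ideal.span {X.presheaf.map (homOfLE hUU₂).op f₂} := by
    rw [← zI_eq_span s₂ hε₂ r₂ hr₂, ← zeroScheme_ideal hL₂ s₂ U]
    exact ideal_eq_span_res _ hUU₂ f₂ hI₂
  -- the tensor product
  have hεT : IsGen (CohB1.tensorMod L₁ L₂) U.1
      (Groth.Agent.Lib.Helper35.Gen.tm L₁ L₂ ε₁ ε₂) :=
    Groth.Agent.Lib.Helper35.Gen.IsGen.tm hε₁ hε₂
  have hrT : val (SecTwist.tmulHom s₁ s₂) U.1 =
      (r₁ * r₂) • Groth.Agent.Lib.Helper35.Gen.tm L₁ L₂ ε₁ ε₂ := by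
    rw [val_tmulHom, hr₁, hr₂, Groth.Agent.Lib.Helper35.Gen.tm_smul_left,
      Groth.Agent.Lib.Helper35.Gen.tm_smul_right, ← mul_smul]
  have hfreg : X.presheaf.map (homOfLE hUU₁).op f₁ * X.presheaf.map (homOfLE hUU₂).op f₂ ∈
      regSub X U.1 :=
    Submonoid.mul_mem _ (regSub_res (homOfLE hUU₁) hf₁) (regSub_res (homOfLE hUU₂) hf₂)
  refine ⟨U, hxU, _, hfreg, ?_, fun y => ?_⟩
  · rw [zeroScheme_ideal hT _ U, zI_eq_span _ hεT (r₁ * r₂) hrT,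
      ← Ideal.span_singleton_mul_span_singleton, h1, h2, Ideal.span_singleton_mul_span_singleton]
  · change D₁.1 y.1 * D₂.1 y.1 = _
    rw [hDU₁ ⟨y.1, hUU₁ y.2⟩, hDU₂ ⟨y.1, hUU₂ y.2⟩, ← QuotientGroup.mk_mul]
    congr 1
    apply Units.ext
    rw [Units.val_mul, IsUnit.unit_spec, IsUnit.unit_spec, IsUnit.unit_spec, ← map_mul]
    congr 1
    change X.presheaf.germ U₁.1 y.1 _ f₁ * X.presheaf.germ U₂.1 y.1 _ f₂ =
      X.presheaf.germ U.1 y.1 y.2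
        (X.presheaf.map (homOfLE hUU₁).op f₁ * X.presheaf.map (homOfLE hUU₂).op f₂)
    rw [map_mul, TopCat.Presheaf.germ_res_apply, TopCat.Presheaf.germ_res_apply]

end Groth.Agent.Lib.Helper64.ZeroSch
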