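import Groth.Agent.Lib.Helper64.ZeroSch3
import Groth.Agent.Lib.Lead.Inv4

/-!
# A section with prescribed effective divisor (helper64)

* `exists_section_of_isEffective`: on an integral scheme, for an effective divisor `D` and
  `L ≅ O_X(D)` there is a nonzero section `s` of `L` with `Z(s) = D`.
-/

set_option autoImplicit false
set_option linter.style.haveILetI false
set_option linter.unusedSectionVars false
universe u

open AlgebraicGeometry CategoryTheory Opposite TopologicalSpace

namespace Groth.Agent.Lib.Helper64.ZeroSch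

open Groth.Agent.Lib.Lead.Inv Groth.Agent.Lib.Lead.QCohAff
open Mero Groth.Agent.Lib.Helper65.CurveDiv Groth.Agent.Lib.Helper64.MeroInv
open Groth.Agent.Lib.Helper64.RefS2 Groth.Agent.Lib.Helper64.MeroReg
open Groth.Agent.Lib.Helper64.MeroDiv Groth.Agent.Lib.Helper35.GlobGen

variable {X : Scheme.{u}} {L : X.Modules}

/-- variant of `exists_divisor_of_regular_section` recording that `D` is the divisor of `s` -/
theorem exists_divisor_of_regular_section' (hL : PicF.IsInvertible L)
    (s : Coh.structureModule X ⟶ L)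
    (hreg : ∀ (U : X.Opens) (ε : Γ(L, U)) (r : Γ(X, U)), IsGen L U ε → val s U = r • ε →
      r ∈ regSub X U) :
    ∃ D : Mero.Divisor X, Mero.IsDivOfIdeal D (PicF2.zeroScheme L s) ∧ IsDivOf (merOf s) D := by
  have hs' : IsRegularMero L (merOf s) := by
    intro y q hq
    obtain ⟨U, hyU, -, ε, r, hε, hr⟩ := exists_affine_chart hL s y ⊤ trivial
    exact regular_of_chart hε ⟨r, hreg U.1 ε r hε hr⟩ 1 ⟨y, hyU⟩ _
      (merOf_chart s ε r hr ⟨y, hyU⟩) q hq
  obtain ⟨D, -, hDof⟩ := exists_hasCharts hL (merOf s) hs'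
  refine ⟨D, ?_, hDof⟩
  intro x
  obtain ⟨U, hxU, -, ε, r, hε, hr⟩ := exists_affine_chart hL s x ⊤ trivial
  have hrreg := hreg U.1 ε r hε hr
  refine ⟨U, hxU, r, hrreg, ?_, fun y => ?_⟩
  · rw [zeroScheme_ideal hL s U]
    exact zI_eq_span s hε r hr
  · apply hDof y.1 (L.presheaf.germ U.1 y.1 y.2 ε) _ (bijective_stalk_of_isGen hε y.1 y.2)
    rw [merOf_apply s y.1 y.2, hr, Groth.Agent.Lib.Helper29.QCohLoc.germ_smul, mk_smul_eq]
    rfl

theorem regUnit_div_val (y : X) (a b : regStalk X y) :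
    ((regUnit y a / regUnit y b : (KStalk X y)ˣ) : KStalk X y) =
      LocalizedModule.mk (a : X.presheaf.stalk y) b := by
  rw [lmk_eq_mk', div_eq_mul_inv, Units.val_mul, Units.mul_inv_eq_iff_eq_mul, regUnit_val,
    regUnit_val]
  exact (IsLocalization.mk'_spec _ _ _).symm

/-- `1` satisfies the divisor condition of an effective divisor -/
theorem divCond_one_of_isEffective (D : Mero.Divisor X) (hD : Mero.IsEffective D) (y : X) :
    DivCond D y (1 : KStalk X y) := by
  intro g hg
  obtain ⟨a, ha⟩ := hD y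
  rw [ha] at hg
  obtain ⟨u, hu⟩ := QuotientGroup.eq.mp hg
  have h1 : g = (IsLocalization.map_units (KStalk X y) a).unit *
      Units.map (algebraMap (X.presheaf.stalk y) (KStalk X y)).toMonoidHom u := by
    rw [hu, mul_inv_cancel_left]
  rw [one_mul, h1, Units.val_mul, IsUnit.unit_spec]
  exact ⟨(a : X.presheaf.stalk y) * u, map_mul _ _ _⟩

/-- **a section with prescribed effective divisor** -/
theorem exists_section_of_isEffective [IsIntegral X] (hL : PicF.IsInvertible L)
    (D : Mero.Divisor X) (hD : Mero.IsEffective D) (e : L ≅ Mero.divMod D) :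
    ∃ s : Coh.structureModule X ⟶ L, s ≠ 0 ∧ Mero.IsDivOfIdeal D (PicF2.zeroScheme L s) := by
  -- the section `1` of `O_X(D)`
  obtain ⟨one, hone⟩ : ∃ one : Γ(divMod D, ⊤), ∀ y : (⊤ : X.Opens), one.1 y = 1 :=
    ⟨ofKSec D 1 (fun y => divCond_one_of_isEffective D hD y.1), fun _ => rfl⟩
  obtain ⟨s, hs⟩ : ∃ s : Coh.structureModule X ⟶ L, s = secHom (divMod D) one ≫ e.inv := ⟨_, rfl⟩
  have hval : ∀ V : X.Opens, val s V =
      (e.inv.app V).hom ((divMod D).presheaf.map (homOfLE (le_top : V ≤ ⊤)).op one) := by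
    intro V
    rw [hs, ← val_secHom one V]
    rfl
  have hs0 : s ≠ 0 := by
    intro h0
    have h1 : secHom (divMod D) one = 0 := by
      have : secHom (divMod D) one = s ≫ e.hom := by
        rw [hs, Category.assoc, e.inv_hom_id, Category.comp_id]
      rw [this, h0, Limits.zero_comp]
    have h2 : one = 0 := by
      have h3 := val_secHom one ⊤
      rw [h1, res_self] at h3
      rw [← h3]
      rfl
    obtain ⟨y⟩ : Nonempty X := inferInstance
    have h4 := hone ⟨y, trivial⟩
    rw [h2] at h4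
    exact zero_ne_one h4
  refine ⟨s, hs0, ?_⟩
  obtain ⟨D', hD', hDof⟩ := exists_divisor_of_regular_section' hL s (by
    intro U ε r hε hr
    by_cases hU : (U : Set X).Nonempty
    · apply mem_regSub_of_ne_zero
      rintro rfl
      rw [zero_smul] at hr
      exact hs0 (eq_zero_of_val_eq_zero hL s hU hr)
    · intro y
      exact absurd ⟨y.1, y.2⟩ hU)
  suffices h : D' = D by rw [← h]; exact hD'
  apply Subtype.ext
  funext x
  obtain ⟨V, hxV, -, a, b, hab⟩ := local_structure D x ⊤ trivial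
  obtain ⟨eD, hgen, htoK⟩ := exists_isGen_divMod D a b hab
  have heD : ∀ y : V, eD.1 y =
      LocalizedModule.mk (X.presheaf.germ V y.1 y.2 b.1) (regGerm y a) := fun y =>
    congrArg (fun t : Γ(kmod X, V) => t.1 y) htoK
  have hε : IsGen L V ((e.inv.app V).hom eD) :=
    Groth.Agent.Lib.Helper60.ProjUPLib.IsGen.map_iso e.symm hgen
  obtain ⟨c, hc⟩ : ∃ c : Γ(X, V),
      c • eD = (divMod D).presheaf.map (homOfLE (le_top : V ≤ ⊤)).op one := by
    have := hgen.coeff_smul le_rfl
      ((divMod D).presheaf.map (homOfLE (le_top : V ≤ ⊤)).op one)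
    rw [res_self] at this
    exact ⟨_, this⟩
  have hcx : algebraMap (X.presheaf.stalk x) (KStalk X x) (X.presheaf.germ V x hxV c) =
      ((regUnit x (regGerm ⟨x, hxV⟩ a) / regUnit x (regGerm ⟨x, hxV⟩ b) : (KStalk X x)ˣ) :
        KStalk X x) := by
    have h1 := congrArg (fun t : Γ(divMod D, V) => t.1 ⟨x, hxV⟩) hc
    change X.presheaf.germ V x hxV c • eD.1 ⟨x, hxV⟩ = one.1 ⟨x, trivial⟩ at h1
    rw [hone, heD, smul_kstalk, ← regUnit_div_val x (regGerm ⟨x, hxV⟩ b) (regGerm ⟨x, hxV⟩ a)] at h1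
    have h2 : regUnit x (regGerm ⟨x, hxV⟩ b) / regUnit x (regGerm ⟨x, hxV⟩ a) =
        (regUnit x (regGerm ⟨x, hxV⟩ a) / regUnit x (regGerm ⟨x, hxV⟩ b))⁻¹ := (inv_div _ _).symm
    rw [h2] at h1
    exact Units.mul_inv_eq_one.1 h1
  have hD'x := hDof x (L.presheaf.germ V x hxV ((e.inv.app V).hom eD))
    (regUnit x (regGerm ⟨x, hxV⟩ a) / regUnit x (regGerm ⟨x, hxV⟩ b))
    (bijective_stalk_of_isGen hε x hxV) (by
      rw [merOf_apply s x hxV, hval V, ← hc, hom_smul',
        Groth.Agent.Lib.Helper29.QCohLoc.germ_smul, mk_smul_eq, hcx])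
  rw [hD'x, hab ⟨x, hxV⟩, regClass, regClass, ← QuotientGroup.mk_div]

end Groth.Agent.Lib.Helper64.ZeroSch
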